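import Mathlib
import Cfsg.Prelude.Def_Sporadic_a

set_option autoImplicit false

namespace Cfsg.Agent.Lib.Helper1

open Cfsg

/-- the 24 points, indexed by `Fin 24` -/
def gpt (i : Fin 24) : GolayPt :=
  if h : i.val < 23 then some (show ZMod 23 from (⟨i.val, h⟩ : Fin 23)) else none

theorem gpt_bij : Function.Bijective gpt := by decide +kernel

/-- the bit mask of a binary word -/
def mask (w : GolayPt → ZMod 2) : ℕ := Nat.ofBits (fun i : Fin 24 => decide (w (gpt i) ≠ 0))

theorem mask_testBit (w : GolayPt → ZMod 2) (i : Fin 24) :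
    (mask w).testBit i = decide (w (gpt i) ≠ 0) := by
  unfold mask
  rw [Nat.testBit_ofBits_lt _ _ i.2]

theorem mask_testBit_ge (w : GolayPt → ZMod 2) (i : ℕ) (hi : 24 ≤ i) :
    (mask w).testBit i = false := by
  unfold mask
  exact Nat.testBit_ofBits_ge _ _ hi

theorem mask_lt (w : GolayPt → ZMod 2) : mask w < 2 ^ 24 := Nat.ofBits_lt_two_pow _

theorem zmod2_add_ne : ∀ a b : ZMod 2, decide (a + b ≠ 0) = (decide (a ≠ 0) ^^ decide (b ≠ 0)) := by
  decide

theorem zmod2_eq_of : ∀ a b : ZMod 2, decide (a ≠ 0) = decide (b ≠ 0) → a = b := by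
  decide

theorem mask_add (v w : GolayPt → ZMod 2) : mask (v + w) = mask v ^^^ mask w := by
  apply Nat.eq_of_testBit_eq
  intro i
  rw [Nat.testBit_xor]
  by_cases hi : i < 24
  · have h1 := mask_testBit (v + w) ⟨i, hi⟩
    have h2 := mask_testBit v ⟨i, hi⟩
    have h3 := mask_testBit w ⟨i, hi⟩
    simp only at h1 h2 h3
    rw [h1, h2, h3, Pi.add_apply]
    exact zmod2_add_ne _ _
  · have hi' : 24 ≤ i := by omega
    rw [mask_testBit_ge _ _ hi', mask_testBit_ge _ _ hi', mask_testBit_ge _ _ hi']
    rfl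

theorem mask_zero : mask 0 = 0 := by
  apply Nat.eq_of_testBit_eq
  intro i
  rw [Nat.zero_testBit]
  by_cases hi : i < 24
  · have h1 := mask_testBit 0 ⟨i, hi⟩
    simp only at h1
    rw [h1]
    simp
  · exact mask_testBit_ge _ _ (by omega)

theorem mask_injective : Function.Injective mask := by
  intro v w h
  funext p
  obtain ⟨i, rfl⟩ := gpt_bij.2 p
  apply zmod2_eq_of
  rw [← mask_testBit, ← mask_testBit, h]

/-- population count of the low 24 bits -/
def popc (n : ℕ) : ℕ := (Finset.univ.filter (fun i : Fin 24 => n.testBit i)).card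

theorem hammingNorm_eq_popc (w : GolayPt → ZMod 2) : hammingNorm w = popc (mask w) := by
  unfold hammingNorm popc
  symm
  apply Finset.card_bijective gpt gpt_bij
  intro i
  simp only [Finset.mem_filter, Finset.mem_univ, true_and]
  rw [mask_testBit]
  simp

theorem card_support₂ (w : GolayPt → ZMod 2) : (support₂ w).card = popc (mask w) := by
  rw [← hammingNorm_eq_popc]
  rfl

def sel (b : Bool) (x : ℕ) : ℕ := if b then x else 0

theorem sel_xor (a b : Bool) (x : ℕ) : sel (a ^^ b) x = sel a x ^^^ sel b x := by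
  cases a <;> cases b <;> simp [sel]

/-- the mask of the codeword with coordinates `m` in the basis `q₀,…,q₁₀,1` -/
def combo (m : ℕ) : ℕ :=
  sel (m.testBit 0) 340831 ^^^ sel (m.testBit 1) 681662 ^^^ sel (m.testBit 2) 1363324 ^^^
  sel (m.testBit 3) 2726648 ^^^ sel (m.testBit 4) 5453296 ^^^ sel (m.testBit 5) 2517985 ^^^
  sel (m.testBit 6) 5035970 ^^^ sel (m.testBit 7) 1683333 ^^^ sel (m.testBit 8) 3366666 ^^^
  sel (m.testBit 9) 6733332 ^^^ sel (m.testBit 10) 5078057 ^^^ sel (m.testBit 11) 16777215

theorem combo_xor (m n : ℕ) : combo (m ^^^ n) = combo m ^^^ combo n := by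
  unfold combo
  simp only [Nat.testBit_xor, sel_xor]
  ac_rfl

theorem combo_zero : combo 0 = 0 := by decide +kernel

def selW (b : Bool) (w : GolayPt → ZMod 2) : GolayPt → ZMod 2 := if b then w else 0

theorem mask_selW (b : Bool) (w : GolayPt → ZMod 2) : mask (selW b w) = sel b (mask w) := by
  cases b
  · simp [selW, sel, mask_zero]
  · simp [selW, sel]

/-- the codeword with coordinates `m` -/
def wordOf (m : ℕ) : GolayPt → ZMod 2 :=
  selW (m.testBit 0) (qrWord 0) + selW (m.testBit 1) (qrWord 1) + selW (m.testBit 2) (qrWord 2) +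
  selW (m.testBit 3) (qrWord 3) + selW (m.testBit 4) (qrWord 4) + selW (m.testBit 5) (qrWord 5) +
  selW (m.testBit 6) (qrWord 6) + selW (m.testBit 7) (qrWord 7) + selW (m.testBit 8) (qrWord 8) +
  selW (m.testBit 9) (qrWord 9) + selW (m.testBit 10) (qrWord 10) + selW (m.testBit 11) 1

theorem qr_mem (t : ZMod 23) : qrWord t ∈ golayCode :=
  Submodule.subset_span (Or.inl ⟨t, rfl⟩)

theorem one_mem_golay : (1 : GolayPt → ZMod 2) ∈ golayCode :=
  Submodule.subset_span (Or.inr rfl)

theorem selW_mem (b : Bool) {w : GolayPt → ZMod 2} (hw : w ∈ golayCode) : selW b w ∈ golayCode := by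
  cases b
  · exact Submodule.zero_mem _
  · exact hw

theorem wordOf_mem (m : ℕ) : wordOf m ∈ golayCode := by
  unfold wordOf
  repeat (first | exact selW_mem _ (qr_mem _) | exact selW_mem _ one_mem_golay | apply Submodule.add_mem)

theorem mask_q0 : mask (qrWord 0) = 340831 := by decide +kernel
theorem mask_q1 : mask (qrWord 1) = 681662 := by decide +kernel
theorem mask_q2 : mask (qrWord 2) = 1363324 := by decide +kernel
theorem mask_q3 : mask (qrWord 3) = 2726648 := by decide +kernel
theorem mask_q4 : mask (qrWord 4) = 5453296 := by decide +kernel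
theorem mask_q5 : mask (qrWord 5) = 2517985 := by decide +kernel
theorem mask_q6 : mask (qrWord 6) = 5035970 := by decide +kernel
theorem mask_q7 : mask (qrWord 7) = 1683333 := by decide +kernel
theorem mask_q8 : mask (qrWord 8) = 3366666 := by decide +kernel
theorem mask_q9 : mask (qrWord 9) = 6733332 := by decide +kernel
theorem mask_q10 : mask (qrWord 10) = 5078057 := by decide +kernel
theorem mask_one : mask 1 = 16777215 := by decide +kernel

theorem mask_wordOf (m : ℕ) : mask (wordOf m) = combo m := by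
  unfold wordOf combo
  simp only [mask_add, mask_selW, mask_q0, mask_q1, mask_q2, mask_q3, mask_q4, mask_q5, mask_q6,
    mask_q7, mask_q8, mask_q9, mask_q10, mask_one]

/-- masks of all the generators are combos -/
def qIdx (t : ZMod 23) : ℕ :=
  [1, 2, 4, 8, 16, 32, 64, 128, 256, 512, 1024, 739, 1478, 367, 734, 1468, 411, 822, 1644, 1595,
    1685, 1993, 1393].getD (ZMod.val t) 0

theorem mask_qr_combo' : ∀ t : ZMod 23, qIdx t < 4096 ∧ mask (qrWord t) = combo (qIdx t) := by
  decide +kernel

theorem mask_qr_combo (t : ZMod 23) : ∃ m < 4096, mask (qrWord t) = combo m :=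
  ⟨qIdx t, (mask_qr_combo' t).1, (mask_qr_combo' t).2⟩

theorem exists_combo_of_mem {w : GolayPt → ZMod 2} (hw : w ∈ golayCode) :
    ∃ m < 4096, mask w = combo m := by
  unfold golayCode at hw
  induction hw using Submodule.span_induction with
  | mem x hx =>
    rcases hx with ⟨t, rfl⟩ | hx
    · exact mask_qr_combo t
    · rw [Set.mem_singleton_iff] at hx
      rw [hx]
      exact ⟨2048, by norm_num, by rw [mask_one]; decide +kernel⟩
  | zero => exact ⟨0, by norm_num, by rw [mask_zero, combo_zero]⟩
  | add x y _ _ hx hy =>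
    obtain ⟨m, hm, hxm⟩ := hx
    obtain ⟨n, hn, hyn⟩ := hy
    refine ⟨m ^^^ n, ?_, ?_⟩
    · exact Nat.xor_lt_two_pow (n := 12) hm hn
    · rw [mask_add, hxm, hyn, combo_xor]
  | smul c x _ hx =>
    have hc : c = 0 ∨ c = 1 := by
      revert c; decide
    rcases hc with rfl | rfl
    · rw [zero_smul]
      exact ⟨0, by norm_num, by rw [mask_zero, combo_zero]⟩
    · rw [one_smul]; exact hx

theorem combo_eq_zero : ∀ a < 64, ∀ b < 64, combo (64 * a + b) = 0 → 64 * a + b = 0 := by
  decide +kernel

theorem combo_eq_zero' (k : ℕ) (hk : k < 4096) (h : combo k = 0) : k = 0 := by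
  have := combo_eq_zero (k / 64) (by omega) (k % 64) (Nat.mod_lt _ (by norm_num))
  rw [Nat.div_add_mod] at this
  exact this h

theorem combo_injOn {m n : ℕ} (hm : m < 4096) (hn : n < 4096) (h : combo m = combo n) : m = n := by
  have h1 : combo (m ^^^ n) = 0 := by rw [combo_xor, h, Nat.xor_self]
  have h2 : m ^^^ n = 0 := combo_eq_zero' _ (Nat.xor_lt_two_pow (n := 12) hm hn) h1
  have : m = (m ^^^ n) ^^^ n := by rw [Nat.xor_assoc, Nat.xor_self, Nat.xor_zero]
  rw [this, h2, Nat.zero_xor]

/-- the parametrisation of the code by `Fin 4096` -/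
noncomputable def codeEquiv : Fin 4096 ≃ golayCode :=
  Equiv.ofBijective (fun m => ⟨wordOf m.val, wordOf_mem m.val⟩) (by
    constructor
    · intro m n h
      have h1 : wordOf m.val = wordOf n.val := congrArg Subtype.val h
      have h2 : combo m.val = combo n.val := by rw [← mask_wordOf, ← mask_wordOf, h1]
      exact Fin.ext (combo_injOn m.2 n.2 h2)
    · rintro ⟨w, hw⟩
      obtain ⟨m, hm, hwm⟩ := exists_combo_of_mem hw
      refine ⟨⟨m, hm⟩, ?_⟩
      apply Subtype.ext
      apply mask_injective
      rw [hwm]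
      exact mask_wordOf m)

theorem mask_codeEquiv (m : Fin 4096) : mask (codeEquiv m : GolayPt → ZMod 2) = combo m.val :=
  mask_wordOf m.val

theorem support₂_injective :
    Function.Injective (support₂ : (GolayPt → ZMod 2) → Finset GolayPt) := by
  intro v w h
  funext p
  have h1 : p ∈ support₂ v ↔ p ∈ support₂ w := by rw [h]
  unfold support₂ at h1
  simp only [Finset.mem_filter, Finset.mem_univ, true_and] at h1
  apply zmod2_eq_of
  by_cases hv : v p ≠ 0
  · simp [hv, h1.1 hv]
  · have hw : ¬ w p ≠ 0 := fun hw => hv (h1.2 hw)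
    simp [hv, hw]

theorem ncard_wordsOfWeight (k : ℕ) :
    (wordsOfWeight (golayCode : Set (GolayPt → ZMod 2)) k).ncard =
      (Finset.univ.filter (fun m : Fin 4096 => popc (combo m.val) = k)).card := by
  classical
  have hset : wordsOfWeight (golayCode : Set (GolayPt → ZMod 2)) k =
      (fun m : Fin 4096 => support₂ (codeEquiv m : GolayPt → ZMod 2)) ''
        {m : Fin 4096 | popc (combo m.val) = k} := by
    ext b
    constructor
    · rintro ⟨⟨w, hw, rfl⟩, hcard⟩
      refine ⟨codeEquiv.symm ⟨w, hw⟩, ?_, ?_⟩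
      · show popc (combo (codeEquiv.symm ⟨w, hw⟩).val) = k
        rw [← mask_codeEquiv, Equiv.apply_symm_apply, ← card_support₂]
        exact hcard
      · show support₂ ((codeEquiv (codeEquiv.symm ⟨w, hw⟩) : golayCode) : GolayPt → ZMod 2) = support₂ w
        rw [Equiv.apply_symm_apply]
    · rintro ⟨m, hm, rfl⟩
      refine ⟨⟨(codeEquiv m : GolayPt → ZMod 2), (codeEquiv m).2, rfl⟩, ?_⟩
      show (support₂ (codeEquiv m : GolayPt → ZMod 2)).card = k
      rw [card_support₂, mask_codeEquiv]
      exact hm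
  have hinj : Function.Injective (fun m : Fin 4096 => support₂ (codeEquiv m : GolayPt → ZMod 2)) := by
    intro m n h
    have := support₂_injective h
    exact codeEquiv.injective (Subtype.ext this)
  have hcoe : {m : Fin 4096 | popc (combo m.val) = k} =
      ((Finset.univ.filter (fun m : Fin 4096 => popc (combo m.val) = k) : Finset (Fin 4096)) :
        Set (Fin 4096)) := by
    ext m
    rw [Finset.coe_filter]
    exact ⟨fun h => ⟨Finset.mem_univ _, h⟩, fun h => h.2⟩
  rw [hset, Set.ncard_image_of_injective _ hinj, hcoe, Set.ncard_coe_finset]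

end Cfsg.Agent.Lib.Helper1
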