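import Mathlib
import Cfsg.Prelude.Def_Sporadic_a

set_option autoImplicit false

namespace Cfsg.Agent.Lib.Helper1

open Cfsg
open scoped Pointwise

/-- precomposition of a binary word with the inverse of a permutation, as a linear map -/
def permWord (σ : Equiv.Perm GolayPt) : (GolayPt → ZMod 2) →ₗ[ZMod 2] (GolayPt → ZMod 2) where
  toFun w := fun p => w (σ.symm p)
  map_add' _ _ := rfl
  map_smul' _ _ := rfl

theorem permWord_apply (σ : Equiv.Perm GolayPt) (w : GolayPt → ZMod 2) (p : GolayPt) :
    permWord σ w p = w (σ.symm p) := rfl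

theorem support₂_permWord (σ : Equiv.Perm GolayPt) (w : GolayPt → ZMod 2) :
    support₂ (permWord σ w) = σ • support₂ w := by
  ext p
  rw [Finset.mem_smul_finset]
  have hmem : ∀ (v : GolayPt → ZMod 2) (q : GolayPt), q ∈ support₂ v ↔ v q ≠ 0 := by
    intro v q
    unfold support₂
    rw [Finset.mem_filter]
    exact ⟨fun h => h.2, fun h => ⟨Finset.mem_univ _, h⟩⟩
  rw [hmem]
  constructor
  · intro h
    refine ⟨σ.symm p, (hmem _ _).2 h, ?_⟩
    rw [Equiv.Perm.smul_def, Equiv.apply_symm_apply]
  · rintro ⟨y, hy, rfl⟩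
    rw [permWord_apply, Equiv.Perm.smul_def, Equiv.symm_apply_apply]
    exact (hmem _ _).1 hy

/-- a permutation whose word action maps the generators into the code lies in `M24` -/
theorem mem_M24_of_gens (σ : Equiv.Perm GolayPt)
    (hq : ∀ t : ZMod 23, permWord σ (qrWord t) ∈ golayCode)
    (h1 : permWord σ 1 ∈ golayCode) : σ ∈ M24 := by
  have hC : ∀ w ∈ golayCode, permWord σ w ∈ golayCode := by
    intro w hw
    unfold golayCode at hw
    induction hw using Submodule.span_induction with
    | mem x hx =>
      rcases hx with ⟨t, rfl⟩ | hx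
      · exact hq t
      · rw [Set.mem_singleton_iff] at hx
        rw [hx]; exact h1
    | zero => rw [map_zero]; exact Submodule.zero_mem _
    | add x y _ _ hx hy => rw [map_add]; exact Submodule.add_mem _ hx hy
    | smul c x _ hx => rw [map_smul]; exact Submodule.smul_mem _ c hx
  show σ ∈ MulAction.stabilizer (Equiv.Perm GolayPt) (supports (golayCode : Set (GolayPt → ZMod 2)))
  rw [MulAction.mem_stabilizer_set_iff_smul_set_subset (Set.toFinite _)]
  rintro _ ⟨b, ⟨w, hw, rfl⟩, rfl⟩
  exact ⟨permWord σ w, hC w hw, support₂_permWord σ w⟩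

end Cfsg.Agent.Lib.Helper1
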