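import Mathlib
import Cfsg.Prelude.Def_Sporadic_a
import Cfsg.Agent.Lib.Helper1.Golay
import Cfsg.Agent.Lib.Helper1.GolayEnum
import Cfsg.Agent.S0359

set_option autoImplicit false

namespace Cfsg.Agent.Lib.Helper1

open Cfsg
open scoped Pointwise

/-- reduction mod 2 of an integer vector on the 24 points -/
def wordZ (a : GolayPt → ℤ) : GolayPt → ZMod 2 := fun i => (a i : ZMod 2)

theorem wordZ_apply (a : GolayPt → ℤ) (i : GolayPt) : wordZ a i = (a i : ZMod 2) := rfl

theorem wordZ_add (a b : GolayPt → ℤ) : wordZ (a + b) = wordZ a + wordZ b := by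
  funext i
  simp only [wordZ_apply, Pi.add_apply, Int.cast_add]

theorem wordZ_neg (a : GolayPt → ℤ) : wordZ (-a) = wordZ a := by
  funext i
  simp only [wordZ_apply, Pi.neg_apply, Int.cast_neg]
  generalize ((a i : ℤ) : ZMod 2) = c
  revert c
  decide

theorem mem_support₂_iff (v : GolayPt → ZMod 2) (q : GolayPt) : q ∈ support₂ v ↔ v q ≠ 0 := by
  unfold support₂
  rw [Finset.mem_filter]
  exact ⟨fun h => h.2, fun h => ⟨Finset.mem_univ _, h⟩⟩

theorem intCast_zmod2_ne_zero_iff (a : ℤ) : ((a : ZMod 2) ≠ 0) ↔ a % 2 = 1 := by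
  rw [Ne, ZMod.intCast_zmod_eq_zero_iff_dvd]
  push_cast
  omega

theorem intCast_zmod2_add_one_ne_zero_iff (a : ℤ) : ((a : ZMod 2) + 1 ≠ 0) ↔ a % 2 = 0 := by
  have h : ((a : ZMod 2) + 1) = ((a + 1 : ℤ) : ZMod 2) := by push_cast; rfl
  rw [h, intCast_zmod2_ne_zero_iff]
  omega

theorem mem_leechSet_iff (x : GolayPt → ℤ) : x ∈ leechSet ↔
    ∃ (m : ℤ) (a : GolayPt → ℤ), (∀ i, x i = m + 2 * a i) ∧ (∑ i, x i ≡ 4 * m [ZMOD 8]) ∧
      wordZ a ∈ golayCode := by
  constructor
  · rintro ⟨m, h2, hs, hk⟩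
    refine ⟨m, fun i => (x i - m) / 2, ?_, hs, ?_⟩
    · intro i
      have := (h2 i)
      unfold Int.ModEq at this
      show x i = m + 2 * ((x i - m) / 2)
      omega
    · obtain ⟨w, hw, hsupp⟩ := hk (m + 2)
      have : w = wordZ (fun i => (x i - m) / 2) := by
        apply support₂_injective
        rw [hsupp]
        ext i
        rw [Finset.mem_filter, mem_support₂_iff, wordZ_apply, intCast_zmod2_ne_zero_iff]
        have := (h2 i)
        show _ ↔ ((x i - m) / 2) % 2 = 1
        unfold Int.ModEq at this ⊢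
        constructor
        · rintro ⟨_, h⟩; omega
        · intro h; exact ⟨Finset.mem_univ _, by omega⟩
      rw [← this]
      exact hw
  · rintro ⟨m, a, hx, hs, hw⟩
    refine ⟨m, ?_, hs, ?_⟩
    · intro i
      rw [hx i]
      unfold Int.ModEq
      omega
    · intro k
      have hcases : (k - m) % 4 = 0 ∨ (k - m) % 4 = 1 ∨ (k - m) % 4 = 2 ∨ (k - m) % 4 = 3 := by omega
      rcases hcases with h | h | h | h
      · refine ⟨wordZ a + 1, Submodule.add_mem _ hw one_mem_golay, ?_⟩
        ext i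
        rw [Finset.mem_filter, mem_support₂_iff, Pi.add_apply, wordZ_apply, Pi.one_apply,
          intCast_zmod2_add_one_ne_zero_iff, hx i]
        unfold Int.ModEq
        constructor
        · intro h'; exact ⟨Finset.mem_univ _, by omega⟩
        · rintro ⟨_, h'⟩; omega
      · refine ⟨0, Submodule.zero_mem _, ?_⟩
        ext i
        rw [Finset.mem_filter, mem_support₂_iff, hx i]
        unfold Int.ModEq
        constructor
        · intro h'; exact absurd rfl h'
        · rintro ⟨_, h'⟩; omega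
      · refine ⟨wordZ a, hw, ?_⟩
        ext i
        rw [Finset.mem_filter, mem_support₂_iff, wordZ_apply,
          intCast_zmod2_ne_zero_iff, hx i]
        unfold Int.ModEq
        constructor
        · intro h'; exact ⟨Finset.mem_univ _, by omega⟩
        · rintro ⟨_, h'⟩; omega
      · refine ⟨0, Submodule.zero_mem _, ?_⟩
        ext i
        rw [Finset.mem_filter, mem_support₂_iff, hx i]
        unfold Int.ModEq
        constructor
        · intro h'; exact absurd rfl h'
        · rintro ⟨_, h'⟩; omega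

theorem leechSet_zero : (0 : GolayPt → ℤ) ∈ leechSet := by
  rw [mem_leechSet_iff]
  refine ⟨0, 0, fun i => by simp, by simp [Int.ModEq], ?_⟩
  have : wordZ 0 = 0 := by funext i; simp [wordZ_apply]
  rw [this]; exact Submodule.zero_mem _

theorem leechSet_add {x y : GolayPt → ℤ} (hx : x ∈ leechSet) (hy : y ∈ leechSet) :
    x + y ∈ leechSet := by
  rw [mem_leechSet_iff] at hx hy ⊢
  obtain ⟨m, a, hxa, hxs, hxw⟩ := hx
  obtain ⟨n, b, hyb, hys, hyw⟩ := hy
  refine ⟨m + n, a + b, ?_, ?_, ?_⟩
  · intro i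
    rw [Pi.add_apply, Pi.add_apply, hxa i, hyb i]; ring
  · simp only [Pi.add_apply, Finset.sum_add_distrib]
    have := Int.ModEq.add hxs hys
    rw [mul_add]; exact this
  · rw [wordZ_add]; exact Submodule.add_mem _ hxw hyw

theorem leechSet_neg {x : GolayPt → ℤ} (hx : x ∈ leechSet) : -x ∈ leechSet := by
  rw [mem_leechSet_iff] at hx ⊢
  obtain ⟨m, a, hxa, hxs, hxw⟩ := hx
  refine ⟨-m, -a, ?_, ?_, ?_⟩
  · intro i
    rw [Pi.neg_apply, Pi.neg_apply, hxa i]; ring
  · simp only [Pi.neg_apply, Finset.sum_neg_distrib]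
    have := Int.ModEq.neg hxs
    rw [mul_neg]; exact this
  · rw [wordZ_neg]; exact hxw

/-- `leechSet` as an additive subgroup -/
def leechSub : AddSubgroup (GolayPt → ℤ) where
  carrier := leechSet
  zero_mem' := leechSet_zero
  add_mem' := leechSet_add
  neg_mem' := leechSet_neg

theorem leechLattice_eq_leechSub : leechLattice = leechSub := by
  unfold leechLattice
  exact (AddSubgroup.closure_eq leechSub)

theorem mem_leechLattice_iff_mem_leechSet (x : GolayPt → ℤ) : x ∈ leechLattice ↔ x ∈ leechSet := by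
  rw [leechLattice_eq_leechSub]; rfl

theorem mem_leechLattice_iff (x : GolayPt → ℤ) : x ∈ leechLattice ↔
    ∃ (m : ℤ) (a : GolayPt → ℤ), (∀ i, x i = m + 2 * a i) ∧ (∑ i, x i ≡ 4 * m [ZMOD 8]) ∧
      wordZ a ∈ golayCode := by
  rw [mem_leechLattice_iff_mem_leechSet, mem_leechSet_iff]

/-- the weight of a codeword is divisible by 4 -/
theorem four_dvd_card_support₂ {w : GolayPt → ZMod 2} (hw : w ∈ golayCode) :
    4 ∣ (support₂ w).card := by
  have h := Cfsg.Agent.S0359.result w hw
  have h' : hammingNorm w = (support₂ w).card := rfl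
  rw [h'] at h
  rcases h with h | h | h | h | h <;> rw [h] <;> norm_num

end Cfsg.Agent.Lib.Helper1
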