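import Mathlib
import Cfsg.Prelude.Def_Sporadic_a
import Cfsg.Agent.Lib.Helper1.Golay
import Cfsg.Agent.Lib.Helper1.GolayEnum

set_option autoImplicit false

namespace Cfsg.Agent.Lib.Helper1

open Cfsg
open scoped Pointwise

/-- elements of `M24` act on the code -/
theorem permWord_mem_of_mem_M24 {σ : Equiv.Perm GolayPt} (hσ : σ ∈ M24) {w : GolayPt → ZMod 2}
    (hw : w ∈ golayCode) : permWord σ w ∈ golayCode := by
  have hstab : σ • supports (golayCode : Set (GolayPt → ZMod 2)) =
      supports (golayCode : Set (GolayPt → ZMod 2)) := MulAction.mem_stabilizer_iff.1 hσ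
  have hmem : σ • support₂ w ∈ supports (golayCode : Set (GolayPt → ZMod 2)) := by
    rw [← hstab]
    exact Set.smul_mem_smul_set ⟨w, hw, rfl⟩
  obtain ⟨w', hw', hsupp⟩ := hmem
  rw [← support₂_permWord] at hsupp
  rw [← support₂_injective hsupp]
  exact hw'

theorem smul_mem_octads {σ : Equiv.Perm GolayPt} (hσ : σ ∈ M24) {o : Finset GolayPt}
    (ho : o ∈ octads) : σ • o ∈ octads := by
  obtain ⟨⟨w, hw, rfl⟩, hc⟩ := ho
  refine ⟨⟨permWord σ w, permWord_mem_of_mem_M24 hσ hw, support₂_permWord σ w⟩, ?_⟩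
  rw [Finset.card_smul_finset]
  exact hc

theorem smul_mem_dodecads {σ : Equiv.Perm GolayPt} (hσ : σ ∈ M24) {o : Finset GolayPt}
    (ho : o ∈ dodecads) : σ • o ∈ dodecads := by
  obtain ⟨⟨w, hw, rfl⟩, hc⟩ := ho
  refine ⟨⟨permWord σ w, permWord_mem_of_mem_M24 hσ hw, support₂_permWord σ w⟩, ?_⟩
  rw [Finset.card_smul_finset]
  exact hc

/-- first octad summand of `qrWord t` -/
def octA (t : ZMod 23) : ℕ :=
  [118, 41, 43, 35, 43, 15, 30, 35, 35, 35, 19, 19, 38, 41, 19, 38, 15, 15, 19, 15, 15, 30,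
    59].getD (ZMod.val t) 0

/-- second octad summand of `qrWord t` -/
def octB (t : ZMod 23) : ℕ :=
  [119, 43, 47, 43, 59, 47, 94, 163, 291, 547, 1043, 752, 1504, 326, 717, 1434, 404, 825, 1663,
    1588, 1690, 2007, 1354].getD (ZMod.val t) 0

theorem qIdx_split : ∀ t : ZMod 23, octA t ^^^ octB t = qIdx t ∧ popc (combo (octA t)) = 8 ∧
    popc (combo (octB t)) = 8 := by
  decide +kernel

theorem qrWord_eq_add (t : ZMod 23) : qrWord t = wordOf (octA t) + wordOf (octB t) := by
  apply mask_injective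
  rw [mask_add, mask_wordOf, mask_wordOf, ← combo_xor, (qIdx_split t).1]
  exact (mask_qr_combo' t).2

theorem wordOf_mem_octads {m : ℕ} (h : popc (combo m) = 8) : support₂ (wordOf m) ∈ octads := by
  refine ⟨⟨wordOf m, wordOf_mem m, rfl⟩, ?_⟩
  rw [card_support₂, mask_wordOf]
  exact h

/-- a word whose support is an octad is a codeword -/
theorem mem_golayCode_of_support₂_mem_octads {w : GolayPt → ZMod 2} (h : support₂ w ∈ octads) :
    w ∈ golayCode := by
  obtain ⟨⟨w', hw', hs⟩, _⟩ := h
  rw [← support₂_injective hs]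
  exact hw'

/-- a permutation preserving the family of octads lies in `M24` -/
theorem mem_M24_of_octads {σ : Equiv.Perm GolayPt} (h : σ • octads = octads) : σ ∈ M24 := by
  have hoct : ∀ m : ℕ, popc (combo m) = 8 → permWord σ (wordOf m) ∈ golayCode := by
    intro m hm
    apply mem_golayCode_of_support₂_mem_octads
    rw [support₂_permWord, ← h]
    exact Set.smul_mem_smul_set (wordOf_mem_octads hm)
  apply mem_M24_of_gens
  · intro t
    rw [qrWord_eq_add, map_add]
    exact Submodule.add_mem _ (hoct _ (qIdx_split t).2.1) (hoct _ (qIdx_split t).2.2)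
  · have : permWord σ 1 = 1 := by
      funext p
      rfl
    rw [this]
    exact one_mem_golay

theorem M24_eq_setSystemAut_octads : M24 = setSystemAut octads := by
  apply le_antisymm
  · intro σ hσ
    show σ ∈ MulAction.stabilizer (Equiv.Perm GolayPt) octads
    rw [MulAction.mem_stabilizer_set_iff_smul_set_subset (Set.toFinite _)]
    rintro _ ⟨o, ho, rfl⟩
    exact smul_mem_octads hσ ho
  · intro σ hσ
    exact mem_M24_of_octads (MulAction.mem_stabilizer_iff.1 hσ)

end Cfsg.Agent.Lib.Helper1
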