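import Mathlib
import Cfsg.Prelude.Def_Sporadic_a
import Cfsg.Agent.Lib.Helper1.GolayEnum

set_option autoImplicit false

namespace Cfsg.Agent.Lib.Helper1

open Cfsg
open scoped Pointwise

section generic

variable {G X : Type*} [Group G] [MulAction G X]

theorem card_stabilizer_subgroup (K : Subgroup G) (p : X) :
    Nat.card (MulAction.stabilizer K p) = Nat.card ↥(K ⊓ MulAction.stabilizer G p) := by
  have h1 : MulAction.stabilizer K p = (MulAction.stabilizer G p).subgroupOf K := by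
    ext g
    rw [MulAction.mem_stabilizer_iff, Subgroup.mem_subgroupOf, MulAction.mem_stabilizer_iff]
    rfl
  rw [h1, ← Subgroup.inf_subgroupOf_right, inf_comm]
  exact Nat.card_congr (Subgroup.subgroupOfEquivOfLe inf_le_left).toEquiv

theorem card_eq_ncard_orbit_mul (K : Subgroup G) (p : X) :
    Nat.card K = (MulAction.orbit K p).ncard * Nat.card ↥(K ⊓ MulAction.stabilizer G p) := by
  rw [← card_stabilizer_subgroup, ← MulAction.index_stabilizer, mul_comm, Subgroup.card_mul_index]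

theorem mem_orbit_subgroup_iff (K : Subgroup G) (p q : X) :
    q ∈ MulAction.orbit K p ↔ ∃ g ∈ K, g • p = q := by
  constructor
  · rintro ⟨g, rfl⟩; exact ⟨g, g.2, rfl⟩
  · rintro ⟨g, hg, rfl⟩; exact ⟨⟨g, hg⟩, rfl⟩

theorem card_le_of_orbit_subset (K : Subgroup G) (p : X) (A : Finset X)
    (h : ∀ g ∈ K, g • p ∈ A) :
    Nat.card K ≤ A.card * Nat.card ↥(K ⊓ MulAction.stabilizer G p) := by
  rw [card_eq_ncard_orbit_mul K p]
  apply Nat.mul_le_mul_right
  have hsub : MulAction.orbit K p ⊆ ↑A := by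
    rintro _ ⟨g, rfl⟩; exact h g g.2
  calc (MulAction.orbit K p).ncard ≤ (↑A : Set X).ncard :=
        Set.ncard_le_ncard hsub (Finset.finite_toSet A)
    _ = A.card := Set.ncard_coe_finset A

theorem le_card_of_subset_orbit [Finite X] (K : Subgroup G) (p : X) (A : Finset X)
    (h : ∀ q ∈ A, ∃ g ∈ K, g • p = q) :
    A.card * Nat.card ↥(K ⊓ MulAction.stabilizer G p) ≤ Nat.card K := by
  rw [card_eq_ncard_orbit_mul K p]
  apply Nat.mul_le_mul_right
  have hsub : (↑A : Set X) ⊆ MulAction.orbit K p := by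
    intro q hq
    rw [mem_orbit_subgroup_iff]
    exact h q hq
  calc A.card = (↑A : Set X).ncard := (Set.ncard_coe_finset A).symm
    _ ≤ (MulAction.orbit K p).ncard := Set.ncard_le_ncard hsub (Set.toFinite _)

end generic

/-- `g` acts on the 24 points (indexed by `gpt`) through the table `T` -/
def HasTable (g : Equiv.Perm GolayPt) (T : Fin 24 → Fin 24) : Prop := ∀ i, g (gpt i) = gpt (T i)

theorem HasTable.mul {g h : Equiv.Perm GolayPt} {S T : Fin 24 → Fin 24} (hg : HasTable g S)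
    (hh : HasTable h T) : HasTable (g * h) (S ∘ T) := by
  intro i
  rw [Equiv.Perm.mul_apply, hh i, hg (T i)]
  rfl

theorem HasTable.inv {g : Equiv.Perm GolayPt} {S T : Fin 24 → Fin 24} (hg : HasTable g S)
    (hST : ∀ i, S (T i) = i) : HasTable g⁻¹ T := by
  intro i
  rw [Equiv.Perm.inv_eq_iff_eq, hg (T i), hST i]

theorem HasTable.one : HasTable 1 id := fun _ => rfl

/-- one step of breadth-first search -/
def bfsStep (Ts : List (Fin 24 → Fin 24)) (S : List (Fin 24)) : List (Fin 24) :=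
  (S ++ Ts.flatMap (fun T => S.map T)).dedup

/-- breadth-first search with fuel -/
def bfs (Ts : List (Fin 24 → Fin 24)) : ℕ → List (Fin 24) → List (Fin 24)
  | 0, S => S
  | n + 1, S => bfs Ts n (bfsStep Ts S)

theorem bfs_sound (K : Subgroup (Equiv.Perm GolayPt)) (Ts : List (Fin 24 → Fin 24))
    (hT : ∀ T ∈ Ts, ∃ g ∈ K, HasTable g T) (b : Fin 24) :
    ∀ (n : ℕ) (S : List (Fin 24)), (∀ i ∈ S, ∃ g ∈ K, g (gpt b) = gpt i) →
      ∀ i ∈ bfs Ts n S, ∃ g ∈ K, g (gpt b) = gpt i := by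
  intro n
  induction n with
  | zero => intro S hS i hi; exact hS i hi
  | succ n ih =>
    intro S hS i hi
    refine ih (bfsStep Ts S) ?_ i hi
    intro j hj
    unfold bfsStep at hj
    rw [List.mem_dedup, List.mem_append, List.mem_flatMap] at hj
    rcases hj with hj | ⟨T, hT', hj⟩
    · exact hS j hj
    · rw [List.mem_map] at hj
      obtain ⟨k, hk, rfl⟩ := hj
      obtain ⟨g, hg, hgb⟩ := hS k hk
      obtain ⟨t, ht, htT⟩ := hT T hT'
      refine ⟨t * g, mul_mem ht hg, ?_⟩
      rw [Equiv.Perm.mul_apply, hgb, htT k]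

/-- successive point stabilizers -/
def fixL (K : Subgroup (Equiv.Perm GolayPt)) : List (Fin 24) → Subgroup (Equiv.Perm GolayPt)
  | [] => K
  | i :: L => fixL (K ⊓ MulAction.stabilizer (Equiv.Perm GolayPt) (gpt i)) L

theorem mem_fixL {K : Subgroup (Equiv.Perm GolayPt)} {L : List (Fin 24)} {g : Equiv.Perm GolayPt} :
    g ∈ fixL K L ↔ g ∈ K ∧ ∀ i ∈ L, g (gpt i) = gpt i := by
  induction L generalizing K with
  | nil => simp [fixL]
  | cons i L ih =>
    rw [fixL, ih, Subgroup.mem_inf, MulAction.mem_stabilizer_iff, Equiv.Perm.smul_def]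
    constructor
    · rintro ⟨⟨h1, h2⟩, h3⟩
      refine ⟨h1, ?_⟩
      intro j hj
      rcases List.mem_cons.1 hj with rfl | hj
      · exact h2
      · exact h3 j hj
    · rintro ⟨h1, h2⟩
      exact ⟨⟨h1, h2 i List.mem_cons_self⟩, fun j hj => h2 j (List.mem_cons_of_mem _ hj)⟩

theorem fixL_append_singleton (K : Subgroup (Equiv.Perm GolayPt)) (L : List (Fin 24)) (i : Fin 24) :
    fixL K (L ++ [i]) = fixL K L ⊓ MulAction.stabilizer (Equiv.Perm GolayPt) (gpt i) := by
  ext g
  rw [Subgroup.mem_inf, mem_fixL, mem_fixL, MulAction.mem_stabilizer_iff, Equiv.Perm.smul_def]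
  constructor
  · rintro ⟨h1, h2⟩
    exact ⟨⟨h1, fun j hj => h2 j (List.mem_append_left _ hj)⟩,
      h2 i (List.mem_append_right _ (List.mem_singleton_self i))⟩
  · rintro ⟨⟨h1, h2⟩, h3⟩
    refine ⟨h1, fun j hj => ?_⟩
    rcases List.mem_append.1 hj with hj | hj
    · exact h2 j hj
    · rw [List.mem_singleton] at hj
      rw [hj]; exact h3

theorem fixL_mono {K K' : Subgroup (Equiv.Perm GolayPt)} (h : K ≤ K') (L : List (Fin 24)) :
    fixL K L ≤ fixL K' L := by
  intro g hg
  rw [mem_fixL] at hg ⊢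
  exact ⟨h hg.1, hg.2⟩

end Cfsg.Agent.Lib.Helper1
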