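import Mathlib
import Cfsg.Prelude.Def_Sporadic_a
import Cfsg.Agent.Lib.Helper1.GolayEnum
import Cfsg.Agent.Lib.Helper1.M24Basic
import Cfsg.Agent.Lib.Helper1.M24Chain
import Cfsg.Agent.Lib.Helper1.Leech
import Cfsg.Agent.S0363
import Cfsg.Agent.S0370
import Cfsg.Agent.S0372
import Cfsg.Agent.S0373

set_option autoImplicit false

namespace Cfsg.Agent.Lib.Helper1

open Cfsg
open scoped Pointwise

/-- the translation `x ↦ x + 1` -/
def gA : Equiv.Perm GolayPt := Equiv.optionCongr (Equiv.addRight (1 : ZMod 23))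

/-- the subgroup generated by the three standard permutations -/
def H0 : Subgroup (Equiv.Perm GolayPt) := Subgroup.closure {gA, projInv, cubeTwist}

theorem H0_le_M24 : H0 ≤ M24 := by
  unfold H0
  rw [Subgroup.closure_le]
  intro g hg
  rcases hg with rfl | rfl | hg
  · exact Cfsg.Agent.S0370.result
  · exact Cfsg.Agent.S0372.result
  · rw [Set.mem_singleton_iff] at hg
    rw [hg]; exact Cfsg.Agent.S0373.result

def tA : Fin 24 → Fin 24 := ![1, 2, 3, 4, 5, 6, 7, 8, 9, 10, 11, 12, 13, 14, 15, 16, 17, 18, 19, 20, 21, 22, 0, 23]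
def tA' : Fin 24 → Fin 24 := ![22, 0, 1, 2, 3, 4, 5, 6, 7, 8, 9, 10, 11, 12, 13, 14, 15, 16, 17, 18, 19, 20, 21, 23]
def tB : Fin 24 → Fin 24 := ![23, 22, 11, 15, 17, 9, 19, 13, 20, 5, 16, 2, 21, 7, 18, 3, 10, 4, 14, 6, 8, 12, 1, 0]
def tC : Fin 24 → Fin 24 := ![0, 18, 6, 3, 2, 21, 1, 5, 16, 12, 7, 19, 8, 9, 17, 15, 13, 11, 4, 22, 10, 20, 14, 23]
def tC' : Fin 24 → Fin 24 := ![0, 6, 4, 3, 18, 7, 2, 10, 12, 13, 20, 17, 9, 16, 22, 15, 8, 14, 1, 11, 21, 5, 19, 23]


theorem hasTable_A : HasTable gA tA := by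
  unfold HasTable gA
  decide +kernel

theorem hasTable_A' : HasTable gA⁻¹ tA' := hasTable_A.inv (by decide +kernel)

theorem hasTable_B : HasTable projInv tB := by
  unfold HasTable
  decide +kernel

theorem hasTable_C : HasTable cubeTwist tC := by
  unfold HasTable
  decide +kernel

theorem hasTable_C' : HasTable cubeTwist⁻¹ tC' := hasTable_C.inv (by decide +kernel)

/-- letters of words in the generators -/
noncomputable def letter : ℕ → Equiv.Perm GolayPt
  | 0 => gA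
  | 1 => gA⁻¹
  | 2 => projInv
  | 3 => cubeTwist
  | _ => cubeTwist⁻¹

/-- tables of the letters -/
def letterT : ℕ → Fin 24 → Fin 24
  | 0 => tA
  | 1 => tA'
  | 2 => tB
  | 3 => tC
  | _ => tC'

theorem gA_mem : gA ∈ H0 := Subgroup.subset_closure (Or.inl rfl)
theorem projInv_mem : projInv ∈ H0 := Subgroup.subset_closure (Or.inr (Or.inl rfl))
theorem cubeTwist_mem : cubeTwist ∈ H0 := Subgroup.subset_closure (Or.inr (Or.inr rfl))

theorem letter_mem (l : ℕ) : letter l ∈ H0 := by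
  match l with
  | 0 => exact gA_mem
  | 1 => exact inv_mem gA_mem
  | 2 => exact projInv_mem
  | 3 => exact cubeTwist_mem
  | (n + 4) => exact inv_mem cubeTwist_mem

theorem letter_table (l : ℕ) : HasTable (letter l) (letterT l) := by
  match l with
  | 0 => exact hasTable_A
  | 1 => exact hasTable_A'
  | 2 => exact hasTable_B
  | 3 => exact hasTable_C
  | (n + 4) => exact hasTable_C'

/-- evaluation of a word -/
noncomputable def evalW (w : List ℕ) : Equiv.Perm GolayPt := (w.map letter).prod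

/-- table of a word -/
def evalT (w : List ℕ) : Fin 24 → Fin 24 := w.foldr (fun l acc => letterT l ∘ acc) id

theorem evalW_mem (w : List ℕ) : evalW w ∈ H0 := by
  apply list_prod_mem
  intro x hx
  obtain ⟨l, _, rfl⟩ := List.mem_map.1 hx
  exact letter_mem l

theorem evalW_table (w : List ℕ) : HasTable (evalW w) (evalT w) := by
  induction w with
  | nil => exact HasTable.one
  | cons l w ih =>
    have : evalW (l :: w) = letter l * evalW w := by
      unfold evalW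
      rw [List.map_cons, List.prod_cons]
    rw [this]
    exact (letter_table l).mul ih

theorem level_reach (ws : List (List ℕ)) (L : List (Fin 24))
    (hfix : ∀ w ∈ ws, ∀ i ∈ L, evalT w i = i) (b : Fin 24) (n : ℕ) :
    ∀ i ∈ bfs (ws.map evalT) n [b], ∃ g ∈ fixL H0 L, g (gpt b) = gpt i := by
  apply bfs_sound
  · intro T hT
    obtain ⟨w, hw, rfl⟩ := List.mem_map.1 hT
    refine ⟨evalW w, mem_fixL.2 ⟨evalW_mem w, fun i hi => ?_⟩, evalW_table w⟩
    rw [evalW_table w i, hfix w hw i hi]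
  · intro i hi
    rw [List.mem_singleton] at hi
    subst hi
    exact ⟨1, one_mem _, rfl⟩

/-- the embedding of indices into points -/
def gptEmb : Fin 24 ↪ GolayPt := ⟨gpt, gpt_bij.injective⟩

/-- the set of points with indices satisfying `c` -/
def Aset (c : Fin 24 → Bool) : Finset GolayPt :=
  (Finset.univ.filter (fun i => c i = true)).map gptEmb

theorem card_Aset (c : Fin 24 → Bool) :
    (Aset c).card = (Finset.univ.filter (fun i => c i = true)).card := Finset.card_map _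

theorem mem_Aset {c : Fin 24 → Bool} {q : GolayPt} : q ∈ Aset c ↔ ∃ i, c i = true ∧ gpt i = q := by
  unfold Aset
  rw [Finset.mem_map]
  constructor
  · rintro ⟨i, hi, rfl⟩
    exact ⟨i, (Finset.mem_filter.1 hi).2, rfl⟩
  · rintro ⟨i, hi, rfl⟩
    exact ⟨i, Finset.mem_filter.2 ⟨Finset.mem_univ _, hi⟩, rfl⟩

theorem lower_step (ws : List (List ℕ)) (L : List (Fin 24)) (b : Fin 24) (n : ℕ)
    (c : Fin 24 → Bool)
    (hcheck : (∀ w ∈ ws, ∀ i ∈ L, evalT w i = i) ∧
      ∀ i, c i = true → i ∈ bfs (ws.map evalT) n [b]) :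
    (Aset c).card * Nat.card (fixL H0 (L ++ [b])) ≤ Nat.card (fixL H0 L) := by
  rw [fixL_append_singleton]
  apply le_card_of_subset_orbit
  intro q hq
  obtain ⟨i, hi, rfl⟩ := mem_Aset.1 hq
  obtain ⟨g, hg, hgb⟩ := level_reach ws L hcheck.1 b n i (hcheck.2 i hi)
  exact ⟨g, hg, hgb⟩

theorem upper_step (L : List (Fin 24)) (b : Fin 24) (c : Fin 24 → Bool)
    (h : ∀ g ∈ fixL M24 L, ∀ j, g (gpt b) = gpt j → c j = true) :
    Nat.card (fixL M24 L) ≤ (Aset c).card * Nat.card (fixL M24 (L ++ [b])) := by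
  rw [fixL_append_singleton]
  apply card_le_of_orbit_subset
  intro g hg
  obtain ⟨j, hj⟩ := gpt_bij.surjective (g (gpt b))
  rw [mem_Aset]
  exact ⟨j, h g hg j hj.symm, hj⟩

theorem upper_step_notMem (L : List (Fin 24)) (b : Fin 24) (hb : b ∉ L) :
    Nat.card (fixL M24 L) ≤
      (Aset (fun i => decide (i ∉ L))).card * Nat.card (fixL M24 (L ++ [b])) := by
  apply upper_step
  intro g hg j hj
  rw [decide_eq_true_iff]
  intro hjL
  have h1 := (mem_fixL.1 hg).2 j hjL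
  have h2 : j = b := gpt_bij.injective (g.injective (h1.trans hj.symm))
  exact hb (h2 ▸ hjL)

/-- strong generators from level 0 -/
def ws0 : List (List ℕ) := [[0],
    [2],
    [3],
    [0],
    [3],
    [1, 4, 1, 4, 1, 4],
    [0, 3, 0, 3, 0, 3],
    [1, 3, 3, 1, 4, 0, 3, 0, 0, 0, 0],
    [3, 3, 1, 4, 1, 1, 1, 3, 0, 3, 3, 0],
    [3, 0, 3, 0, 3, 1, 4, 0, 4, 4, 0, 0, 3, 0, 3]]

/-- strong generators from level 1 -/
def ws1 : List (List ℕ) := [[0],
    [3],
    [1, 4, 1, 4, 1, 4],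
    [0, 3, 0, 3, 0, 3],
    [1, 3, 3, 1, 4, 0, 3, 0, 0, 0, 0],
    [3, 3, 1, 4, 1, 1, 1, 3, 0, 3, 3, 0],
    [3, 0, 3, 0, 3, 1, 4, 0, 4, 4, 0, 0, 3, 0, 3]]

/-- strong generators from level 2 -/
def ws2 : List (List ℕ) := [[3],
    [1, 4, 1, 4, 1, 4],
    [0, 3, 0, 3, 0, 3],
    [1, 3, 3, 1, 4, 0, 3, 0, 0, 0, 0],
    [3, 3, 1, 4, 1, 1, 1, 3, 0, 3, 3, 0],
    [3, 0, 3, 0, 3, 1, 4, 0, 4, 4, 0, 0, 3, 0, 3]]

/-- strong generators from level 3 -/
def ws3 : List (List ℕ) := [[1, 4, 1, 4, 1, 4],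
    [0, 3, 0, 3, 0, 3],
    [1, 3, 3, 1, 4, 0, 3, 0, 0, 0, 0],
    [3, 3, 1, 4, 1, 1, 1, 3, 0, 3, 3, 0],
    [3, 0, 3, 0, 3, 1, 4, 0, 4, 4, 0, 0, 3, 0, 3]]

/-- strong generators from level 4 -/
def ws4 : List (List ℕ) := [[0, 3, 0, 3, 0, 3],
    [1, 3, 3, 1, 4, 0, 3, 0, 0, 0, 0],
    [3, 3, 1, 4, 1, 1, 1, 3, 0, 3, 3, 0],
    [3, 0, 3, 0, 3, 1, 4, 0, 4, 4, 0, 0, 3, 0, 3]]

/-- strong generators from level 5 -/
def ws5 : List (List ℕ) := [[1, 3, 3, 1, 4, 0, 3, 0, 0, 0, 0],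
    [3, 3, 1, 4, 1, 1, 1, 3, 0, 3, 3, 0],
    [3, 0, 3, 0, 3, 1, 4, 0, 4, 4, 0, 0, 3, 0, 3]]

/-- strong generators from level 6 -/
def ws6 : List (List ℕ) := [[3, 0, 3, 0, 3, 1, 4, 0, 4, 4, 0, 0, 3, 0, 3]]

/-- index condition at level 0 -/
def cond0 : Fin 24 → Bool := fun _ => true

/-- index condition at level 1 -/
def cond1 : Fin 24 → Bool := fun i => decide (i ∉ ([23] : List (Fin 24)))

/-- index condition at level 2 -/
def cond2 : Fin 24 → Bool := fun i => decide (i ∉ ([23, 0] : List (Fin 24)))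

/-- index condition at level 3 -/
def cond3 : Fin 24 → Bool := fun i => decide (i ∉ ([23, 0, 1] : List (Fin 24)))

/-- index condition at level 4 -/
def cond4 : Fin 24 → Bool := fun i => decide (i ∉ ([23, 0, 1, 2] : List (Fin 24)))

/-- index condition at level 5 -/
def cond5 : Fin 24 → Bool := fun i => !(combo 2503).testBit i

/-- index condition at level 6 -/
def cond6 : Fin 24 → Bool := fun i => decide (i = 5 ∨ i = 14 ∨ i = 17)

theorem lvl0 : (∀ w ∈ ws0, ∀ i ∈ ([] : List (Fin 24)), evalT w i = i) ∧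
    ∀ i, cond0 i = true → i ∈ bfs (ws0.map evalT) 6 [23] := by
  decide +kernel

theorem lvl1 : (∀ w ∈ ws1, ∀ i ∈ ([23] : List (Fin 24)), evalT w i = i) ∧
    ∀ i, cond1 i = true → i ∈ bfs (ws1.map evalT) 5 [0] := by
  decide +kernel

theorem lvl2 : (∀ w ∈ ws2, ∀ i ∈ ([23, 0] : List (Fin 24)), evalT w i = i) ∧
    ∀ i, cond2 i = true → i ∈ bfs (ws2.map evalT) 4 [1] := by
  decide +kernel

theorem lvl3 : (∀ w ∈ ws3, ∀ i ∈ ([23, 0, 1] : List (Fin 24)), evalT w i = i) ∧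
    ∀ i, cond3 i = true → i ∈ bfs (ws3.map evalT) 6 [2] := by
  decide +kernel

theorem lvl4 : (∀ w ∈ ws4, ∀ i ∈ ([23, 0, 1, 2] : List (Fin 24)), evalT w i = i) ∧
    ∀ i, cond4 i = true → i ∈ bfs (ws4.map evalT) 5 [3] := by
  decide +kernel

theorem lvl5 : (∀ w ∈ ws5, ∀ i ∈ ([23, 0, 1, 2, 3] : List (Fin 24)), evalT w i = i) ∧
    ∀ i, cond5 i = true → i ∈ bfs (ws5.map evalT) 4 [4] := by
  decide +kernel

theorem lvl6 : (∀ w ∈ ws6, ∀ i ∈ ([23, 0, 1, 2, 3, 4] : List (Fin 24)), evalT w i = i) ∧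
    ∀ i, cond6 i = true → i ∈ bfs (ws6.map evalT) 2 [5] := by
  decide +kernel

theorem card_cond0 : (Aset cond0).card = 24 := by
  rw [card_Aset]
  decide +kernel

theorem card_cond1 : (Aset cond1).card = 23 := by
  rw [card_Aset]
  decide +kernel

theorem card_cond2 : (Aset cond2).card = 22 := by
  rw [card_Aset]
  decide +kernel

theorem card_cond3 : (Aset cond3).card = 21 := by
  rw [card_Aset]
  decide +kernel

theorem card_cond4 : (Aset cond4).card = 20 := by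
  rw [card_Aset]
  decide +kernel

theorem card_cond5 : (Aset cond5).card = 16 := by
  rw [card_Aset]
  decide +kernel

theorem card_cond6 : (Aset cond6).card = 3 := by
  rw [card_Aset]
  decide +kernel

end Cfsg.Agent.Lib.Helper1
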