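import Mathlib
import Cfsg.Prelude.Def_Sporadic_a
import Cfsg.Agent.Lib.Helper1.M24Data

set_option autoImplicit false

namespace Cfsg.Agent.Lib.Helper1

open Cfsg
open scoped Pointwise

theorem gpt_mem_support₂_wordOf (m : ℕ) (i : Fin 24) :
    gpt i ∈ support₂ (wordOf m) ↔ (combo m).testBit i = true := by
  rw [mem_support₂_iff, ← mask_wordOf, mask_testBit, decide_eq_true_iff]

/-- an octad meeting the fixed points of `σ ∈ M24` in at least five points is invariant -/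
theorem octad_inv {σ : Equiv.Perm GolayPt} (hσ : σ ∈ M24) (Fm : ℕ)
    (hF : ∀ i : Fin 24, Fm.testBit i = true → σ (gpt i) = gpt i) (m : ℕ)
    (h8 : popc (combo m) = 8) (h5 : 5 ≤ popc (combo m &&& Fm)) :
    σ • support₂ (wordOf m) = support₂ (wordOf m) := by
  classical
  have ho : support₂ (wordOf m) ∈ octads := wordOf_mem_octads h8
  have hσo : σ • support₂ (wordOf m) ∈ octads := smul_mem_octads hσ ho
  set S : Finset GolayPt :=
    (Finset.univ.filter (fun i : Fin 24 => (combo m &&& Fm).testBit i)).map gptEmb with hS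
  have hScard : 5 ≤ S.card := by
    rw [hS, Finset.card_map]
    exact h5
  have hbits : ∀ i : Fin 24, gptEmb i ∈ S → (combo m).testBit i = true ∧ Fm.testBit i = true := by
    intro i hi
    rw [hS, Finset.mem_map' , Finset.mem_filter, Nat.testBit_and, Bool.and_eq_true] at hi
    exact hi.2
  have hS1 : S ⊆ support₂ (wordOf m) := by
    intro q hq
    obtain ⟨i, hi, rfl⟩ := Finset.mem_map.1 hq
    exact (gpt_mem_support₂_wordOf m i).2 (hbits i (Finset.mem_map_of_mem _ hi)).1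
  have hS2 : S ⊆ σ • support₂ (wordOf m) := by
    intro q hq
    obtain ⟨i, hi, rfl⟩ := Finset.mem_map.1 hq
    have hb := hbits i (Finset.mem_map_of_mem _ hi)
    have h1 : gpt i = σ • gpt i := (hF i hb.2).symm
    show gpt i ∈ σ • support₂ (wordOf m)
    rw [h1]
    exact Finset.smul_mem_smul_finset ((gpt_mem_support₂_wordOf m i).2 hb.1)
  obtain ⟨S', hS'sub, hS'card⟩ := Finset.exists_subset_card_eq hScard
  exact (Cfsg.Agent.S0363.octad_unique _ _ ho hσo S' hS'card (hS'sub.trans hS1)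
    (hS'sub.trans hS2)).symm

theorem octad_inv_mem {σ : Equiv.Perm GolayPt} (hσ : σ ∈ M24) (Fm : ℕ)
    (hF : ∀ i : Fin 24, Fm.testBit i = true → σ (gpt i) = gpt i) (m : ℕ)
    (h8 : popc (combo m) = 8) (h5 : 5 ≤ popc (combo m &&& Fm)) (i j : Fin 24)
    (hij : σ (gpt i) = gpt j) : (combo m).testBit j = (combo m).testBit i := by
  have h := octad_inv hσ Fm hF m h8 h5
  have h1 : gpt j ∈ support₂ (wordOf m) ↔ gpt i ∈ support₂ (wordOf m) := by
    rw [← hij]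
    conv_lhs => rw [← h]
    exact Finset.smul_mem_smul_finset_iff σ
  rw [gpt_mem_support₂_wordOf, gpt_mem_support₂_wordOf] at h1
  exact Bool.eq_iff_iff.2 h1

/-- the certificate check for one round of propagation of fixed points -/
def roundOK (Fm newF : ℕ) (cert : Fin 24 → Fin 24 → ℕ) : Prop :=
  ∀ i : Fin 24, newF.testBit i = true → (Fm.testBit i = true ∨ ∀ j : Fin 24, j ≠ i →
    (popc (combo (cert i j)) = 8 ∧ 5 ≤ popc (combo (cert i j) &&& Fm) ∧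
      (combo (cert i j)).testBit i ≠ (combo (cert i j)).testBit j))

instance (Fm newF : ℕ) (cert : Fin 24 → Fin 24 → ℕ) : Decidable (roundOK Fm newF cert) := by
  unfold roundOK
  infer_instance

theorem round_sound {σ : Equiv.Perm GolayPt} (hσ : σ ∈ M24) (Fm newF : ℕ)
    (cert : Fin 24 → Fin 24 → ℕ)
    (hF : ∀ i : Fin 24, Fm.testBit i = true → σ (gpt i) = gpt i) (hok : roundOK Fm newF cert) :
    ∀ i : Fin 24, newF.testBit i = true → σ (gpt i) = gpt i := by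
  intro i hi
  rcases hok i hi with h | h
  · exact hF i h
  · obtain ⟨j, hj⟩ := gpt_bij.surjective (σ (gpt i))
    by_cases hji : j = i
    · rw [← hj, hji]
    · exfalso
      obtain ⟨h8, h5, hsep⟩ := h j hji
      exact hsep (octad_inv_mem hσ Fm hF _ h8 h5 i j hj.symm).symm

/-- certificate lookup -/
def certOf (L : List (List ℕ)) : Fin 24 → Fin 24 → ℕ := fun i j => (L.getD i.val []).getD j.val 0

def certData0 : List (List ℕ) :=
  [[0, 0, 0, 0, 0, 0, 0, 0, 0, 0, 0, 0, 0, 0, 0, 0, 0, 0, 0, 0, 0, 0, 0, 0],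
    [0, 0, 0, 0, 0, 0, 0, 0, 0, 0, 0, 0, 0, 0, 0, 0, 0, 0, 0, 0, 0, 0, 0, 0],
    [0, 0, 0, 0, 0, 0, 0, 0, 0, 0, 0, 0, 0, 0, 0, 0, 0, 0, 0, 0, 0, 0, 0, 0],
    [0, 0, 0, 0, 0, 0, 0, 0, 0, 0, 0, 0, 0, 0, 0, 0, 0, 0, 0, 0, 0, 0, 0, 0],
    [0, 0, 0, 0, 0, 0, 0, 0, 0, 0, 0, 0, 0, 0, 0, 0, 0, 0, 0, 0, 0, 0, 0, 0],
    [0, 0, 0, 0, 0, 0, 0, 0, 0, 0, 0, 0, 0, 0, 0, 0, 0, 0, 0, 0, 0, 0, 0, 0],
    [345, 345, 345, 345, 345, 608, 0, 345, 690, 608, 345, 690, 345, 690, 1577, 1577, 2958, 1577, 608, 608, 1577, 2958, 1577, 1577],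
    [608, 608, 608, 690, 608, 345, 345, 0, 345, 345, 2891, 345, 2812, 345, 345, 345, 345, 345, 345, 345, 345, 345, 345, 345],
    [345, 345, 345, 345, 345, 608, 690, 345, 0, 608, 345, 2646, 345, 2812, 690, 690, 690, 690, 608, 608, 690, 690, 690, 690],
    [345, 345, 345, 345, 345, 690, 608, 345, 608, 0, 345, 608, 345, 608, 608, 608, 608, 608, 2812, 2646, 608, 608, 608, 608],
    [608, 608, 608, 690, 608, 345, 345, 2891, 345, 345, 0, 345, 2812, 345, 345, 345, 345, 345, 345, 345, 345, 345, 345, 345],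
    [345, 345, 345, 345, 345, 608, 690, 345, 2646, 608, 345, 0, 345, 2646, 690, 690, 690, 690, 608, 608, 690, 690, 690, 690],
    [608, 608, 608, 690, 608, 345, 345, 2812, 345, 345, 2812, 345, 0, 345, 345, 345, 345, 345, 345, 345, 345, 345, 345, 345],
    [345, 345, 345, 345, 345, 608, 690, 345, 2812, 608, 345, 2646, 345, 0, 690, 690, 690, 690, 608, 608, 690, 690, 690, 690],
    [0, 0, 0, 0, 0, 0, 0, 0, 0, 0, 0, 0, 0, 0, 0, 0, 0, 0, 0, 0, 0, 0, 0, 0],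
    [345, 345, 345, 345, 345, 608, 1577, 345, 690, 608, 345, 690, 345, 690, 1637, 0, 1577, 1637, 608, 608, 2646, 1577, 2891, 1637],
    [345, 345, 345, 345, 345, 608, 2958, 345, 690, 608, 345, 690, 345, 690, 1577, 1577, 0, 1577, 608, 608, 1577, 3244, 1577, 1577],
    [0, 0, 0, 0, 0, 0, 0, 0, 0, 0, 0, 0, 0, 0, 0, 0, 0, 0, 0, 0, 0, 0, 0, 0],
    [345, 345, 345, 345, 345, 690, 608, 345, 608, 2812, 345, 608, 345, 608, 608, 608, 608, 608, 0, 2646, 608, 608, 608, 608],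
    [345, 345, 345, 345, 345, 690, 608, 345, 608, 2646, 345, 608, 345, 608, 608, 608, 608, 608, 2646, 0, 608, 608, 608, 608],
    [345, 345, 345, 345, 345, 608, 1577, 345, 690, 608, 345, 690, 345, 690, 1637, 2646, 1577, 1637, 608, 608, 0, 1577, 2646, 1637],
    [345, 345, 345, 345, 345, 608, 2958, 345, 690, 608, 345, 690, 345, 690, 1577, 1577, 3244, 1577, 608, 608, 1577, 0, 1577, 1577],
    [345, 345, 345, 345, 345, 608, 1577, 345, 690, 608, 345, 690, 345, 690, 1637, 2891, 1577, 1637, 608, 608, 2646, 1577, 0, 1637],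
    [0, 0, 0, 0, 0, 0, 0, 0, 0, 0, 0, 0, 0, 0, 0, 0, 0, 0, 0, 0, 0, 0, 0, 0]]

theorem round0_ok : roundOK 8388671 16629759 (certOf certData0) := by
  decide +kernel

def certData1 : List (List ℕ) :=
  [[0, 0, 0, 0, 0, 0, 0, 0, 0, 0, 0, 0, 0, 0, 0, 0, 0, 0, 0, 0, 0, 0, 0, 0],
    [0, 0, 0, 0, 0, 0, 0, 0, 0, 0, 0, 0, 0, 0, 0, 0, 0, 0, 0, 0, 0, 0, 0, 0],
    [0, 0, 0, 0, 0, 0, 0, 0, 0, 0, 0, 0, 0, 0, 0, 0, 0, 0, 0, 0, 0, 0, 0, 0],
    [0, 0, 0, 0, 0, 0, 0, 0, 0, 0, 0, 0, 0, 0, 0, 0, 0, 0, 0, 0, 0, 0, 0, 0],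
    [0, 0, 0, 0, 0, 0, 0, 0, 0, 0, 0, 0, 0, 0, 0, 0, 0, 0, 0, 0, 0, 0, 0, 0],
    [0, 0, 0, 0, 0, 0, 0, 0, 0, 0, 0, 0, 0, 0, 0, 0, 0, 0, 0, 0, 0, 0, 0, 0],
    [0, 0, 0, 0, 0, 0, 0, 0, 0, 0, 0, 0, 0, 0, 0, 0, 0, 0, 0, 0, 0, 0, 0, 0],
    [0, 0, 0, 0, 0, 0, 0, 0, 0, 0, 0, 0, 0, 0, 0, 0, 0, 0, 0, 0, 0, 0, 0, 0],
    [0, 0, 0, 0, 0, 0, 0, 0, 0, 0, 0, 0, 0, 0, 0, 0, 0, 0, 0, 0, 0, 0, 0, 0],
    [0, 0, 0, 0, 0, 0, 0, 0, 0, 0, 0, 0, 0, 0, 0, 0, 0, 0, 0, 0, 0, 0, 0, 0],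
    [0, 0, 0, 0, 0, 0, 0, 0, 0, 0, 0, 0, 0, 0, 0, 0, 0, 0, 0, 0, 0, 0, 0, 0],
    [0, 0, 0, 0, 0, 0, 0, 0, 0, 0, 0, 0, 0, 0, 0, 0, 0, 0, 0, 0, 0, 0, 0, 0],
    [0, 0, 0, 0, 0, 0, 0, 0, 0, 0, 0, 0, 0, 0, 0, 0, 0, 0, 0, 0, 0, 0, 0, 0],
    [0, 0, 0, 0, 0, 0, 0, 0, 0, 0, 0, 0, 0, 0, 0, 0, 0, 0, 0, 0, 0, 0, 0, 0],
    [15, 19, 15, 19, 38, 15, 15, 19, 19, 15, 19, 19, 19, 35, 0, 19, 19, 15, 30, 35, 15, 15, 30, 19],
    [0, 0, 0, 0, 0, 0, 0, 0, 0, 0, 0, 0, 0, 0, 0, 0, 0, 0, 0, 0, 0, 0, 0, 0],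
    [0, 0, 0, 0, 0, 0, 0, 0, 0, 0, 0, 0, 0, 0, 0, 0, 0, 0, 0, 0, 0, 0, 0, 0],
    [19, 15, 47, 15, 15, 38, 30, 15, 15, 35, 15, 15, 15, 15, 15, 15, 15, 0, 15, 15, 19, 30, 15, 15],
    [0, 0, 0, 0, 0, 0, 0, 0, 0, 0, 0, 0, 0, 0, 0, 0, 0, 0, 0, 0, 0, 0, 0, 0],
    [0, 0, 0, 0, 0, 0, 0, 0, 0, 0, 0, 0, 0, 0, 0, 0, 0, 0, 0, 0, 0, 0, 0, 0],
    [0, 0, 0, 0, 0, 0, 0, 0, 0, 0, 0, 0, 0, 0, 0, 0, 0, 0, 0, 0, 0, 0, 0, 0],
    [0, 0, 0, 0, 0, 0, 0, 0, 0, 0, 0, 0, 0, 0, 0, 0, 0, 0, 0, 0, 0, 0, 0, 0],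
    [0, 0, 0, 0, 0, 0, 0, 0, 0, 0, 0, 0, 0, 0, 0, 0, 0, 0, 0, 0, 0, 0, 0, 0],
    [0, 0, 0, 0, 0, 0, 0, 0, 0, 0, 0, 0, 0, 0, 0, 0, 0, 0, 0, 0, 0, 0, 0, 0]]

theorem round1_ok : roundOK 16629759 16777215 (certOf certData1) := by
  decide +kernel


theorem fixL_M24_base_eq_bot : fixL M24 [23, 0, 1, 2, 3, 4, 5] = ⊥ := by
  rw [eq_bot_iff]
  intro σ hσ
  rw [mem_fixL] at hσ
  obtain ⟨hσM, hfix⟩ := hσ
  have h0 : ∀ i : Fin 24, (8388671 : ℕ).testBit i = true → σ (gpt i) = gpt i := by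
    intro i hi
    apply hfix
    revert i
    decide +kernel
  have h1 := round_sound hσM _ _ _ h0 round0_ok
  have h2 := round_sound hσM _ _ _ h1 round1_ok
  rw [Subgroup.mem_bot]
  apply Equiv.ext
  intro q
  obtain ⟨i, rfl⟩ := gpt_bij.surjective q
  rw [Equiv.Perm.one_apply]
  apply h2
  revert i
  decide +kernel


/-- the base octad is preserved by the stabilizer of its first five points -/
theorem base_octad_inv {σ : Equiv.Perm GolayPt} (hσ : σ ∈ fixL M24 [23, 0, 1, 2, 3]) (i j : Fin 24)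
    (hij : σ (gpt i) = gpt j) : (combo 2503).testBit j = (combo 2503).testBit i := by
  rw [mem_fixL] at hσ
  obtain ⟨hσM, hfix⟩ := hσ
  have h0 : ∀ i : Fin 24, (8388623 : ℕ).testBit i = true → σ (gpt i) = gpt i := by
    intro i hi
    apply hfix
    revert i
    decide +kernel
  exact octad_inv_mem hσM 8388623 h0 2503 (by decide +kernel) (by decide +kernel) i j hij

theorem upper5 : Nat.card (fixL M24 [23, 0, 1, 2, 3]) ≤
    (Aset cond5).card * Nat.card (fixL M24 ([23, 0, 1, 2, 3] ++ [4])) := by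
  apply upper_step
  intro g hg j hj
  have h := base_octad_inv hg 4 j hj
  unfold cond5
  rw [h]
  decide +kernel

theorem upper6 : Nat.card (fixL M24 [23, 0, 1, 2, 3, 4]) ≤
    (Aset cond6).card * Nat.card (fixL M24 ([23, 0, 1, 2, 3, 4] ++ [5])) := by
  apply upper_step
  intro g hg j hj
  have hg5 : g ∈ fixL M24 [23, 0, 1, 2, 3] := by
    rw [mem_fixL] at hg ⊢
    exact ⟨hg.1, fun i hi => hg.2 i (by
      revert i
      decide)⟩
  have h := base_octad_inv hg5 5 j hj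
  have hbit : (combo 2503).testBit j = true := by
    rw [h]
    decide +kernel
  -- j is not one of the fixed points
  have hnot : j ∉ ([23, 0, 1, 2, 3, 4] : List (Fin 24)) := by
    intro hjL
    have h1 := (mem_fixL.1 hg).2 j hjL
    have h2 : j = 5 := gpt_bij.injective (g.injective (h1.trans hj.symm))
    rw [h2] at hjL
    revert hjL
    decide
  have key : ∀ j : Fin 24, (combo 2503).testBit j = true →
      j ∉ ([23, 0, 1, 2, 3, 4] : List (Fin 24)) → cond6 j = true := by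
    decide +kernel
  exact key j hbit hnot

theorem card_M24_le : Nat.card M24 ≤ 244823040 := by
  have h0 := upper_step_notMem [] 23 (by decide)
  have h1 := upper_step_notMem [23] 0 (by decide)
  have h2 := upper_step_notMem [23, 0] 1 (by decide)
  have h3 := upper_step_notMem [23, 0, 1] 2 (by decide)
  have h4 := upper_step_notMem [23, 0, 1, 2] 3 (by decide)
  have h5 := upper5
  have h6 := upper6
  have e0 : (Aset (fun i => decide (i ∉ ([] : List (Fin 24))))).card = 24 := by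
    rw [card_Aset]; decide +kernel
  have e1 : (Aset (fun i => decide (i ∉ ([23] : List (Fin 24))))).card = 23 := by
    rw [card_Aset]; decide +kernel
  have e2 : (Aset (fun i => decide (i ∉ ([23, 0] : List (Fin 24))))).card = 22 := by
    rw [card_Aset]; decide +kernel
  have e3 : (Aset (fun i => decide (i ∉ ([23, 0, 1] : List (Fin 24))))).card = 21 := by
    rw [card_Aset]; decide +kernel
  have e4 : (Aset (fun i => decide (i ∉ ([23, 0, 1, 2] : List (Fin 24))))).card = 20 := by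
    rw [card_Aset]; decide +kernel
  rw [e0] at h0
  rw [e1] at h1
  rw [e2] at h2
  rw [e3] at h3
  rw [e4] at h4
  rw [card_cond5] at h5
  rw [card_cond6] at h6
  have h7 : Nat.card (fixL M24 ([23, 0, 1, 2, 3, 4] ++ [5])) = 1 := by
    show Nat.card (fixL M24 [23, 0, 1, 2, 3, 4, 5]) = 1
    rw [fixL_M24_base_eq_bot]
    exact Subgroup.card_bot
  rw [h7] at h6
  have hM : Nat.card (fixL M24 []) = Nat.card M24 := rfl
  simp only [List.nil_append, List.cons_append] at h0 h1 h2 h3 h4 h5 h6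
  rw [hM] at h0
  omega

theorem card_H0_ge : 244823040 ≤ Nat.card H0 := by
  have h0 := lower_step ws0 [] 23 _ cond0 lvl0
  have h1 := lower_step ws1 [23] 0 _ cond1 lvl1
  have h2 := lower_step ws2 [23, 0] 1 _ cond2 lvl2
  have h3 := lower_step ws3 [23, 0, 1] 2 _ cond3 lvl3
  have h4 := lower_step ws4 [23, 0, 1, 2] 3 _ cond4 lvl4
  have h5 := lower_step ws5 [23, 0, 1, 2, 3] 4 _ cond5 lvl5
  have h6 := lower_step ws6 [23, 0, 1, 2, 3, 4] 5 _ cond6 lvl6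
  rw [card_cond0] at h0
  rw [card_cond1] at h1
  rw [card_cond2] at h2
  rw [card_cond3] at h3
  rw [card_cond4] at h4
  rw [card_cond5] at h5
  rw [card_cond6] at h6
  have h7 : 1 ≤ Nat.card (fixL H0 ([23, 0, 1, 2, 3, 4] ++ [5])) := Nat.one_le_iff_ne_zero.2 Nat.card_pos.ne'
  have hM : Nat.card (fixL H0 []) = Nat.card H0 := rfl
  simp only [List.nil_append, List.cons_append] at h0 h1 h2 h3 h4 h5 h6 h7
  rw [hM] at h0
  omega

theorem card_M24 : Nat.card M24 = 244823040 := by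
  have h1 := card_M24_le
  have h2 := card_H0_ge
  have h3 : Nat.card H0 ≤ Nat.card M24 := Subgroup.card_le_of_le H0_le_M24
  omega

theorem H0_eq_M24 : H0 = M24 := by
  apply Subgroup.eq_of_le_of_card_ge H0_le_M24
  have h1 := card_M24_le
  have h2 := card_H0_ge
  omega

end Cfsg.Agent.Lib.Helper1
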