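import Mathlib
import Cfsg.Prelude.Def_Sporadic_a
import Cfsg.Agent.Lib.Helper1.M24Order

set_option autoImplicit false

namespace Cfsg.Agent.Lib.Helper1

open Cfsg
open scoped Pointwise

/-- a chain of stabilizers, each transitive on the remaining points, gives multiple transitivity -/
theorem multi_of_chain (K : Subgroup (Equiv.Perm GolayPt)) (n : ℕ) (bL : Fin n → Fin 24)
    (hreach : ∀ k : Fin n, ∀ i : Fin 24, (∀ j : Fin n, j < k → i ≠ bL j) →
      ∃ h ∈ K, (∀ j : Fin n, j < k → h (gpt (bL j)) = gpt (bL j)) ∧ h (gpt (bL k)) = gpt i)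
    (x : Fin n ↪ GolayPt) : ∃ g ∈ K, ∀ j, g (x j) = gpt (bL j) := by
  have key : ∀ m : ℕ, m ≤ n → ∃ g ∈ K, ∀ j : Fin n, j.val < m → g (x j) = gpt (bL j) := by
    intro m
    induction m with
    | zero => intro _; exact ⟨1, one_mem _, fun j hj => absurd hj (Nat.not_lt_zero _)⟩
    | succ m ih =>
      intro hm
      obtain ⟨g, hg, hgx⟩ := ih (Nat.le_of_succ_le hm)
      set k : Fin n := ⟨m, hm⟩ with hk
      obtain ⟨i, hi⟩ := gpt_bij.surjective (g (x k))
      have hne : ∀ j : Fin n, j < k → i ≠ bL j := by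
        intro j hj hij
        have h1 : g (x j) = gpt (bL j) := hgx j hj
        rw [← hij, hi] at h1
        have h2 : j = k := x.injective (g.injective h1)
        exact absurd h2 (ne_of_lt hj)
      obtain ⟨h, hh, hfix, hmove⟩ := hreach k i hne
      refine ⟨h⁻¹ * g, mul_mem (inv_mem hh) hg, ?_⟩
      intro j hj
      rw [Equiv.Perm.mul_apply, Equiv.Perm.inv_eq_iff_eq]
      rcases Nat.lt_succ_iff_lt_or_eq.1 hj with hj' | hj'
      · rw [hgx j hj']
        exact (hfix j hj').symm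
      · have : j = k := Fin.ext hj'
        rw [this, hmove, hi]
  obtain ⟨g, hg, hgx⟩ := key n le_rfl
  exact ⟨g, hg, fun j => hgx j j.2⟩

theorem reach_of_lvl (ws : List (List ℕ)) (L : List (Fin 24)) (b : Fin 24) (n : ℕ)
    (hcheck : (∀ w ∈ ws, ∀ i ∈ L, evalT w i = i) ∧
      ∀ i, decide (i ∉ L) = true → i ∈ bfs (ws.map evalT) n [b]) (i : Fin 24) (hi : i ∉ L) :
    ∃ h ∈ M24, (∀ j ∈ L, h (gpt j) = gpt j) ∧ h (gpt b) = gpt i := by
  obtain ⟨g, hg, hgb⟩ := level_reach ws L hcheck.1 b n i (hcheck.2 i (decide_eq_true hi))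
  rw [mem_fixL] at hg
  exact ⟨g, H0_le_M24 hg.1, hg.2, hgb⟩

/-- the first five base points -/
def base5 : Fin 5 → Fin 24 := ![23, 0, 1, 2, 3]

theorem M24_reach5 : ∀ k : Fin 5, ∀ i : Fin 24, (∀ j : Fin 5, j < k → i ≠ base5 j) →
    ∃ h ∈ M24, (∀ j : Fin 5, j < k → h (gpt (base5 j)) = gpt (base5 j)) ∧
      h (gpt (base5 k)) = gpt i := by
  intro k i hi
  fin_cases k
  · obtain ⟨h, hh, hfix, hmove⟩ := reach_of_lvl ws0 [] 23 _ lvl0 i (by simp)
    exact ⟨h, hh, fun j hj => absurd hj (by simp), hmove⟩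
  · have h0 := hi 0 (by decide)
    obtain ⟨h, hh, hfix, hmove⟩ := reach_of_lvl ws1 [23] 0 _ lvl1 i (by
      simp only [List.mem_singleton]; exact h0)
    refine ⟨h, hh, fun j hj => ?_, hmove⟩
    have : j = 0 := by
      revert hj; revert j; decide
    subst this
    exact hfix 23 (by simp)
  · have h0 := hi 0 (by decide)
    have h1 := hi 1 (by decide)
    obtain ⟨h, hh, hfix, hmove⟩ := reach_of_lvl ws2 [23, 0] 1 _ lvl2 i (by
      simp only [List.mem_cons, List.not_mem_nil, or_false, not_or]; exact ⟨h0, h1⟩)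
    refine ⟨h, hh, fun j hj => ?_, hmove⟩
    have : j = 0 ∨ j = 1 := by
      revert hj; revert j; decide
    rcases this with rfl | rfl
    · exact hfix 23 (by simp)
    · exact hfix 0 (by simp)
  · have h0 := hi 0 (by decide)
    have h1 := hi 1 (by decide)
    have h2 := hi 2 (by decide)
    obtain ⟨h, hh, hfix, hmove⟩ := reach_of_lvl ws3 [23, 0, 1] 2 _ lvl3 i (by
      simp only [List.mem_cons, List.not_mem_nil, or_false, not_or]; exact ⟨h0, h1, h2⟩)
    refine ⟨h, hh, fun j hj => ?_, hmove⟩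
    have : j = 0 ∨ j = 1 ∨ j = 2 := by
      revert hj; revert j; decide
    rcases this with rfl | rfl | rfl
    · exact hfix 23 (by simp)
    · exact hfix 0 (by simp)
    · exact hfix 1 (by simp)
  · have h0 := hi 0 (by decide)
    have h1 := hi 1 (by decide)
    have h2 := hi 2 (by decide)
    have h3 := hi 3 (by decide)
    obtain ⟨h, hh, hfix, hmove⟩ := reach_of_lvl ws4 [23, 0, 1, 2] 3 _ lvl4 i (by
      simp only [List.mem_cons, List.not_mem_nil, or_false, not_or]; exact ⟨h0, h1, h2, h3⟩)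
    refine ⟨h, hh, fun j hj => ?_, hmove⟩
    have : j = 0 ∨ j = 1 ∨ j = 2 ∨ j = 3 := by
      revert hj; revert j; decide
    rcases this with rfl | rfl | rfl | rfl
    · exact hfix 23 (by simp)
    · exact hfix 0 (by simp)
    · exact hfix 1 (by simp)
    · exact hfix 2 (by simp)

theorem M24_to_base5 (x : Fin 5 ↪ GolayPt) : ∃ g ∈ M24, ∀ j, g (x j) = gpt (base5 j) :=
  multi_of_chain M24 5 base5 M24_reach5 x

theorem M24_five_pretransitive : MulAction.IsMultiplyPretransitive M24 GolayPt 5 := by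
  constructor
  intro x y
  obtain ⟨gx, hgx, hx⟩ := M24_to_base5 x
  obtain ⟨gy, hgy, hy⟩ := M24_to_base5 y
  refine ⟨⟨gy⁻¹ * gx, mul_mem (inv_mem hgy) hgx⟩, ?_⟩
  apply Function.Embedding.ext
  intro j
  show (gy⁻¹ * gx) (x j) = y j
  rw [Equiv.Perm.mul_apply, Equiv.Perm.inv_eq_iff_eq, hx j, hy j]

end Cfsg.Agent.Lib.Helper1
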