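import Mathlib
import Cfsg.Prelude.Def_Sporadic_a
import Cfsg.Agent.Lib.Helper1.M24Orbit
import Cfsg.Agent.Lib.Helper1.M24Trans
import Cfsg.Agent.S0382

set_option autoImplicit false

namespace Cfsg.Agent.Lib.Helper1

open Cfsg
open scoped Pointwise

/-- the setwise stabilizer of the base dodecad -/
def M12 : Subgroup (Equiv.Perm GolayPt) := M24 ⊓ MulAction.stabilizer (Equiv.Perm GolayPt) dod0

theorem gpt_mem_dod0 (i : Fin 24) : gpt i ∈ dod0 ↔ (combo 1).testBit i = true :=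
  gpt_mem_support₂_wordOf 1 i

theorem smul_finset_eq_of_maps {g : Equiv.Perm GolayPt} {s : Finset GolayPt}
    (h : ∀ x ∈ s, g x ∈ s) : g • s = s := by
  apply Finset.eq_of_subset_of_card_le
  · intro y hy
    obtain ⟨x, hx, rfl⟩ := Finset.mem_smul_finset.1 hy
    exact h x hx
  · rw [Finset.card_smul_finset]

theorem evalW_mem_M12 (w : List ℕ)
    (h : ∀ i : Fin 24, (combo 1).testBit i = true → (combo 1).testBit (evalT w i) = true) :
    evalW w ∈ M12 := by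
  unfold M12
  rw [Subgroup.mem_inf, MulAction.mem_stabilizer_iff]
  refine ⟨H0_le_M24 (evalW_mem w), ?_⟩
  apply smul_finset_eq_of_maps
  intro x hx
  obtain ⟨i, rfl⟩ := gpt_bij.surjective x
  rw [evalW_table w i, gpt_mem_dod0]
  exact h i ((gpt_mem_dod0 i).1 hx)

theorem level_reach_gen (K : Subgroup (Equiv.Perm GolayPt)) (ws : List (List ℕ))
    (L : List (Fin 24)) (hK : ∀ w ∈ ws, evalW w ∈ K)
    (hfix : ∀ w ∈ ws, ∀ i ∈ L, evalT w i = i) (b : Fin 24) (n : ℕ) :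
    ∀ i ∈ bfs (ws.map evalT) n [b], ∃ g ∈ fixL K L, g (gpt b) = gpt i := by
  apply bfs_sound
  · intro T hT
    obtain ⟨w, hw, rfl⟩ := List.mem_map.1 hT
    refine ⟨evalW w, mem_fixL.2 ⟨hK w hw, fun i hi => ?_⟩, evalW_table w⟩
    rw [evalW_table w i, hfix w hw i hi]
  · intro i hi
    rw [List.mem_singleton] at hi
    subst hi
    exact ⟨1, one_mem _, rfl⟩

theorem lower_step_gen (K : Subgroup (Equiv.Perm GolayPt)) (ws : List (List ℕ))
    (L : List (Fin 24)) (b : Fin 24) (n : ℕ) (c : Fin 24 → Bool)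
    (hK : ∀ w ∈ ws, evalW w ∈ K) (hfix : ∀ w ∈ ws, ∀ i ∈ L, evalT w i = i)
    (hreach : ∀ i, c i = true → i ∈ bfs (ws.map evalT) n [b]) :
    (Aset c).card * Nat.card (fixL K (L ++ [b])) ≤ Nat.card (fixL K L) := by
  rw [fixL_append_singleton]
  apply le_card_of_subset_orbit
  intro q hq
  obtain ⟨i, hi, rfl⟩ := mem_Aset.1 hq
  obtain ⟨g, hg, hgb⟩ := level_reach_gen K ws L hK hfix b n i (hreach i hi)
  exact ⟨g, hg, hgb⟩

/-- strong generators of `M12` from level 0 -/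
def ws12_0 : List (List ℕ) := [[1, 1, 2, 0, 2, 4, 0],
    [3],
    [3, 2, 0, 4, 0, 0, 3, 1, 4, 1, 2],
    [0, 2, 1, 4, 1, 4, 1, 2, 4, 1],
    [3, 3, 1, 4, 1, 1, 1, 3, 0, 3, 3, 0],
    [4, 1, 1, 3, 3, 2, 1, 1, 1, 2, 3, 3, 0, 4],
    [4, 1, 1, 2, 0, 4, 4, 0, 3, 0, 0, 4, 1, 3, 1]]

/-- strong generators of `M12` from level 1 -/
def ws12_1 : List (List ℕ) := [[3],
    [3, 2, 0, 4, 0, 0, 3, 1, 4, 1, 2],
    [0, 2, 1, 4, 1, 4, 1, 2, 4, 1],
    [3, 3, 1, 4, 1, 1, 1, 3, 0, 3, 3, 0],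
    [4, 1, 1, 3, 3, 2, 1, 1, 1, 2, 3, 3, 0, 4],
    [4, 1, 1, 2, 0, 4, 4, 0, 3, 0, 0, 4, 1, 3, 1]]

/-- strong generators of `M12` from level 2 -/
def ws12_2 : List (List ℕ) := [[3, 2, 0, 4, 0, 0, 3, 1, 4, 1, 2],
    [0, 2, 1, 4, 1, 4, 1, 2, 4, 1],
    [3, 3, 1, 4, 1, 1, 1, 3, 0, 3, 3, 0],
    [4, 1, 1, 3, 3, 2, 1, 1, 1, 2, 3, 3, 0, 4],
    [4, 1, 1, 2, 0, 4, 4, 0, 3, 0, 0, 4, 1, 3, 1]]

/-- strong generators of `M12` from level 3 -/
def ws12_3 : List (List ℕ) := [[0, 2, 1, 4, 1, 4, 1, 2, 4, 1],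
    [3, 3, 1, 4, 1, 1, 1, 3, 0, 3, 3, 0],
    [4, 1, 1, 3, 3, 2, 1, 1, 1, 2, 3, 3, 0, 4],
    [4, 1, 1, 2, 0, 4, 4, 0, 3, 0, 0, 4, 1, 3, 1]]

/-- strong generators of `M12` from level 4 -/
def ws12_4 : List (List ℕ) := [[3, 3, 1, 4, 1, 1, 1, 3, 0, 3, 3, 0],
    [4, 1, 1, 3, 3, 2, 1, 1, 1, 2, 3, 3, 0, 4],
    [4, 1, 1, 2, 0, 4, 4, 0, 3, 0, 0, 4, 1, 3, 1]]

/-- index condition at level 0 -/
def cond12_0 : Fin 24 → Bool := fun i => (combo 1).testBit i && decide (i ∉ ([] : List (Fin 24)))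

/-- index condition at level 1 -/
def cond12_1 : Fin 24 → Bool := fun i => (combo 1).testBit i && decide (i ∉ ([0] : List (Fin 24)))

/-- index condition at level 2 -/
def cond12_2 : Fin 24 → Bool := fun i => (combo 1).testBit i && decide (i ∉ ([0, 1] : List (Fin 24)))

/-- index condition at level 3 -/
def cond12_3 : Fin 24 → Bool := fun i => (combo 1).testBit i && decide (i ∉ ([0, 1, 2] : List (Fin 24)))

/-- index condition at level 4 -/
def cond12_4 : Fin 24 → Bool := fun i => (combo 1).testBit i && decide (i ∉ ([0, 1, 2, 3] : List (Fin 24)))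

theorem lvl12_0 : (∀ w ∈ ws12_0, (∀ i : Fin 24, (combo 1).testBit i = true → (combo 1).testBit (evalT w i) = true) ∧
      ∀ i ∈ ([] : List (Fin 24)), evalT w i = i) ∧
    ∀ i, cond12_0 i = true → i ∈ bfs (ws12_0.map evalT) 3 [0] := by
  decide +kernel

theorem card_cond12_0 : (Aset cond12_0).card = 12 := by
  rw [card_Aset]
  decide +kernel

theorem lower12_0 : 12 * Nat.card (fixL M12 ([] ++ [0])) ≤ Nat.card (fixL M12 []) := by
  have h := lower_step_gen M12 ws12_0 [] 0 _ cond12_0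
    (fun w hw => evalW_mem_M12 w (lvl12_0.1 w hw).1) (fun w hw => (lvl12_0.1 w hw).2) lvl12_0.2
  rw [card_cond12_0] at h
  exact h

theorem reach12_0 (i : Fin 24) (hi : cond12_0 i = true) :
    ∃ g ∈ fixL M12 [], g (gpt 0) = gpt i :=
  level_reach_gen M12 ws12_0 [] (fun w hw => evalW_mem_M12 w (lvl12_0.1 w hw).1)
    (fun w hw => (lvl12_0.1 w hw).2) 0 _ i (lvl12_0.2 i hi)

theorem lvl12_1 : (∀ w ∈ ws12_1, (∀ i : Fin 24, (combo 1).testBit i = true → (combo 1).testBit (evalT w i) = true) ∧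
      ∀ i ∈ ([0] : List (Fin 24)), evalT w i = i) ∧
    ∀ i, cond12_1 i = true → i ∈ bfs (ws12_1.map evalT) 3 [1] := by
  decide +kernel

theorem card_cond12_1 : (Aset cond12_1).card = 11 := by
  rw [card_Aset]
  decide +kernel

theorem lower12_1 : 11 * Nat.card (fixL M12 ([0] ++ [1])) ≤ Nat.card (fixL M12 [0]) := by
  have h := lower_step_gen M12 ws12_1 [0] 1 _ cond12_1
    (fun w hw => evalW_mem_M12 w (lvl12_1.1 w hw).1) (fun w hw => (lvl12_1.1 w hw).2) lvl12_1.2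
  rw [card_cond12_1] at h
  exact h

theorem reach12_1 (i : Fin 24) (hi : cond12_1 i = true) :
    ∃ g ∈ fixL M12 [0], g (gpt 1) = gpt i :=
  level_reach_gen M12 ws12_1 [0] (fun w hw => evalW_mem_M12 w (lvl12_1.1 w hw).1)
    (fun w hw => (lvl12_1.1 w hw).2) 1 _ i (lvl12_1.2 i hi)

theorem lvl12_2 : (∀ w ∈ ws12_2, (∀ i : Fin 24, (combo 1).testBit i = true → (combo 1).testBit (evalT w i) = true) ∧
      ∀ i ∈ ([0, 1] : List (Fin 24)), evalT w i = i) ∧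
    ∀ i, cond12_2 i = true → i ∈ bfs (ws12_2.map evalT) 3 [2] := by
  decide +kernel

theorem card_cond12_2 : (Aset cond12_2).card = 10 := by
  rw [card_Aset]
  decide +kernel

theorem lower12_2 : 10 * Nat.card (fixL M12 ([0, 1] ++ [2])) ≤ Nat.card (fixL M12 [0, 1]) := by
  have h := lower_step_gen M12 ws12_2 [0, 1] 2 _ cond12_2
    (fun w hw => evalW_mem_M12 w (lvl12_2.1 w hw).1) (fun w hw => (lvl12_2.1 w hw).2) lvl12_2.2
  rw [card_cond12_2] at h
  exact h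

theorem reach12_2 (i : Fin 24) (hi : cond12_2 i = true) :
    ∃ g ∈ fixL M12 [0, 1], g (gpt 2) = gpt i :=
  level_reach_gen M12 ws12_2 [0, 1] (fun w hw => evalW_mem_M12 w (lvl12_2.1 w hw).1)
    (fun w hw => (lvl12_2.1 w hw).2) 2 _ i (lvl12_2.2 i hi)

theorem lvl12_3 : (∀ w ∈ ws12_3, (∀ i : Fin 24, (combo 1).testBit i = true → (combo 1).testBit (evalT w i) = true) ∧
      ∀ i ∈ ([0, 1, 2] : List (Fin 24)), evalT w i = i) ∧
    ∀ i, cond12_3 i = true → i ∈ bfs (ws12_3.map evalT) 3 [3] := by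
  decide +kernel

theorem card_cond12_3 : (Aset cond12_3).card = 9 := by
  rw [card_Aset]
  decide +kernel

theorem lower12_3 : 9 * Nat.card (fixL M12 ([0, 1, 2] ++ [3])) ≤ Nat.card (fixL M12 [0, 1, 2]) := by
  have h := lower_step_gen M12 ws12_3 [0, 1, 2] 3 _ cond12_3
    (fun w hw => evalW_mem_M12 w (lvl12_3.1 w hw).1) (fun w hw => (lvl12_3.1 w hw).2) lvl12_3.2
  rw [card_cond12_3] at h
  exact h

theorem reach12_3 (i : Fin 24) (hi : cond12_3 i = true) :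
    ∃ g ∈ fixL M12 [0, 1, 2], g (gpt 3) = gpt i :=
  level_reach_gen M12 ws12_3 [0, 1, 2] (fun w hw => evalW_mem_M12 w (lvl12_3.1 w hw).1)
    (fun w hw => (lvl12_3.1 w hw).2) 3 _ i (lvl12_3.2 i hi)

theorem lvl12_4 : (∀ w ∈ ws12_4, (∀ i : Fin 24, (combo 1).testBit i = true → (combo 1).testBit (evalT w i) = true) ∧
      ∀ i ∈ ([0, 1, 2, 3] : List (Fin 24)), evalT w i = i) ∧
    ∀ i, cond12_4 i = true → i ∈ bfs (ws12_4.map evalT) 2 [4] := by
  decide +kernel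

theorem card_cond12_4 : (Aset cond12_4).card = 8 := by
  rw [card_Aset]
  decide +kernel

theorem lower12_4 : 8 * Nat.card (fixL M12 ([0, 1, 2, 3] ++ [4])) ≤ Nat.card (fixL M12 [0, 1, 2, 3]) := by
  have h := lower_step_gen M12 ws12_4 [0, 1, 2, 3] 4 _ cond12_4
    (fun w hw => evalW_mem_M12 w (lvl12_4.1 w hw).1) (fun w hw => (lvl12_4.1 w hw).2) lvl12_4.2
  rw [card_cond12_4] at h
  exact h

theorem reach12_4 (i : Fin 24) (hi : cond12_4 i = true) :
    ∃ g ∈ fixL M12 [0, 1, 2, 3], g (gpt 4) = gpt i :=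
  level_reach_gen M12 ws12_4 [0, 1, 2, 3] (fun w hw => evalW_mem_M12 w (lvl12_4.1 w hw).1)
    (fun w hw => (lvl12_4.1 w hw).2) 4 _ i (lvl12_4.2 i hi)


theorem card_M12 : Nat.card M12 = 95040 := by
  have h := card_stabilizer_subgroup (G := Equiv.Perm GolayPt) (X := Finset GolayPt) M24 dod0
  rw [← Cfsg.Agent.S0382.result dod0 dod0_mem]
  exact h.symm

theorem fixL_M12_base_eq_bot : fixL M12 [0, 1, 2, 3, 4] = ⊥ := by
  have h0 := lower12_0
  have h1 := lower12_1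
  have h2 := lower12_2
  have h3 := lower12_3
  have h4 := lower12_4
  simp only [List.nil_append, List.cons_append] at h0 h1 h2 h3 h4
  have hM : Nat.card (fixL M12 []) = 95040 := card_M12
  rw [hM] at h0
  have hpos : 0 < Nat.card (fixL M12 [0, 1, 2, 3, 4]) := Nat.card_pos
  have h1' : Nat.card (fixL M12 [0, 1, 2, 3, 4]) = 1 := by omega
  exact Subgroup.card_eq_one.1 h1'

end Cfsg.Agent.Lib.Helper1
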