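import Mathlib
import Cfsg.Prelude.Def_Sporadic_a
import Cfsg.Agent.Lib.Helper1.M12

set_option autoImplicit false

namespace Cfsg.Agent.Lib.Helper1

open Cfsg
open scoped Pointwise

theorem perm_inv_apply_self {α : Type*} (f : Equiv.Perm α) (x : α) : f⁻¹ (f x) = x :=
  f.symm_apply_apply x

theorem perm_apply_inv_self {α : Type*} (f : Equiv.Perm α) (x : α) : f (f⁻¹ x) = x :=
  f.apply_symm_apply x

/-- multiple transitivity on an invariant set of points from a chain of stabilizers -/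
theorem multi_of_chain_on (K : Subgroup (Equiv.Perm GolayPt)) (D : Fin 24 → Prop)
    (hD : ∀ g ∈ K, ∀ i j, g (gpt i) = gpt j → D i → D j) (n : ℕ) (bL : Fin n → Fin 24)
    (hreach : ∀ k : Fin n, ∀ i : Fin 24, D i → (∀ j : Fin n, j < k → i ≠ bL j) →
      ∃ h ∈ K, (∀ j : Fin n, j < k → h (gpt (bL j)) = gpt (bL j)) ∧ h (gpt (bL k)) = gpt i)
    (x : Fin n ↪ GolayPt) (hx : ∀ j, ∃ i, D i ∧ gpt i = x j) :
    ∃ g ∈ K, ∀ j, g (x j) = gpt (bL j) := by
  have key : ∀ m : ℕ, m ≤ n → ∃ g ∈ K, ∀ j : Fin n, j.val < m → g (x j) = gpt (bL j) := by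
    intro m
    induction m with
    | zero => intro _; exact ⟨1, one_mem _, fun j hj => absurd hj (Nat.not_lt_zero _)⟩
    | succ m ih =>
      intro hm
      obtain ⟨g, hg, hgx⟩ := ih (Nat.le_of_succ_le hm)
      set k : Fin n := ⟨m, hm⟩ with hk
      obtain ⟨i, hi⟩ := gpt_bij.surjective (g (x k))
      have hDi : D i := by
        obtain ⟨i0, hDi0, hi0⟩ := hx k
        exact hD g hg i0 i (by rw [hi0, hi]) hDi0
      have hne : ∀ j : Fin n, j < k → i ≠ bL j := by
        intro j hj hij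
        have h1 : g (x j) = gpt (bL j) := hgx j hj
        rw [← hij, hi] at h1
        have h2 : j = k := x.injective (g.injective h1)
        exact absurd h2 (ne_of_lt hj)
      obtain ⟨h, hh, hfix, hmove⟩ := hreach k i hDi hne
      refine ⟨h⁻¹ * g, mul_mem (inv_mem hh) hg, ?_⟩
      intro j hj
      rw [Equiv.Perm.mul_apply, Equiv.Perm.inv_eq_iff_eq]
      rcases Nat.lt_succ_iff_lt_or_eq.1 hj with hj' | hj'
      · rw [hgx j hj']
        exact (hfix j hj').symm
      · have : j = k := Fin.ext hj'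
        rw [this, hmove, hi]
  obtain ⟨g, hg, hgx⟩ := key n le_rfl
  exact ⟨g, hg, fun j => hgx j j.2⟩

theorem M12_preserves {g : Equiv.Perm GolayPt} (hg : g ∈ M12) (x : GolayPt) (hx : x ∈ dod0) :
    g x ∈ dod0 := by
  have h : g • dod0 = dod0 := MulAction.mem_stabilizer_iff.1 hg.2
  rw [← h]
  exact Finset.smul_mem_smul_finset hx

theorem M12_D : ∀ g ∈ M12, ∀ i j : Fin 24, g (gpt i) = gpt j → (combo 1).testBit i = true →
    (combo 1).testBit j = true := by
  intro g hg i j hij hi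
  rw [← gpt_mem_dod0] at hi ⊢
  rw [← hij]
  exact M12_preserves hg _ hi

/-- base points inside the base dodecad -/
def base12 : Fin 5 → Fin 24 := ![0, 1, 2, 3, 4]

theorem M12_reach5 : ∀ k : Fin 5, ∀ i : Fin 24, (combo 1).testBit i = true →
    (∀ j : Fin 5, j < k → i ≠ base12 j) →
    ∃ h ∈ M12, (∀ j : Fin 5, j < k → h (gpt (base12 j)) = gpt (base12 j)) ∧
      h (gpt (base12 k)) = gpt i := by
  intro k i hDi hi
  fin_cases k
  · obtain ⟨h, hh, hmove⟩ := reach12_0 i (by unfold cond12_0; rw [hDi]; simp)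
    rw [mem_fixL] at hh
    exact ⟨h, hh.1, fun j hj => absurd hj (by simp), hmove⟩
  · have h0 := hi 0 (by decide)
    obtain ⟨h, hh, hmove⟩ := reach12_1 i (by
      unfold cond12_1; rw [hDi]; simp only [Bool.true_and, decide_eq_true_eq, List.mem_singleton]
      exact h0)
    rw [mem_fixL] at hh
    refine ⟨h, hh.1, fun j hj => ?_, hmove⟩
    have : j = 0 := by
      revert hj; revert j; decide
    subst this
    exact hh.2 0 (by simp)
  · have h0 := hi 0 (by decide)
    have h1 := hi 1 (by decide)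
    obtain ⟨h, hh, hmove⟩ := reach12_2 i (by
      unfold cond12_2; rw [hDi]
      simp only [Bool.true_and, decide_eq_true_eq, List.mem_cons, List.not_mem_nil, or_false, not_or]
      exact ⟨h0, h1⟩)
    rw [mem_fixL] at hh
    refine ⟨h, hh.1, fun j hj => ?_, hmove⟩
    have : j = 0 ∨ j = 1 := by
      revert hj; revert j; decide
    rcases this with rfl | rfl
    · exact hh.2 0 (by simp)
    · exact hh.2 1 (by simp)
  · have h0 := hi 0 (by decide)
    have h1 := hi 1 (by decide)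
    have h2 := hi 2 (by decide)
    obtain ⟨h, hh, hmove⟩ := reach12_3 i (by
      unfold cond12_3; rw [hDi]
      simp only [Bool.true_and, decide_eq_true_eq, List.mem_cons, List.not_mem_nil, or_false, not_or]
      exact ⟨h0, h1, h2⟩)
    rw [mem_fixL] at hh
    refine ⟨h, hh.1, fun j hj => ?_, hmove⟩
    have : j = 0 ∨ j = 1 ∨ j = 2 := by
      revert hj; revert j; decide
    rcases this with rfl | rfl | rfl
    · exact hh.2 0 (by simp)
    · exact hh.2 1 (by simp)
    · exact hh.2 2 (by simp)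
  · have h0 := hi 0 (by decide)
    have h1 := hi 1 (by decide)
    have h2 := hi 2 (by decide)
    have h3 := hi 3 (by decide)
    obtain ⟨h, hh, hmove⟩ := reach12_4 i (by
      unfold cond12_4; rw [hDi]
      simp only [Bool.true_and, decide_eq_true_eq, List.mem_cons, List.not_mem_nil, or_false, not_or]
      exact ⟨h0, h1, h2, h3⟩)
    rw [mem_fixL] at hh
    refine ⟨h, hh.1, fun j hj => ?_, hmove⟩
    have : j = 0 ∨ j = 1 ∨ j = 2 ∨ j = 3 := by
      revert hj; revert j; decide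
    rcases this with rfl | rfl | rfl | rfl
    · exact hh.2 0 (by simp)
    · exact hh.2 1 (by simp)
    · exact hh.2 2 (by simp)
    · exact hh.2 3 (by simp)

theorem M12_to_base (x : Fin 5 ↪ GolayPt) (hx : ∀ j, x j ∈ dod0) :
    ∃ g ∈ M12, ∀ j, g (x j) = gpt (base12 j) := by
  apply multi_of_chain_on M12 (fun i => (combo 1).testBit i = true) M12_D 5 base12 M12_reach5 x
  intro j
  obtain ⟨i, hi⟩ := gpt_bij.surjective (x j)
  exact ⟨i, (gpt_mem_dod0 i).1 (hi ▸ hx j), hi⟩

theorem M12_fix5_eq_one {g : Equiv.Perm GolayPt} (hg : g ∈ M12) (x : Fin 5 ↪ GolayPt)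
    (hx : ∀ j, x j ∈ dod0) (hfix : ∀ j, g (x j) = x j) : g = 1 := by
  obtain ⟨t, ht, htx⟩ := M12_to_base x hx
  have hmem : t * g * t⁻¹ ∈ fixL M12 [0, 1, 2, 3, 4] := by
    rw [mem_fixL]
    refine ⟨mul_mem (mul_mem ht hg) (inv_mem ht), ?_⟩
    have key : ∀ j : Fin 5, (t * g * t⁻¹) (gpt (base12 j)) = gpt (base12 j) := by
      intro j
      rw [Equiv.Perm.mul_apply, Equiv.Perm.mul_apply, ← htx j, perm_inv_apply_self, hfix j]
    intro i hi
    have : i = base12 0 ∨ i = base12 1 ∨ i = base12 2 ∨ i = base12 3 ∨ i = base12 4 := by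
      revert hi; revert i; decide
    rcases this with rfl | rfl | rfl | rfl | rfl
    · exact key 0
    · exact key 1
    · exact key 2
    · exact key 3
    · exact key 4
  rw [fixL_M12_base_eq_bot, Subgroup.mem_bot] at hmem
  have : g = t⁻¹ * (t * g * t⁻¹) * t := by group
  rw [this, hmem]
  group

/-- the stabilizer of a dodecad acts sharply 5-transitively on it -/
theorem dodecad_sharp5 (d : Finset GolayPt) (hd : d ∈ dodecads) (x y : Fin 5 ↪ GolayPt)
    (hx : ∀ i, x i ∈ d) (hy : ∀ i, y i ∈ d) :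
    (∃ g ∈ M24, g • d = d ∧ ∀ i, g (x i) = y i) ∧
    ∀ g ∈ M24, g • d = d → (∀ i, g (x i) = x i) → g = 1 := by
  obtain ⟨h, hh, rfl⟩ := exists_smul_dod0 hd
  have hpre : ∀ (z : GolayPt), z ∈ h • dod0 → h⁻¹ z ∈ dod0 := by
    intro z hz
    obtain ⟨u, hu, rfl⟩ := Finset.mem_smul_finset.1 hz
    show h⁻¹ (h u) ∈ dod0
    rw [perm_inv_apply_self]
    exact hu
  set x' : Fin 5 ↪ GolayPt := x.trans h⁻¹.toEmbedding with hx'
  set y' : Fin 5 ↪ GolayPt := y.trans h⁻¹.toEmbedding with hy'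
  have hx'd : ∀ j, x' j ∈ dod0 := fun j => hpre _ (hx j)
  have hy'd : ∀ j, y' j ∈ dod0 := fun j => hpre _ (hy j)
  constructor
  · obtain ⟨tx, htx, hx2⟩ := M12_to_base x' hx'd
    obtain ⟨ty, hty, hy2⟩ := M12_to_base y' hy'd
    have ht : ty⁻¹ * tx ∈ M12 := mul_mem (inv_mem hty) htx
    refine ⟨h * (ty⁻¹ * tx) * h⁻¹, mul_mem (mul_mem hh ht.1) (inv_mem hh), ?_, ?_⟩
    · have : (ty⁻¹ * tx) • dod0 = dod0 := MulAction.mem_stabilizer_iff.1 ht.2
      rw [mul_smul, inv_smul_smul, mul_smul, this]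
    · intro i
      have h1 : tx (h⁻¹ (x i)) = gpt (base12 i) := hx2 i
      have h2 : ty (h⁻¹ (y i)) = gpt (base12 i) := hy2 i
      rw [Equiv.Perm.mul_apply, Equiv.Perm.mul_apply, Equiv.Perm.mul_apply, h1, ← h2,
        perm_inv_apply_self, perm_apply_inv_self]
  · intro g hg hgd hfix
    have hk : h⁻¹ * g * h ∈ M12 := by
      unfold M12
      rw [Subgroup.mem_inf]
      refine ⟨mul_mem (mul_mem (inv_mem hh) hg) hh, ?_⟩
      rw [MulAction.mem_stabilizer_iff, mul_smul, mul_smul, hgd, inv_smul_smul]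
    have hk1 := M12_fix5_eq_one hk x' hx'd (by
      intro j
      show (h⁻¹ * g * h) (h⁻¹ (x j)) = h⁻¹ (x j)
      rw [Equiv.Perm.mul_apply, Equiv.Perm.mul_apply, perm_apply_inv_self, hfix j])
    have : g = h * (h⁻¹ * g * h) * h⁻¹ := by group
    rw [this, hk1]
    group

end Cfsg.Agent.Lib.Helper1
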