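import Mathlib
import Cfsg.Prelude.Def_Sporadic_a
import Cfsg.Agent.Lib.Helper1.M12Trans

set_option autoImplicit false

namespace Cfsg.Agent.Lib.Helper1

open Cfsg
open scoped Pointwise

theorem M12_trans1 {p q : GolayPt} (hp : p ∈ dod0) (hq : q ∈ dod0) : ∃ g ∈ M12, g p = q := by
  obtain ⟨i, rfl⟩ := gpt_bij.surjective p
  obtain ⟨j, rfl⟩ := gpt_bij.surjective q
  obtain ⟨g1, hg1, h1⟩ := reach12_0 i (by
    unfold cond12_0; rw [(gpt_mem_dod0 i).1 hp]; simp)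
  obtain ⟨g2, hg2, h2⟩ := reach12_0 j (by
    unfold cond12_0; rw [(gpt_mem_dod0 j).1 hq]; simp)
  rw [mem_fixL] at hg1 hg2
  refine ⟨g2 * g1⁻¹, mul_mem hg2.1 (inv_mem hg1.1), ?_⟩
  rw [Equiv.Perm.mul_apply, ← h1, perm_inv_apply_self, h2]

/-- the stabilizer of a dodecad is transitive on it -/
theorem dodecad_trans1 (d : Finset GolayPt) (hd : d ∈ dodecads) {p q : GolayPt} (hp : p ∈ d)
    (hq : q ∈ d) : ∃ g ∈ M24, g • d = d ∧ g p = q := by
  obtain ⟨h, hh, rfl⟩ := exists_smul_dod0 hd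
  have hpre : ∀ (z : GolayPt), z ∈ h • dod0 → h⁻¹ z ∈ dod0 := by
    intro z hz
    obtain ⟨u, hu, rfl⟩ := Finset.mem_smul_finset.1 hz
    show h⁻¹ (h u) ∈ dod0
    rw [perm_inv_apply_self]
    exact hu
  obtain ⟨t, ht, htp⟩ := M12_trans1 (hpre p hp) (hpre q hq)
  refine ⟨h * t * h⁻¹, mul_mem (mul_mem hh ht.1) (inv_mem hh), ?_, ?_⟩
  · have : t • dod0 = dod0 := MulAction.mem_stabilizer_iff.1 ht.2
    rw [mul_smul, inv_smul_smul, mul_smul, this]
  · rw [Equiv.Perm.mul_apply, Equiv.Perm.mul_apply, htp, perm_apply_inv_self]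

theorem orbit_stab_dodecad (d : Finset GolayPt) (hd : d ∈ dodecads) {p : GolayPt} (hp : p ∈ d) :
    MulAction.orbit (MulAction.stabilizer M24 d) p = (d : Set GolayPt) := by
  ext q
  rw [mem_orbit_subgroup_iff]
  constructor
  · rintro ⟨g, hg, rfl⟩
    have h1 : ((g : M24) : Equiv.Perm GolayPt) • d = d := MulAction.mem_stabilizer_iff.1 hg
    rw [Finset.mem_coe, ← h1]
    exact Finset.smul_mem_smul_finset hp
  · intro hq
    obtain ⟨g, hg, hgd, hgp⟩ := dodecad_trans1 d hd hp (Finset.mem_coe.1 hq)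
    exact ⟨⟨g, hg⟩, MulAction.mem_stabilizer_iff.2 hgd, hgp⟩

theorem card_stab_dodecad_point (d : Finset GolayPt) (hd : d ∈ dodecads) {p : GolayPt}
    (hp : p ∈ d) :
    Nat.card ↥(MulAction.stabilizer M24 d ⊓ MulAction.stabilizer M24 p) = 7920 := by
  have h := card_eq_ncard_orbit_mul (G := M24) (X := GolayPt) (MulAction.stabilizer M24 d) p
  rw [Cfsg.Agent.S0382.result d hd, orbit_stab_dodecad d hd hp, Set.ncard_coe_finset, hd.2] at h
  omega

end Cfsg.Agent.Lib.Helper1
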