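import Mathlib
import Cfsg.Prelude.Def_Sporadic_a
import Cfsg.Agent.Lib.Helper1.M12Trans2

set_option autoImplicit false

namespace Cfsg.Agent.Lib.Helper1

open Cfsg
open scoped Pointwise

/-- strong generators of `M11` from level 0 -/
def ws11_0 : List (List ℕ) := [[3],
    [1, 4, 1, 1, 1, 3, 0, 3, 3, 0, 3],
    [4, 2, 1, 1, 3, 3, 0, 0, 4, 1, 4, 1, 2],
    [4, 4, 2, 0, 3, 3, 1, 1, 4, 4, 0, 3, 1, 2],
    [4, 0, 0, 3, 1, 3, 1, 2, 1, 1, 3, 3, 1, 4]]

/-- strong generators of `M11` from level 1 -/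
def ws11_1 : List (List ℕ) := [[1, 4, 1, 1, 1, 3, 0, 3, 3, 0, 3],
    [4, 2, 1, 1, 3, 3, 0, 0, 4, 1, 4, 1, 2],
    [4, 4, 2, 0, 3, 3, 1, 1, 4, 4, 0, 3, 1, 2],
    [4, 0, 0, 3, 1, 3, 1, 2, 1, 1, 3, 3, 1, 4]]

/-- strong generators of `M11` from level 2 -/
def ws11_2 : List (List ℕ) := [[4, 2, 1, 1, 3, 3, 0, 0, 4, 1, 4, 1, 2],
    [4, 4, 2, 0, 3, 3, 1, 1, 4, 4, 0, 3, 1, 2],
    [4, 0, 0, 3, 1, 3, 1, 2, 1, 1, 3, 3, 1, 4]]

/-- index condition at level 0 -/
def cond11_0 : Fin 24 → Bool := fun i => !(combo 1).testBit i && decide (i ∉ ([] : List (Fin 24)))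

/-- index condition at level 1 -/
def cond11_1 : Fin 24 → Bool := fun i => !(combo 1).testBit i && decide (i ∉ ([5] : List (Fin 24)))

/-- index condition at level 2 -/
def cond11_2 : Fin 24 → Bool := fun i => !(combo 1).testBit i && decide (i ∉ ([5, 7] : List (Fin 24)))

theorem lvl11_0 : (∀ w ∈ ws11_0, (∀ i : Fin 24, (combo 1).testBit i = true → (combo 1).testBit (evalT w i) = true) ∧
      ∀ i ∈ ([0] : List (Fin 24)), evalT w i = i) ∧
    ∀ i, cond11_0 i = true → i ∈ bfs (ws11_0.map evalT) 3 [5] := by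
  decide +kernel

theorem reach11_0 (i : Fin 24) (hi : cond11_0 i = true) :
    ∃ g ∈ fixL M12 [0], g (gpt 5) = gpt i :=
  level_reach_gen M12 ws11_0 [0] (fun w hw => evalW_mem_M12 w (lvl11_0.1 w hw).1)
    (fun w hw => (lvl11_0.1 w hw).2) 5 _ i (lvl11_0.2 i hi)

theorem lvl11_1 : (∀ w ∈ ws11_1, (∀ i : Fin 24, (combo 1).testBit i = true → (combo 1).testBit (evalT w i) = true) ∧
      ∀ i ∈ ([0, 5] : List (Fin 24)), evalT w i = i) ∧
    ∀ i, cond11_1 i = true → i ∈ bfs (ws11_1.map evalT) 4 [7] := by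
  decide +kernel

theorem reach11_1 (i : Fin 24) (hi : cond11_1 i = true) :
    ∃ g ∈ fixL M12 [0, 5], g (gpt 7) = gpt i :=
  level_reach_gen M12 ws11_1 [0, 5] (fun w hw => evalW_mem_M12 w (lvl11_1.1 w hw).1)
    (fun w hw => (lvl11_1.1 w hw).2) 7 _ i (lvl11_1.2 i hi)

theorem lvl11_2 : (∀ w ∈ ws11_2, (∀ i : Fin 24, (combo 1).testBit i = true → (combo 1).testBit (evalT w i) = true) ∧
      ∀ i ∈ ([0, 5, 7] : List (Fin 24)), evalT w i = i) ∧
    ∀ i, cond11_2 i = true → i ∈ bfs (ws11_2.map evalT) 3 [10] := by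
  decide +kernel

theorem reach11_2 (i : Fin 24) (hi : cond11_2 i = true) :
    ∃ g ∈ fixL M12 [0, 5, 7], g (gpt 10) = gpt i :=
  level_reach_gen M12 ws11_2 [0, 5, 7] (fun w hw => evalW_mem_M12 w (lvl11_2.1 w hw).1)
    (fun w hw => (lvl11_2.1 w hw).2) 10 _ i (lvl11_2.2 i hi)


/-- the stabilizer of the base dodecad and of the point `0` in it -/
def M11 : Subgroup (Equiv.Perm GolayPt) := fixL M12 [0]

theorem mem_M11 {g : Equiv.Perm GolayPt} : g ∈ M11 ↔ g ∈ M12 ∧ g (gpt 0) = gpt 0 := by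
  unfold M11
  rw [mem_fixL]
  constructor
  · rintro ⟨h1, h2⟩; exact ⟨h1, h2 0 (by simp)⟩
  · rintro ⟨h1, h2⟩
    refine ⟨h1, fun i hi => ?_⟩
    rw [List.mem_singleton] at hi
    rw [hi]; exact h2

theorem M11_D : ∀ g ∈ M11, ∀ i j : Fin 24, g (gpt i) = gpt j → (combo 1).testBit i = false →
    (combo 1).testBit j = false := by
  intro g hg i j hij hi
  by_contra hne
  rw [Bool.not_eq_false] at hne
  have hg12 := (mem_M11.1 hg).1
  have h1 : g⁻¹ (gpt j) = gpt i := by rw [Equiv.Perm.inv_eq_iff_eq, hij]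
  have := M12_D g⁻¹ (inv_mem hg12) j i h1 hne
  rw [hi] at this
  exact absurd this (by simp)

/-- base points outside the base dodecad -/
def base11 : Fin 3 → Fin 24 := ![5, 7, 10]

theorem M11_reach3 : ∀ k : Fin 3, ∀ i : Fin 24, (combo 1).testBit i = false →
    (∀ j : Fin 3, j < k → i ≠ base11 j) →
    ∃ h ∈ M11, (∀ j : Fin 3, j < k → h (gpt (base11 j)) = gpt (base11 j)) ∧
      h (gpt (base11 k)) = gpt i := by
  intro k i hDi hi
  fin_cases k
  · obtain ⟨h, hh, hmove⟩ := reach11_0 i (by unfold cond11_0; rw [hDi]; simp)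
    rw [mem_fixL] at hh
    exact ⟨h, mem_M11.2 ⟨hh.1, hh.2 0 (by simp)⟩, fun j hj => absurd hj (by simp), hmove⟩
  · have h0 := hi 0 (by decide)
    obtain ⟨h, hh, hmove⟩ := reach11_1 i (by
      unfold cond11_1; rw [hDi]
      simp only [Bool.not_false, Bool.true_and, decide_eq_true_eq, List.mem_singleton]
      exact h0)
    rw [mem_fixL] at hh
    refine ⟨h, mem_M11.2 ⟨hh.1, hh.2 0 (by simp)⟩, fun j hj => ?_, hmove⟩
    have : j = 0 := by
      revert hj; revert j; decide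
    subst this
    exact hh.2 5 (by simp)
  · have h0 := hi 0 (by decide)
    have h1 := hi 1 (by decide)
    obtain ⟨h, hh, hmove⟩ := reach11_2 i (by
      unfold cond11_2; rw [hDi]
      simp only [Bool.not_false, Bool.true_and, decide_eq_true_eq, List.mem_cons, List.not_mem_nil,
        or_false, not_or]
      exact ⟨h0, h1⟩)
    rw [mem_fixL] at hh
    refine ⟨h, mem_M11.2 ⟨hh.1, hh.2 0 (by simp)⟩, fun j hj => ?_, hmove⟩
    have : j = 0 ∨ j = 1 := by
      revert hj; revert j; decide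
    rcases this with rfl | rfl
    · exact hh.2 5 (by simp)
    · exact hh.2 7 (by simp)

theorem M11_to_base (x : Fin 3 ↪ GolayPt) (hx : ∀ j, x j ∉ dod0) :
    ∃ g ∈ M11, ∀ j, g (x j) = gpt (base11 j) := by
  apply multi_of_chain_on M11 (fun i => (combo 1).testBit i = false) M11_D 3 base11 M11_reach3 x
  intro j
  obtain ⟨i, hi⟩ := gpt_bij.surjective (x j)
  refine ⟨i, ?_, hi⟩
  have := hx j
  rw [← hi, gpt_mem_dod0, Bool.not_eq_true] at this
  exact this

/-- flag transitivity: any dodecad with a point of it is the image of the base flag -/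
theorem exists_smul_flag (d : Finset GolayPt) (hd : d ∈ dodecads) {p : GolayPt} (hp : p ∈ d) :
    ∃ h ∈ M24, h • dod0 = d ∧ h (gpt 0) = p := by
  obtain ⟨h, hh, rfl⟩ := exists_smul_dod0 hd
  have h0 : h (gpt 0) ∈ h • dod0 :=
    Finset.smul_mem_smul_finset ((gpt_mem_dod0 0).2 (by decide +kernel))
  obtain ⟨t, ht, htd, htp⟩ := dodecad_trans1 (h • dod0) hd h0 hp
  refine ⟨t * h, mul_mem ht hh, ?_, ?_⟩
  · rw [mul_smul, htd]
  · rw [Equiv.Perm.mul_apply, htp]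

theorem M11_three_trans (d : Finset GolayPt) (hd : d ∈ dodecads) (p : GolayPt) (hp : p ∈ d)
    (x y : Fin 3 ↪ GolayPt) (hx : ∀ i, x i ∉ d) (hy : ∀ i, y i ∉ d) :
    ∃ g ∈ M24, g • d = d ∧ g p = p ∧ ∀ i, g (x i) = y i := by
  obtain ⟨h, hh, rfl, rfl⟩ := exists_smul_flag d hd hp
  have hpre : ∀ (z : GolayPt), z ∉ h • dod0 → h⁻¹ z ∉ dod0 := by
    intro z hz hcon
    apply hz
    have : z = h • (h⁻¹ z) := by
      show z = h (h⁻¹ z)
      rw [perm_apply_inv_self]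
    rw [this]
    exact Finset.smul_mem_smul_finset hcon
  set x' : Fin 3 ↪ GolayPt := x.trans h⁻¹.toEmbedding with hx'
  set y' : Fin 3 ↪ GolayPt := y.trans h⁻¹.toEmbedding with hy'
  obtain ⟨tx, htx, hx2⟩ := M11_to_base x' (fun j => hpre _ (hx j))
  obtain ⟨ty, hty, hy2⟩ := M11_to_base y' (fun j => hpre _ (hy j))
  have ht : ty⁻¹ * tx ∈ M11 := mul_mem (inv_mem hty) htx
  have ht12 := (mem_M11.1 ht).1
  refine ⟨h * (ty⁻¹ * tx) * h⁻¹, mul_mem (mul_mem hh ht12.1) (inv_mem hh), ?_, ?_, ?_⟩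
  · have : (ty⁻¹ * tx) • dod0 = dod0 := MulAction.mem_stabilizer_iff.1 ht12.2
    rw [mul_smul, inv_smul_smul, mul_smul, this]
  · have := (mem_M11.1 ht).2
    rw [Equiv.Perm.mul_apply, Equiv.Perm.mul_apply, perm_inv_apply_self, this]
  · intro i
    have h1 : tx (h⁻¹ (x i)) = gpt (base11 i) := hx2 i
    have h2 : ty (h⁻¹ (y i)) = gpt (base11 i) := hy2 i
    rw [Equiv.Perm.mul_apply, Equiv.Perm.mul_apply, Equiv.Perm.mul_apply, h1, ← h2,
      perm_inv_apply_self, perm_apply_inv_self]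

end Cfsg.Agent.Lib.Helper1
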