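import Mathlib
import Cfsg.Prelude.Def_Sporadic_a
import Cfsg.Agent.Lib.Helper1.M24Trans
import Cfsg.Agent.S0367

set_option autoImplicit false

namespace Cfsg.Agent.Lib.Helper1

open Cfsg
open scoped Pointwise

/-- the pointwise stabilizer in `M24` of a set of points -/
def octFix (o : Finset GolayPt) : Subgroup (Equiv.Perm GolayPt) :=
  M24 ⊓ fixingSubgroup (Equiv.Perm GolayPt) (o : Set GolayPt)

theorem mem_octFix {o : Finset GolayPt} {g : Equiv.Perm GolayPt} :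
    g ∈ octFix o ↔ g ∈ M24 ∧ ∀ x ∈ o, g x = x := by
  unfold octFix
  rw [Subgroup.mem_inf, mem_fixingSubgroup_iff]
  constructor
  · rintro ⟨h1, h2⟩
    exact ⟨h1, fun x hx => h2 x (Finset.mem_coe.2 hx)⟩
  · rintro ⟨h1, h2⟩
    exact ⟨h1, fun x hx => h2 x (Finset.mem_coe.1 hx)⟩

/-- the base octad -/
def oct0 : Finset GolayPt := support₂ (wordOf 2503)

theorem oct0_mem : oct0 ∈ octads := wordOf_mem_octads (by decide +kernel)

theorem gpt_mem_oct0 (i : Fin 24) : gpt i ∈ oct0 ↔ (combo 2503).testBit i = true :=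
  gpt_mem_support₂_wordOf 2503 i

/-- words for the sixteen elements fixing the base octad pointwise -/
def fixWords : List (List ℕ) :=
  [[],
    [3, 3, 1, 4, 1, 1, 1, 3, 0, 3, 3, 0],
    [4, 1, 1, 1, 3, 1, 3, 1, 4, 1, 3, 3],
    [3, 0, 4, 0, 0, 0, 4, 0, 3, 0, 4, 4],
    [4, 4, 0, 4, 0, 4, 0, 0, 0, 4, 0, 4, 4],
    [1, 3, 3, 0, 3, 3, 1, 4, 1, 1, 1, 3, 0, 0],
    [3, 0, 4, 0, 0, 0, 4, 1, 1, 3, 0, 3, 3, 0],
    [4, 2, 1, 4, 1, 1, 3, 0, 0, 0, 0, 3, 3, 1, 2],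
    [4, 0, 4, 1, 1, 4, 4, 0, 0, 3, 1, 3, 1, 3, 0],
    [3, 1, 1, 3, 0, 0, 3, 0, 3, 0, 4, 4, 0, 3, 3],
    [1, 3, 3, 1, 4, 0, 0, 0, 3, 0, 4, 4, 1, 3, 0],
    [0, 0, 4, 1, 4, 4, 0, 0, 4, 0, 0, 4, 1, 3, 0],
    [3, 1, 1, 3, 1, 1, 3, 3, 0, 3, 1, 1, 1, 4, 0],
    [3, 3, 1, 1, 1, 3, 0, 3, 3, 0, 3, 3, 1, 3, 3],
    [0, 4, 4, 1, 3, 0, 4, 1, 1, 3, 0, 3, 0, 4, 4, 0],
    [1, 3, 1, 3, 1, 3, 3, 1, 3, 1, 3, 0, 0, 3, 0, 0]]

theorem fixWords_ok : (∀ w ∈ fixWords, (∀ i : Fin 24, (combo 2503).testBit i = true → evalT w i = i) ∧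
    (∀ i : Fin 24, evalT w (evalT w i) = i)) ∧
    ∀ j : Fin 24, (combo 2503).testBit j = false → ∃ w ∈ fixWords, evalT w 4 = j := by
  decide +kernel

theorem eq_one_of_hasTable_id {g : Equiv.Perm GolayPt} {T : Fin 24 → Fin 24} (h : HasTable g T)
    (hT : ∀ i, T i = i) : g = 1 := by
  apply Equiv.ext
  intro q
  obtain ⟨i, rfl⟩ := gpt_bij.surjective q
  rw [h i, hT i, Equiv.Perm.one_apply]

theorem evalW_mem_octFix {w : List ℕ} (hw : w ∈ fixWords) : evalW w ∈ octFix oct0 := by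
  rw [mem_octFix]
  refine ⟨H0_le_M24 (evalW_mem w), ?_⟩
  intro x hx
  obtain ⟨i, rfl⟩ := gpt_bij.surjective x
  rw [evalW_table w i, (fixWords_ok.1 w hw).1 i ((gpt_mem_oct0 i).1 hx)]

theorem evalW_sq {w : List ℕ} (hw : w ∈ fixWords) : evalW w * evalW w = 1 :=
  eq_one_of_hasTable_id ((evalW_table w).mul (evalW_table w)) (fixWords_ok.1 w hw).2

theorem octFix_oct0_inf_stab : octFix oct0 ⊓ MulAction.stabilizer (Equiv.Perm GolayPt) (gpt 4) = ⊥ := by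
  rw [eq_bot_iff, ← fixL_M24_base_eq_bot]
  intro g hg
  rw [Subgroup.mem_inf, mem_octFix, MulAction.mem_stabilizer_iff] at hg
  rw [mem_fixL]
  refine ⟨hg.1.1, ?_⟩
  have key : ∀ i ∈ ([23, 0, 1, 2, 3, 4, 5] : List (Fin 24)), i = 4 ∨ (combo 2503).testBit i = true := by
    decide +kernel
  intro i hi
  rcases key i hi with rfl | h
  · exact hg.2
  · exact hg.1.2 _ ((gpt_mem_oct0 i).2 h)

theorem smul_gpt4_not_mem {g : Equiv.Perm GolayPt} (hg : g ∈ octFix oct0) (j : Fin 24)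
    (hj : g (gpt 4) = gpt j) : (combo 2503).testBit j = false := by
  by_contra hne
  rw [Bool.not_eq_false] at hne
  have h1 : g (gpt j) = gpt j := (mem_octFix.1 hg).2 _ ((gpt_mem_oct0 j).2 hne)
  have h2 : (4 : Fin 24) = j := gpt_bij.injective (g.injective (hj.trans h1.symm))
  rw [← h2] at hne
  revert hne
  decide +kernel

theorem exists_word_of_mem_octFix {g : Equiv.Perm GolayPt} (hg : g ∈ octFix oct0) :
    ∃ w ∈ fixWords, g = evalW w := by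
  obtain ⟨j, hj⟩ := gpt_bij.surjective (g (gpt 4))
  obtain ⟨w, hw, hwj⟩ := fixWords_ok.2 j (smul_gpt4_not_mem hg j hj.symm)
  refine ⟨w, hw, ?_⟩
  have hmem : (evalW w)⁻¹ * g ∈ octFix oct0 ⊓ MulAction.stabilizer (Equiv.Perm GolayPt) (gpt 4) := by
    rw [Subgroup.mem_inf, MulAction.mem_stabilizer_iff]
    refine ⟨mul_mem (inv_mem (evalW_mem_octFix hw)) hg, ?_⟩
    show ((evalW w)⁻¹ * g) (gpt 4) = gpt 4
    rw [Equiv.Perm.mul_apply, Equiv.Perm.inv_eq_iff_eq, evalW_table w 4, hwj, hj]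
  rw [octFix_oct0_inf_stab, Subgroup.mem_bot, inv_mul_eq_one] at hmem
  exact hmem.symm

theorem sq_eq_one_of_mem_octFix_oct0 {g : Equiv.Perm GolayPt} (hg : g ∈ octFix oct0) : g * g = 1 := by
  obtain ⟨w, hw, rfl⟩ := exists_word_of_mem_octFix hg
  exact evalW_sq hw

theorem card_octFix_oct0 : Nat.card (octFix oct0) = 16 := by
  have h1 := card_le_of_orbit_subset (octFix oct0) (gpt 4) (Aset cond5) (by
    intro g hg
    obtain ⟨j, hj⟩ := gpt_bij.surjective (g (gpt 4))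
    rw [mem_Aset]
    refine ⟨j, ?_, hj⟩
    have := smul_gpt4_not_mem hg j hj.symm
    unfold cond5
    rw [this]; rfl)
  have h2 := le_card_of_subset_orbit (octFix oct0) (gpt 4) (Aset cond5) (by
    intro q hq
    obtain ⟨j, hj, rfl⟩ := mem_Aset.1 hq
    unfold cond5 at hj
    rw [Bool.not_eq_true'] at hj
    obtain ⟨w, hw, hwj⟩ := fixWords_ok.2 j hj
    refine ⟨evalW w, evalW_mem_octFix hw, ?_⟩
    show evalW w (gpt 4) = gpt j
    rw [evalW_table w 4, hwj])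
  rw [octFix_oct0_inf_stab, card_cond5, Subgroup.card_bot] at h1 h2
  omega

theorem octFix_smul {g : Equiv.Perm GolayPt} (hg : g ∈ M24) (o : Finset GolayPt) :
    octFix (g • o) = (octFix o).map (MulAut.conj g).toMonoidHom := by
  ext k
  rw [Subgroup.mem_map, mem_octFix]
  constructor
  · rintro ⟨hk, hfix⟩
    refine ⟨g⁻¹ * k * g, ?_, ?_⟩
    · rw [mem_octFix]
      refine ⟨mul_mem (mul_mem (inv_mem hg) hk) hg, ?_⟩
      intro x hx
      show (g⁻¹ * k * g) x = x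
      rw [Equiv.Perm.mul_apply, Equiv.Perm.mul_apply, Equiv.Perm.inv_eq_iff_eq]
      exact hfix (g x) (Finset.smul_mem_smul_finset hx)
    · show g * (g⁻¹ * k * g) * g⁻¹ = k
      group
  · rintro ⟨h, hh, rfl⟩
    rw [mem_octFix] at hh
    refine ⟨?_, ?_⟩
    · show g * h * g⁻¹ ∈ M24
      exact mul_mem (mul_mem hg hh.1) (inv_mem hg)
    · intro x hx
      obtain ⟨y, hy, rfl⟩ := Finset.mem_smul_finset.1 hx
      show (g * h * g⁻¹) (g y) = g y
      rw [Equiv.Perm.mul_apply, Equiv.Perm.mul_apply, Equiv.Perm.inv_def, Equiv.symm_apply_apply, hh.2 y hy]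

theorem exists_smul_oct0 {o : Finset GolayPt} (ho : o ∈ octads) : ∃ g ∈ M24, g • oct0 = o := by
  obtain ⟨g, hg⟩ := Cfsg.Agent.S0367.result oct0 o oct0_mem ho
  exact ⟨g, g.2, hg⟩

theorem octFix_main (o : Finset GolayPt) (ho : o ∈ octads) :
    Nat.card (octFix o) = 16 ∧ ∀ g ∈ octFix o, g * g = 1 := by
  obtain ⟨g, hg, rfl⟩ := exists_smul_oct0 ho
  rw [octFix_smul hg]
  constructor
  · rw [Subgroup.card_map_of_injective (MulAut.conj g).injective]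
    exact card_octFix_oct0
  · rintro _ ⟨h, hh, rfl⟩
    show g * h * g⁻¹ * (g * h * g⁻¹) = 1
    have := sq_eq_one_of_mem_octFix_oct0 hh
    calc g * h * g⁻¹ * (g * h * g⁻¹) = g * (h * h) * g⁻¹ := by group
      _ = 1 := by rw [this]; group

end Cfsg.Agent.Lib.Helper1
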