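import Mathlib

set_option autoImplicit false

namespace Cfsg.Agent.Lib.Helper1

section generic

variable {G : Type*} [Group G]

/-- `|N_G(Q)|` divides `|C_G(Q)| * φ(|Q|)` for a cyclic subgroup `Q` -/
theorem card_normalizer_dvd_of_cyclic [Finite G] (Q : Subgroup G) [IsCyclic Q] :
    Nat.card (Subgroup.normalizer (Q : Set G)) ∣
      Nat.card (Subgroup.centralizer (Q : Set G)) * Nat.totient (Nat.card Q) := by
  have key := Subgroup.card_dvd_of_injective _
    (QuotientGroup.kerLift_injective Q.normalizerMonoidHom)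
  rw [IsCyclic.card_mulAut] at key
  have h1 := Subgroup.card_mul_index (Q.normalizerMonoidHom.ker)
  rw [Subgroup.index_eq_card] at h1
  rw [← h1]
  apply Nat.mul_dvd_mul _ key
  rw [Subgroup.normalizerMonoidHom_ker]
  have hle : Subgroup.centralizer (Q : Set G) ≤ Subgroup.normalizer (Q : Set G) :=
    Subgroup.centralizer_le_normalizer _
  rw [Nat.card_congr (Subgroup.subgroupOfEquivOfLe hle).toEquiv]

/-- a criterion for simplicity: Frattini argument for a Sylow subgroup of prime order -/
theorem isSimpleGroup_of_sylow_frattini [Finite G] (p M0 : ℕ) [hp : Fact p.Prime] [Nontrivial G]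
    (h2 : ¬ p ^ 2 ∣ Nat.card G)
    (h3 : ∀ N : Subgroup G, N.Normal → N ≠ ⊥ → p ∣ Nat.card N)
    (h4 : ∀ Q : Subgroup G, Nat.card Q = p →
      Nat.card (Subgroup.normalizer (Q : Set G)) ∣ p * M0)
    (h5 : Subgroup.closure {g : G | (orderOf g).Coprime M0} = ⊤) : IsSimpleGroup G := by
  refine ⟨fun N hN => ?_⟩
  by_contra hcon
  push Not at hcon
  obtain ⟨hbot, htop⟩ := hcon
  have hpN := h3 N hN hbot
  have Q : Sylow p N := default
  have hfac : (Nat.card N).factorization p = 1 := by
    have h1 : 1 ≤ (Nat.card N).factorization p :=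
      (hp.out.dvd_iff_one_le_factorization Nat.card_pos.ne').1 hpN
    have h2' : ¬ 2 ≤ (Nat.card N).factorization p := by
      intro h
      apply h2
      have : p ^ 2 ∣ Nat.card N :=
        (hp.out.pow_dvd_iff_le_factorization Nat.card_pos.ne').2 h
      exact this.trans (Subgroup.card_subgroup_dvd_card N)
    omega
  have hQcard : Nat.card Q = p := by
    rw [Sylow.card_eq_multiplicity, hfac, pow_one]
  set Q' : Subgroup G := (Q : Subgroup N).map N.subtype with hQ'
  have hQ'card : Nat.card Q' = p := by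
    rw [hQ', Subgroup.card_map_of_injective N.subtype_injective]
    exact hQcard
  have hfr : Subgroup.normalizer (Q' : Set G) ⊔ N = ⊤ := Sylow.normalizer_sup_eq_top Q
  set Hn : Subgroup G := Subgroup.normalizer (Q' : Set G) with hHn
  have hidx : N.index = N.relIndex Hn := by
    rw [← Subgroup.relIndex_top_right, ← hfr, Subgroup.relIndex_sup_right]
  have hQ'le : Q' ≤ N ⊓ Hn := by
    refine le_inf ?_ Subgroup.le_normalizer
    rw [hQ']
    exact Subgroup.map_subtype_le _
  have hmul : Nat.card ↥(N ⊓ Hn) * N.relIndex Hn = Nat.card Hn := by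
    have := Subgroup.relIndex_mul_relIndex (H := (⊥ : Subgroup G)) (K := N ⊓ Hn) (L := Hn)
      bot_le inf_le_right
    rw [Subgroup.relIndex_bot_left, Subgroup.relIndex_bot_left, Subgroup.inf_relIndex_right] at this
    exact this
  have hidx_dvd : N.index ∣ M0 := by
    have h4' := h4 Q' hQ'card
    obtain ⟨t, ht⟩ := Subgroup.card_dvd_of_le hQ'le
    rw [hQ'card] at ht
    rw [← hmul, ht, mul_assoc] at h4'
    rw [hidx]
    exact Dvd.dvd.trans (Dvd.intro_left t rfl) (Nat.dvd_of_mul_dvd_mul_left hp.out.pos h4')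
  have hle : Subgroup.closure {g : G | (orderOf g).Coprime M0} ≤ N := by
    rw [Subgroup.closure_le]
    intro g hg
    have hg' : (orderOf g).Coprime M0 := hg
    have h1 : orderOf (QuotientGroup.mk' N g) ∣ orderOf g := orderOf_map_dvd _ g
    have h2' : orderOf (QuotientGroup.mk' N g) ∣ N.index := by
      rw [Subgroup.index_eq_card]
      exact orderOf_dvd_natCard _
    have h3' : orderOf (QuotientGroup.mk' N g) = 1 :=
      Nat.eq_one_of_dvd_coprimes hg' h1 (h2'.trans hidx_dvd)
    rw [orderOf_eq_one_iff] at h3'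
    exact (QuotientGroup.eq_one_iff g).1 h3'
  rw [h5] at hle
  exact htop (top_le_iff.1 hle)

end generic

end Cfsg.Agent.Lib.Helper1
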