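import Mathlib
import Cfsg.Agent.Lib.Helper1.SimpleCrit
import Cfsg.Agent.S0144

set_option autoImplicit false

namespace Cfsg.Agent.Lib.Helper1

section generic

open scoped commutatorElement

variable {G : Type*} [Group G]

/-- a nontrivial normal subgroup of a faithful primitive group is transitive -/
theorem isPretransitive_of_normal_of_preprimitive {X : Type*} [MulAction G X]
    [MulAction.IsPreprimitive G X] [FaithfulSMul G X] (N : Subgroup G) [N.Normal] (hN : N ≠ ⊥) :
    MulAction.IsPretransitive N X := by
  have hfix : MulAction.fixedPoints N X ≠ Set.univ := by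
    intro h
    apply hN
    rw [eq_bot_iff]
    intro n hn
    rw [Subgroup.mem_bot]
    apply FaithfulSMul.eq_of_smul_eq_smul (α := X)
    intro x
    have hx : x ∈ MulAction.fixedPoints N X := by rw [h]; trivial
    rw [one_smul]
    exact hx ⟨n, hn⟩
  exact MulAction.IsQuasiPreprimitive.isPretransitive_of_normal hfix

theorem card_dvd_card_of_normal_of_preprimitive {X : Type*} [MulAction G X] [Finite G]
    [MulAction.IsPreprimitive G X] [FaithfulSMul G X] [Nonempty X] (N : Subgroup G) [N.Normal]
    (hN : N ≠ ⊥) : Nat.card X ∣ Nat.card N := by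
  haveI := isPretransitive_of_normal_of_preprimitive (X := X) N hN
  obtain ⟨x⟩ := ‹Nonempty X›
  have := MulAction.index_stabilizer_of_transitive N x
  rw [← this]
  exact Subgroup.index_dvd_card _

/-- a primitive group with simple point stabilizer and no regular normal subgroup is simple -/
theorem isSimpleGroup_of_stabilizer {X : Type*} [MulAction G X] [Finite G] [Nontrivial G]
    [MulAction.IsPreprimitive G X] [FaithfulSMul G X] (x : X)
    (hS : IsSimpleGroup (MulAction.stabilizer G x))
    (hreg : ∀ N : Subgroup G, N.Normal → Nat.card N ≠ Nat.card X) : IsSimpleGroup G := by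
  refine ⟨fun N hN => ?_⟩
  by_contra hcon
  push Not at hcon
  obtain ⟨hbot, htop⟩ := hcon
  haveI := isPretransitive_of_normal_of_preprimitive (X := X) N hbot
  have hnorm : (N.subgroupOf (MulAction.stabilizer G x)).Normal := inferInstance
  rcases hS.eq_bot_or_eq_top_of_normal _ hnorm with h | h
  · -- regular
    apply hreg N hN
    have h1 := MulAction.index_stabilizer_of_transitive N x
    have h2 : MulAction.stabilizer N x = ⊥ := by
      rw [eq_bot_iff]
      intro n hn
      rw [Subgroup.mem_bot]
      rw [Subgroup.subgroupOf_eq_bot] at h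
      have hmem : (n : G) ∈ N ⊓ MulAction.stabilizer G x :=
        ⟨n.2, MulAction.mem_stabilizer_iff.2 (MulAction.mem_stabilizer_iff.1 hn)⟩
      rw [h.eq_bot, Subgroup.mem_bot] at hmem
      exact Subtype.ext hmem
    rw [h2, Subgroup.index_bot] at h1
    exact h1
  · apply htop
    rw [Subgroup.subgroupOf_eq_top] at h
    rw [eq_top_iff]
    intro g _
    obtain ⟨n, hn⟩ := MulAction.exists_smul_eq N (g • x) x
    have hmem : (n : G) * g ∈ MulAction.stabilizer G x := by
      rw [MulAction.mem_stabilizer_iff, mul_smul]
      exact hn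
    have := h hmem
    have h3 : g = (n : G)⁻¹ * ((n : G) * g) := by group
    rw [h3]
    exact mul_mem (inv_mem n.2) this

/-- no normal subgroup of order `p^a q^b` when every nontrivial normal subgroup has order
divisible by it -/
theorem no_normal_of_card [Finite G] (p q a b : ℕ) (hp : p.Prime) (hq : q.Prime) (hpq : p ≠ q)
    (ha : 1 ≤ a) (hb : 1 ≤ b)
    (hdiv : ∀ N : Subgroup G, N.Normal → N ≠ ⊥ → p ^ a * q ^ b ∣ Nat.card N) :
    ∀ N : Subgroup G, N.Normal → Nat.card N ≠ p ^ a * q ^ b := by
  intro N hN hcard
  haveI := hN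
  haveI : Fact p.Prime := ⟨hp⟩
  haveI hsolv : Group.IsSolvable N := Cfsg.Agent.S0144.result p q a b hp hq hcard
  have hn1 : 1 < p ^ a * q ^ b := by
    have h1 : 2 ≤ p ^ a := by
      calc 2 ≤ p := hp.two_le
        _ = p ^ 1 := (pow_one p).symm
        _ ≤ p ^ a := Nat.pow_le_pow_right hp.pos ha
    have h2 : 1 ≤ q ^ b := Nat.one_le_pow _ _ hq.pos
    nlinarith
  haveI : Nontrivial N := by
    rw [← Finite.one_lt_card_iff_nontrivial, hcard]
    exact hn1
  -- the derived subgroup of N is trivial
  have hlt := Group.IsSolvable.commutator_lt_top_of_nontrivial N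
  have hDnormal : (⁅N, N⁆ : Subgroup G).Normal := Subgroup.commutator_normal N N
  have hDle : (⁅N, N⁆ : Subgroup G) ≤ N := Subgroup.commutator_le_left N N
  have hDmap : (commutator N).map N.subtype = ⁅N, N⁆ := by
    rw [commutator_def, Subgroup.map_commutator, ← MonoidHom.range_eq_map, Subgroup.range_subtype]
  have hDbot : (⁅N, N⁆ : Subgroup G) = ⊥ := by
    by_contra hne
    have h1 := hdiv _ hDnormal hne
    have h2 : Nat.card (⁅N, N⁆ : Subgroup G) < Nat.card N := by
      rw [← hDmap, Subgroup.card_map_of_injective N.subtype_injective]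
      have hc : Nat.card (commutator N) < Nat.card (⊤ : Subgroup N) :=
        Set.ncard_lt_ncard (by exact_mod_cast hlt) (Set.toFinite _)
      rw [Subgroup.card_top] at hc
      exact hc
    rw [hcard] at h2
    exact absurd (Nat.le_of_dvd Nat.card_pos h1) (not_le.2 h2)
  have hcomm : ∀ x ∈ N, ∀ y ∈ N, x * y = y * x := by
    intro x hx y hy
    have : ⁅x, y⁆ ∈ (⁅N, N⁆ : Subgroup G) := Subgroup.commutator_mem_commutator hx hy
    rw [hDbot, Subgroup.mem_bot, commutatorElement_eq_one_iff_mul_comm] at this
    exact this
  -- the Sylow p-subgroup of N is normal in G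
  have P : Sylow p N := default
  set P' : Subgroup G := (P : Subgroup N).map N.subtype with hP'
  have hfr : Subgroup.normalizer (P' : Set G) ⊔ N = ⊤ := Sylow.normalizer_sup_eq_top P
  have hNle : N ≤ Subgroup.normalizer (P' : Set G) := by
    intro m hm
    rw [Subgroup.mem_normalizer_iff]
    intro h
    have hP'N : P' ≤ N := by rw [hP']; exact Subgroup.map_subtype_le _
    constructor
    · intro hh
      have := hcomm m hm h (hP'N hh)
      rw [this, mul_inv_cancel_right]
      exact hh
    · intro hh
      have hmem : m * h * m⁻¹ ∈ N := hP'N hh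
      have hhN : h ∈ N := by
        have : h = m⁻¹ * (m * h * m⁻¹) * m := by group
        rw [this]
        exact mul_mem (mul_mem (inv_mem hm) hmem) hm
      have := hcomm m hm h hhN
      rw [this, mul_inv_cancel_right] at hh
      exact hh
  have hP'normal : P'.Normal := by
    rw [← Subgroup.normalizer_eq_top_iff]
    rw [sup_eq_left.2 hNle] at hfr
    exact hfr
  have hP'card : Nat.card P' = p ^ a := by
    rw [hP', Subgroup.card_map_of_injective N.subtype_injective, Sylow.card_eq_multiplicity, hcard]
    congr 1
    rw [Nat.factorization_mul (pow_pos hp.pos a).ne' (pow_pos hq.pos b).ne',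
      Nat.Prime.factorization_pow hp, Nat.Prime.factorization_pow hq, Finsupp.add_apply,
      Finsupp.single_eq_same, Finsupp.single_eq_of_ne hpq, add_zero]
  have hP'ne : P' ≠ ⊥ := by
    intro h
    rw [h, Subgroup.card_bot] at hP'card
    have : 2 ≤ p ^ a := by
      calc 2 ≤ p := hp.two_le
        _ = p ^ 1 := (pow_one p).symm
        _ ≤ p ^ a := Nat.pow_le_pow_right hp.pos ha
    omega
  have h1 := hdiv P' hP'normal hP'ne
  rw [hP'card] at h1
  have h2 : q ∣ p ^ a :=
    Dvd.dvd.trans (dvd_mul_of_dvd_right (dvd_pow_self q (by omega)) _) h1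
  have h3 := hq.dvd_of_dvd_pow h2
  exact hpq ((Nat.prime_dvd_prime_iff_eq hq hp).1 h3).symm

end generic

end Cfsg.Agent.Lib.Helper1
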