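import Mathlib
import Cfsg.Agent.Lib.Helper1.SimpleCrit2

set_option autoImplicit false

namespace Cfsg.Agent.Lib.Helper1

open scoped Pointwise

section perm

variable {α : Type*} [Fintype α] [DecidableEq α]

/-- bound for the normalizer of a subgroup of prime order in a permutation group, from the
centralizers in the full symmetric group -/
theorem card_normalizer_dvd_perm (K : Subgroup (Equiv.Perm α)) (Q : Subgroup K) (p : ℕ)
    [hp : Fact p.Prime] (hQ : Nat.card Q = p) (c : ℕ)
    (hc : ∀ u ∈ K, orderOf u = p → Nat.card (Subgroup.centralizer ({u} : Set (Equiv.Perm α))) ∣ c) :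
    Nat.card (Subgroup.normalizer (Q : Set K)) ∣ Nat.gcd c (Nat.card K) * (p - 1) := by
  haveI : IsCyclic Q := isCyclic_of_prime_card hQ
  have h1 := card_normalizer_dvd_of_cyclic Q
  rw [hQ, Nat.totient_prime hp.out] at h1
  refine h1.trans (Nat.mul_dvd_mul_right ?_ _)
  apply Nat.dvd_gcd
  · -- a generator
    haveI : Nontrivial Q := by
      rw [← Finite.one_lt_card_iff_nontrivial, hQ]
      exact hp.out.one_lt
    obtain ⟨g, hg⟩ := exists_ne (1 : Q)
    have hord : orderOf g = p := by
      have h2 : orderOf g ∣ p := hQ ▸ orderOf_dvd_natCard g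
      rcases (Nat.dvd_prime hp.out).1 h2 with h | h
      · exact absurd (orderOf_eq_one_iff.1 h) hg
      · exact h
    have hord' : orderOf ((g : K) : Equiv.Perm α) = p := by
      rw [Subgroup.orderOf_coe, Subgroup.orderOf_coe, hord]
    have hsub : Subgroup.centralizer (Q : Set K) ≤ Subgroup.centralizer ({(g : K)} : Set K) :=
      Subgroup.centralizer_le (Set.singleton_subset_iff.2 g.2)
    have hmap : (Subgroup.centralizer ({(g : K)} : Set K)).map K.subtype ≤
        Subgroup.centralizer ({((g : K) : Equiv.Perm α)} : Set (Equiv.Perm α)) := by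
      rintro _ ⟨k, hk, rfl⟩
      rw [SetLike.mem_coe] at hk
      rw [Subgroup.mem_centralizer_iff] at hk ⊢
      intro h hh
      rw [Set.mem_singleton_iff] at hh
      subst hh
      have := hk (g : K) (Set.mem_singleton _)
      exact congrArg Subtype.val this
    have h3 := Subgroup.card_dvd_of_le hsub
    have h4 := Subgroup.card_dvd_of_le hmap
    rw [Subgroup.card_map_of_injective K.subtype_injective] at h4
    exact (h3.trans h4).trans (hc _ (g : K).2 hord')
  · exact Subgroup.card_subgroup_dvd_card _

end perm

end Cfsg.Agent.Lib.Helper1
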