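import Mathlib
import Cfsg.Prelude.Def_Sporadic_a
import Cfsg.Agent.Lib.Helper1.PermCrit
import Cfsg.Agent.Lib.Helper1.M24OctFix
import Cfsg.Agent.Lib.Helper1.M11

set_option autoImplicit false

namespace Cfsg.Agent.Lib.Helper1

open Cfsg
open scoped Pointwise

/-- the restriction of the action of `K` to an invariant finset -/
def subAct (K : Subgroup (Equiv.Perm GolayPt)) (s : Finset GolayPt)
    (hs : ∀ g ∈ K, ∀ x ∈ s, g x ∈ s) : SubMulAction K GolayPt where
  carrier := ↑s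
  smul_mem' := fun g x hx => hs g.1 g.2 x hx

theorem dvd_card_normal_of_two_trans (K : Subgroup (Equiv.Perm GolayPt)) (s : Finset GolayPt)
    (hs : ∀ g ∈ K, ∀ x ∈ s, g x ∈ s) (hfaith : ∀ g ∈ K, (∀ x ∈ s, g x = x) → g = 1)
    (h2 : ∀ a ∈ s, ∀ b ∈ s, a ≠ b → ∀ c ∈ s, ∀ d ∈ s, c ≠ d → ∃ g ∈ K, g a = c ∧ g b = d)
    (hne : s.Nonempty) (N : Subgroup K) [N.Normal] (hN : N ≠ ⊥) : s.card ∣ Nat.card N := by
  have h2t : MulAction.IsMultiplyPretransitive K (subAct K s hs) 2 := by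
    rw [MulAction.is_two_pretransitive_iff]
    intro a b c d hab hcd
    obtain ⟨g, hg, h1, h2'⟩ := h2 a.1 a.2 b.1 b.2 (fun h => hab (Subtype.ext h)) c.1 c.2 d.1 d.2
      (fun h => hcd (Subtype.ext h))
    exact ⟨⟨g, hg⟩, Subtype.ext h1, Subtype.ext h2'⟩
  haveI : MulAction.IsPreprimitive K (subAct K s hs) :=
    MulAction.isPreprimitive_of_is_two_pretransitive h2t
  haveI : FaithfulSMul K (subAct K s hs) := by
    constructor
    intro g1 g2 h
    have h1 : (g2⁻¹ * g1 : K).1 = 1 := by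
      apply hfaith _ (g2⁻¹ * g1 : K).2
      intro x hx
      have := h ⟨x, hx⟩
      have h3 : g1.1 x = g2.1 x := congrArg Subtype.val this
      show (g2.1⁻¹ * g1.1) x = x
      rw [Equiv.Perm.mul_apply, h3, perm_inv_apply_self]
    have h4 : g2⁻¹ * g1 = 1 := Subtype.ext h1
    rw [inv_mul_eq_one] at h4
    exact h4.symm
  haveI : Nonempty (subAct K s hs) := by
    obtain ⟨x, hx⟩ := hne
    exact ⟨⟨x, hx⟩⟩
  have hcard : Nat.card (subAct K s hs) = s.card := by
    show Nat.card ((s : Set GolayPt) : Type) = s.card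
    rw [Nat.card_coe_set_eq, Set.ncard_coe_finset]
  rw [← hcard]
  exact card_dvd_card_of_normal_of_preprimitive (X := subAct K s hs) N hN

end Cfsg.Agent.Lib.Helper1
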