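import Mathlib
import Cfsg.Prelude.Def_Sporadic_a
import Cfsg.Agent.Lib.Helper1.M24Simple

set_option autoImplicit false

namespace Cfsg.Agent.Lib.Helper1

open Cfsg
open scoped Pointwise

theorem fintype_card_golayPt : Fintype.card GolayPt = 24 := by
  rw [Fintype.card_option, ZMod.card]

theorem cycleType_of_prime_order (u : Equiv.Perm GolayPt) (p : ℕ) (hp : p.Prime)
    (hu : orderOf u = p) : ∃ n : ℕ, u.cycleType = Multiset.replicate (n + 1) p ∧ (n + 1) * p ≤ 24 := by
  obtain ⟨n, hn⟩ := Equiv.Perm.cycleType_prime_order (hu ▸ hp)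
  rw [hu] at hn
  refine ⟨n, hn, ?_⟩
  have hsum : u.cycleType.sum ≤ 24 := by
    rw [Equiv.Perm.sum_cycleType, ← fintype_card_golayPt]
    exact Finset.card_le_univ _
  rw [hn, Multiset.sum_replicate, smul_eq_mul] at hsum
  exact hsum

theorem card_centralizer_of_order23 (u : Equiv.Perm GolayPt) (hu : orderOf u = 23) :
    Nat.card (Subgroup.centralizer ({u} : Set (Equiv.Perm GolayPt))) = 23 := by
  obtain ⟨n, hn, hle⟩ := cycleType_of_prime_order u 23 (by norm_num) hu
  have hn0 : n = 0 := by omega
  subst hn0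
  rw [Equiv.Perm.nat_card_centralizer, hn, fintype_card_golayPt]
  decide

theorem card_centralizer_of_two_cycles (u : Equiv.Perm GolayPt)
    (hu : u.cycleType = Multiset.replicate 2 11) :
    Nat.card (Subgroup.centralizer ({u} : Set (Equiv.Perm GolayPt))) = 484 := by
  rw [Equiv.Perm.nat_card_centralizer, hu, fintype_card_golayPt]
  decide

end Cfsg.Agent.Lib.Helper1
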