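import Mathlib
import Cfsg.Prelude.Def_Sporadic_a
import Cfsg.Agent.Lib.Helper1.M24Cycle

set_option autoImplicit false

namespace Cfsg.Agent.Lib.Helper1

open Cfsg
open scoped Pointwise

theorem fixWords_reg : ∀ w ∈ fixWords, ∀ j : Fin 24, (combo 2503).testBit j = false →
    evalT w j = j → ∀ i, evalT w i = i := by
  decide +kernel

theorem octFix_oct0_regular {g : Equiv.Perm GolayPt} (hg : g ∈ octFix oct0) {y : GolayPt}
    (hy : y ∉ oct0) (hgy : g y = y) : g = 1 := by
  obtain ⟨w, hw, rfl⟩ := exists_word_of_mem_octFix hg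
  obtain ⟨j, rfl⟩ := gpt_bij.surjective y
  have hj : (combo 2503).testBit j = false := by
    rw [gpt_mem_oct0, Bool.not_eq_true] at hy
    exact hy
  rw [evalW_table w j] at hgy
  have hTj : evalT w j = j := gpt_bij.injective hgy
  exact eq_one_of_hasTable_id (evalW_table w) (fixWords_reg w hw j hj hTj)

theorem octFix_regular (o : Finset GolayPt) (ho : o ∈ octads) {g : Equiv.Perm GolayPt}
    (hg : g ∈ octFix o) {y : GolayPt} (hy : y ∉ o) (hgy : g y = y) : g = 1 := by
  obtain ⟨h, hh, rfl⟩ := exists_smul_oct0 ho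
  rw [octFix_smul hh] at hg
  obtain ⟨k, hk, rfl⟩ := hg
  have hk1 : k = 1 := by
    apply octFix_oct0_regular hk (y := h⁻¹ y)
    · intro hcon
      apply hy
      have : y = h • (h⁻¹ y) := by
        show y = h (h⁻¹ y)
        rw [perm_apply_inv_self]
      rw [this]
      exact Finset.smul_mem_smul_finset hcon
    · have h1 : (h * k * h⁻¹) y = y := hgy
      rw [Equiv.Perm.mul_apply, Equiv.Perm.mul_apply] at h1
      exact Equiv.Perm.eq_inv_iff_eq.2 h1
  subst hk1
  show h * 1 * h⁻¹ = 1
  group

theorem octad_inv' {σ : Equiv.Perm GolayPt} (hσ : σ ∈ M24) {o : Finset GolayPt} (ho : o ∈ octads)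
    (S : Finset GolayPt) (hS : S ⊆ o) (hcard : S.card = 5) (hfix : ∀ x ∈ S, σ x = x) :
    σ • o = o := by
  have hσo := smul_mem_octads hσ ho
  have hS2 : S ⊆ σ • o := by
    intro x hx
    have h1 : σ • x ∈ σ • o := Finset.smul_mem_smul_finset (hS hx)
    have h2 : σ • x = x := hfix x hx
    rw [h2] at h1
    exact h1
  exact (Cfsg.Agent.S0363.octad_unique o (σ • o) ho hσo S hcard hS hS2).symm

theorem cycleType_of_order11 (u : Equiv.Perm GolayPt) (hu : u ∈ M24) (h11 : orderOf u = 11) :
    u.cycleType = Multiset.replicate 2 11 := by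
  classical
  obtain ⟨n, hn, hle⟩ := cycleType_of_prime_order u 11 (by norm_num) h11
  have hn01 : n = 0 ∨ n = 1 := by omega
  rcases hn01 with rfl | rfl
  · exfalso
    have hcyc : u.IsCycle := by
      rw [← Equiv.Perm.card_cycleType_eq_one, hn]
      rfl
    have hsupp : u.support.card = 11 := by
      rw [← Equiv.Perm.sum_cycleType, hn]
      rfl
    set F : Finset GolayPt := Finset.univ.filter (fun x => u x = x) with hF
    have hFcard : F.card = 13 := by
      have : F = u.supportᶜ := by
        ext x
        rw [hF, Finset.mem_filter, Finset.mem_compl, Equiv.Perm.mem_support]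
        simp
      rw [this, Finset.card_compl, hsupp, fintype_card_golayPt]
    obtain ⟨S, hSF, hScard⟩ := Finset.exists_subset_card_eq (show 5 ≤ F.card by omega)
    obtain ⟨o, ⟨ho, hSo⟩, _⟩ := Cfsg.Agent.S0363.result.2 S hScard
    have hSfix : ∀ x ∈ S, u x = x := fun x hx => (Finset.mem_filter.1 (hSF hx)).2
    have hinv := octad_inv' hu ho S hSo hScard hSfix
    have hpow : ∀ i : ℤ, (u ^ i) • o = o := by
      intro i
      have : u ∈ MulAction.stabilizer (Equiv.Perm GolayPt) o := MulAction.mem_stabilizer_iff.2 hinv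
      exact MulAction.mem_stabilizer_iff.1 (zpow_mem this i)
    have hfixO : ∀ x ∈ o, u x = x := by
      intro x hxo
      by_contra hne
      have hsub : u.support ⊆ o \ S := by
        intro y hy
        rw [Equiv.Perm.mem_support] at hy
        obtain ⟨i, hi⟩ := hcyc.exists_zpow_eq hne hy
        rw [Finset.mem_sdiff]
        refine ⟨?_, fun hyS => hy (hSfix y hyS)⟩
        rw [← hi, ← hpow i]
        exact Finset.smul_mem_smul_finset hxo
      have := Finset.card_le_card hsub
      rw [hsupp, Finset.card_sdiff_of_subset hSo, ho.2, hScard] at this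
      omega
    have hex : ∃ y ∈ F, y ∉ o := by
      by_contra hcon
      push Not at hcon
      have := Finset.card_le_card (show F ⊆ o from hcon)
      rw [hFcard, ho.2] at this
      omega
    obtain ⟨y, hyF, hyo⟩ := hex
    have h1 : u = 1 := octFix_regular o ho (mem_octFix.2 ⟨hu, hfixO⟩) hyo (Finset.mem_filter.1 hyF).2
    rw [h1, orderOf_one] at h11
    omega
  · exact hn

theorem card_centralizer_of_order11 (u : Equiv.Perm GolayPt) (hu : u ∈ M24)
    (h11 : orderOf u = 11) :
    Nat.card (Subgroup.centralizer ({u} : Set (Equiv.Perm GolayPt))) = 484 :=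
  card_centralizer_of_two_cycles u (cycleType_of_order11 u hu h11)

end Cfsg.Agent.Lib.Helper1
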