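import Mathlib
import Cfsg.Prelude.Def_Sporadic_a
import Cfsg.Agent.Lib.Helper1.M24Cycle2

set_option autoImplicit false

namespace Cfsg.Agent.Lib.Helper1

open Cfsg
open scoped Pointwise

/-- simplicity of a permutation group on the 24 points from numerical data -/
theorem simple_of_data (K : Subgroup (Equiv.Perm GolayPt)) (p M0 c n : ℕ) [hp : Fact p.Prime]
    (hcardK : Nat.card K = n) (h2 : ¬ p ^ 2 ∣ n)
    (s : Finset GolayPt) (hs : ∀ g ∈ K, ∀ x ∈ s, g x ∈ s)
    (hfaith : ∀ g ∈ K, (∀ x ∈ s, g x = x) → g = 1)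
    (h2t : ∀ a ∈ s, ∀ b ∈ s, a ≠ b → ∀ c ∈ s, ∀ d ∈ s, c ≠ d → ∃ g ∈ K, g a = c ∧ g b = d)
    (hne : s.Nonempty) (hps : p ∣ s.card)
    (hc : ∀ u ∈ K, orderOf u = p →
      Nat.card (Subgroup.centralizer ({u} : Set (Equiv.Perm GolayPt))) ∣ c)
    (hM0 : Nat.gcd c n * (p - 1) ∣ p * M0)
    (hgen : K ≤ Subgroup.closure {g | g ∈ K ∧ (orderOf g).Coprime M0})
    (hnt : ∃ g ∈ K, g ≠ 1) : IsSimpleGroup K := by
  haveI : Nontrivial K := by
    obtain ⟨g, hg, hg1⟩ := hnt
    exact ⟨⟨⟨g, hg⟩, 1, fun h => hg1 (congrArg Subtype.val h)⟩⟩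
  apply isSimpleGroup_of_sylow_frattini p M0
  · rw [hcardK]; exact h2
  · intro N hN hbot
    haveI := hN
    exact hps.trans (dvd_card_normal_of_two_trans K s hs hfaith h2t hne N hbot)
  · intro Q hQ
    have := card_normalizer_dvd_perm K Q p hQ c hc
    rw [hcardK] at this
    exact this.trans hM0
  · -- generation
    have hmap : (Subgroup.closure {g : K | (orderOf g).Coprime M0}).map K.subtype =
        Subgroup.closure {g | g ∈ K ∧ (orderOf g).Coprime M0} := by
      rw [MonoidHom.map_closure]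
      congr 1
      ext g
      constructor
      · rintro ⟨k, hk, rfl⟩
        refine ⟨k.2, ?_⟩
        have hk' : (orderOf k).Coprime M0 := hk
        rw [← Subgroup.orderOf_coe] at hk'
        exact hk'
      · rintro ⟨hgK, hg⟩
        refine ⟨⟨g, hgK⟩, ?_, rfl⟩
        show (orderOf (⟨g, hgK⟩ : K)).Coprime M0
        rw [← Subgroup.orderOf_coe]
        exact hg
    rw [eq_top_iff]
    intro k _
    have hk : (k : Equiv.Perm GolayPt) ∈
        (Subgroup.closure {g : K | (orderOf g).Coprime M0}).map K.subtype := by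
      rw [hmap]
      exact hgen k.2
    obtain ⟨k', hk', hkk'⟩ := hk
    have : k' = k := Subtype.ext hkk'
    rw [← this]
    exact hk'

theorem evalW_append (u v : List ℕ) : evalW (u ++ v) = evalW u * evalW v := by
  unfold evalW
  rw [List.map_append, List.prod_append]

theorem evalW_eq_of_table {w w' : List ℕ} (h : ∀ i, evalT w i = evalT w' i) :
    evalW w = evalW w' := by
  apply Equiv.ext
  intro q
  obtain ⟨i, rfl⟩ := gpt_bij.surjective q
  rw [evalW_table w i, evalW_table w' i, h i]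

theorem hasTable_pow {g : Equiv.Perm GolayPt} {T : Fin 24 → Fin 24} (h : HasTable g T) (n : ℕ) :
    HasTable (g ^ n) (T^[n]) := by
  induction n with
  | zero => exact HasTable.one
  | succ n ih =>
    rw [pow_succ, Function.iterate_succ]
    exact ih.mul h

theorem orderOf_evalW_coprime {w : List ℕ} {n M0 : ℕ} (hn : Nat.Coprime n M0)
    (h : ∀ i, (evalT w)^[n] i = i) : (orderOf (evalW w)).Coprime M0 := by
  have h1 : evalW w ^ n = 1 := eq_one_of_hasTable_id (hasTable_pow (evalW_table w) n) h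
  exact Nat.Coprime.coprime_dvd_left (orderOf_dvd_of_pow_eq_one h1) hn

end Cfsg.Agent.Lib.Helper1
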