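import Mathlib
import Cfsg.Prelude.Def_Sporadic_a
import Cfsg.Agent.Lib.Helper1.M24Simple2

set_option autoImplicit false

namespace Cfsg.Agent.Lib.Helper1

open Cfsg
open scoped Pointwise

theorem evalW_flatMap (parts : List (List ℕ × ℕ)) :
    evalW (parts.flatMap Prod.fst) = (parts.map (fun q => evalW q.1)).prod := by
  induction parts with
  | nil => rfl
  | cons q parts ih =>
    rw [List.flatMap_cons, evalW_append, ih, List.map_cons, List.prod_cons]

/-- the certificate check: every listed word is a product of words of good order -/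
def certOK (pw : List ℕ → Bool) (M0 : ℕ) (cert : List (List ℕ × List (List ℕ × ℕ))) : Prop :=
  ∀ e ∈ cert, (∀ i, evalT e.1 i = evalT (e.2.flatMap Prod.fst) i) ∧
    ∀ q ∈ e.2, Nat.Coprime q.2 M0 ∧ pw q.1 = true ∧ ∀ i, (evalT q.1)^[q.2] i = i

instance (pw : List ℕ → Bool) (M0 : ℕ) (cert : List (List ℕ × List (List ℕ × ℕ))) :
    Decidable (certOK pw M0 cert) := by
  unfold certOK
  infer_instance

theorem gen_of_cert (K : Subgroup (Equiv.Perm GolayPt)) (pw : List ℕ → Bool) (M0 : ℕ)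
    (hK : ∀ w, pw w = true → evalW w ∈ K) (cert : List (List ℕ × List (List ℕ × ℕ)))
    (hcheck : certOK pw M0 cert) :
    ∀ e ∈ cert, evalW e.1 ∈ Subgroup.closure {g | g ∈ K ∧ (orderOf g).Coprime M0} := by
  intro e he
  obtain ⟨h1, h2⟩ := hcheck e he
  rw [evalW_eq_of_table h1, evalW_flatMap]
  apply list_prod_mem
  intro g hg
  obtain ⟨q, hq, rfl⟩ := List.mem_map.1 hg
  obtain ⟨hcop, hpw, hpow⟩ := h2 q hq
  exact Subgroup.subset_closure ⟨hK q.1 hpw, orderOf_evalW_coprime hcop hpow⟩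

/-- an embedding of `Fin 3` from three distinct points -/
def emb3 (p a b : GolayPt) (h1 : p ≠ a) (h2 : p ≠ b) (h3 : a ≠ b) : Fin 3 ↪ GolayPt :=
  ⟨![p, a, b], by
    intro i j hij
    fin_cases i <;> fin_cases j <;> simp_all⟩

/-- an embedding of `Fin 4` from four distinct points -/
def emb4 (p q a b : GolayPt) (h0 : p ≠ q) (h1 : p ≠ a) (h2 : p ≠ b) (h3 : q ≠ a) (h4 : q ≠ b)
    (h5 : a ≠ b) : Fin 4 ↪ GolayPt :=
  ⟨![p, q, a, b], by
    intro i j hij
    fin_cases i <;> fin_cases j <;> simp_all⟩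

theorem card_golayPt_nat : Nat.card GolayPt = 24 := by
  rw [Nat.card_eq_fintype_card, fintype_card_golayPt]

theorem M24_trans3 {p a b p' a' b' : GolayPt} (h1 : p ≠ a) (h2 : p ≠ b) (h3 : a ≠ b)
    (h1' : p' ≠ a') (h2' : p' ≠ b') (h3' : a' ≠ b') :
    ∃ g ∈ M24, g p = p' ∧ g a = a' ∧ g b = b' := by
  haveI := M24_five_pretransitive
  haveI : MulAction.IsMultiplyPretransitive M24 GolayPt 3 :=
    MulAction.isMultiplyPretransitive_of_le (G := M24) (α := GolayPt) (m := 3) (n := 5) (by norm_num)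
      (by rw [card_golayPt_nat]; norm_num)
  obtain ⟨g, hg⟩ := MulAction.exists_smul_eq M24 (emb3 p a b h1 h2 h3) (emb3 p' a' b' h1' h2' h3')
  refine ⟨g.1, g.2, ?_, ?_, ?_⟩
  · exact DFunLike.congr_fun hg 0
  · exact DFunLike.congr_fun hg 1
  · exact DFunLike.congr_fun hg 2

theorem M24_trans4 {p q a b p' q' a' b' : GolayPt} (h0 : p ≠ q) (h1 : p ≠ a) (h2 : p ≠ b)
    (h3 : q ≠ a) (h4 : q ≠ b) (h5 : a ≠ b) (h0' : p' ≠ q') (h1' : p' ≠ a') (h2' : p' ≠ b')
    (h3' : q' ≠ a') (h4' : q' ≠ b') (h5' : a' ≠ b') :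
    ∃ g ∈ M24, g p = p' ∧ g q = q' ∧ g a = a' ∧ g b = b' := by
  haveI := M24_five_pretransitive
  haveI : MulAction.IsMultiplyPretransitive M24 GolayPt 4 :=
    MulAction.isMultiplyPretransitive_of_le (G := M24) (α := GolayPt) (m := 4) (n := 5) (by norm_num)
      (by rw [card_golayPt_nat]; norm_num)
  obtain ⟨g, hg⟩ := MulAction.exists_smul_eq M24 (emb4 p q a b h0 h1 h2 h3 h4 h5)
    (emb4 p' q' a' b' h0' h1' h2' h3' h4' h5')
  refine ⟨g.1, g.2, ?_, ?_, ?_, ?_⟩
  · exact DFunLike.congr_fun hg 0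
  · exact DFunLike.congr_fun hg 1
  · exact DFunLike.congr_fun hg 2
  · exact DFunLike.congr_fun hg 3

end Cfsg.Agent.Lib.Helper1
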