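import Mathlib
import Cfsg.Prelude.Def_Sporadic_a
import Cfsg.Agent.Lib.Helper1.M24Simple3
import Cfsg.Agent.S0376

set_option autoImplicit false

namespace Cfsg.Agent.Lib.Helper1

open Cfsg
open scoped Pointwise

theorem isSimpleGroup_of_mulEquiv {G H : Type*} [Group G] [Group H] (e : G ≃* H)
    [IsSimpleGroup G] : IsSimpleGroup H := by
  haveI : Nontrivial H := e.symm.toEquiv.nontrivial
  exact IsSimpleGroup.isSimpleGroup_of_surjective e.toMonoidHom e.surjective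

/-- transport of simplicity from a concrete subgroup of permutations to a subgroup of `M24` -/
theorem simple_transport (K0 : Subgroup (Equiv.Perm GolayPt)) (S : Subgroup M24)
    (h : Equiv.Perm GolayPt)
    (hS : S.map M24.subtype = K0.map (MulAut.conj h).toMonoidHom) [IsSimpleGroup K0] :
    IsSimpleGroup S := by
  have e1 : K0 ≃* K0.map (MulAut.conj h).toMonoidHom := (MulAut.conj h).subgroupMap K0
  have e2 : K0.map (MulAut.conj h).toMonoidHom ≃* S.map M24.subtype :=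
    MulEquiv.subgroupCongr hS.symm
  have e3 : S ≃* S.map M24.subtype := S.equivMapOfInjective M24.subtype M24.subtype_injective
  exact isSimpleGroup_of_mulEquiv ((e1.trans e2).trans e3.symm)

theorem mem_map_conj {K0 : Subgroup (Equiv.Perm GolayPt)} {h g : Equiv.Perm GolayPt} :
    g ∈ K0.map (MulAut.conj h).toMonoidHom ↔ h⁻¹ * g * h ∈ K0 := by
  rw [Subgroup.mem_map_equiv, MulAut.conj_symm_apply]

theorem card_fixL_M24_1 : Nat.card (fixL M24 [23]) = 10200960 := by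
  have h := card_stabilizer_subgroup (G := Equiv.Perm GolayPt) (X := GolayPt) M24 (gpt 23)
  rw [Cfsg.Agent.S0376.card_stab (gpt 23)] at h
  exact h.symm

theorem card_fixL_M24_2 : Nat.card (fixL M24 [23, 0]) = 443520 := by
  have h1 := upper_step_notMem [23] 0 (by decide)
  have h2 := lower_step ws1 [23] 0 _ cond1 lvl1
  have e1 : (Aset (fun i => decide (i ∉ ([23] : List (Fin 24))))).card = 23 := by
    rw [card_Aset]; decide +kernel
  rw [e1] at h1
  rw [card_cond1, H0_eq_M24] at h2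
  simp only [List.cons_append, List.nil_append] at h1 h2
  rw [card_fixL_M24_1] at h1 h2
  omega

/-- the generated subgroup -/
def K23 : Subgroup (Equiv.Perm GolayPt) := Subgroup.closure {g | ∃ w ∈ ws1, g = evalW w}

theorem evalW_mem_K23 {w : List ℕ} (hw : w ∈ ws1) : evalW w ∈ K23 :=
  Subgroup.subset_closure ⟨w, hw, rfl⟩

theorem ws_sub : (∀ w ∈ ws2, w ∈ ws1) ∧ (∀ w ∈ ws3, w ∈ ws1) ∧ (∀ w ∈ ws4, w ∈ ws1) ∧
    (∀ w ∈ ws5, w ∈ ws1) ∧ (∀ w ∈ ws6, w ∈ ws1) := by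
  decide

theorem K23_eq : K23 = fixL M24 [23] := by
  have hle : K23 ≤ fixL M24 [23] := by
    unfold K23
    rw [Subgroup.closure_le]
    rintro _ ⟨w, hw, rfl⟩
    rw [SetLike.mem_coe, mem_fixL]
    refine ⟨H0_le_M24 (evalW_mem w), fun i hi => ?_⟩
    rw [evalW_table w i, lvl1.1 w hw i hi]
  apply Subgroup.eq_of_le_of_card_ge hle
  have h1 := lower_step_gen K23 ws1 [23] 0 _ cond1 (fun w hw => evalW_mem_K23 hw) lvl1.1 lvl1.2
  have h2 := lower_step_gen K23 ws2 [23, 0] 1 _ cond2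
    (fun w hw => evalW_mem_K23 (ws_sub.1 w hw)) lvl2.1 lvl2.2
  have h3 := lower_step_gen K23 ws3 [23, 0, 1] 2 _ cond3
    (fun w hw => evalW_mem_K23 (ws_sub.2.1 w hw)) lvl3.1 lvl3.2
  have h4 := lower_step_gen K23 ws4 [23, 0, 1, 2] 3 _ cond4
    (fun w hw => evalW_mem_K23 (ws_sub.2.2.1 w hw)) lvl4.1 lvl4.2
  have h5 := lower_step_gen K23 ws5 [23, 0, 1, 2, 3] 4 _ cond5
    (fun w hw => evalW_mem_K23 (ws_sub.2.2.2.1 w hw)) lvl5.1 lvl5.2
  have h6 := lower_step_gen K23 ws6 [23, 0, 1, 2, 3, 4] 5 _ cond6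
    (fun w hw => evalW_mem_K23 (ws_sub.2.2.2.2 w hw)) lvl6.1 lvl6.2
  rw [card_cond1] at h1
  rw [card_cond2] at h2
  rw [card_cond3] at h3
  rw [card_cond4] at h4
  rw [card_cond5] at h5
  rw [card_cond6] at h6
  have h7 : 1 ≤ Nat.card (fixL K23 ([23, 0, 1, 2, 3, 4] ++ [5])) :=
    Nat.one_le_iff_ne_zero.2 Nat.card_pos.ne'
  have h0 : Nat.card (fixL K23 [23]) ≤ Nat.card K23 := by
    apply Subgroup.card_le_of_le
    intro g hg
    exact (mem_fixL.1 hg).1
  simp only [List.nil_append, List.cons_append] at h1 h2 h3 h4 h5 h6 h7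
  rw [card_fixL_M24_1]
  omega

/-- decompositions of the strong generators of `M23` into elements of good order -/
def cert23 : List (List ℕ × List (List ℕ × ℕ)) :=
  [([0], [([0], 23)]),
    ([3], [([3], 5)]),
    ([1, 4, 1, 4, 1, 4], [([4, 4, 1, 4, 1, 4, 1], 7), ([0, 3, 0, 3, 0, 3, 3, 1, 4, 1, 4, 1, 4], 7)]),
    ([0, 3, 0, 3, 0, 3], [([0, 1, 3, 3, 1, 4, 0, 3, 0, 0, 0, 0], 7), ([1, 1, 1, 1, 4, 1, 3, 0, 4, 4, 0, 1, 0, 3, 0, 3, 0, 3], 5)]),
    ([1, 3, 3, 1, 4, 0, 3, 0, 0, 0, 0], [([1, 3, 3, 1, 4, 0, 3, 0, 0, 0, 0], 3)]),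
    ([3, 3, 1, 4, 1, 1, 1, 3, 0, 3, 3, 0], [([1, 1, 1, 1, 4, 1, 3, 0, 4, 4, 0], 3), ([1, 3, 3, 1, 4, 0, 3, 0, 0, 0, 0, 3, 3, 1, 4, 1, 1, 1, 3, 0, 3, 3, 0], 3)]),
    ([3, 0, 3, 0, 3, 1, 4, 0, 4, 4, 0, 0, 3, 0, 3], [([3, 0, 3, 0, 3, 1, 4, 0, 4, 4, 0, 0, 3, 0, 3], 3)])]

theorem cert23_ok : certOK (fun w => decide (evalT w 23 = 23)) 22 cert23 ∧
    ∀ w ∈ ws1, ∃ e ∈ cert23, e.1 = w := by
  decide +kernel

theorem gA_ne_one : gA ≠ 1 := by
  intro h
  have h1 : gA (gpt 0) = gpt 0 := by rw [h]; rfl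
  rw [hasTable_A 0] at h1
  have := gpt_bij.injective h1
  revert this
  decide

theorem M23_simple : IsSimpleGroup (fixL M24 [23]) := by
  haveI : Fact (Nat.Prime 23) := ⟨by norm_num⟩
  apply simple_of_data (fixL M24 [23]) 23 22 23 10200960 card_fixL_M24_1 (by norm_num)
    (Finset.univ.erase (gpt 23))
  · -- invariance
    intro g hg x hx
    rw [Finset.mem_erase] at hx ⊢
    refine ⟨fun h => hx.1 ?_, Finset.mem_univ _⟩
    have h23 := (mem_fixL.1 hg).2 23 (by simp)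
    exact g.injective (h.trans h23.symm)
  · -- faithful
    intro g hg hfix
    apply Equiv.ext
    intro x
    by_cases hx : x = gpt 23
    · rw [hx]; exact (mem_fixL.1 hg).2 23 (by simp)
    · exact hfix x (Finset.mem_erase.2 ⟨hx, Finset.mem_univ _⟩)
  · -- two-transitive
    intro a ha b hb hab c hc d hd hcd
    rw [Finset.mem_erase] at ha hb hc hd
    obtain ⟨g, hg, h1, h2, h3⟩ := M24_trans3 (p := gpt 23) (a := a) (b := b) (p' := gpt 23)
      (a' := c) (b' := d) (Ne.symm ha.1) (Ne.symm hb.1) hab (Ne.symm hc.1) (Ne.symm hd.1) hcd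
    refine ⟨g, mem_fixL.2 ⟨hg, fun i hi => ?_⟩, h2, h3⟩
    rw [List.mem_singleton] at hi
    rw [hi]; exact h1
  · exact ⟨gpt 0, Finset.mem_erase.2 ⟨by decide, Finset.mem_univ _⟩⟩
  · rw [Finset.card_erase_of_mem (Finset.mem_univ _), Finset.card_univ, fintype_card_golayPt]
  · intro u _ hu
    rw [card_centralizer_of_order23 u hu]
  · norm_num
  · have hsub : K23 ≤ Subgroup.closure {g | g ∈ fixL M24 [23] ∧ (orderOf g).Coprime 22} := by
      unfold K23
      rw [Subgroup.closure_le]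
      rintro _ ⟨w, hw, rfl⟩
      obtain ⟨e, he, rfl⟩ := cert23_ok.2 w hw
      refine gen_of_cert (fixL M24 [23]) _ 22 ?_ cert23 cert23_ok.1 e he
      intro w hw
      rw [decide_eq_true_iff] at hw
      rw [mem_fixL]
      refine ⟨H0_le_M24 (evalW_mem w), fun i hi => ?_⟩
      rw [List.mem_singleton] at hi
      rw [hi, evalW_table w 23, hw]
    intro g hg
    rw [← K23_eq] at hg
    exact hsub hg
  · refine ⟨gA, mem_fixL.2 ⟨H0_le_M24 gA_mem, fun i hi => ?_⟩, gA_ne_one⟩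
    rw [List.mem_singleton] at hi
    rw [hi, hasTable_A 23]
    rfl

theorem stabilizer_point_simple (p : GolayPt) : IsSimpleGroup (MulAction.stabilizer M24 p) := by
  haveI := M23_simple
  obtain ⟨h, hh, hp⟩ : ∃ h ∈ M24, h (gpt 23) = p := by
    haveI := M24_five_pretransitive
    haveI : MulAction.IsPretransitive M24 GolayPt := Cfsg.Agent.S0376.pretrans
    obtain ⟨g, hg⟩ := MulAction.exists_smul_eq M24 (gpt 23) p
    exact ⟨g.1, g.2, hg⟩
  apply simple_transport (fixL M24 [23]) _ h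
  ext g
  rw [mem_map_conj, mem_fixL, Subgroup.mem_map]
  constructor
  · rintro ⟨k, hk, rfl⟩
    rw [MulAction.mem_stabilizer_iff] at hk
    have hk' : (k : Equiv.Perm GolayPt) p = p := hk
    refine ⟨mul_mem (mul_mem (inv_mem hh) k.2) hh, fun i hi => ?_⟩
    rw [List.mem_singleton] at hi
    rw [hi]
    show (h⁻¹ * (k : Equiv.Perm GolayPt) * h) (gpt 23) = gpt 23
    rw [Equiv.Perm.mul_apply, Equiv.Perm.mul_apply, hp, hk', ← hp, perm_inv_apply_self]
  · rintro ⟨hgM, hfix⟩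
    have hgM24 : g ∈ M24 := by
      have : g = h * (h⁻¹ * g * h) * h⁻¹ := by group
      rw [this]
      exact mul_mem (mul_mem hh hgM) (inv_mem hh)
    refine ⟨⟨g, hgM24⟩, ?_, rfl⟩
    rw [MulAction.mem_stabilizer_iff]
    show g p = p
    have h1 := hfix 23 (by simp)
    rw [Equiv.Perm.mul_apply, Equiv.Perm.mul_apply, hp, Equiv.Perm.inv_eq_iff_eq, hp] at h1
    exact h1

end Cfsg.Agent.Lib.Helper1
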