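import Mathlib
import Cfsg.Prelude.Def_Sporadic_a
import Cfsg.Agent.Lib.Helper1.M23Simple

set_option autoImplicit false

namespace Cfsg.Agent.Lib.Helper1

open Cfsg
open scoped Pointwise

/-- the generated subgroup -/
def K22 : Subgroup (Equiv.Perm GolayPt) := Subgroup.closure {g | ∃ w ∈ ws2, g = evalW w}

theorem evalW_mem_K22 {w : List ℕ} (hw : w ∈ ws2) : evalW w ∈ K22 :=
  Subgroup.subset_closure ⟨w, hw, rfl⟩

theorem ws_sub2 : (∀ w ∈ ws3, w ∈ ws2) ∧ (∀ w ∈ ws4, w ∈ ws2) ∧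
    (∀ w ∈ ws5, w ∈ ws2) ∧ (∀ w ∈ ws6, w ∈ ws2) := by
  decide

theorem K22_eq : K22 = fixL M24 [23, 0] := by
  have hle : K22 ≤ fixL M24 [23, 0] := by
    unfold K22
    rw [Subgroup.closure_le]
    rintro _ ⟨w, hw, rfl⟩
    rw [SetLike.mem_coe, mem_fixL]
    refine ⟨H0_le_M24 (evalW_mem w), fun i hi => ?_⟩
    rw [evalW_table w i, lvl2.1 w hw i hi]
  apply Subgroup.eq_of_le_of_card_ge hle
  have h2 := lower_step_gen K22 ws2 [23, 0] 1 _ cond2 (fun w hw => evalW_mem_K22 hw) lvl2.1 lvl2.2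
  have h3 := lower_step_gen K22 ws3 [23, 0, 1] 2 _ cond3
    (fun w hw => evalW_mem_K22 (ws_sub2.1 w hw)) lvl3.1 lvl3.2
  have h4 := lower_step_gen K22 ws4 [23, 0, 1, 2] 3 _ cond4
    (fun w hw => evalW_mem_K22 (ws_sub2.2.1 w hw)) lvl4.1 lvl4.2
  have h5 := lower_step_gen K22 ws5 [23, 0, 1, 2, 3] 4 _ cond5
    (fun w hw => evalW_mem_K22 (ws_sub2.2.2.1 w hw)) lvl5.1 lvl5.2
  have h6 := lower_step_gen K22 ws6 [23, 0, 1, 2, 3, 4] 5 _ cond6
    (fun w hw => evalW_mem_K22 (ws_sub2.2.2.2 w hw)) lvl6.1 lvl6.2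
  rw [card_cond2] at h2
  rw [card_cond3] at h3
  rw [card_cond4] at h4
  rw [card_cond5] at h5
  rw [card_cond6] at h6
  have h7 : 1 ≤ Nat.card (fixL K22 ([23, 0, 1, 2, 3, 4] ++ [5])) :=
    Nat.one_le_iff_ne_zero.2 Nat.card_pos.ne'
  have h0 : Nat.card (fixL K22 [23, 0]) ≤ Nat.card K22 := by
    apply Subgroup.card_le_of_le
    intro g hg
    exact (mem_fixL.1 hg).1
  simp only [List.nil_append, List.cons_append] at h2 h3 h4 h5 h6 h7
  rw [card_fixL_M24_2]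
  omega

/-- decompositions of the strong generators of `M22` into elements of good order -/
def cert22 : List (List ℕ × List (List ℕ × ℕ)) :=
  [([3], [([1, 4, 1, 4, 1, 4, 4], 7), ([3, 3, 0, 3, 0, 3, 0, 3], 7)]),
    ([1, 4, 1, 4, 1, 4], [([0, 3, 0, 3, 0, 3, 3], 7), ([4, 4, 1, 4, 1, 4, 1, 1, 4, 1, 4, 1, 4], 7)]),
    ([0, 3, 0, 3, 0, 3], [([1, 1, 1, 1, 4, 1, 3, 0, 4, 4, 0], 3), ([1, 3, 3, 1, 4, 0, 3, 0, 0, 0, 0, 0, 3, 0, 3, 0, 3], 3)]),
    ([1, 3, 3, 1, 4, 0, 3, 0, 0, 0, 0], [([1, 3, 3, 1, 4, 0, 3, 0, 0, 0, 0], 3)]),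
    ([3, 3, 1, 4, 1, 1, 1, 3, 0, 3, 3, 0], [([1, 3, 3, 1, 4, 0, 3, 0, 0, 0, 0], 3), ([1, 1, 1, 1, 4, 1, 3, 0, 4, 4, 0, 3, 3, 1, 4, 1, 1, 1, 3, 0, 3, 3, 0], 3)]),
    ([3, 0, 3, 0, 3, 1, 4, 0, 4, 4, 0, 0, 3, 0, 3], [([3, 0, 3, 0, 3, 1, 4, 0, 4, 4, 0, 0, 3, 0, 3], 3)])]

theorem cert22_ok : certOK (fun w => decide (evalT w 23 = 23 ∧ evalT w 0 = 0)) 40 cert22 ∧
    ∀ w ∈ ws2, ∃ e ∈ cert22, e.1 = w := by
  decide +kernel

theorem cubeTwist_ne_one : cubeTwist ≠ 1 := by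
  intro h
  have h1 : cubeTwist (gpt 1) = gpt 1 := by rw [h]; rfl
  rw [hasTable_C 1] at h1
  have := gpt_bij.injective h1
  revert this
  decide

theorem M22_simple : IsSimpleGroup (fixL M24 [23, 0]) := by
  haveI : Fact (Nat.Prime 11) := ⟨by norm_num⟩
  apply simple_of_data (fixL M24 [23, 0]) 11 40 484 443520 card_fixL_M24_2 (by norm_num)
    ((Finset.univ.erase (gpt 23)).erase (gpt 0))
  · -- invariance
    intro g hg x hx
    rw [Finset.mem_erase, Finset.mem_erase] at hx ⊢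
    have h23 := (mem_fixL.1 hg).2 23 (by simp)
    have h0 := (mem_fixL.1 hg).2 0 (by simp)
    refine ⟨fun h => hx.1 ?_, fun h => hx.2.1 ?_, Finset.mem_univ _⟩
    · exact g.injective (h.trans h0.symm)
    · exact g.injective (h.trans h23.symm)
  · -- faithful
    intro g hg hfix
    apply Equiv.ext
    intro x
    by_cases hx : x = gpt 23
    · rw [hx]; exact (mem_fixL.1 hg).2 23 (by simp)
    · by_cases hx0 : x = gpt 0
      · rw [hx0]; exact (mem_fixL.1 hg).2 0 (by simp)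
      · exact hfix x (Finset.mem_erase.2 ⟨hx0, Finset.mem_erase.2 ⟨hx, Finset.mem_univ _⟩⟩)
  · -- two-transitive
    intro a ha b hb hab c hc d hd hcd
    rw [Finset.mem_erase, Finset.mem_erase] at ha hb hc hd
    obtain ⟨g, hg, h1, h2, h3, h4⟩ := M24_trans4 (p := gpt 23) (q := gpt 0) (a := a) (b := b)
      (p' := gpt 23) (q' := gpt 0) (a' := c) (b' := d) (by decide) (Ne.symm ha.2.1)
      (Ne.symm hb.2.1) (Ne.symm ha.1) (Ne.symm hb.1) hab (by decide) (Ne.symm hc.2.1)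
      (Ne.symm hd.2.1) (Ne.symm hc.1) (Ne.symm hd.1) hcd
    refine ⟨g, mem_fixL.2 ⟨hg, fun i hi => ?_⟩, h3, h4⟩
    have : i = 23 ∨ i = 0 := by
      revert hi; revert i; decide
    rcases this with rfl | rfl
    · exact h1
    · exact h2
  · exact ⟨gpt 1, Finset.mem_erase.2 ⟨by decide, Finset.mem_erase.2 ⟨by decide, Finset.mem_univ _⟩⟩⟩
  · rw [Finset.card_erase_of_mem (Finset.mem_erase.2 ⟨by decide, Finset.mem_univ _⟩),
      Finset.card_erase_of_mem (Finset.mem_univ _), Finset.card_univ, fintype_card_golayPt]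
    norm_num
  · intro u hu h11
    rw [card_centralizer_of_order11 u (mem_fixL.1 hu).1 h11]
  · norm_num
  · have hsub : K22 ≤ Subgroup.closure {g | g ∈ fixL M24 [23, 0] ∧ (orderOf g).Coprime 40} := by
      unfold K22
      rw [Subgroup.closure_le]
      rintro _ ⟨w, hw, rfl⟩
      obtain ⟨e, he, rfl⟩ := cert22_ok.2 w hw
      refine gen_of_cert (fixL M24 [23, 0]) _ 40 ?_ cert22 cert22_ok.1 e he
      intro w hw
      rw [decide_eq_true_iff] at hw
      rw [mem_fixL]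
      refine ⟨H0_le_M24 (evalW_mem w), fun i hi => ?_⟩
      have : i = 23 ∨ i = 0 := by
        revert hi; revert i; decide
      rcases this with rfl | rfl
      · rw [evalW_table w 23, hw.1]
      · rw [evalW_table w 0, hw.2]
    intro g hg
    rw [← K22_eq] at hg
    exact hsub hg
  · refine ⟨cubeTwist, mem_fixL.2 ⟨H0_le_M24 cubeTwist_mem, fun i hi => ?_⟩, cubeTwist_ne_one⟩
    have : i = 23 ∨ i = 0 := by
      revert hi; revert i; decide
    rcases this with rfl | rfl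
    · rw [hasTable_C 23]; rfl
    · rw [hasTable_C 0]; rfl

theorem stabilizer_two_points_simple (p q : GolayPt) (hpq : p ≠ q) :
    IsSimpleGroup ↥(MulAction.stabilizer M24 p ⊓ MulAction.stabilizer M24 q) := by
  haveI := M22_simple
  obtain ⟨h, hh, hp, hq⟩ : ∃ h ∈ M24, h (gpt 23) = p ∧ h (gpt 0) = q := by
    haveI := Cfsg.Agent.S0376.two_pretrans
    obtain ⟨g, hg1, hg2⟩ := (MulAction.is_two_pretransitive_iff (G := M24) (α := GolayPt)).1
      inferInstance (show gpt 23 ≠ gpt 0 by decide) hpq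
    exact ⟨g.1, g.2, hg1, hg2⟩
  apply simple_transport (fixL M24 [23, 0]) _ h
  ext g
  rw [mem_map_conj, mem_fixL, Subgroup.mem_map]
  constructor
  · rintro ⟨k, hk, rfl⟩
    rw [Subgroup.mem_inf, MulAction.mem_stabilizer_iff, MulAction.mem_stabilizer_iff] at hk
    have hkp : (k : Equiv.Perm GolayPt) p = p := hk.1
    have hkq : (k : Equiv.Perm GolayPt) q = q := hk.2
    refine ⟨mul_mem (mul_mem (inv_mem hh) k.2) hh, fun i hi => ?_⟩
    have : i = 23 ∨ i = 0 := by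
      revert hi; revert i; decide
    rcases this with rfl | rfl
    · show (h⁻¹ * (k : Equiv.Perm GolayPt) * h) (gpt 23) = gpt 23
      rw [Equiv.Perm.mul_apply, Equiv.Perm.mul_apply, hp, hkp, ← hp, perm_inv_apply_self]
    · show (h⁻¹ * (k : Equiv.Perm GolayPt) * h) (gpt 0) = gpt 0
      rw [Equiv.Perm.mul_apply, Equiv.Perm.mul_apply, hq, hkq, ← hq, perm_inv_apply_self]
  · rintro ⟨hgM, hfix⟩
    have hgM24 : g ∈ M24 := by
      have : g = h * (h⁻¹ * g * h) * h⁻¹ := by group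
      rw [this]
      exact mul_mem (mul_mem hh hgM) (inv_mem hh)
    refine ⟨⟨g, hgM24⟩, ?_, rfl⟩
    rw [Subgroup.mem_inf, MulAction.mem_stabilizer_iff, MulAction.mem_stabilizer_iff]
    have h1 := hfix 23 (by simp)
    have h2 := hfix 0 (by simp)
    rw [Equiv.Perm.mul_apply, Equiv.Perm.mul_apply, hp, Equiv.Perm.inv_eq_iff_eq, hp] at h1
    rw [Equiv.Perm.mul_apply, Equiv.Perm.mul_apply, hq, Equiv.Perm.inv_eq_iff_eq, hq] at h2
    exact ⟨h1, h2⟩

end Cfsg.Agent.Lib.Helper1
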