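import Mathlib
import Cfsg.Prelude.Def_Sporadic_a
import Cfsg.Agent.Lib.Helper1.M22Simple

set_option autoImplicit false

namespace Cfsg.Agent.Lib.Helper1

open Cfsg
open scoped Pointwise

/-- restriction of the reachability hypotheses of `multi_of_chain_on` to fewer points -/
theorem M12_reach_le (m : ℕ) (hm : m ≤ 5) : ∀ k : Fin m, ∀ i : Fin 24, (combo 1).testBit i = true →
    (∀ j : Fin m, j < k → i ≠ base12 (Fin.castLE hm j)) →
    ∃ h ∈ M12, (∀ j : Fin m, j < k → h (gpt (base12 (Fin.castLE hm j))) = gpt (base12 (Fin.castLE hm j))) ∧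
      h (gpt (base12 (Fin.castLE hm k))) = gpt i := by
  intro k i hD hi
  obtain ⟨h, hh, hfix, hmove⟩ := M12_reach5 (Fin.castLE hm k) i hD (by
    intro j hj
    have hjk : j.val < k.val := hj
    have := hi ⟨j.val, lt_trans hjk k.2⟩ hjk
    exact this)
  refine ⟨h, hh, fun j hj => ?_, hmove⟩
  exact hfix (Fin.castLE hm j) hj

theorem M12_to_base_le (m : ℕ) (hm : m ≤ 5) (x : Fin m ↪ GolayPt) (hx : ∀ j, x j ∈ dod0) :
    ∃ g ∈ M12, ∀ j, g (x j) = gpt (base12 (Fin.castLE hm j)) := by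
  apply multi_of_chain_on M12 (fun i => (combo 1).testBit i = true) M12_D m
    (fun j => base12 (Fin.castLE hm j)) (M12_reach_le m hm) x
  intro j
  obtain ⟨i, hi⟩ := gpt_bij.surjective (x j)
  exact ⟨i, (gpt_mem_dod0 i).1 (hi ▸ hx j), hi⟩

theorem M12_trans3 {p a b p' a' b' : GolayPt} (hp : p ∈ dod0) (ha : a ∈ dod0) (hb : b ∈ dod0)
    (hp' : p' ∈ dod0) (ha' : a' ∈ dod0) (hb' : b' ∈ dod0)
    (h1 : p ≠ a) (h2 : p ≠ b) (h3 : a ≠ b)
    (h1' : p' ≠ a') (h2' : p' ≠ b') (h3' : a' ≠ b') :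
    ∃ g ∈ M12, g p = p' ∧ g a = a' ∧ g b = b' := by
  obtain ⟨g1, hg1, hx1⟩ := M12_to_base_le 3 (by norm_num) (emb3 p a b h1 h2 h3) (by
    intro j; fin_cases j
    · exact hp
    · exact ha
    · exact hb)
  obtain ⟨g2, hg2, hx2⟩ := M12_to_base_le 3 (by norm_num) (emb3 p' a' b' h1' h2' h3') (by
    intro j; fin_cases j
    · exact hp'
    · exact ha'
    · exact hb')
  refine ⟨g2⁻¹ * g1, mul_mem (inv_mem hg2) hg1, ?_, ?_, ?_⟩
  · have e1 : g1 p = _ := hx1 0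
    have e2 : g2 p' = _ := hx2 0
    rw [Equiv.Perm.mul_apply, e1, Equiv.Perm.inv_eq_iff_eq, e2]
  · have e1 : g1 a = _ := hx1 1
    have e2 : g2 a' = _ := hx2 1
    rw [Equiv.Perm.mul_apply, e1, Equiv.Perm.inv_eq_iff_eq, e2]
  · have e1 : g1 b = _ := hx1 2
    have e2 : g2 b' = _ := hx2 2
    rw [Equiv.Perm.mul_apply, e1, Equiv.Perm.inv_eq_iff_eq, e2]

theorem card_M11 : Nat.card M11 = 7920 := by
  have h0 := lower12_0
  have h1 := lower12_1
  have h2 := lower12_2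
  have h3 := lower12_3
  have h4 := lower12_4
  simp only [List.nil_append, List.cons_append] at h0 h1 h2 h3 h4
  have hM : Nat.card (fixL M12 []) = 95040 := card_M12
  rw [hM] at h0
  have hpos : 0 < Nat.card (fixL M12 [0, 1, 2, 3, 4]) := Nat.card_pos
  show Nat.card (fixL M12 [0]) = 7920
  omega

/-- the generated subgroup -/
def K11 : Subgroup (Equiv.Perm GolayPt) := Subgroup.closure {g | ∃ w ∈ ws12_1, g = evalW w}

theorem evalW_mem_K11 {w : List ℕ} (hw : w ∈ ws12_1) : evalW w ∈ K11 :=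
  Subgroup.subset_closure ⟨w, hw, rfl⟩

theorem ws_sub11 : (∀ w ∈ ws12_2, w ∈ ws12_1) ∧ (∀ w ∈ ws12_3, w ∈ ws12_1) ∧
    (∀ w ∈ ws12_4, w ∈ ws12_1) := by
  decide

theorem K11_eq : K11 = M11 := by
  have hle : K11 ≤ M11 := by
    unfold K11
    rw [Subgroup.closure_le]
    rintro _ ⟨w, hw, rfl⟩
    rw [SetLike.mem_coe, mem_M11]
    refine ⟨evalW_mem_M12 w (lvl12_1.1 w hw).1, ?_⟩
    rw [evalW_table w 0, (lvl12_1.1 w hw).2 0 (by simp)]
  apply Subgroup.eq_of_le_of_card_ge hle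
  have h1 := lower_step_gen K11 ws12_1 [0] 1 _ cond12_1 (fun w hw => evalW_mem_K11 hw)
    (fun w hw => (lvl12_1.1 w hw).2) lvl12_1.2
  have h2 := lower_step_gen K11 ws12_2 [0, 1] 2 _ cond12_2
    (fun w hw => evalW_mem_K11 (ws_sub11.1 w hw)) (fun w hw => (lvl12_2.1 w hw).2) lvl12_2.2
  have h3 := lower_step_gen K11 ws12_3 [0, 1, 2] 3 _ cond12_3
    (fun w hw => evalW_mem_K11 (ws_sub11.2.1 w hw)) (fun w hw => (lvl12_3.1 w hw).2) lvl12_3.2
  have h4 := lower_step_gen K11 ws12_4 [0, 1, 2, 3] 4 _ cond12_4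
    (fun w hw => evalW_mem_K11 (ws_sub11.2.2 w hw)) (fun w hw => (lvl12_4.1 w hw).2) lvl12_4.2
  rw [card_cond12_1] at h1
  rw [card_cond12_2] at h2
  rw [card_cond12_3] at h3
  rw [card_cond12_4] at h4
  have h7 : 1 ≤ Nat.card (fixL K11 ([0, 1, 2, 3] ++ [4])) :=
    Nat.one_le_iff_ne_zero.2 Nat.card_pos.ne'
  have h0 : Nat.card (fixL K11 [0]) ≤ Nat.card K11 := by
    apply Subgroup.card_le_of_le
    intro g hg
    exact (mem_fixL.1 hg).1
  simp only [List.nil_append, List.cons_append] at h1 h2 h3 h4 h7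
  rw [card_M11]
  omega

/-- decompositions of the strong generators of `M11` into elements of good order -/
def cert11 : List (List ℕ × List (List ℕ × ℕ)) :=
  [([3], [([4, 4, 0, 2, 1, 4, 1, 4, 1, 2, 4, 1], 3), ([0, 3, 2, 0, 3, 0, 3, 0, 2, 1, 3, 3, 3], 3)]),
    ([3, 2, 0, 4, 0, 0, 3, 1, 4, 1, 2], [([0, 2, 1, 4, 1, 4, 1, 2, 4, 1, 3, 3], 3), ([4, 4, 0, 3, 2, 0, 3, 0, 3, 0, 2, 1, 3, 2, 0, 4, 0, 0, 3, 1, 4, 1, 2], 11)]),
    ([0, 2, 1, 4, 1, 4, 1, 2, 4, 1], [([3, 3, 0, 3, 2, 0, 3, 0, 3, 0, 2, 1, 3], 3), ([4, 0, 2, 1, 4, 1, 4, 1, 2, 4, 1, 4, 4, 0, 2, 1, 4, 1, 4, 1, 2, 4, 1], 3)]),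
    ([3, 3, 1, 4, 1, 1, 1, 3, 0, 3, 3, 0], [([0, 2, 1, 4, 1, 4, 1, 2, 4, 1, 4, 4], 3), ([3, 3, 0, 3, 2, 0, 3, 0, 3, 0, 2, 1, 3, 3, 1, 4, 1, 1, 1, 3, 0, 3, 3, 0], 11)]),
    ([4, 1, 1, 3, 3, 2, 1, 1, 1, 2, 3, 3, 0, 4], [([3, 0, 2, 1, 4, 1, 4, 1, 2, 4, 1, 3], 3), ([4, 0, 3, 2, 0, 3, 0, 3, 0, 2, 1, 4, 4, 1, 1, 3, 3, 2, 1, 1, 1, 2, 3, 3, 0, 4], 3)]),
    ([4, 1, 1, 2, 0, 4, 4, 0, 3, 0, 0, 4, 1, 3, 1], [([4, 4, 0, 2, 1, 4, 1, 4, 1, 2, 4, 1], 3), ([0, 3, 2, 0, 3, 0, 3, 0, 2, 1, 3, 3, 4, 1, 1, 2, 0, 4, 4, 0, 3, 0, 0, 4, 1, 3, 1], 11)])]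

theorem cert11_ok : certOK (fun w => decide ((∀ i : Fin 24, (combo 1).testBit i = true →
      (combo 1).testBit (evalT w i) = true) ∧ evalT w 0 = 0)) 40 cert11 ∧
    ∀ w ∈ ws12_1, ∃ e ∈ cert11, e.1 = w := by
  decide +kernel

/-- five points of the base dodecad -/
def emb5 : Fin 5 ↪ GolayPt := ⟨fun j => gpt (base12 j), by
  intro i j hij
  have := gpt_bij.injective hij
  revert this
  revert i j
  decide⟩

theorem emb5_mem (j : Fin 5) : emb5 j ∈ dod0 := by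
  show gpt (base12 j) ∈ dod0
  rw [gpt_mem_dod0]
  revert j
  decide +kernel

theorem M11_simple : IsSimpleGroup M11 := by
  haveI : Fact (Nat.Prime 11) := ⟨by norm_num⟩
  apply simple_of_data M11 11 40 484 7920 card_M11 (by norm_num) (dod0.erase (gpt 0))
  · -- invariance
    intro g hg x hx
    rw [Finset.mem_erase] at hx ⊢
    have hg' := mem_M11.1 hg
    refine ⟨fun h => hx.1 ?_, M12_preserves hg'.1 x hx.2⟩
    exact g.injective (h.trans hg'.2.symm)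
  · -- faithful
    intro g hg hfix
    have hg' := mem_M11.1 hg
    apply M12_fix5_eq_one hg'.1 emb5 emb5_mem
    intro j
    by_cases hj : emb5 j = gpt 0
    · rw [hj]; exact hg'.2
    · exact hfix _ (Finset.mem_erase.2 ⟨hj, emb5_mem j⟩)
  · -- two-transitive
    intro a ha b hb hab c hc d hd hcd
    rw [Finset.mem_erase] at ha hb hc hd
    have h0 : gpt 0 ∈ dod0 := (gpt_mem_dod0 0).2 (by decide +kernel)
    obtain ⟨g, hg, h1, h2, h3⟩ := M12_trans3 (p := gpt 0) (a := a) (b := b) (p' := gpt 0)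
      (a' := c) (b' := d) h0 ha.2 hb.2 h0 hc.2 hd.2 (Ne.symm ha.1) (Ne.symm hb.1) hab
      (Ne.symm hc.1) (Ne.symm hd.1) hcd
    exact ⟨g, mem_M11.2 ⟨hg, h1⟩, h2, h3⟩
  · exact ⟨gpt 1, Finset.mem_erase.2 ⟨by decide, (gpt_mem_dod0 1).2 (by decide +kernel)⟩⟩
  · rw [Finset.card_erase_of_mem ((gpt_mem_dod0 0).2 (by decide +kernel)), dod0_mem.2]
  · intro u hu h11
    rw [card_centralizer_of_order11 u (mem_M11.1 hu).1.1 h11]
  · norm_num
  · have hsub : K11 ≤ Subgroup.closure {g | g ∈ M11 ∧ (orderOf g).Coprime 40} := by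
      unfold K11
      rw [Subgroup.closure_le]
      rintro _ ⟨w, hw, rfl⟩
      obtain ⟨e, he, rfl⟩ := cert11_ok.2 w hw
      refine gen_of_cert M11 _ 40 ?_ cert11 cert11_ok.1 e he
      intro w hw
      rw [decide_eq_true_iff] at hw
      rw [mem_M11]
      refine ⟨evalW_mem_M12 w hw.1, ?_⟩
      rw [evalW_table w 0, hw.2]
    intro g hg
    rw [← K11_eq] at hg
    exact hsub hg
  · refine ⟨cubeTwist, ?_, cubeTwist_ne_one⟩
    rw [← K11_eq]
    have : cubeTwist = evalW [3] := by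
      unfold evalW
      simp [letter]
    rw [this]
    exact evalW_mem_K11 (by decide)

theorem stabilizer_dodecad_point_simple (d : Finset GolayPt) (hd : d ∈ dodecads) (p : GolayPt)
    (hp : p ∈ d) :
    IsSimpleGroup ↥(MulAction.stabilizer M24 d ⊓ MulAction.stabilizer M24 p) := by
  haveI := M11_simple
  obtain ⟨h, hh, hhd, hhp⟩ := exists_smul_flag d hd hp
  apply simple_transport M11 _ h
  ext g
  rw [mem_map_conj, mem_M11, Subgroup.mem_map]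
  constructor
  · rintro ⟨k, hk, rfl⟩
    rw [Subgroup.mem_inf, MulAction.mem_stabilizer_iff, MulAction.mem_stabilizer_iff] at hk
    have hkd : (k : Equiv.Perm GolayPt) • d = d := hk.1
    have hkp : (k : Equiv.Perm GolayPt) p = p := hk.2
    show h⁻¹ * (k : Equiv.Perm GolayPt) * h ∈ M12 ∧
      (h⁻¹ * (k : Equiv.Perm GolayPt) * h) (gpt 0) = gpt 0
    refine ⟨?_, ?_⟩
    · unfold M12
      rw [Subgroup.mem_inf]
      refine ⟨mul_mem (mul_mem (inv_mem hh) k.2) hh, ?_⟩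
      rw [MulAction.mem_stabilizer_iff, mul_smul, mul_smul, hhd, hkd, ← hhd, inv_smul_smul]
    · show (h⁻¹ * (k : Equiv.Perm GolayPt) * h) (gpt 0) = gpt 0
      rw [Equiv.Perm.mul_apply, Equiv.Perm.mul_apply, hhp, hkp, ← hhp, perm_inv_apply_self]
  · rintro ⟨hgM, hfix⟩
    have hgM24 : g ∈ M24 := by
      have : g = h * (h⁻¹ * g * h) * h⁻¹ := by group
      rw [this]
      exact mul_mem (mul_mem hh hgM.1) (inv_mem hh)
    refine ⟨⟨g, hgM24⟩, ?_, rfl⟩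
    rw [Subgroup.mem_inf, MulAction.mem_stabilizer_iff, MulAction.mem_stabilizer_iff]
    constructor
    · show g • d = d
      have h1 : (h⁻¹ * g * h) • dod0 = dod0 := MulAction.mem_stabilizer_iff.1 hgM.2
      rw [mul_smul, mul_smul, hhd, inv_smul_eq_iff, hhd] at h1
      exact h1
    · show g p = p
      have h1 := hfix
      rw [Equiv.Perm.mul_apply, Equiv.Perm.mul_apply, hhp, Equiv.Perm.inv_eq_iff_eq, hhp] at h1
      exact h1

end Cfsg.Agent.Lib.Helper1
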