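import Mathlib
import Cfsg.Prelude.Def_Sporadic_a
import Cfsg.Agent.Lib.Helper1.M11Simple

set_option autoImplicit false

namespace Cfsg.Agent.Lib.Helper1

open Cfsg
open scoped Pointwise

/-- the word of the base involution: it fixes the point `0` and exchanges `1, 2` and `3, 4` -/
def w0 : List ℕ := [3, 2, 0, 4, 0, 0, 3, 1, 4, 1, 2, 3, 2, 0, 3, 0, 4, 1, 1, 3, 1, 2, 4, 3, 3, 2, 0, 4, 0, 0, 3, 1, 4, 1, 2]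

/-- the base involution -/
noncomputable def x0 : Equiv.Perm GolayPt := evalW w0

/-- the point attached to a nonzero vector of the plane over the field with three elements -/
def bidx (v1 v2 : ZMod 3) : Fin 24 :=
  ([0, 3, 4, 1, 18, 8, 2, 13, 6] : List (Fin 24)).getD (3 * v1.val + v2.val) 0

/-- words for the 48 invertible matrices -/
def Wtab : List (List ℕ) := [[],
    [],
    [],
    [],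
    [],
    [],
    [],
    [],
    [],
    [],
    [],
    [],
    [3, 0, 2, 1, 4, 1, 4, 1, 2, 4, 1, 4],
    [3, 2, 0, 4, 0, 0, 3, 1, 4, 1, 2, 3, 3, 1, 4, 4, 2, 0, 0, 0, 2, 4, 4, 0, 0, 3, 2, 0, 3, 0, 4, 1, 1, 3, 1, 2, 4],
    [0, 4, 0, 3, 1, 1, 4, 1, 3, 3, 1, 2, 0, 0, 3, 0, 2, 1, 4, 1, 4, 1, 2, 4, 1, 4],
    [0, 2, 1, 4, 1, 4, 1, 2, 4, 1, 3, 0, 2, 1, 4, 1, 4, 1, 2, 4, 1, 4, 1, 1, 2, 0, 4, 4, 0, 3, 0, 0, 4, 1, 3, 1],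
    [2, 0, 3, 0, 4, 1, 1, 3, 1, 2, 4, 3, 3, 1, 4, 1, 1, 1, 3, 0, 3, 3, 0, 4, 4, 1, 1, 2, 0, 4, 4, 0, 3, 0, 0, 4, 1, 3, 1, 3],
    [0, 2, 1, 4, 1, 4, 1, 2, 4, 1, 3, 4, 1, 1, 2, 0, 4, 4, 0, 3, 0, 0, 4, 1, 3, 1, 0, 2, 1, 4, 1, 4, 1, 2, 4, 1],
    [],
    [],
    [],
    [0, 4, 0, 3, 1, 1, 4, 1, 3, 3, 1, 2, 0, 0, 3, 0, 2, 1, 4, 1, 4, 1, 2, 4, 1, 4, 0, 2, 1, 4, 1, 4, 1, 2, 4, 1],
    [3, 3, 1, 4, 4, 2, 0, 0, 0, 2, 4, 4, 0, 0, 3, 2, 0, 3, 0, 4, 1, 1, 3, 1, 2, 4, 3, 1, 4, 4, 2, 0, 0, 0, 2, 4, 4, 0, 0, 3, 3],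
    [3, 0, 2, 1, 4, 1, 4, 1, 2, 4, 1, 4, 0, 2, 1, 4, 1, 4, 1, 2, 4, 1],
    [0, 4, 0, 3, 1, 1, 4, 1, 3, 3, 1, 2, 0, 0, 3, 4, 0, 2, 1, 4, 1, 4, 1, 2, 4, 1, 3, 4, 1, 1, 2, 0, 4, 4, 0, 3, 0, 0, 4, 1, 3, 1],
    [3, 4, 1, 1, 2, 0, 4, 4, 0, 3, 0, 0, 4, 1, 3, 1, 0, 2, 1, 4, 1, 4, 1, 2, 4, 1, 3, 4, 1, 1, 2, 0, 4, 4, 0, 3, 0, 0, 4, 1, 3, 1],
    [0, 2, 1, 4, 1, 4, 1, 2, 4, 1, 3, 4, 1, 1, 2, 0, 4, 4, 0, 3, 0, 0, 4, 1, 3, 1],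
    [],
    [],
    [3, 1, 4, 4, 2, 0, 0, 0, 2, 4, 4, 0, 0, 3, 0, 2, 1, 4, 1, 4, 1, 2, 4, 1, 4, 1, 1, 3, 3, 2, 1, 1, 1, 2, 3, 3, 0, 4],
    [],
    [3, 4, 1, 1, 2, 0, 4, 4, 0, 3, 0, 0, 4, 1, 3, 1],
    [3, 4, 1, 1, 3, 3, 2, 1, 1, 1, 2, 3, 3, 0, 4, 4, 1, 1, 2, 0, 4, 4, 0, 3, 0, 0, 4, 1, 3, 1, 0, 2, 1, 4, 1, 4, 1, 2, 4, 1, 4, 1, 1, 3, 3, 2, 1, 1, 1, 2, 3, 3, 0, 4],
    [],
    [0, 4, 0, 3, 1, 1, 4, 1, 3, 3, 1, 2, 0, 0, 3, 4],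
    [4, 1, 1, 3, 3, 2, 1, 1, 1, 2, 3, 3, 0, 4, 3, 3, 1, 4, 4, 2, 0, 0, 0, 2, 4, 4, 0, 0, 3, 3, 2, 0, 4, 0, 0, 3, 1, 4, 1, 2, 4, 1, 1, 2, 0, 4, 4, 0, 3, 0, 0, 4, 1, 3, 1],
    [],
    [3, 1, 4, 4, 2, 0, 0, 0, 2, 4, 4, 0, 0, 3, 3, 2, 0, 4, 0, 0, 3, 1, 4, 1, 2, 3, 2, 0, 4, 0, 0, 3, 1, 4, 1, 2],
    [3, 2, 0, 4, 0, 0, 3, 1, 4, 1, 2, 3, 2, 0, 4, 0, 0, 3, 1, 4, 1, 2, 4, 1, 1, 3, 3, 2, 1, 1, 1, 2, 3, 3, 0, 4],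
    [3, 0, 2, 1, 4, 1, 4, 1, 2, 4, 1, 4, 1, 1, 2, 0, 4, 4, 0, 3, 0, 0, 4, 1, 3, 1],
    [],
    [3, 0, 2, 1, 4, 1, 4, 1, 2, 4, 1, 4, 1, 1, 2, 0, 4, 4, 0, 3, 0, 0, 4, 1, 3, 1, 0, 2, 1, 4, 1, 4, 1, 2, 4, 1],
    [4, 4, 1, 1, 3, 3, 2, 1, 1, 1, 2, 3, 3, 0, 4, 3, 2, 0, 4, 0, 0, 3, 1, 4, 1, 2, 4, 1, 1, 3, 3, 2, 1, 1, 1, 2, 3, 3, 0, 4, 4],
    [3, 4, 1, 1, 3, 3, 2, 1, 1, 1, 2, 3, 3, 0, 4, 4, 2, 0, 3, 0, 4, 1, 1, 3, 1, 2, 4, 3, 3, 1, 4, 1, 1, 1, 3, 0, 3, 3, 0],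
    [],
    [],
    [2, 0, 3, 0, 4, 1, 1, 3, 1, 2, 4, 2, 0, 3, 0, 4, 1, 1, 3, 1, 2, 4, 4, 1, 1, 3, 3, 2, 1, 1, 1, 2, 3, 3, 0, 4],
    [0, 2, 1, 4, 1, 4, 1, 2, 4, 1],
    [3, 3, 1, 4, 4, 2, 0, 0, 0, 2, 4, 4, 0, 0, 3, 0, 2, 1, 4, 1, 4, 1, 2, 4, 1, 4, 1, 1, 3, 3, 2, 1, 1, 1, 2, 3, 3, 0, 4, 0, 4, 0, 3, 1, 1, 4, 1, 3, 3, 1, 2, 0, 0, 3],
    [3, 4, 1, 1, 2, 0, 4, 4, 0, 3, 0, 0, 4, 1, 3, 1, 0, 2, 1, 4, 1, 4, 1, 2, 4, 1],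
    [],
    [0, 4, 0, 3, 1, 1, 4, 1, 3, 3, 1, 2, 0, 0, 3, 4, 0, 2, 1, 4, 1, 4, 1, 2, 4, 1],
    [],
    [2, 0, 3, 0, 4, 1, 1, 3, 1, 2, 4, 0, 4, 0, 3, 1, 1, 4, 1, 3, 3, 1, 2, 0, 0, 3, 3, 3, 2, 0, 4, 0, 0, 3, 1, 4, 1, 2, 4, 1, 1, 2, 0, 4, 4, 0, 3, 0, 0, 4, 1, 3, 1],
    [],
    [3, 2, 0, 3, 0, 4, 1, 1, 3, 1, 2, 4, 4, 4, 1, 1, 2, 0, 4, 4, 0, 3, 0, 0, 4, 1, 3, 1, 3, 2, 0, 4, 0, 0, 3, 1, 4, 1, 2, 0, 2, 1, 4, 1, 4, 1, 2, 4, 1],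
    [3, 2, 0, 4, 0, 0, 3, 1, 4, 1, 2, 3, 2, 0, 3, 0, 4, 1, 1, 3, 1, 2, 4, 3, 3, 2, 0, 4, 0, 0, 3, 1, 4, 1, 2],
    [],
    [4, 1, 1, 3, 3, 2, 1, 1, 1, 2, 3, 3, 0, 4, 4, 3, 1, 4, 4, 2, 0, 0, 0, 2, 4, 4, 0, 0, 3, 3, 0, 4, 0, 3, 1, 1, 4, 1, 3, 3, 1, 2, 0, 0, 3],
    [3, 2, 0, 3, 0, 4, 1, 1, 3, 1, 2, 4, 0, 4, 0, 3, 1, 1, 4, 1, 3, 3, 1, 2, 0, 0, 3, 4, 3, 3, 1, 4, 1, 1, 1, 3, 0, 3, 3, 0],
    [],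
    [0, 2, 1, 4, 1, 4, 1, 2, 4, 1, 3, 0, 2, 1, 4, 1, 4, 1, 2, 4, 1, 4, 0, 2, 1, 4, 1, 4, 1, 2, 4, 1],
    [3, 2, 0, 4, 0, 0, 3, 1, 4, 1, 2, 0, 2, 1, 4, 1, 4, 1, 2, 4, 1, 3, 3, 1, 4, 4, 2, 0, 0, 0, 2, 4, 4, 0, 0, 3, 2, 0, 3, 0, 4, 1, 1, 3, 1, 2, 4],
    [],
    [3, 4, 1, 1, 2, 0, 4, 4, 0, 3, 0, 0, 4, 1, 3, 1, 3, 2, 0, 4, 0, 0, 3, 1, 4, 1, 2, 4, 1, 1, 3, 3, 2, 1, 1, 1, 2, 3, 3, 0, 4, 4, 2, 0, 3, 0, 4, 1, 1, 3, 1, 2, 4],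
    [3, 2, 0, 3, 0, 4, 1, 1, 3, 1, 2, 4, 4, 4, 1, 1, 2, 0, 4, 4, 0, 3, 0, 0, 4, 1, 3, 1, 3, 2, 0, 4, 0, 0, 3, 1, 4, 1, 2],
    [3, 2, 0, 4, 0, 0, 3, 1, 4, 1, 2, 4, 1, 1, 3, 3, 2, 1, 1, 1, 2, 3, 3, 0, 4, 4, 2, 0, 3, 0, 4, 1, 1, 3, 1, 2, 4],
    [3, 2, 0, 4, 0, 0, 3, 1, 4, 1, 2, 3, 3, 1, 4, 1, 1, 1, 3, 0, 3, 3, 0, 2, 0, 3, 0, 4, 1, 1, 3, 1, 2, 4, 4, 3, 1, 4, 4, 2, 0, 0, 0, 2, 4, 4, 0, 0, 3],
    [],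
    [0, 2, 1, 4, 1, 4, 1, 2, 4, 1, 3, 0, 2, 1, 4, 1, 4, 1, 2, 4, 1, 4],
    [],
    [4, 2, 0, 3, 0, 4, 1, 1, 3, 1, 2, 4, 3, 3, 1, 4, 1, 1, 1, 3, 0, 3, 3, 0, 3, 2, 0, 4, 0, 0, 3, 1, 4, 1, 2, 3, 1, 4, 4, 2, 0, 0, 0, 2, 4, 4, 0, 0, 3],
    [],
    [3, 4, 1, 1, 2, 0, 4, 4, 0, 3, 0, 0, 4, 1, 3, 1, 0, 2, 1, 4, 1, 4, 1, 2, 4, 1, 0, 4, 0, 3, 1, 1, 4, 1, 3, 3, 1, 2, 0, 0, 3, 4],
    [4, 4, 4, 1, 1, 3, 3, 2, 1, 1, 1, 2, 3, 3, 0, 4, 3, 2, 0, 4, 0, 0, 3, 1, 4, 1, 2, 3, 1, 4, 4, 2, 0, 0, 0, 2, 4, 4, 0, 0, 3],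
    [0, 2, 1, 4, 1, 4, 1, 2, 4, 1, 0, 4, 0, 3, 1, 1, 4, 1, 3, 3, 1, 2, 0, 0, 3, 4, 0, 2, 1, 4, 1, 4, 1, 2, 4, 1],
    [],
    [0, 2, 1, 4, 1, 4, 1, 2, 4, 1, 0, 4, 0, 3, 1, 1, 4, 1, 3, 3, 1, 2, 0, 0, 3, 4],
    [4, 4, 1, 1, 3, 3, 2, 1, 1, 1, 2, 3, 3, 0, 4, 2, 0, 3, 0, 4, 1, 1, 3, 1, 2, 4, 0, 2, 1, 4, 1, 4, 1, 2, 4, 1, 0, 4, 0, 3, 1, 1, 4, 1, 3, 3, 1, 2, 0, 0, 3],
    [0, 2, 1, 4, 1, 4, 1, 2, 4, 1, 0, 4, 0, 3, 1, 1, 4, 1, 3, 3, 1, 2, 0, 0, 3, 0, 2, 1, 4, 1, 4, 1, 2, 4, 1, 4],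
    []]

/-- the word of a matrix -/
def Wof (a b c d : ZMod 3) : List ℕ := Wtab.getD (27 * a.val + 9 * b.val + 3 * c.val + d.val) []

theorem w0_ok : (∀ i : Fin 24, (combo 1).testBit i = true → (combo 1).testBit (evalT w0 i) = true) ∧
    evalT w0 0 = 0 ∧ (∀ i : Fin 24, evalT w0 (evalT w0 i) = i) ∧ evalT w0 1 = 2 ∧ evalT w0 2 = 1 ∧
    evalT w0 3 = 4 ∧ evalT w0 4 = 3 := by
  decide +kernel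

theorem bidx_ok : ∀ v1 v2 : ZMod 3, (v1, v2) ≠ (0, 0) →
    evalT w0 (bidx v1 v2) = bidx (-v1) (-v2) := by
  decide +kernel

theorem bidx_inj : ∀ v1 v2 u1 u2 : ZMod 3, (v1, v2) ≠ (0, 0) → (u1, u2) ≠ (0, 0) →
    bidx v1 v2 = bidx u1 u2 → v1 = u1 ∧ v2 = u2 := by
  decide +kernel

theorem bidx_surj : ∀ i : Fin 24, (combo 1).testBit i = true → evalT w0 i ≠ i →
    ∃ v1 v2 : ZMod 3, (v1, v2) ≠ (0, 0) ∧ bidx v1 v2 = i := by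
  decide +kernel

theorem W_ok : ∀ a b c d : ZMod 3, a * d - b * c ≠ 0 →
    (∀ i : Fin 24, (combo 1).testBit i = true →
      (combo 1).testBit (evalT (Wof a b c d) i) = true) ∧
    evalT (Wof a b c d) 0 = 0 ∧
    (∀ i : Fin 24, evalT (Wof a b c d) (evalT w0 i) = evalT w0 (evalT (Wof a b c d) i)) ∧
    ∀ v1 v2 : ZMod 3, (v1, v2) ≠ (0, 0) →
      evalT (Wof a b c d) (bidx v1 v2) = bidx (a * v1 + b * v2) (c * v1 + d * v2) := by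
  decide +kernel

set_option synthInstance.maxSize 1024 in
theorem det_aux : ∀ v1 v2 u1 u2 : ZMod 3, (v1, v2) ≠ (0, 0) → (u1, u2) ≠ (0, 0) →
    (u1, u2) ≠ (v1, v2) → (u1, u2) ≠ (-v1, -v2) → v1 * u2 - u1 * v2 ≠ 0 := by
  decide +kernel

theorem col_aux : ∀ a b c d : ZMod 3, a * d - b * c ≠ 0 →
    (a * 1 + b * 0, c * 1 + d * 0) ≠ (0, 0) ∧ (a * 0 + b * 1, c * 0 + d * 1) ≠ (0, 0) := by
  decide +kernel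

theorem x0_apply (i : Fin 24) : x0 (gpt i) = gpt (evalT w0 i) := evalW_table w0 i

theorem x0_mem12 : x0 ∈ M12 := evalW_mem_M12 w0 w0_ok.1

attribute [irreducible] x0

theorem x0_mem : x0 ∈ M11 :=
  mem_M11.2 ⟨x0_mem12, (x0_apply 0).trans (congrArg gpt w0_ok.2.1)⟩

theorem x0_sq (p : GolayPt) : x0 (x0 p) = p := by
  obtain ⟨i, rfl⟩ := gpt_bij.surjective p
  rw [x0_apply, x0_apply, w0_ok.2.2.1]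

theorem x0_1 : x0 (gpt 1) = gpt 2 := (x0_apply 1).trans (congrArg gpt w0_ok.2.2.2.1)
theorem x0_2 : x0 (gpt 2) = gpt 1 := (x0_apply 2).trans (congrArg gpt w0_ok.2.2.2.2.1)
theorem x0_3 : x0 (gpt 3) = gpt 4 := (x0_apply 3).trans (congrArg gpt w0_ok.2.2.2.2.2.1)
theorem x0_4 : x0 (gpt 4) = gpt 3 := (x0_apply 4).trans (congrArg gpt w0_ok.2.2.2.2.2.2)
theorem x0_0 : x0 (gpt 0) = gpt 0 := (x0_apply 0).trans (congrArg gpt w0_ok.2.1)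

/-- the centralizer of the base involution in `M11` -/
def C0 : Subgroup (Equiv.Perm GolayPt) := M11 ⊓ Subgroup.centralizer {x0}

theorem mem_C0 {g : Equiv.Perm GolayPt} : g ∈ C0 ↔ g ∈ M11 ∧ ∀ p, x0 (g p) = g (x0 p) := by
  unfold C0
  rw [Subgroup.mem_inf, Subgroup.mem_centralizer_iff]
  constructor
  · rintro ⟨h1, h2⟩
    refine ⟨h1, fun p => ?_⟩
    have e := DFunLike.congr_fun (h2 x0 (Set.mem_singleton x0)) p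
    rw [Equiv.Perm.mul_apply, Equiv.Perm.mul_apply] at e
    exact e
  · rintro ⟨h1, h2⟩
    refine ⟨h1, fun h hh => ?_⟩
    rw [Set.mem_singleton_iff] at hh
    rw [hh]
    apply Equiv.ext
    intro p
    rw [Equiv.Perm.mul_apply, Equiv.Perm.mul_apply]
    exact h2 p

/-- the element attached to a matrix -/
noncomputable def gW (a b c d : ZMod 3) : Equiv.Perm GolayPt := evalW (Wof a b c d)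

theorem gW_mem (a b c d : ZMod 3) (h : a * d - b * c ≠ 0) : gW a b c d ∈ C0 := by
  obtain ⟨h1, h2, h3, _⟩ := W_ok a b c d h
  rw [mem_C0]
  refine ⟨mem_M11.2 ⟨evalW_mem_M12 _ h1, ?_⟩, fun p => ?_⟩
  · rw [gW, evalW_table _ 0, h2]
  · obtain ⟨i, rfl⟩ := gpt_bij.surjective p
    rw [gW, evalW_table _ i, x0_apply, x0_apply, evalW_table _ (evalT w0 i), h3]

theorem gW_apply (a b c d : ZMod 3) (h : a * d - b * c ≠ 0) (v1 v2 : ZMod 3)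
    (hv : (v1, v2) ≠ (0, 0)) :
    gW a b c d (gpt (bidx v1 v2)) = gpt (bidx (a * v1 + b * v2) (c * v1 + d * v2)) := by
  rw [gW, evalW_table _ _, (W_ok a b c d h).2.2.2 v1 v2 hv]

theorem bidx_10 : bidx 1 0 = 1 := by decide
theorem bidx_01 : bidx 0 1 = 3 := by decide

theorem C0_ext {g1 g2 : Equiv.Perm GolayPt} (h1 : g1 ∈ C0) (h2 : g2 ∈ C0)
    (e1 : g1 (gpt 1) = g2 (gpt 1)) (e3 : g1 (gpt 3) = g2 (gpt 3)) : g1 = g2 := by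
  rw [mem_C0] at h1 h2
  have hm : g2⁻¹ * g1 ∈ M11 := mul_mem (inv_mem h2.1) h1.1
  have key : g2⁻¹ * g1 = 1 := by
    apply M12_fix5_eq_one (mem_M11.1 hm).1 emb5 emb5_mem
    intro j
    fin_cases j
    · exact (mem_M11.1 hm).2
    · show (g2⁻¹ * g1) (gpt 1) = gpt 1
      rw [Equiv.Perm.mul_apply, e1, perm_inv_apply_self]
    · show (g2⁻¹ * g1) (gpt 2) = gpt 2
      rw [Equiv.Perm.mul_apply, ← x0_1, ← h1.2, e1, h2.2, perm_inv_apply_self]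
    · show (g2⁻¹ * g1) (gpt 3) = gpt 3
      rw [Equiv.Perm.mul_apply, e3, perm_inv_apply_self]
    · show (g2⁻¹ * g1) (gpt 4) = gpt 4
      rw [Equiv.Perm.mul_apply, ← x0_3, ← h1.2, e3, h2.2, perm_inv_apply_self]
  calc g1 = g2 * (g2⁻¹ * g1) := by group
    _ = g2 := by rw [key, mul_one]

theorem det_ne (M : GL (Fin 2) (ZMod 3)) :
    M.1 0 0 * M.1 1 1 - M.1 0 1 * M.1 1 0 ≠ 0 := by
  have h := Matrix.isUnits_det_units M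
  rw [Matrix.det_fin_two] at h
  exact h.ne_zero

/-- the map from the general linear group -/
noncomputable def PhiFun (M : GL (Fin 2) (ZMod 3)) : Equiv.Perm GolayPt :=
  gW (M.1 0 0) (M.1 0 1) (M.1 1 0) (M.1 1 1)

theorem PhiFun_mem (M : GL (Fin 2) (ZMod 3)) : PhiFun M ∈ C0 := gW_mem _ _ _ _ (det_ne M)

theorem PhiFun_1 (M : GL (Fin 2) (ZMod 3)) :
    PhiFun M (gpt 1) = gpt (bidx (M.1 0 0) (M.1 1 0)) := by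
  have h := gW_apply _ _ _ _ (det_ne M) 1 0 (by decide)
  rw [bidx_10] at h
  rw [PhiFun, h]
  simp only [mul_one, mul_zero, add_zero]

theorem PhiFun_3 (M : GL (Fin 2) (ZMod 3)) :
    PhiFun M (gpt 3) = gpt (bidx (M.1 0 1) (M.1 1 1)) := by
  have h := gW_apply _ _ _ _ (det_ne M) 0 1 (by decide)
  rw [bidx_01] at h
  rw [PhiFun, h]
  simp only [mul_one, mul_zero, zero_add]

theorem col1_ne (M : GL (Fin 2) (ZMod 3)) : (M.1 0 0, M.1 1 0) ≠ (0, 0) := by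
  have h := (col_aux _ _ _ _ (det_ne M)).1
  simpa only [mul_one, mul_zero, add_zero] using h

theorem col2_ne (M : GL (Fin 2) (ZMod 3)) : (M.1 0 1, M.1 1 1) ≠ (0, 0) := by
  have h := (col_aux _ _ _ _ (det_ne M)).2
  simpa only [mul_one, mul_zero, zero_add] using h

theorem PhiFun_mul (M N : GL (Fin 2) (ZMod 3)) : PhiFun (M * N) = PhiFun M * PhiFun N := by
  apply C0_ext (PhiFun_mem _) (C0.mul_mem (PhiFun_mem M) (PhiFun_mem N))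
  · rw [Equiv.Perm.mul_apply, PhiFun_1, PhiFun_1, PhiFun,
      gW_apply _ _ _ _ (det_ne M) _ _ (col1_ne N)]
    congr 2
    · rw [Units.val_mul, Matrix.mul_apply, Fin.sum_univ_two]
    · rw [Units.val_mul, Matrix.mul_apply, Fin.sum_univ_two]
  · rw [Equiv.Perm.mul_apply, PhiFun_3, PhiFun_3, PhiFun,
      gW_apply _ _ _ _ (det_ne M) _ _ (col2_ne N)]
    congr 2
    · rw [Units.val_mul, Matrix.mul_apply, Fin.sum_univ_two]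
    · rw [Units.val_mul, Matrix.mul_apply, Fin.sum_univ_two]

theorem PhiFun_injective : Function.Injective PhiFun := by
  intro M N h
  have h1 : PhiFun M (gpt 1) = PhiFun N (gpt 1) := by rw [h]
  have h3 : PhiFun M (gpt 3) = PhiFun N (gpt 3) := by rw [h]
  rw [PhiFun_1, PhiFun_1] at h1
  rw [PhiFun_3, PhiFun_3] at h3
  obtain ⟨a1, a2⟩ := bidx_inj _ _ _ _ (col1_ne M) (col1_ne N) (gpt_bij.injective h1)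
  obtain ⟨a3, a4⟩ := bidx_inj _ _ _ _ (col2_ne M) (col2_ne N) (gpt_bij.injective h3)
  apply Units.ext
  ext i j
  fin_cases i <;> fin_cases j
  · exact a1
  · exact a3
  · exact a2
  · exact a4

theorem gpt_ne {i j : Fin 24} (h : i ≠ j) : gpt i ≠ gpt j := fun e => h (gpt_bij.injective e)

theorem PhiFun_surj (g : Equiv.Perm GolayPt) (hg : g ∈ C0) : ∃ M, PhiFun M = g := by
  have hg' := mem_C0.1 hg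
  have hg12 := (mem_M11.1 hg'.1).1
  -- the image of the point 1
  obtain ⟨i1, hi1⟩ := gpt_bij.surjective (g (gpt 1))
  have hd1 : (combo 1).testBit i1 = true := by
    rw [← gpt_mem_dod0, hi1]
    exact M12_preserves hg12 _ ((gpt_mem_dod0 1).2 (by decide +kernel))
  have hm1 : evalT w0 i1 ≠ i1 := by
    intro h
    have h2 : x0 (g (gpt 1)) = g (gpt 1) := by rw [← hi1, x0_apply, h]
    rw [hg'.2, x0_1] at h2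
    exact gpt_ne (by decide) (g.injective h2)
  obtain ⟨v1, v2, hv, hvi⟩ := bidx_surj i1 hd1 hm1
  obtain ⟨i3, hi3⟩ := gpt_bij.surjective (g (gpt 3))
  have hd3 : (combo 1).testBit i3 = true := by
    rw [← gpt_mem_dod0, hi3]
    exact M12_preserves hg12 _ ((gpt_mem_dod0 3).2 (by decide +kernel))
  have hm3 : evalT w0 i3 ≠ i3 := by
    intro h
    have h2 : x0 (g (gpt 3)) = g (gpt 3) := by rw [← hi3, x0_apply, h]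
    rw [hg'.2, x0_3] at h2
    exact gpt_ne (by decide) (g.injective h2)
  obtain ⟨u1, u2, hu, hui⟩ := bidx_surj i3 hd3 hm3
  have e1 : g (gpt 1) = gpt (bidx v1 v2) := by rw [hvi, hi1]
  have e3 : g (gpt 3) = gpt (bidx u1 u2) := by rw [hui, hi3]
  have n1 : (u1, u2) ≠ (v1, v2) := by
    intro h
    rw [Prod.mk.injEq] at h
    rw [h.1, h.2, ← e1] at e3
    exact gpt_ne (by decide) (g.injective e3)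
  have n2 : (u1, u2) ≠ (-v1, -v2) := by
    intro h
    rw [Prod.mk.injEq] at h
    rw [h.1, h.2, ← bidx_ok v1 v2 hv, ← x0_apply, ← e1, hg'.2, x0_1] at e3
    exact gpt_ne (by decide) (g.injective e3)
  have hdet : (!![v1, u1; v2, u2] : Matrix (Fin 2) (Fin 2) (ZMod 3)).det ≠ 0 := by
    rw [Matrix.det_fin_two_of]
    exact det_aux v1 v2 u1 u2 hv hu n1 n2
  refine ⟨Matrix.GeneralLinearGroup.mkOfDetNeZero _ hdet, ?_⟩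
  apply C0_ext (PhiFun_mem _) hg
  · rw [PhiFun_1, e1]
    rfl
  · rw [PhiFun_3, e3]
    rfl

theorem C0_iso : Nonempty (↥C0 ≃* GL (Fin 2) (ZMod 3)) := by
  let f : GL (Fin 2) (ZMod 3) →* ↥C0 :=
    MonoidHom.mk' (fun M => ⟨PhiFun M, PhiFun_mem M⟩) (fun M N => Subtype.ext (PhiFun_mul M N))
  have hb : Function.Bijective f := by
    constructor
    · intro M N h
      exact PhiFun_injective (congrArg Subtype.val h)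
    · rintro ⟨g, hg⟩
      obtain ⟨M, hM⟩ := PhiFun_surj g hg
      exact ⟨M, Subtype.ext hM⟩
  exact ⟨(MulEquiv.ofBijective f hb).symm⟩

end Cfsg.Agent.Lib.Helper1
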