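import Mathlib
import Cfsg.Prelude.Def_Sporadic_a
import Cfsg.Agent.Lib.Helper1.M24Orbit

set_option autoImplicit false

namespace Cfsg.Agent.Lib.Helper1

open Cfsg
open scoped Pointwise

theorem card_inter_support₂ (v w : GolayPt → ZMod 2) :
    (support₂ v ∩ support₂ w).card = popc (mask v &&& mask w) := by
  classical
  unfold popc
  symm
  apply Finset.card_bijective gpt gpt_bij
  intro i
  rw [Finset.mem_filter, Finset.mem_inter, mem_support₂_iff, mem_support₂_iff, Nat.testBit_and,
    mask_testBit, mask_testBit]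
  simp

/-- counting supports of codewords whose masks satisfy a decidable predicate -/
theorem ncard_supports_filter (R : ℕ → Prop) [DecidablePred R] :
    {b : Finset GolayPt | ∃ w ∈ golayCode, support₂ w = b ∧ R (mask w)}.ncard =
      (Finset.univ.filter (fun m : Fin 4096 => R (combo m.val))).card := by
  classical
  have hset : {b : Finset GolayPt | ∃ w ∈ golayCode, support₂ w = b ∧ R (mask w)} =
      (fun m : Fin 4096 => support₂ (codeEquiv m : GolayPt → ZMod 2)) ''
        {m : Fin 4096 | R (combo m.val)} := by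
    ext b
    constructor
    · rintro ⟨w, hw, rfl, hR⟩
      refine ⟨codeEquiv.symm ⟨w, hw⟩, ?_, ?_⟩
      · show R (combo (codeEquiv.symm ⟨w, hw⟩).val)
        rw [← mask_codeEquiv, Equiv.apply_symm_apply]
        exact hR
      · show support₂ ((codeEquiv (codeEquiv.symm ⟨w, hw⟩) : golayCode) : GolayPt → ZMod 2) = support₂ w
        rw [Equiv.apply_symm_apply]
    · rintro ⟨m, hm, rfl⟩
      refine ⟨(codeEquiv m : GolayPt → ZMod 2), (codeEquiv m).2, rfl, ?_⟩
      rw [mask_codeEquiv]
      exact hm
  have hinj : Function.Injective (fun m : Fin 4096 => support₂ (codeEquiv m : GolayPt → ZMod 2)) := by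
    intro m n h
    have := support₂_injective h
    exact codeEquiv.injective (Subtype.ext this)
  have hcoe : {m : Fin 4096 | R (combo m.val)} =
      ((Finset.univ.filter (fun m : Fin 4096 => R (combo m.val)) : Finset (Fin 4096)) :
        Set (Fin 4096)) := by
    ext m
    rw [Finset.coe_filter]
    exact ⟨fun h => ⟨Finset.mem_univ _, h⟩, fun h => h.2⟩
  rw [hset, Set.ncard_image_of_injective _ hinj, hcoe, Set.ncard_coe_finset]

theorem octads_meeting_dod0 (k : ℕ) :
    {o : Finset GolayPt | o ∈ octads ∧ (o ∩ dod0).card = k} =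
      {b : Finset GolayPt | ∃ w ∈ golayCode, support₂ w = b ∧
        (popc (mask w) = 8 ∧ popc (mask w &&& 340831) = k)} := by
  ext o
  constructor
  · rintro ⟨⟨⟨w, hw, rfl⟩, hc⟩, hk⟩
    refine ⟨w, hw, rfl, ?_, ?_⟩
    · rw [← card_support₂]; exact hc
    · unfold dod0 at hk
      rw [card_inter_support₂, mask_wordOf] at hk
      exact hk
  · rintro ⟨w, hw, rfl, h8, hk⟩
    refine ⟨⟨⟨w, hw, rfl⟩, ?_⟩, ?_⟩
    · show (support₂ w).card = 8
      rw [card_support₂]; exact h8
    · unfold dod0
      rw [card_inter_support₂, mask_wordOf]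
      exact hk

theorem cnt_dod0_6 : (Finset.univ.filter (fun m : Fin 4096 =>
    popc (combo m.val) = 8 ∧ popc (combo m.val &&& 340831) = 6)).card = 132 := by
  decide +kernel

theorem cnt_dod0_2 : (Finset.univ.filter (fun m : Fin 4096 =>
    popc (combo m.val) = 8 ∧ popc (combo m.val &&& 340831) = 2)).card = 132 := by
  decide +kernel

theorem cnt_dod0_4 : (Finset.univ.filter (fun m : Fin 4096 =>
    popc (combo m.val) = 8 ∧ popc (combo m.val &&& 340831) = 4)).card = 495 := by
  decide +kernel

/-- transfer of intersection counts along an element of `M24` -/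
theorem ncard_octads_meeting_smul {g : Equiv.Perm GolayPt} (hg : g ∈ M24) (d : Finset GolayPt)
    (k : ℕ) : {o : Finset GolayPt | o ∈ octads ∧ (o ∩ (g • d)).card = k}.ncard =
      {o : Finset GolayPt | o ∈ octads ∧ (o ∩ d).card = k}.ncard := by
  classical
  have himg : {o : Finset GolayPt | o ∈ octads ∧ (o ∩ (g • d)).card = k} =
      (fun o => g • o) '' {o : Finset GolayPt | o ∈ octads ∧ (o ∩ d).card = k} := by
    ext o
    constructor
    · rintro ⟨ho, hk⟩
      refine ⟨g⁻¹ • o, ⟨smul_mem_octads (inv_mem hg) ho, ?_⟩, smul_inv_smul g o⟩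
      have : g⁻¹ • o ∩ d = g⁻¹ • (o ∩ g • d) := by
        rw [Finset.smul_finset_inter, inv_smul_smul]
      rw [this, Finset.card_smul_finset]
      exact hk
    · rintro ⟨o', ⟨ho', hk⟩, rfl⟩
      refine ⟨smul_mem_octads hg ho', ?_⟩
      show (g • o' ∩ g • d).card = k
      rw [← Finset.smul_finset_inter, Finset.card_smul_finset]
      exact hk
  rw [himg, Set.ncard_image_of_injective _ (MulAction.injective g)]

theorem dodecad_octad_counts (d : Finset GolayPt) (hd : d ∈ dodecads) :
    {o : Finset GolayPt | o ∈ octads ∧ (o ∩ d).card = 6}.ncard = 132 ∧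
    {o : Finset GolayPt | o ∈ octads ∧ (o ∩ d).card = 2}.ncard = 132 ∧
    {o : Finset GolayPt | o ∈ octads ∧ (o ∩ d).card = 4}.ncard = 495 := by
  obtain ⟨g, hg, rfl⟩ := exists_smul_dod0 hd
  refine ⟨?_, ?_, ?_⟩
  · rw [ncard_octads_meeting_smul hg, octads_meeting_dod0]
    exact (ncard_supports_filter (fun v => popc v = 8 ∧ popc (v &&& 340831) = 6)).trans cnt_dod0_6
  · rw [ncard_octads_meeting_smul hg, octads_meeting_dod0]
    exact (ncard_supports_filter (fun v => popc v = 8 ∧ popc (v &&& 340831) = 2)).trans cnt_dod0_2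
  · rw [ncard_octads_meeting_smul hg, octads_meeting_dod0]
    exact (ncard_supports_filter (fun v => popc v = 8 ∧ popc (v &&& 340831) = 4)).trans cnt_dod0_4

end Cfsg.Agent.Lib.Helper1
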