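import Mathlib
import Cfsg.Prelude.Def_Sporadic_a
import Cfsg.Agent.Lib.Helper1.M24Count

set_option autoImplicit false

namespace Cfsg.Agent.Lib.Helper1

open Cfsg
open scoped Pointwise

theorem smul_mem_wow {σ : Equiv.Perm GolayPt} (hσ : σ ∈ M24) {n : ℕ} {o : Finset GolayPt}
    (ho : o ∈ wordsOfWeight (golayCode : Set (GolayPt → ZMod 2)) n) :
    σ • o ∈ wordsOfWeight (golayCode : Set (GolayPt → ZMod 2)) n := by
  obtain ⟨⟨w, hw, rfl⟩, hc⟩ := ho
  refine ⟨⟨permWord σ w, permWord_mem_of_mem_M24 hσ hw, support₂_permWord σ w⟩, ?_⟩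
  rw [Finset.card_smul_finset]
  exact hc

/-- transfer of counts along an element of `M24`, for any invariant family and any
`M24`-equivariant relation -/
theorem ncard_family_smul {g : Equiv.Perm GolayPt} (F : Set (Finset GolayPt))
    (hF : ∀ b ∈ F, g • b ∈ F) (hF' : ∀ b ∈ F, g⁻¹ • b ∈ F)
    (P : Finset GolayPt → Finset GolayPt → Prop)
    (hP : ∀ a b, P (g • a) (g • b) ↔ P a b) (d : Finset GolayPt) :
    {b : Finset GolayPt | b ∈ F ∧ P (g • d) b}.ncard = {b : Finset GolayPt | b ∈ F ∧ P d b}.ncard := by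
  classical
  have himg : {b : Finset GolayPt | b ∈ F ∧ P (g • d) b} =
      (fun o => g • o) '' {b : Finset GolayPt | b ∈ F ∧ P d b} := by
    ext o
    constructor
    · rintro ⟨ho, hk⟩
      refine ⟨g⁻¹ • o, ⟨hF' o ho, ?_⟩, smul_inv_smul g o⟩
      rw [← hP, smul_inv_smul]
      exact hk
    · rintro ⟨o', ⟨ho', hk⟩, rfl⟩
      exact ⟨hF o' ho', (hP _ _).2 hk⟩
  rw [himg, Set.ncard_image_of_injective _ (MulAction.injective g)]

theorem card_inter_smul (g : Equiv.Perm GolayPt) (a b : Finset GolayPt) :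
    (g • a ∩ g • b).card = (a ∩ b).card := by
  rw [← Finset.smul_finset_inter, Finset.card_smul_finset]

/-- counting members of weight `n` of the code whose supports satisfy a mask predicate -/
theorem ncard_wow_pred (n : ℕ) (P : Finset GolayPt → Prop) (R : ℕ → Prop) [DecidablePred R]
    (h : ∀ w : GolayPt → ZMod 2, P (support₂ w) ↔ R (mask w)) :
    {b : Finset GolayPt | b ∈ wordsOfWeight (golayCode : Set (GolayPt → ZMod 2)) n ∧ P b}.ncard =
      (Finset.univ.filter (fun m : Fin 4096 => popc (combo m.val) = n ∧ R (combo m.val))).card := by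
  rw [← ncard_supports_filter (fun v => popc v = n ∧ R v)]
  congr 1
  ext b
  constructor
  · rintro ⟨⟨⟨w, hw, rfl⟩, hc⟩, hP⟩
    refine ⟨w, hw, rfl, ?_, (h w).1 hP⟩
    rw [← card_support₂]; exact hc
  · rintro ⟨w, hw, rfl, hn, hR⟩
    refine ⟨⟨⟨w, hw, rfl⟩, ?_⟩, (h w).2 hR⟩
    show (support₂ w).card = n
    rw [card_support₂]; exact hn

/-- every member of weight `n` is the support of some `wordOf m` with `m < 4096` -/
theorem exists_idx_of_mem_wow {n : ℕ} {b : Finset GolayPt}
    (hb : b ∈ wordsOfWeight (golayCode : Set (GolayPt → ZMod 2)) n) :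
    ∃ m < 4096, b = support₂ (wordOf m) ∧ popc (combo m) = n := by
  obtain ⟨⟨w, hw, rfl⟩, hc⟩ := hb
  obtain ⟨m, hm, hmask⟩ := exists_combo_of_mem hw
  refine ⟨m, hm, ?_, ?_⟩
  · congr 1
    apply mask_injective
    rw [mask_wordOf]; exact hmask
  · rw [← hmask, ← card_support₂]; exact hc

theorem card_inter_wordOf (s m : ℕ) :
    (support₂ (wordOf s) ∩ support₂ (wordOf m)).card = popc (combo s &&& combo m) := by
  rw [card_inter_support₂, mask_wordOf, mask_wordOf]

end Cfsg.Agent.Lib.Helper1
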