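import Mathlib
import Cfsg.Prelude.Def_Sporadic_a
import Cfsg.Agent.Lib.Helper1.M24Pairs

set_option autoImplicit false

namespace Cfsg.Agent.Lib.Helper1

open Cfsg
open scoped Pointwise

/-- the support of the codeword with index `m` -/
def supp (m : ℕ) : Finset GolayPt := support₂ (wordOf m)

theorem smul_supp_of_table {g : Equiv.Perm GolayPt} {S : Fin 24 → Fin 24} (hS : HasTable g⁻¹ S)
    {s m : ℕ} (h : pullMask S (combo s) = combo m) : g • supp s = supp m := by
  unfold supp
  rw [← support₂_permWord]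
  congr 1
  apply mask_injective
  rw [mask_permWord hS, mask_wordOf, mask_wordOf, h]

theorem smul_supp_of_table' {g : Equiv.Perm GolayPt} {S : Fin 24 → Fin 24} (hS : HasTable g⁻¹ S)
    {s m : ℕ} (h : g • supp s = supp m) : pullMask S (combo s) = combo m := by
  unfold supp at h
  rw [← support₂_permWord] at h
  have := support₂_injective h
  rw [← mask_wordOf m, ← this, mask_permWord hS, mask_wordOf]

/-- `K`-reachability between codeword supports -/
def ReachK (K : Subgroup (Equiv.Perm GolayPt)) (s m : ℕ) : Prop := ∃ g ∈ K, g • supp s = supp m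

theorem ReachK.refl (K : Subgroup (Equiv.Perm GolayPt)) (s : ℕ) : ReachK K s s :=
  ⟨1, one_mem _, one_smul _ _⟩

/-- tables of (inverses of) elements of `K` -/
def GoodTabs (K : Subgroup (Equiv.Perm GolayPt)) (tabs : ℕ → Fin 24 → Fin 24) : Prop :=
  ∀ l, ∃ g ∈ K, HasTable g⁻¹ (tabs l)

theorem ReachK.step {K : Subgroup (Equiv.Perm GolayPt)} {tabs : ℕ → Fin 24 → Fin 24}
    (hT : GoodTabs K tabs) {s pm m : ℕ} (l : ℕ) (h : ReachK K s pm)
    (hm : pullMask (tabs l) (combo pm) = combo m) : ReachK K s m := by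
  obtain ⟨g, hg, hgw⟩ := h
  obtain ⟨t, ht, htT⟩ := hT l
  refine ⟨t * g, mul_mem ht hg, ?_⟩
  rw [mul_smul, hgw]
  exact smul_supp_of_table htT hm

/-- one step of checking an orbit certificate -/
def stepCertT (tabs : ℕ → Fin 24 → Fin 24) (R : Option ℕ) (t : ℕ × ℕ × ℕ) : Option ℕ :=
  match R with
  | none => none
  | some R =>
    if R.testBit t.2.1 = true ∧ pullMask (tabs t.2.2) (combo t.2.1) = combo t.1 then
      some (R ||| (1 <<< t.1)) else none

theorem foldl_stepCertT_none (tabs : ℕ → Fin 24 → Fin 24) (L : List (ℕ × ℕ × ℕ)) :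
    L.foldl (stepCertT tabs) none = none := by
  induction L with
  | nil => rfl
  | cons t L ih => exact ih

theorem certT_sound {K : Subgroup (Equiv.Perm GolayPt)} {tabs : ℕ → Fin 24 → Fin 24}
    (hT : GoodTabs K tabs) (s : ℕ) (L : List (ℕ × ℕ × ℕ)) :
    ∀ (R R' : ℕ), (∀ m, R.testBit m = true → ReachK K s m) →
      L.foldl (stepCertT tabs) (some R) = some R' → ∀ m, R'.testBit m = true → ReachK K s m := by
  induction L with
  | nil =>
    intro R R' hR h m hm
    rw [List.foldl_nil, Option.some.injEq] at h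
    rw [← h] at hm
    exact hR m hm
  | cons t L ih =>
    intro R R' hR h
    rw [List.foldl_cons] at h
    by_cases hc : R.testBit t.2.1 = true ∧ pullMask (tabs t.2.2) (combo t.2.1) = combo t.1
    · have hstep : stepCertT tabs (some R) t = some (R ||| (1 <<< t.1)) := by
        show (if _ then _ else _) = _
        rw [if_pos hc]
      rw [hstep] at h
      refine ih _ R' ?_ h
      intro m hm
      rw [Nat.testBit_or, Bool.or_eq_true] at hm
      rcases hm with hm | hm
      · exact hR m hm
      · rw [Nat.one_shiftLeft, Nat.testBit_two_pow, decide_eq_true_iff] at hm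
        rw [← hm]
        exact (hR _ hc.1).step hT t.2.2 hc.2
    · have hstep : stepCertT tabs (some R) t = none := by
        show (if _ then _ else _) = _
        rw [if_neg hc]
      rw [hstep, foldl_stepCertT_none] at h
      exact absurd h (by simp)

theorem certT_sound' {K : Subgroup (Equiv.Perm GolayPt)} {tabs : ℕ → Fin 24 → Fin 24}
    (hT : GoodTabs K tabs) (s : ℕ) (L : List (ℕ × ℕ × ℕ)) (R' : ℕ)
    (h : L.foldl (stepCertT tabs) (some (1 <<< s)) = some R') :
    ∀ m, R'.testBit m = true → ReachK K s m := by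
  apply certT_sound hT s L (1 <<< s) R' _ h
  intro m hm
  rw [Nat.one_shiftLeft, Nat.testBit_two_pow, decide_eq_true_iff] at hm
  rw [← hm]
  exact ReachK.refl K s

/-- two supports reachable from the same root are conjugate under `K` -/
theorem ReachK.conj {K : Subgroup (Equiv.Perm GolayPt)} {s m m' : ℕ} (h : ReachK K s m)
    (h' : ReachK K s m') : ∃ g ∈ K, g • supp m = supp m' := by
  obtain ⟨g, hg, hgs⟩ := h
  obtain ⟨g', hg', hgs'⟩ := h'
  refine ⟨g' * g⁻¹, mul_mem hg' (inv_mem hg), ?_⟩
  rw [mul_smul, ← hgs, inv_smul_smul, hgs']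

/-- tables from a list -/
def tabOf (tl : List (Fin 24 → Fin 24)) (l : ℕ) : Fin 24 → Fin 24 := tl.getD l id

/-- criterion for `GoodTabs`: the tables are those of words, and the words lie in `K` -/
theorem goodTabs_of_words (K : Subgroup (Equiv.Perm GolayPt)) (ws : List (List ℕ))
    (tl : List (Fin 24 → Fin 24))
    (htab : ∀ l < tl.length, ∀ i : Fin 24, tl.getD l id i = evalT (ws.getD l []) i)
    (hK : ∀ l < tl.length, evalW (ws.getD l []) ∈ K) : GoodTabs K (tabOf tl) := by
  intro l
  by_cases hl : l < tl.length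
  · refine ⟨(evalW (ws.getD l []))⁻¹, inv_mem (hK l hl), ?_⟩
    rw [inv_inv]
    intro i
    rw [evalW_table (ws.getD l []) i]
    unfold tabOf
    rw [htab l hl i]
  · refine ⟨1, one_mem _, ?_⟩
    rw [inv_one]
    unfold tabOf
    rw [List.getD_eq_default _ _ (not_lt.1 hl)]
    exact HasTable.one

/-- the stabilizer in `M24` of a codeword support -/
def stabK (s : ℕ) : Subgroup (Equiv.Perm GolayPt) :=
  M24 ⊓ MulAction.stabilizer (Equiv.Perm GolayPt) (supp s)

theorem evalW_mem_stabK {s : ℕ} {w : List ℕ} (T : Fin 24 → Fin 24)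
    (hT : ∀ i : Fin 24, T i = evalT w i) (h : pullMask T (combo s) = combo s) :
    evalW w ∈ stabK s := by
  refine Subgroup.mem_inf.2 ⟨H0_le_M24 (evalW_mem w), ?_⟩
  rw [MulAction.mem_stabilizer_iff]
  have h1 : HasTable ((evalW w)⁻¹)⁻¹ T := by
    rw [inv_inv]
    intro i
    rw [evalW_table w i, hT i]
  have h2 : (evalW w)⁻¹ • supp s = supp s := smul_supp_of_table h1 h
  calc evalW w • supp s = evalW w • ((evalW w)⁻¹ • supp s) := by rw [h2]
    _ = supp s := smul_inv_smul _ _

end Cfsg.Agent.Lib.Helper1
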