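import Mathlib
import Cfsg.Prelude.Def_Sporadic_a
import Cfsg.Agent.Lib.Helper1.M24Reach

set_option autoImplicit false

namespace Cfsg.Agent.Lib.Helper1

open Cfsg
open scoped Pointwise

/-- from orbit certificates (one per class) to conjugacy of members of the same class -/
theorem conj_of_certs {K : Subgroup (Equiv.Perm GolayPt)} (n : ℕ) (cls : ℕ → ℕ)
    (root fin : ℕ → ℕ)
    (hreach : ∀ k m, (fin k).testBit m = true → ReachK K (root k) m)
    (hcover : ∀ m < 4096, popc (combo m) = n → (fin (cls m)).testBit m = true)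
    {m m' : ℕ} (hm : m < 4096) (hm' : m' < 4096) (h8 : popc (combo m) = n)
    (h8' : popc (combo m') = n) (h : cls m = cls m') :
    ∃ g ∈ K, g • supp m = supp m' := by
  have h1 := hreach _ m (hcover m hm h8)
  have h2 := hreach _ m' (hcover m' hm' h8')
  rw [← h] at h2
  exact h1.conj h2

/-- general pair-conjugacy statement: if the stabilizer of the base support `supp s` is
transitive on the members of weight `n'` in each class of an invariant `inv`, then the same holds
for every member of the orbit of the base -/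
theorem pair_conj_general (n' s : ℕ) (F : Set (Finset GolayPt))
    (htrans : ∀ o ∈ F, ∃ g ∈ M24, g • supp s = o)
    (inv : Finset GolayPt → Finset GolayPt → ℕ)
    (hinv : ∀ (g : Equiv.Perm GolayPt) (a b : Finset GolayPt), inv (g • a) (g • b) = inv a b)
    (cls : ℕ → ℕ) (hcls : ∀ m, inv (supp s) (supp m) = cls m)
    (hconj : ∀ m m' : ℕ, m < 4096 → m' < 4096 → popc (combo m) = n' → popc (combo m') = n' →
      cls m = cls m' → ∃ g ∈ stabK s, g • supp m = supp m')
    (o o' o'' : Finset GolayPt) (ho : o ∈ F)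
    (ho' : o' ∈ wordsOfWeight (golayCode : Set (GolayPt → ZMod 2)) n')
    (ho'' : o'' ∈ wordsOfWeight (golayCode : Set (GolayPt → ZMod 2)) n')
    (h : inv o o' = inv o o'') :
    ∃ g : Equiv.Perm GolayPt, g ∈ M24 ∧ g • o = o ∧ g • o' = o'' := by
  obtain ⟨g0, hg0, rfl⟩ := htrans o ho
  have hp' := smul_mem_wow (inv_mem hg0) ho'
  have hp'' := smul_mem_wow (inv_mem hg0) ho''
  obtain ⟨m, hm, hb, h8⟩ := exists_idx_of_mem_wow hp'
  obtain ⟨m', hm', hb', h8'⟩ := exists_idx_of_mem_wow hp''
  have e1 : o' = g0 • supp m := by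
    show o' = g0 • support₂ (wordOf m)
    rw [← hb, smul_inv_smul]
  have e2 : o'' = g0 • supp m' := by
    show o'' = g0 • support₂ (wordOf m')
    rw [← hb', smul_inv_smul]
  rw [e1, e2, hinv, hinv, hcls, hcls] at h
  obtain ⟨k, hk, hkm⟩ := hconj m m' hm hm' h8 h8' h
  have hk1 : k ∈ M24 := (Subgroup.mem_inf.1 hk).1
  have hk2 : k • supp s = supp s := MulAction.mem_stabilizer_iff.1 (Subgroup.mem_inf.1 hk).2
  refine ⟨g0 * k * g0⁻¹, mul_mem (mul_mem hg0 hk1) (inv_mem hg0), ?_, ?_⟩
  · rw [mul_smul, mul_smul, inv_smul_smul, hk2]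
  · rw [e1, e2, mul_smul, mul_smul, inv_smul_smul, hkm]

theorem card_inter_supp' (s m : ℕ) : (supp s ∩ supp m).card = popc (combo s &&& combo m) := by
  unfold supp
  exact card_inter_wordOf s m

end Cfsg.Agent.Lib.Helper1
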