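import Mathlib
import Cfsg.Prelude.Def_Sporadic_a
import Cfsg.Agent.Lib.Helper1.M24Reach2

set_option autoImplicit false

namespace Cfsg.Agent.Lib.Helper1

open Cfsg
open scoped Pointwise

/-- elements of `M24` fixing `supp s` and the points with indices in `L` -/
def stabKP (s : ℕ) (L : List (Fin 24)) : Subgroup (Equiv.Perm GolayPt) := fixL (stabK s) L

theorem mem_stabKP {s : ℕ} {L : List (Fin 24)} {g : Equiv.Perm GolayPt} :
    g ∈ stabKP s L ↔ g ∈ M24 ∧ g • supp s = supp s ∧ ∀ i ∈ L, g (gpt i) = gpt i := by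
  unfold stabKP
  rw [mem_fixL]
  unfold stabK
  rw [Subgroup.mem_inf, and_assoc]
  constructor
  · rintro ⟨h1, h2, h3⟩
    exact ⟨h1, MulAction.mem_stabilizer_iff.1 h2, h3⟩
  · rintro ⟨h1, h2, h3⟩
    exact ⟨h1, MulAction.mem_stabilizer_iff.2 h2, h3⟩

theorem evalW_mem_stabKP {s : ℕ} {L : List (Fin 24)} {w : List ℕ} (T : Fin 24 → Fin 24)
    (hT : ∀ i : Fin 24, T i = evalT w i) (h : pullMask T (combo s) = combo s)
    (hL : ∀ i ∈ L, T i = i) : evalW w ∈ stabKP s L := by
  have h1 := evalW_mem_stabK T hT h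
  unfold stabKP
  rw [mem_fixL]
  refine ⟨h1, fun i hi => ?_⟩
  rw [evalW_table w i, ← hT i, hL i hi]

theorem goodTabs_stabKP (s : ℕ) (L : List (Fin 24)) (ws : List (List ℕ))
    (tl : List (Fin 24 → Fin 24))
    (htab : ∀ l < tl.length, ∀ i : Fin 24, tl.getD l id i = evalT (ws.getD l []) i)
    (hfix : ∀ l < tl.length, pullMask (tl.getD l id) (combo s) = combo s)
    (hL : ∀ l < tl.length, ∀ i ∈ L, tl.getD l id i = i) : GoodTabs (stabKP s L) (tabOf tl) :=
  goodTabs_of_words _ ws tl htab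
    (fun l hl => evalW_mem_stabKP (tl.getD l id) (htab l hl) (hfix l hl) (hL l hl))

/-- the tables in the list are tables of elements of `stabKP s L` -/
theorem tabs_mem_stabKP (s : ℕ) (L : List (Fin 24)) (ws : List (List ℕ))
    (tl : List (Fin 24 → Fin 24))
    (htab : ∀ l < tl.length, ∀ i : Fin 24, tl.getD l id i = evalT (ws.getD l []) i)
    (hfix : ∀ l < tl.length, pullMask (tl.getD l id) (combo s) = combo s)
    (hL : ∀ l < tl.length, ∀ i ∈ L, tl.getD l id i = i) :
    ∀ T ∈ tl, ∃ g ∈ stabKP s L, HasTable g T := by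
  intro T hT
  obtain ⟨l, hl, rfl⟩ := List.mem_iff_getElem.1 hT
  have hget : tl.getD l id = tl[l] := by
    rw [List.getD_eq_getElem _ _ hl]
  refine ⟨evalW (ws.getD l []),
    evalW_mem_stabKP (tl.getD l id) (htab l hl) (hfix l hl) (hL l hl), ?_⟩
  intro i
  rw [evalW_table _ i, ← htab l hl i, hget]

/-- point orbits of `stabKP s L` from breadth-first search -/
theorem point_reach (s : ℕ) (L : List (Fin 24)) (ws : List (List ℕ))
    (tl : List (Fin 24 → Fin 24))
    (htab : ∀ l < tl.length, ∀ i : Fin 24, tl.getD l id i = evalT (ws.getD l []) i)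
    (hfix : ∀ l < tl.length, pullMask (tl.getD l id) (combo s) = combo s)
    (hL : ∀ l < tl.length, ∀ i ∈ L, tl.getD l id i = i) (b : Fin 24) (n : ℕ) :
    ∀ i ∈ bfs tl n [b], ∃ g ∈ stabKP s L, g (gpt b) = gpt i := by
  apply bfs_sound _ tl (tabs_mem_stabKP s L ws tl htab hfix hL)
  intro i hi
  rw [List.mem_singleton] at hi
  subst hi
  exact ⟨1, one_mem _, rfl⟩

/-- from orbit certificates (one per class) to conjugacy of members of the same class,
for a family given by a predicate on indices -/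
theorem conj_of_certs' {K : Subgroup (Equiv.Perm GolayPt)} (fam : ℕ → Prop) (cls : ℕ → ℕ)
    (root fin : ℕ → ℕ)
    (hreach : ∀ k m, (fin k).testBit m = true → ReachK K (root k) m)
    (hcover : ∀ m < 4096, fam m → (fin (cls m)).testBit m = true)
    {m m' : ℕ} (hm : m < 4096) (hm' : m' < 4096) (hf : fam m) (hf' : fam m')
    (h : cls m = cls m') : ∃ g ∈ K, g • supp m = supp m' := by
  have h1 := hreach _ m (hcover m hm hf)
  have h2 := hreach _ m' (hcover m' hm' hf')
  rw [← h] at h2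
  exact h1.conj h2

/-- transfer of counts along a permutation -/
theorem ncard_family_smul' (g : Equiv.Perm GolayPt) (F : Set (Finset GolayPt))
    (hF : ∀ b ∈ F, g • b ∈ F) (hF' : ∀ b ∈ F, g⁻¹ • b ∈ F)
    (Q Q' : Finset GolayPt → Prop) (h : ∀ b, Q' (g • b) ↔ Q b) :
    {b : Finset GolayPt | b ∈ F ∧ Q' b}.ncard = {b : Finset GolayPt | b ∈ F ∧ Q b}.ncard := by
  classical
  have himg : {b : Finset GolayPt | b ∈ F ∧ Q' b} =
      (fun o => g • o) '' {b : Finset GolayPt | b ∈ F ∧ Q b} := by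
    ext o
    constructor
    · rintro ⟨ho, hk⟩
      refine ⟨g⁻¹ • o, ⟨hF' o ho, ?_⟩, smul_inv_smul g o⟩
      rw [← h, smul_inv_smul]
      exact hk
    · rintro ⟨o', ⟨ho', hk⟩, rfl⟩
      exact ⟨hF o' ho', (h _).2 hk⟩
  rw [himg, Set.ncard_image_of_injective _ (MulAction.injective g)]

theorem gpt_mem_supp (m : ℕ) (i : Fin 24) : gpt i ∈ supp m ↔ (combo m).testBit i = true :=
  gpt_mem_support₂_wordOf m i

theorem smul_gpt_mem_smul_supp (g : Equiv.Perm GolayPt) (m : ℕ) (i : Fin 24) :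
    g (gpt i) ∈ g • supp m ↔ (combo m).testBit i = true := by
  rw [← gpt_mem_supp]
  exact Finset.smul_mem_smul_finset_iff g

/-- general conjugacy statement for a configuration (a codeword support and some points) -/
theorem conf_conj (n' s : ℕ) (L : List (Fin 24)) {g0 : Equiv.Perm GolayPt} (hg0 : g0 ∈ M24)
    (fam : ℕ → Prop) (Fam : Finset GolayPt → Prop)
    (hFam : ∀ m, Fam (g0 • supp m) → fam m)
    (cls : ℕ → ℕ) (hcls : ∀ m, (supp s ∩ supp m).card = cls m)
    (hconj : ∀ m m' : ℕ, m < 4096 → m' < 4096 → popc (combo m) = n' → popc (combo m') = n' →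
      fam m → fam m' → cls m = cls m' → ∃ g ∈ stabKP s L, g • supp m = supp m')
    (o' o'' : Finset GolayPt)
    (ho' : o' ∈ wordsOfWeight (golayCode : Set (GolayPt → ZMod 2)) n')
    (ho'' : o'' ∈ wordsOfWeight (golayCode : Set (GolayPt → ZMod 2)) n')
    (hF' : Fam o') (hF'' : Fam o'')
    (h : (g0 • supp s ∩ o').card = (g0 • supp s ∩ o'').card) :
    ∃ g : Equiv.Perm GolayPt, g ∈ M24 ∧ (∀ i ∈ L, g (g0 (gpt i)) = g0 (gpt i)) ∧
      g • (g0 • supp s) = g0 • supp s ∧ g • o' = o'' := by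
  have hp' := smul_mem_wow (inv_mem hg0) ho'
  have hp'' := smul_mem_wow (inv_mem hg0) ho''
  obtain ⟨m, hm, hb, h8⟩ := exists_idx_of_mem_wow hp'
  obtain ⟨m', hm', hb', h8'⟩ := exists_idx_of_mem_wow hp''
  have e1 : o' = g0 • supp m := by
    show o' = g0 • support₂ (wordOf m)
    rw [← hb, smul_inv_smul]
  have e2 : o'' = g0 • supp m' := by
    show o'' = g0 • support₂ (wordOf m')
    rw [← hb', smul_inv_smul]
  rw [e1, e2, card_inter_smul, card_inter_smul, hcls, hcls] at h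
  rw [e1] at hF'
  rw [e2] at hF''
  obtain ⟨k, hk, hkm⟩ := hconj m m' hm hm' h8 h8' (hFam m hF') (hFam m' hF'') h
  rw [mem_stabKP] at hk
  obtain ⟨hk1, hk2, hk3⟩ := hk
  refine ⟨g0 * k * g0⁻¹, mul_mem (mul_mem hg0 hk1) (inv_mem hg0), ?_, ?_, ?_⟩
  · intro i hi
    show (g0 * k * g0⁻¹) (g0 (gpt i)) = g0 (gpt i)
    rw [Equiv.Perm.mul_apply, Equiv.Perm.mul_apply, Equiv.Perm.inv_def, Equiv.symm_apply_apply, hk3 i hi]
  · rw [mul_smul, mul_smul, inv_smul_smul, hk2]
  · rw [e1, e2, mul_smul, mul_smul, inv_smul_smul, hkm]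

end Cfsg.Agent.Lib.Helper1
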