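import Mathlib
import Cfsg.Agent.Lib.Helper1.M24Conf

set_option autoImplicit false

namespace Cfsg.Agent.Lib.Helper1

open Cfsg
open scoped Pointwise

/-- the set of points whose indices are the bits of `m` -/
def mset (m : ℕ) : Finset GolayPt := Aset (fun i => m.testBit i)

theorem gpt_mem_mset (m : ℕ) (i : Fin 24) : gpt i ∈ mset m ↔ m.testBit i = true := by
  unfold mset
  rw [mem_Aset]
  constructor
  · rintro ⟨j, hj, hji⟩
    rw [← gpt_bij.injective hji]
    exact hj
  · intro h
    exact ⟨i, h, rfl⟩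

theorem card_mset (m : ℕ) : (mset m).card = popc m := by
  unfold mset popc
  rw [card_Aset]

theorem mset_ext {a b : Finset GolayPt} (h : ∀ i : Fin 24, gpt i ∈ a ↔ gpt i ∈ b) : a = b := by
  ext q
  obtain ⟨i, rfl⟩ := gpt_bij.surjective q
  exact h i

theorem supp_eq_mset (k : ℕ) : supp k = mset (combo k) := by
  apply mset_ext
  intro i
  rw [gpt_mem_supp, gpt_mem_mset]

theorem mset_xor (a b : ℕ) : mset (a ^^^ b) = symmDiff (mset a) (mset b) := by
  apply mset_ext
  intro i
  rw [Finset.mem_symmDiff, gpt_mem_mset, gpt_mem_mset, gpt_mem_mset, Nat.testBit_xor]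
  cases a.testBit i <;> cases b.testBit i <;> simp

theorem mset_and (a b : ℕ) : mset (a &&& b) = mset a ∩ mset b := by
  apply mset_ext
  intro i
  rw [Finset.mem_inter, gpt_mem_mset, gpt_mem_mset, gpt_mem_mset, Nat.testBit_and]
  cases a.testBit i <;> cases b.testBit i <;> simp

theorem mset_or (a b : ℕ) : mset (a ||| b) = mset a ∪ mset b := by
  apply mset_ext
  intro i
  rw [Finset.mem_union, gpt_mem_mset, gpt_mem_mset, gpt_mem_mset, Nat.testBit_or]
  cases a.testBit i <;> cases b.testBit i <;> simp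

theorem mset_injOn {a b : ℕ} (ha : a < 2 ^ 24) (hb : b < 2 ^ 24) (h : mset a = mset b) : a = b := by
  apply Nat.eq_of_testBit_eq
  intro j
  by_cases hj : j < 24
  · have h1 := gpt_mem_mset a ⟨j, hj⟩
    have h2 := gpt_mem_mset b ⟨j, hj⟩
    rw [h] at h1
    exact Bool.eq_iff_iff.2 (h1.symm.trans h2)
  · have h1 : a < 2 ^ j := lt_of_lt_of_le ha (Nat.pow_le_pow_right (by norm_num) (by omega))
    have h2 : b < 2 ^ j := lt_of_lt_of_le hb (Nat.pow_le_pow_right (by norm_num) (by omega))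
    rw [Nat.testBit_lt_two_pow h1, Nat.testBit_lt_two_pow h2]

theorem smul_mset {g : Equiv.Perm GolayPt} {T : Fin 24 → Fin 24} (hT : HasTable g⁻¹ T) (m : ℕ) :
    g • mset m = mset (pullMask T m) := by
  apply mset_ext
  intro i
  rw [gpt_mem_mset, Finset.mem_smul_finset]
  unfold pullMask
  rw [Nat.testBit_ofBits_lt _ _ i.2]
  constructor
  · rintro ⟨q, hq, hqi⟩
    have hq' : q = g⁻¹ (gpt i) := by
      rw [← hqi]
      show q = g⁻¹ (g q)
      rw [Equiv.Perm.inv_def, Equiv.symm_apply_apply]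
    rw [hq', hT i, gpt_mem_mset] at hq
    exact hq
  · intro h
    refine ⟨g⁻¹ (gpt i), ?_, ?_⟩
    · rw [hT i, gpt_mem_mset]
      exact h
    · show g (g⁻¹ (gpt i)) = gpt i
      rw [Equiv.Perm.inv_def, Equiv.apply_symm_apply]

theorem pullMask_lt (T : Fin 24 → Fin 24) (m : ℕ) : pullMask T m < 2 ^ 24 :=
  Nat.ofBits_lt_two_pow _

section Generic
variable {X : Type*} [MulAction (Equiv.Perm GolayPt) X]

/-- reachability of coded objects under a subgroup -/
def ReachX (obj : ℕ → X) (K : Subgroup (Equiv.Perm GolayPt)) (s m : ℕ) : Prop :=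
  ∃ g ∈ K, g • obj s = obj m

theorem ReachX.refl (obj : ℕ → X) (K : Subgroup (Equiv.Perm GolayPt)) (s : ℕ) :
    ReachX obj K s s := ⟨1, one_mem _, one_smul _ _⟩

theorem ReachX.conj {obj : ℕ → X} {K : Subgroup (Equiv.Perm GolayPt)} {s m m' : ℕ}
    (h : ReachX obj K s m) (h' : ReachX obj K s m') : ∃ g ∈ K, g • obj m = obj m' := by
  obtain ⟨g, hg, hgs⟩ := h
  obtain ⟨g', hg', hgs'⟩ := h'
  refine ⟨g' * g⁻¹, mul_mem hg' (inv_mem hg), ?_⟩
  rw [mul_smul, ← hgs, inv_smul_smul, hgs']

/-- soundness of a step checker (for elements of `M24`) -/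
def SoundChk (obj : ℕ → X) (chk : (Fin 24 → Fin 24) → ℕ → ℕ → ℕ → Bool) : Prop :=
  ∀ g ∈ M24, ∀ T : Fin 24 → Fin 24, HasTable g⁻¹ T → ∀ pm m w : ℕ, chk T pm m w = true →
    g • obj pm = obj m

/-- the stabilizer in `M24` of a coded object -/
def stabX (obj : ℕ → X) (s : ℕ) : Subgroup (Equiv.Perm GolayPt) :=
  M24 ⊓ MulAction.stabilizer (Equiv.Perm GolayPt) (obj s)

theorem mem_stabX {obj : ℕ → X} {s : ℕ} {g : Equiv.Perm GolayPt} :
    g ∈ stabX obj s ↔ g ∈ M24 ∧ g • obj s = obj s := by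
  unfold stabX
  constructor
  · intro h
    exact ⟨(Subgroup.mem_inf.1 h).1, MulAction.mem_stabilizer_iff.1 (Subgroup.mem_inf.1 h).2⟩
  · rintro ⟨h1, h2⟩
    exact Subgroup.mem_inf.2 ⟨h1, MulAction.mem_stabilizer_iff.2 h2⟩

/-- one step of checking a list certificate; entries are (target, position of source, generator,
witness) -/
def stepX (chk : (Fin 24 → Fin 24) → ℕ → ℕ → ℕ → Bool) (tabs : ℕ → Fin 24 → Fin 24)
    (acc : Option (List ℕ)) (e : ℕ × ℕ × ℕ × ℕ) : Option (List ℕ) :=
  match acc with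
  | none => none
  | some L =>
    if e.2.1 < L.length ∧ chk (tabs e.2.2.1) (L.getD e.2.1 0) e.1 e.2.2.2 = true then
      some (e.1 :: L) else none

theorem foldl_stepX_none (chk : (Fin 24 → Fin 24) → ℕ → ℕ → ℕ → Bool)
    (tabs : ℕ → Fin 24 → Fin 24) (cert : List (ℕ × ℕ × ℕ × ℕ)) :
    cert.foldl (stepX chk tabs) none = none := by
  induction cert with
  | nil => rfl
  | cons t L ih => exact ih

theorem certX_sound {obj : ℕ → X} {chk : (Fin 24 → Fin 24) → ℕ → ℕ → ℕ → Bool}
    (hchk : SoundChk obj chk) {K : Subgroup (Equiv.Perm GolayPt)} (hK : K ≤ M24)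
    {tabs : ℕ → Fin 24 → Fin 24} (hT : GoodTabs K tabs) (s : ℕ)
    (cert : List (ℕ × ℕ × ℕ × ℕ)) :
    ∀ (L L' : List ℕ), (∀ c ∈ L, ReachX obj K s c) →
      cert.foldl (stepX chk tabs) (some L) = some L' → ∀ c ∈ L', ReachX obj K s c := by
  induction cert with
  | nil =>
    intro L L' hL h c hc
    rw [List.foldl_nil, Option.some.injEq] at h
    rw [← h] at hc
    exact hL c hc
  | cons e cert ih =>
    intro L L' hL h
    rw [List.foldl_cons] at h
    by_cases hcond : e.2.1 < L.length ∧ chk (tabs e.2.2.1) (L.getD e.2.1 0) e.1 e.2.2.2 = true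
    · have hstep : stepX chk tabs (some L) e = some (e.1 :: L) := by
        show (if _ then _ else _) = _
        rw [if_pos hcond]
      rw [hstep] at h
      refine ih _ L' ?_ h
      intro c hc
      rcases List.mem_cons.1 hc with rfl | hc
      · have hsrc : L.getD e.2.1 0 ∈ L := by
          rw [List.getD_eq_getElem _ _ hcond.1]
          exact List.getElem_mem _
        obtain ⟨g, hg, hgs⟩ := hL _ hsrc
        obtain ⟨t, ht, htT⟩ := hT e.2.2.1
        refine ⟨t * g, mul_mem ht hg, ?_⟩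
        rw [mul_smul, hgs]
        exact hchk t (hK ht) _ htT _ _ _ hcond.2
      · exact hL c hc
    · have hstep : stepX chk tabs (some L) e = none := by
        show (if _ then _ else _) = _
        rw [if_neg hcond]
      rw [hstep, foldl_stepX_none] at h
      exact absurd h (by simp)

theorem certX_sound' {obj : ℕ → X} {chk : (Fin 24 → Fin 24) → ℕ → ℕ → ℕ → Bool}
    (hchk : SoundChk obj chk) {K : Subgroup (Equiv.Perm GolayPt)} (hK : K ≤ M24)
    {tabs : ℕ → Fin 24 → Fin 24} (hT : GoodTabs K tabs) (s : ℕ)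
    (cert : List (ℕ × ℕ × ℕ × ℕ)) (L' : List ℕ)
    (h : cert.foldl (stepX chk tabs) (some [s]) = some L') :
    ∀ c ∈ L', ReachX obj K s c := by
  apply certX_sound hchk hK hT s cert [s] L' _ h
  intro c hc
  rw [List.mem_singleton] at hc
  rw [hc]
  exact ReachX.refl obj K s

/-- criterion for `GoodTabs (stabX obj s)`: the tables are those of words whose inverses pass the
step check from the root to itself -/
theorem goodTabs_stabX {obj : ℕ → X} {chk : (Fin 24 → Fin 24) → ℕ → ℕ → ℕ → Bool}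
    (hchk : SoundChk obj chk) (s : ℕ) (ws : List (List ℕ)) (tl : List (Fin 24 → Fin 24))
    (wl : List ℕ)
    (htab : ∀ l < tl.length, ∀ i : Fin 24, tl.getD l id i = evalT (ws.getD l []) i)
    (hfix : ∀ l < tl.length, chk (tl.getD l id) s s (wl.getD l 0) = true) :
    GoodTabs (stabX obj s) (tabOf tl) := by
  apply goodTabs_of_words (stabX obj s) ws tl htab
  intro l hl
  have hM : evalW (ws.getD l []) ∈ M24 := H0_le_M24 (evalW_mem _)
  have hT : HasTable ((evalW (ws.getD l []))⁻¹)⁻¹ (tl.getD l id) := by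
    rw [inv_inv]
    intro i
    rw [evalW_table (ws.getD l []) i, htab l hl i]
  have h1 := hchk _ (inv_mem hM) _ hT s s _ (hfix l hl)
  rw [mem_stabX]
  refine ⟨hM, ?_⟩
  calc evalW (ws.getD l []) • obj s
      = evalW (ws.getD l []) • ((evalW (ws.getD l []))⁻¹ • obj s) := by rw [h1]
    _ = obj s := smul_inv_smul _ _

theorem stabX_le (obj : ℕ → X) (s : ℕ) : stabX obj s ≤ M24 := inf_le_left

end Generic

end Cfsg.Agent.Lib.Helper1
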