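import Mathlib
import Cfsg.Agent.Lib.Helper1.M24Cert

set_option autoImplicit false

namespace Cfsg.Agent.Lib.Helper1

open Cfsg
open scoped Pointwise


/-- one step of the bitset duplicate check -/
def nodupStep (acc : Option ℕ) (m : ℕ) : Option ℕ :=
  match acc with
  | none => none
  | some R => if R.testBit m = true then none else some (R ||| (1 <<< m))

theorem foldl_nodupStep_none (L : List ℕ) : L.foldl nodupStep none = none := by
  induction L with
  | nil => rfl
  | cons t L ih => exact ih

theorem nodup_of_fold : ∀ (L seen : List ℕ) (R R' : ℕ),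
    (∀ m, R.testBit m = true ↔ m ∈ seen) → L.foldl nodupStep (some R) = some R' →
      (∀ m ∈ L, m ∉ seen) ∧ L.Nodup := by
  intro L
  induction L with
  | nil =>
    intro seen R R' _ _
    exact ⟨fun m hm => absurd hm List.not_mem_nil, List.nodup_nil⟩
  | cons x L ih =>
    intro seen R R' hR h
    rw [List.foldl_cons] at h
    by_cases hx : R.testBit x = true
    · have hstep : nodupStep (some R) x = none := by
        show (if _ then _ else _) = _
        rw [if_pos hx]
      rw [hstep, foldl_nodupStep_none] at h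
      exact absurd h (by simp)
    · have hstep : nodupStep (some R) x = some (R ||| (1 <<< x)) := by
        show (if _ then _ else _) = _
        rw [if_neg hx]
      rw [hstep] at h
      have hR' : ∀ m, (R ||| (1 <<< x)).testBit m = true ↔ m ∈ x :: seen := by
        intro m
        rw [Nat.testBit_or, Bool.or_eq_true, hR m, Nat.one_shiftLeft, Nat.testBit_two_pow,
          decide_eq_true_iff, List.mem_cons]
        constructor
        · rintro (h1 | h1)
          · exact Or.inr h1
          · exact Or.inl h1.symm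
        · rintro (h1 | h1)
          · exact Or.inr h1.symm
          · exact Or.inl h1
      obtain ⟨h1, h2⟩ := ih (x :: seen) _ R' hR' h
      have hxs : x ∉ seen := fun hmem => hx ((hR x).2 hmem)
      refine ⟨?_, ?_⟩
      · intro m hm
        rcases List.mem_cons.1 hm with rfl | hm
        · exact hxs
        · exact fun hms => h1 m hm (List.mem_cons_of_mem _ hms)
      · rw [List.nodup_cons]
        refine ⟨fun hxL => h1 x hxL (List.mem_cons_self), h2⟩

/-- bitset duplicate check -/
def nodupB (L : List ℕ) : Bool := (L.foldl nodupStep (some 0)).isSome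

theorem nodup_of_nodupB {L : List ℕ} (h : nodupB L = true) : L.Nodup := by
  unfold nodupB at h
  rw [Option.isSome_iff_exists] at h
  obtain ⟨R', hR'⟩ := h
  exact (nodup_of_fold L [] 0 R' (fun m => by simp) hR').2

section
variable {X : Type*} [MulAction (Equiv.Perm GolayPt) X]

/-- from orbit certificates to a class function -/
theorem classes_of_certs (obj : ℕ → X) (K : Subgroup (Equiv.Perm GolayPt)) (Y : Set X)
    (nlab : ℕ) (lists : ℕ → List ℕ) (roots : ℕ → ℕ)
    (hnd : ((List.range nlab).flatMap lists).Nodup)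
    (hinj : ∀ m ∈ (List.range nlab).flatMap lists, ∀ m' ∈ (List.range nlab).flatMap lists,
      obj m = obj m' → m = m')
    (hcover : ∀ y ∈ Y, ∃ m ∈ (List.range nlab).flatMap lists, obj m = y)
    (hmem : ∀ m ∈ (List.range nlab).flatMap lists, obj m ∈ Y)
    (hreach : ∀ k < nlab, ∀ c ∈ lists k, ReachX obj K (roots k) c) :
    ∃ c : X → ℕ, (∀ y ∈ Y, c y < nlab) ∧
      (∀ y ∈ Y, ∀ z ∈ Y, c y = c z → ∃ g ∈ K, g • y = z) ∧
      (∀ k < nlab, {y | y ∈ Y ∧ c y = k}.ncard = (lists k).length) ∧
      (∀ k < nlab, ∀ m ∈ lists k, c (obj m) = k) := by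
  classical
  set all := (List.range nlab).flatMap lists with hall
  have hallmem : ∀ m, m ∈ all ↔ ∃ k < nlab, m ∈ lists k := by
    intro m
    rw [hall, List.mem_flatMap]
    constructor
    · rintro ⟨k, hk, hm⟩
      exact ⟨k, List.mem_range.1 hk, hm⟩
    · rintro ⟨k, hk, hm⟩
      exact ⟨k, List.mem_range.2 hk, hm⟩
  obtain ⟨hnd1, hnd2⟩ := List.nodup_flatMap.1 hnd
  have hdlt : ∀ a b, a < b → b < nlab → ∀ m, m ∈ lists a → m ∈ lists b → False := by
    intro a b hab hb m hm hm'
    have h := List.pairwise_iff_getElem.1 hnd2 a b (by rw [List.length_range]; omega)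
      (by rw [List.length_range]; exact hb) hab
    rw [List.getElem_range, List.getElem_range] at h
    exact h hm hm'
  have hdisj : ∀ k < nlab, ∀ k' < nlab, ∀ m, m ∈ lists k → m ∈ lists k' → k = k' := by
    intro k hk k' hk' m hm hm'
    by_contra hne
    rcases lt_or_gt_of_ne hne with h | h
    · exact hdlt k k' h hk' m hm hm'
    · exact hdlt k' k h hk m hm' hm
  -- the code of an object and the class of a code
  let code : X → ℕ := fun y => if h : ∃ m ∈ all, obj m = y then Classical.choose h else 0
  let cls : ℕ → ℕ := fun m => if h : ∃ k < nlab, m ∈ lists k then Classical.choose h else nlab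
  have hcode : ∀ y ∈ Y, code y ∈ all ∧ obj (code y) = y := by
    intro y hy
    have h := hcover y hy
    show (if h : ∃ m ∈ all, obj m = y then Classical.choose h else 0) ∈ all ∧
      obj (if h : ∃ m ∈ all, obj m = y then Classical.choose h else 0) = y
    rw [dif_pos h]
    exact Classical.choose_spec h
  have hcode' : ∀ m ∈ all, code (obj m) = m := by
    intro m hm
    have hy : obj m ∈ Y := hmem m hm
    obtain ⟨h1, h2⟩ := hcode _ hy
    exact hinj _ h1 _ hm h2
  have hcls : ∀ k < nlab, ∀ m ∈ lists k, cls m = k := by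
    intro k hk m hm
    have h : ∃ k < nlab, m ∈ lists k := ⟨k, hk, hm⟩
    show (if h : ∃ k < nlab, m ∈ lists k then Classical.choose h else nlab) = k
    rw [dif_pos h]
    obtain ⟨h1, h2⟩ := Classical.choose_spec h
    exact hdisj _ h1 _ hk m h2 hm
  have hcls' : ∀ m ∈ all, cls m < nlab ∧ m ∈ lists (cls m) := by
    intro m hm
    obtain ⟨k, hk, hmk⟩ := (hallmem m).1 hm
    rw [hcls k hk m hmk]
    exact ⟨hk, hmk⟩
  refine ⟨fun y => cls (code y), ?_, ?_, ?_, ?_⟩
  · intro y hy
    exact (hcls' _ (hcode y hy).1).1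
  · intro y hy z hz h
    obtain ⟨h1, h2⟩ := hcode y hy
    obtain ⟨h1', h2'⟩ := hcode z hz
    obtain ⟨hk, hm⟩ := hcls' _ h1
    obtain ⟨_, hm'⟩ := hcls' _ h1'
    have h' : cls (code y) = cls (code z) := h
    rw [← h'] at hm'
    have r1 := hreach _ hk _ hm
    have r2 := hreach _ hk _ hm'
    obtain ⟨g, hg, hgm⟩ := r1.conj r2
    rw [h2, h2'] at hgm
    exact ⟨g, hg, hgm⟩
  · intro k hk
    have hset : {y | y ∈ Y ∧ cls (code y) = k} =
        obj '' (((lists k).toFinset : Finset ℕ) : Set ℕ) := by
      ext y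
      constructor
      · rintro ⟨hy, hc⟩
        obtain ⟨h1, h2⟩ := hcode y hy
        refine ⟨code y, ?_, h2⟩
        rw [Finset.mem_coe, List.mem_toFinset]
        have := (hcls' _ h1).2
        have hc' : cls (code y) = k := hc
        rw [hc'] at this
        exact this
      · rintro ⟨m, hm, rfl⟩
        rw [Finset.mem_coe, List.mem_toFinset] at hm
        have hma : m ∈ all := (hallmem m).2 ⟨k, hk, hm⟩
        refine ⟨hmem m hma, ?_⟩
        show cls (code (obj m)) = k
        rw [hcode' m hma]
        exact hcls k hk m hm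
    rw [hset, Set.ncard_image_of_injOn, Set.ncard_coe_finset, List.toFinset_card_of_nodup]
    · exact hnd1 k (List.mem_range.2 hk)
    · intro m hm m' hm' h
      rw [Finset.mem_coe, List.mem_toFinset] at hm hm'
      exact hinj m ((hallmem m).2 ⟨k, hk, hm⟩) m' ((hallmem m').2 ⟨k, hk, hm'⟩) h
  · intro k hk m hm
    have hma : m ∈ all := (hallmem m).2 ⟨k, hk, hm⟩
    show cls (code (obj m)) = k
    rw [hcode' m hma]
    exact hcls k hk m hm

/-- covering from cardinalities -/
theorem cover_of_card (obj : ℕ → X) (Y : Set X) (all : List ℕ) (hYfin : Y.Finite)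
    (hnd : all.Nodup)
    (hinj : ∀ m ∈ all, ∀ m' ∈ all, obj m = obj m' → m = m')
    (hmem : ∀ m ∈ all, obj m ∈ Y) (hcard : Y.ncard ≤ all.length) :
    ∀ y ∈ Y, ∃ m ∈ all, obj m = y := by
  classical
  have hsub : obj '' ((all.toFinset : Finset ℕ) : Set ℕ) ⊆ Y := by
    rintro _ ⟨m, hm, rfl⟩
    rw [Finset.mem_coe, List.mem_toFinset] at hm
    exact hmem m hm
  have hc : (obj '' ((all.toFinset : Finset ℕ) : Set ℕ)).ncard = all.length := by
    rw [Set.ncard_image_of_injOn, Set.ncard_coe_finset, List.toFinset_card_of_nodup hnd]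
    intro m hm m' hm' h
    rw [Finset.mem_coe, List.mem_toFinset] at hm hm'
    exact hinj m hm m' hm' h
  have heq := Set.eq_of_subset_of_ncard_le hsub (by rw [hc]; exact hcard) hYfin
  intro y hy
  rw [← heq] at hy
  obtain ⟨m, hm, rfl⟩ := hy
  rw [Finset.mem_coe, List.mem_toFinset] at hm
  exact ⟨m, hm, rfl⟩
end

end Cfsg.Agent.Lib.Helper1
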