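import Mathlib

set_option autoImplicit false

namespace Cfsg.Agent.Lib.Helper1

open scoped Pointwise

section
variable {G X : Type*} [Group G] [MulAction G X]

/-- orbits of a conjugated stabilizer -/
theorem orbit_stabilizer_smul (g : G) (x y : X) :
    MulAction.orbit ↥(MulAction.stabilizer G (g • x)) (g • y) =
      (fun z => g • z) '' MulAction.orbit ↥(MulAction.stabilizer G x) y := by
  ext z
  constructor
  · rintro ⟨⟨h, hh⟩, rfl⟩
    have hh' : h • g • x = g • x := MulAction.mem_stabilizer_iff.1 hh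
    have hmem : g⁻¹ * h * g ∈ MulAction.stabilizer G x := by
      rw [MulAction.mem_stabilizer_iff, mul_smul, mul_smul, hh', inv_smul_smul]
    refine ⟨(g⁻¹ * h * g) • y, ⟨⟨g⁻¹ * h * g, hmem⟩, rfl⟩, ?_⟩
    show g • ((g⁻¹ * h * g) • y) = h • g • y
    rw [← mul_smul, ← mul_smul]
    congr 1
    group
  · rintro ⟨z, ⟨⟨h, hh⟩, rfl⟩, rfl⟩
    have hh' : h • x = x := MulAction.mem_stabilizer_iff.1 hh
    have hmem : g * h * g⁻¹ ∈ MulAction.stabilizer G (g • x) := by
      rw [MulAction.mem_stabilizer_iff, mul_smul, mul_smul, inv_smul_smul, hh']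
    refine ⟨⟨g * h * g⁻¹, hmem⟩, ?_⟩
    show (g * h * g⁻¹) • g • y = g • h • y
    rw [← mul_smul, ← mul_smul]
    congr 1
    group

theorem ncard_orbit_stabilizer_smul (g : G) (x y : X) :
    (MulAction.orbit ↥(MulAction.stabilizer G (g • x)) (g • y)).ncard =
      (MulAction.orbit ↥(MulAction.stabilizer G x) y).ncard := by
  rw [orbit_stabilizer_smul, Set.ncard_image_of_injective _ (MulAction.injective g)]

theorem isCoatom_stabilizer_smul (g : G) (x : X) (h : IsCoatom (MulAction.stabilizer G x)) :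
    IsCoatom (MulAction.stabilizer G (g • x)) := by
  rw [MulAction.stabilizer_smul_eq_stabilizer_map_conj]
  exact (OrderIso.isCoatom_iff (MulEquiv.mapSubgroup (MulAut.conj g)) _).2 h

/-- the orbit of a subgroup `K` is a class as soon as the classes are `K`-homogeneous and no
proper union of classes has size dividing the order of `K` -/
theorem orbit_eq_class [Finite G] (K : Subgroup G) (Y : Set X) (hYfin : Y.Finite) (c : X → ℕ)
    (labels : Finset ℕ) (n : ℕ → ℕ)
    (hY : ∀ k ∈ K, ∀ y ∈ Y, k • y ∈ Y)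
    (hc : ∀ y ∈ Y, c y ∈ labels)
    (htr : ∀ y ∈ Y, ∀ z ∈ Y, c y = c z → ∃ k ∈ K, k • y = z)
    (hn : ∀ j ∈ labels, {y | y ∈ Y ∧ c y = j}.ncard = n j)
    (y0 : X) (hy0 : y0 ∈ Y)
    (harith : ∀ J ∈ labels.powerset, c y0 ∈ J → (∑ j ∈ J, n j) ∣ Nat.card K → J = {c y0}) :
    MulAction.orbit ↥K y0 = {y | y ∈ Y ∧ c y = c y0} := by
  classical
  set O : Set X := MulAction.orbit ↥K y0 with hO
  have hOY : O ⊆ Y := by
    rintro _ ⟨⟨k, hk⟩, rfl⟩
    exact hY k hk y0 hy0
  have hOfin : O.Finite := hYfin.subset hOY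
  set J : Finset ℕ := labels.filter (fun j => ∃ y ∈ O, c y = j) with hJ
  have hOeq : O = {y | y ∈ Y ∧ c y ∈ J} := by
    ext y
    constructor
    · intro hy
      refine ⟨hOY hy, ?_⟩
      rw [hJ, Finset.mem_filter]
      exact ⟨hc y (hOY hy), y, hy, rfl⟩
    · rintro ⟨hyY, hyJ⟩
      rw [hJ, Finset.mem_filter] at hyJ
      obtain ⟨_, y', hy', hcy'⟩ := hyJ
      obtain ⟨k, hk, rfl⟩ := htr y' (hOY hy') y hyY hcy'
      obtain ⟨k', rfl⟩ := hy'
      refine ⟨⟨k, hk⟩ * k', ?_⟩
      show (⟨k, hk⟩ * k') • y0 = k • (k' • y0)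
      rw [mul_smul]
      rfl
  have hcard : O.ncard = ∑ j ∈ J, n j := by
    rw [Set.ncard_eq_toFinset_card _ hOfin,
      Finset.card_eq_sum_card_fiberwise (f := c) (t := J)]
    · apply Finset.sum_congr rfl
      intro j hj
      have hjl : j ∈ labels := (Finset.mem_filter.1 hj).1
      rw [← hn j hjl]
      have hfin2 : {y | y ∈ Y ∧ c y = j}.Finite := hYfin.subset (fun y hy => hy.1)
      rw [Set.ncard_eq_toFinset_card _ hfin2]
      congr 1
      ext y
      rw [Finset.mem_filter, Set.Finite.mem_toFinset, Set.Finite.mem_toFinset]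
      constructor
      · rintro ⟨hyO, hcy⟩
        exact ⟨hOY hyO, hcy⟩
      · rintro ⟨hyY, hcy⟩
        refine ⟨?_, hcy⟩
        rw [hOeq]
        exact ⟨hyY, hcy ▸ hj⟩
    · intro y hy
      rw [Finset.mem_coe, Set.Finite.mem_toFinset, hOeq] at hy
      exact Finset.mem_coe.2 hy.2
  have hdvd : O.ncard ∣ Nat.card K := by
    rw [hO, ← MulAction.index_stabilizer]
    exact Subgroup.index_dvd_card _
  have hy0O : y0 ∈ O := MulAction.mem_orbit_self y0
  have hcy0 : c y0 ∈ J := by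
    rw [hJ, Finset.mem_filter]
    exact ⟨hc y0 hy0, y0, hy0O, rfl⟩
  have hJeq := harith J (Finset.mem_powerset.2 (Finset.filter_subset _ _)) hcy0 (hcard ▸ hdvd)
  rw [hOeq, hJeq]
  ext y
  simp only [Set.mem_ofPred_eq, Finset.mem_singleton]
end

end Cfsg.Agent.Lib.Helper1
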