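import Mathlib
import Cfsg.Agent.Lib.Helper1.M24Classes
import Cfsg.Agent.Lib.Helper1.OrbitClasses

set_option autoImplicit false

namespace Cfsg.Agent.Lib.Helper1

open Cfsg
open scoped Pointwise

section
variable {X : Type*} [MulAction (Equiv.Perm GolayPt) X]

/-- orbits of a subgroup `Kst` of `M24` on a family `Y`, from orbit certificates -/
theorem orbits_from_certs (Kst : Subgroup ↥M24) (K' : Subgroup (Equiv.Perm GolayPt))
    (hK : ∀ g : ↥M24, g ∈ Kst ↔ (g : Equiv.Perm GolayPt) ∈ K') (hK'le : K' ≤ M24)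
    (Y : Set X) (hYfin : Y.Finite) (hYinv : ∀ g ∈ M24, ∀ y ∈ Y, g • y ∈ Y)
    (obj : ℕ → X) (nlab : ℕ) (lists : ℕ → List ℕ) (roots : ℕ → ℕ) (nF : ℕ → ℕ)
    (hnd : ((List.range nlab).flatMap lists).Nodup)
    (hinj : ∀ m ∈ (List.range nlab).flatMap lists, ∀ m' ∈ (List.range nlab).flatMap lists,
      obj m = obj m' → m = m')
    (hcover : ∀ y ∈ Y, ∃ m ∈ (List.range nlab).flatMap lists, obj m = y)
    (hmem : ∀ m ∈ (List.range nlab).flatMap lists, obj m ∈ Y)
    (hreach : ∀ k < nlab, ∀ c ∈ lists k, ReachX obj K' (roots k) c)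
    (hlen : ∀ k < nlab, (lists k).length = nF k) (hroot : ∀ k < nlab, roots k ∈ lists k)
    (card : ℕ) (hcard : Nat.card Kst = card)
    (harith : ∀ k < nlab, ∀ J ∈ (Finset.range nlab).powerset, k ∈ J →
      (∑ j ∈ J, nF j) ∣ card → J = {k}) :
    (∀ k < nlab, obj (roots k) ∈ Y ∧ (MulAction.orbit ↥Kst (obj (roots k))).ncard = nF k) ∧
      (∀ y ∈ Y, ∃ k < nlab, y ∈ MulAction.orbit ↥Kst (obj (roots k))) := by
  obtain ⟨c, hc4, htr, hn, hcm⟩ :=
    classes_of_certs obj K' Y nlab lists roots hnd hinj hcover hmem hreach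
  have htr' : ∀ y ∈ Y, ∀ z ∈ Y, c y = c z → ∃ k ∈ Kst, k • y = z := by
    intro y hy z hz h
    obtain ⟨g, hg, hgy⟩ := htr y hy z hz h
    exact ⟨⟨g, hK'le hg⟩, (hK _).2 hg, hgy⟩
  have hn' : ∀ j ∈ Finset.range nlab, {y | y ∈ Y ∧ c y = j}.ncard = nF j := by
    intro j hj
    rw [hn j (Finset.mem_range.1 hj), hlen j (Finset.mem_range.1 hj)]
  have hY : ∀ k ∈ Kst, ∀ y ∈ Y, k • y ∈ Y := fun k _ y hy => hYinv k.1 k.2 y hy
  have hrootmem : ∀ k < nlab, obj (roots k) ∈ Y := fun k hk =>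
    hmem _ (List.mem_flatMap.2 ⟨k, List.mem_range.2 hk, hroot k hk⟩)
  have horb : ∀ k, k < nlab →
      MulAction.orbit ↥Kst (obj (roots k)) = {y | y ∈ Y ∧ c y = k} := by
    intro k hk4
    have hck : c (obj (roots k)) = k := hcm k hk4 _ (hroot k hk4)
    have := orbit_eq_class (G := ↥M24) Kst Y hYfin c (Finset.range nlab) nF hY
      (fun y hy => Finset.mem_range.2 (hc4 y hy)) htr' hn' (obj (roots k)) (hrootmem k hk4)
      (by
        rw [hck, hcard]
        exact harith k hk4)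
    rw [hck] at this
    exact this
  refine ⟨fun k hk => ⟨hrootmem k hk, ?_⟩, ?_⟩
  · rw [horb k hk, hn' k (Finset.mem_range.2 hk)]
  · intro y hy
    refine ⟨c y, hc4 y hy, ?_⟩
    rw [horb (c y) (hc4 y hy)]
    exact ⟨hy, rfl⟩
end

section
variable {G X Z : Type*} [Group G] [MulAction G X] [MulAction G Z]

/-- orbits of a conjugated stabilizer on another `G`-set -/
theorem orbit_stabilizer_smul' (g : G) (z : Z) (y : X) :
    MulAction.orbit ↥(MulAction.stabilizer G (g • z)) (g • y) =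
      (fun w => g • w) '' MulAction.orbit ↥(MulAction.stabilizer G z) y := by
  ext w
  constructor
  · rintro ⟨⟨h, hh⟩, rfl⟩
    have hh' : h • g • z = g • z := MulAction.mem_stabilizer_iff.1 hh
    have hmem : g⁻¹ * h * g ∈ MulAction.stabilizer G z := by
      rw [MulAction.mem_stabilizer_iff, mul_smul, mul_smul, hh', inv_smul_smul]
    refine ⟨(g⁻¹ * h * g) • y, ⟨⟨g⁻¹ * h * g, hmem⟩, rfl⟩, ?_⟩
    show g • ((g⁻¹ * h * g) • y) = h • g • y
    rw [← mul_smul, ← mul_smul]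
    congr 1
    group
  · rintro ⟨w, ⟨⟨h, hh⟩, rfl⟩, rfl⟩
    have hh' : h • z = z := MulAction.mem_stabilizer_iff.1 hh
    have hmem : g * h * g⁻¹ ∈ MulAction.stabilizer G (g • z) := by
      rw [MulAction.mem_stabilizer_iff, mul_smul, mul_smul, inv_smul_smul, hh']
    refine ⟨⟨g * h * g⁻¹, hmem⟩, ?_⟩
    show (g * h * g⁻¹) • g • y = g • h • y
    rw [← mul_smul, ← mul_smul]
    congr 1
    group

theorem ncard_orbit_stabilizer_smul' (g : G) (z : Z) (y : X) :
    (MulAction.orbit ↥(MulAction.stabilizer G (g • z)) (g • y)).ncard =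
      (MulAction.orbit ↥(MulAction.stabilizer G z) y).ncard := by
  rw [orbit_stabilizer_smul', Set.ncard_image_of_injective _ (MulAction.injective g)]

theorem mem_orbit_stabilizer_smul' (g : G) (z : Z) (y w : X) :
    w ∈ MulAction.orbit ↥(MulAction.stabilizer G (g • z)) (g • y) ↔
      g⁻¹ • w ∈ MulAction.orbit ↥(MulAction.stabilizer G z) y := by
  rw [orbit_stabilizer_smul']
  constructor
  · rintro ⟨v, hv, rfl⟩
    rw [inv_smul_smul]
    exact hv
  · intro h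
    exact ⟨_, h, smul_inv_smul _ _⟩
end

section
variable {G X Z : Type*} [Group G] [MulAction G X] [MulAction G Z]

theorem cover_transport (g : G) (z : Z) (Y : Set X) (hYinv : ∀ h : G, ∀ y ∈ Y, h • y ∈ Y)
    (n : ℕ) (Xs : ℕ → X)
    (h : ∀ y ∈ Y, ∃ k < n, y ∈ MulAction.orbit ↥(MulAction.stabilizer G z) (Xs k)) :
    ∀ y ∈ Y, ∃ k < n, y ∈ MulAction.orbit ↥(MulAction.stabilizer G (g • z)) (g • Xs k) := by
  intro y hy
  obtain ⟨k, hk, hmem⟩ := h (g⁻¹ • y) (hYinv _ _ hy)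
  exact ⟨k, hk, (mem_orbit_stabilizer_smul' g z (Xs k) y).2 hmem⟩

theorem orbit_subgroup_subset (K : Subgroup G) (Y : Set X) (hYinv : ∀ h : G, ∀ y ∈ Y, h • y ∈ Y)
    {x : X} (hx : x ∈ Y) : MulAction.orbit ↥K x ⊆ Y := by
  rintro _ ⟨k, rfl⟩
  exact hYinv k.1 x hx

theorem eq_union3 (Y : Set X) (O : ℕ → Set X) (hsub : ∀ k < 3, O k ⊆ Y)
    (hcov : ∀ y ∈ Y, ∃ k < 3, y ∈ O k) : Y = O 0 ∪ O 1 ∪ O 2 := by
  ext y
  constructor
  · intro hy
    obtain ⟨k, hk, hmem⟩ := hcov y hy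
    interval_cases k
    · exact Or.inl (Or.inl hmem)
    · exact Or.inl (Or.inr hmem)
    · exact Or.inr hmem
  · rintro ((h | h) | h)
    · exact hsub 0 (by norm_num) h
    · exact hsub 1 (by norm_num) h
    · exact hsub 2 (by norm_num) h

theorem eq_union4 (Y : Set X) (O : ℕ → Set X) (hsub : ∀ k < 4, O k ⊆ Y)
    (hcov : ∀ y ∈ Y, ∃ k < 4, y ∈ O k) : Y = O 0 ∪ O 1 ∪ O 2 ∪ O 3 := by
  ext y
  constructor
  · intro hy
    obtain ⟨k, hk, hmem⟩ := hcov y hy
    interval_cases k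
    · exact Or.inl (Or.inl (Or.inl hmem))
    · exact Or.inl (Or.inl (Or.inr hmem))
    · exact Or.inl (Or.inr hmem)
    · exact Or.inr hmem
  · rintro (((h | h) | h) | h)
    · exact hsub 0 (by norm_num) h
    · exact hsub 1 (by norm_num) h
    · exact hsub 2 (by norm_num) h
    · exact hsub 3 (by norm_num) h
end

end Cfsg.Agent.Lib.Helper1
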