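import Mathlib
import Cfsg.Agent.S1599
import Cfsg.Agent.Lib.Helper1.GL23

set_option autoImplicit false

namespace Cfsg.Agent.Lib.Helper1.AGL

open Cfsg
open Cfsg.Agent.Lib.Helper1
open scoped Pointwise

/-- the point of the nine-point orbit attached to a vector of the plane over the field with three elements -/

def bix (v1 v2 : ZMod 3) : Fin 24 :=
  ([5, 20, 23, 19, 21, 11, 14, 15, 7] : List (Fin 24)).getD (3 * v1.val + v2.val) 0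

/-- words of the nine translations -/

def Ttab : List (List ℕ) := [
    [],
    [2, 3, 1, 2, 3, 1, 2, 0, 0, 3, 2, 1, 4, 1, 1, 1, 4, 4, 0, 4, 1, 3, 2, 3, 1, 2, 3, 1, 2, 0, 0, 3, 2, 1, 4, 1, 1, 1, 4, 4, 0, 4, 1, 3],
    [4, 0, 3, 1, 3, 3, 0, 0, 0, 3, 0, 2, 4, 1, 1, 2, 0, 4, 2, 0, 4, 2, 4, 0, 3, 1, 3, 3, 0, 0, 0, 3, 0, 2, 4, 1, 1, 2, 0, 4, 2, 0, 4, 2],
    [1, 4, 1, 1, 1, 4, 4, 0, 4, 1, 3, 2, 3, 1, 2, 3, 1, 2, 0, 0, 3, 2, 1, 4, 1, 1, 1, 4, 4, 0, 4, 1, 3, 2, 3, 1, 2, 3, 1, 2, 0, 0, 3, 2],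
    [2, 3, 1, 2, 3, 1, 2, 0, 0, 3, 2, 4, 0, 3, 1, 3, 3, 0, 0, 0, 3, 0, 2, 4, 1, 1, 2, 0, 4, 2, 0, 4, 2, 4, 0, 3, 1, 3, 3, 0, 0, 0, 3, 0, 2, 3, 1, 2, 3, 1, 2, 0, 0, 3, 2],
    [1, 4, 1, 1, 1, 4, 4, 0, 4, 1, 3, 2, 4, 1, 1, 2, 0, 4, 2, 0, 4, 2, 4, 0, 3, 1, 3, 3, 0, 0, 0, 3, 0, 2, 4, 1, 1, 2, 0, 4, 2, 0, 4, 2, 4, 0, 3, 1, 3, 3, 0, 0, 0, 3, 0, 4, 0, 3, 1, 3, 3, 0, 0, 0, 3, 0],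
    [2, 4, 1, 1, 2, 0, 4, 2, 0, 4, 2, 4, 0, 3, 1, 3, 3, 0, 0, 0, 3, 0, 2, 4, 1, 1, 2, 0, 4, 2, 0, 4, 2, 4, 0, 3, 1, 3, 3, 0, 0, 0, 3, 0],
    [1, 4, 1, 1, 1, 4, 4, 0, 4, 1, 3, 1, 4, 1, 1, 1, 4, 4, 0, 4, 1, 3, 2, 3, 1, 2, 3, 1, 2, 0, 0, 3, 2, 1, 4, 1, 1, 1, 4, 4, 0, 4, 1, 3, 2, 3, 1, 2, 3, 1, 2, 0, 0, 3, 2, 4, 0, 3, 1, 3, 3, 0, 0, 0, 3, 0],
    [2, 4, 1, 1, 2, 0, 4, 2, 0, 4, 2, 1, 4, 1, 1, 1, 4, 4, 0, 4, 1, 3, 2, 3, 1, 2, 3, 1, 2, 0, 0, 3, 2, 1, 4, 1, 1, 1, 4, 4, 0, 4, 1, 3, 2, 4, 1, 1, 2, 0, 4, 2, 0, 4, 2]]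

/-- the word of a translation -/
def Tof (e f : ZMod 3) : List ℕ := Ttab.getD (3 * e.val + f.val) []

/-- words of the 48 linear maps -/

def Ltab : List (List ℕ) := [
    [],
    [],
    [],
    [],
    [],
    [],
    [],
    [],
    [],
    [],
    [],
    [],
    [2, 3, 1, 2, 3, 1, 2, 0, 0, 3, 2, 4, 0, 3, 1, 3, 3, 0, 0, 0, 3, 0, 4, 0, 3, 1, 3, 3, 0, 0, 0, 3, 0, 2, 4, 1, 1, 2, 0, 4, 2, 0, 4, 2, 1, 4, 1, 1, 1, 4, 4, 0, 4, 1, 3, 2, 3, 1, 2, 3, 1, 2, 0, 0, 3, 2],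
    [2, 4, 1, 1, 2, 0, 4, 2, 0, 4, 2, 4, 0, 3, 1, 3, 3, 0, 0, 0, 3, 0, 2, 4, 1, 1, 2, 0, 4, 2, 0, 4, 2, 4, 0, 3, 1, 3, 3, 0, 0, 0, 3, 0, 4, 0, 3, 1, 3, 3, 0, 0, 0, 3, 0],
    [2, 3, 1, 2, 3, 1, 2, 0, 0, 3, 2, 4, 0, 3, 1, 3, 3, 0, 0, 0, 3, 0, 2, 4, 1, 1, 2, 0, 4, 2, 0, 4, 2, 1, 4, 1, 1, 1, 4, 4, 0, 4, 1, 3, 2, 4, 1, 1, 2, 0, 4, 2, 0, 4, 2, 4, 0, 3, 1, 3, 3, 0, 0, 0, 3, 0],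
    [2, 3, 1, 2, 3, 1, 2, 0, 0, 3, 2, 1, 4, 1, 1, 1, 4, 4, 0, 4, 1, 3, 2, 4, 1, 1, 2, 0, 4, 2, 0, 4, 2, 4, 0, 3, 1, 3, 3, 0, 0, 0, 3, 0, 2, 3, 1, 2, 3, 1, 2, 0, 0, 3, 2],
    [4, 0, 3, 1, 3, 3, 0, 0, 0, 3, 0, 2, 4, 1, 1, 2, 0, 4, 2, 0, 4, 2, 1, 4, 1, 1, 1, 4, 4, 0, 4, 1, 3, 1, 4, 1, 1, 1, 4, 4, 0, 4, 1, 3, 2, 4, 1, 1, 2, 0, 4, 2, 0, 4, 2, 4, 0, 3, 1, 3, 3, 0, 0, 0, 3, 0, 2, 4, 1, 1, 2, 0, 4, 2, 0, 4, 2],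
    [1, 4, 1, 1, 1, 4, 4, 0, 4, 1, 3, 2, 4, 1, 1, 2, 0, 4, 2, 0, 4, 2, 1, 4, 1, 1, 1, 4, 4, 0, 4, 1, 3, 2, 3, 1, 2, 3, 1, 2, 0, 0, 3, 2],
    [],
    [],
    [],
    [2, 4, 1, 1, 2, 0, 4, 2, 0, 4, 2, 1, 4, 1, 1, 1, 4, 4, 0, 4, 1, 3, 2, 3, 1, 2, 3, 1, 2, 0, 0, 3, 2, 4, 0, 3, 1, 3, 3, 0, 0, 0, 3, 0, 2, 4, 1, 1, 2, 0, 4, 2, 0, 4, 2],
    [2, 4, 1, 1, 2, 0, 4, 2, 0, 4, 2, 1, 4, 1, 1, 1, 4, 4, 0, 4, 1, 3, 1, 4, 1, 1, 1, 4, 4, 0, 4, 1, 3],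
    [1, 4, 1, 1, 1, 4, 4, 0, 4, 1, 3, 2, 3, 1, 2, 3, 1, 2, 0, 0, 3, 2, 1, 4, 1, 1, 1, 4, 4, 0, 4, 1, 3, 2, 4, 1, 1, 2, 0, 4, 2, 0, 4, 2],
    [1, 4, 1, 1, 1, 4, 4, 0, 4, 1, 3, 2, 4, 1, 1, 2, 0, 4, 2, 0, 4, 2, 4, 0, 3, 1, 3, 3, 0, 0, 0, 3, 0, 4, 0, 3, 1, 3, 3, 0, 0, 0, 3, 0, 2, 4, 1, 1, 2, 0, 4, 2, 0, 4, 2],
    [4, 0, 3, 1, 3, 3, 0, 0, 0, 3, 0, 2, 4, 1, 1, 2, 0, 4, 2, 0, 4, 2, 4, 0, 3, 1, 3, 3, 0, 0, 0, 3, 0, 2, 3, 1, 2, 3, 1, 2, 0, 0, 3, 2, 4, 0, 3, 1, 3, 3, 0, 0, 0, 3, 0, 2, 3, 1, 2, 3, 1, 2, 0, 0, 3, 2],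
    [1, 4, 1, 1, 1, 4, 4, 0, 4, 1, 3, 2, 4, 1, 1, 2, 0, 4, 2, 0, 4, 2, 4, 0, 3, 1, 3, 3, 0, 0, 0, 3, 0, 2, 4, 1, 1, 2, 0, 4, 2, 0, 4, 2, 1, 4, 1, 1, 1, 4, 4, 0, 4, 1, 3],
    [],
    [],
    [1, 4, 1, 1, 1, 4, 4, 0, 4, 1, 3, 2, 4, 1, 1, 2, 0, 4, 2, 0, 4, 2, 4, 0, 3, 1, 3, 3, 0, 0, 0, 3, 0, 2, 4, 1, 1, 2, 0, 4, 2, 0, 4, 2, 4, 0, 3, 1, 3, 3, 0, 0, 0, 3, 0, 2, 3, 1, 2, 3, 1, 2, 0, 0, 3, 2],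
    [],
    [4, 0, 3, 1, 3, 3, 0, 0, 0, 3, 0, 2, 4, 1, 1, 2, 0, 4, 2, 0, 4, 2, 4, 0, 3, 1, 3, 3, 0, 0, 0, 3, 0, 4, 0, 3, 1, 3, 3, 0, 0, 0, 3, 0, 2, 3, 1, 2, 3, 1, 2, 0, 0, 3, 2, 4, 0, 3, 1, 3, 3, 0, 0, 0, 3, 0, 2, 3, 1, 2, 3, 1, 2, 0, 0, 3, 2],
    [4, 0, 3, 1, 3, 3, 0, 0, 0, 3, 0, 4, 0, 3, 1, 3, 3, 0, 0, 0, 3, 0, 2, 3, 1, 2, 3, 1, 2, 0, 0, 3, 2, 1, 4, 1, 1, 1, 4, 4, 0, 4, 1, 3, 1, 4, 1, 1, 1, 4, 4, 0, 4, 1, 3, 2, 4, 1, 1, 2, 0, 4, 2, 0, 4, 2, 4, 0, 3, 1, 3, 3, 0, 0, 0, 3, 0],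
    [],
    [4, 0, 3, 1, 3, 3, 0, 0, 0, 3, 0, 4, 0, 3, 1, 3, 3, 0, 0, 0, 3, 0, 2, 3, 1, 2, 3, 1, 2, 0, 0, 3, 2, 4, 0, 3, 1, 3, 3, 0, 0, 0, 3, 0, 2, 3, 1, 2, 3, 1, 2, 0, 0, 3, 2, 4, 0, 3, 1, 3, 3, 0, 0, 0, 3, 0, 2, 4, 1, 1, 2, 0, 4, 2, 0, 4, 2],
    [1, 4, 1, 1, 1, 4, 4, 0, 4, 1, 3, 1, 4, 1, 1, 1, 4, 4, 0, 4, 1, 3, 1, 4, 1, 1, 1, 4, 4, 0, 4, 1, 3, 2, 4, 1, 1, 2, 0, 4, 2, 0, 4, 2],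
    [],
    [2, 3, 1, 2, 3, 1, 2, 0, 0, 3, 2, 1, 4, 1, 1, 1, 4, 4, 0, 4, 1, 3, 2, 4, 1, 1, 2, 0, 4, 2, 0, 4, 2, 1, 4, 1, 1, 1, 4, 4, 0, 4, 1, 3],
    [2, 3, 1, 2, 3, 1, 2, 0, 0, 3, 2, 1, 4, 1, 1, 1, 4, 4, 0, 4, 1, 3, 1, 4, 1, 1, 1, 4, 4, 0, 4, 1, 3, 1, 4, 1, 1, 1, 4, 4, 0, 4, 1, 3, 2, 3, 1, 2, 3, 1, 2, 0, 0, 3, 2],
    [4, 0, 3, 1, 3, 3, 0, 0, 0, 3, 0, 2, 4, 1, 1, 2, 0, 4, 2, 0, 4, 2, 1, 4, 1, 1, 1, 4, 4, 0, 4, 1, 3, 2, 4, 1, 1, 2, 0, 4, 2, 0, 4, 2, 4, 0, 3, 1, 3, 3, 0, 0, 0, 3, 0, 2, 4, 1, 1, 2, 0, 4, 2, 0, 4, 2],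
    [],
    [4, 0, 3, 1, 3, 3, 0, 0, 0, 3, 0, 4, 0, 3, 1, 3, 3, 0, 0, 0, 3, 0, 2, 4, 1, 1, 2, 0, 4, 2, 0, 4, 2, 4, 0, 3, 1, 3, 3, 0, 0, 0, 3, 0, 2, 4, 1, 1, 2, 0, 4, 2, 0, 4, 2, 4, 0, 3, 1, 3, 3, 0, 0, 0, 3, 0],
    [4, 0, 3, 1, 3, 3, 0, 0, 0, 3, 0, 4, 0, 3, 1, 3, 3, 0, 0, 0, 3, 0, 2, 3, 1, 2, 3, 1, 2, 0, 0, 3, 2],
    [1, 4, 1, 1, 1, 4, 4, 0, 4, 1, 3, 2, 3, 1, 2, 3, 1, 2, 0, 0, 3, 2, 4, 0, 3, 1, 3, 3, 0, 0, 0, 3, 0, 4, 0, 3, 1, 3, 3, 0, 0, 0, 3, 0],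
    [],
    [],
    [4, 0, 3, 1, 3, 3, 0, 0, 0, 3, 0, 2, 3, 1, 2, 3, 1, 2, 0, 0, 3, 2, 4, 0, 3, 1, 3, 3, 0, 0, 0, 3, 0, 2, 4, 1, 1, 2, 0, 4, 2, 0, 4, 2],
    [4, 0, 3, 1, 3, 3, 0, 0, 0, 3, 0, 2, 3, 1, 2, 3, 1, 2, 0, 0, 3, 2, 1, 4, 1, 1, 1, 4, 4, 0, 4, 1, 3, 1, 4, 1, 1, 1, 4, 4, 0, 4, 1, 3, 2, 3, 1, 2, 3, 1, 2, 0, 0, 3, 2],
    [4, 0, 3, 1, 3, 3, 0, 0, 0, 3, 0, 2, 3, 1, 2, 3, 1, 2, 0, 0, 3, 2, 4, 0, 3, 1, 3, 3, 0, 0, 0, 3, 0, 2, 3, 1, 2, 3, 1, 2, 0, 0, 3, 2, 4, 0, 3, 1, 3, 3, 0, 0, 0, 3, 0, 2, 3, 1, 2, 3, 1, 2, 0, 0, 3, 2, 4, 0, 3, 1, 3, 3, 0, 0, 0, 3, 0],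
    [4, 0, 3, 1, 3, 3, 0, 0, 0, 3, 0, 2, 4, 1, 1, 2, 0, 4, 2, 0, 4, 2, 1, 4, 1, 1, 1, 4, 4, 0, 4, 1, 3, 2, 3, 1, 2, 3, 1, 2, 0, 0, 3, 2, 1, 4, 1, 1, 1, 4, 4, 0, 4, 1, 3],
    [],
    [4, 0, 3, 1, 3, 3, 0, 0, 0, 3, 0, 2, 3, 1, 2, 3, 1, 2, 0, 0, 3, 2, 1, 4, 1, 1, 1, 4, 4, 0, 4, 1, 3, 2, 3, 1, 2, 3, 1, 2, 0, 0, 3, 2, 4, 0, 3, 1, 3, 3, 0, 0, 0, 3, 0],
    [],
    [4, 0, 3, 1, 3, 3, 0, 0, 0, 3, 0, 4, 0, 3, 1, 3, 3, 0, 0, 0, 3, 0, 2, 4, 1, 1, 2, 0, 4, 2, 0, 4, 2, 1, 4, 1, 1, 1, 4, 4, 0, 4, 1, 3, 2, 4, 1, 1, 2, 0, 4, 2, 0, 4, 2, 1, 4, 1, 1, 1, 4, 4, 0, 4, 1, 3],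
    [],
    [4, 0, 3, 1, 3, 3, 0, 0, 0, 3, 0, 2, 3, 1, 2, 3, 1, 2, 0, 0, 3, 2, 1, 4, 1, 1, 1, 4, 4, 0, 4, 1, 3, 2, 4, 1, 1, 2, 0, 4, 2, 0, 4, 2, 1, 4, 1, 1, 1, 4, 4, 0, 4, 1, 3, 2, 4, 1, 1, 2, 0, 4, 2, 0, 4, 2],
    [4, 0, 3, 1, 3, 3, 0, 0, 0, 3, 0, 4, 0, 3, 1, 3, 3, 0, 0, 0, 3, 0, 2, 3, 1, 2, 3, 1, 2, 0, 0, 3, 2, 1, 4, 1, 1, 1, 4, 4, 0, 4, 1, 3, 2, 4, 1, 1, 2, 0, 4, 2, 0, 4, 2, 1, 4, 1, 1, 1, 4, 4, 0, 4, 1, 3, 2, 3, 1, 2, 3, 1, 2, 0, 0, 3, 2],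
    [],
    [4, 0, 3, 1, 3, 3, 0, 0, 0, 3, 0, 2, 4, 1, 1, 2, 0, 4, 2, 0, 4, 2, 4, 0, 3, 1, 3, 3, 0, 0, 0, 3, 0, 2, 4, 1, 1, 2, 0, 4, 2, 0, 4, 2, 4, 0, 3, 1, 3, 3, 0, 0, 0, 3, 0, 2, 4, 1, 1, 2, 0, 4, 2, 0, 4, 2],
    [1, 4, 1, 1, 1, 4, 4, 0, 4, 1, 3, 1, 4, 1, 1, 1, 4, 4, 0, 4, 1, 3, 2, 3, 1, 2, 3, 1, 2, 0, 0, 3, 2, 4, 0, 3, 1, 3, 3, 0, 0, 0, 3, 0, 2, 4, 1, 1, 2, 0, 4, 2, 0, 4, 2, 1, 4, 1, 1, 1, 4, 4, 0, 4, 1, 3],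
    [],
    [1, 4, 1, 1, 1, 4, 4, 0, 4, 1, 3, 2, 3, 1, 2, 3, 1, 2, 0, 0, 3, 2, 4, 0, 3, 1, 3, 3, 0, 0, 0, 3, 0, 2, 4, 1, 1, 2, 0, 4, 2, 0, 4, 2, 1, 4, 1, 1, 1, 4, 4, 0, 4, 1, 3, 2, 3, 1, 2, 3, 1, 2, 0, 0, 3, 2],
    [4, 0, 3, 1, 3, 3, 0, 0, 0, 3, 0, 2, 3, 1, 2, 3, 1, 2, 0, 0, 3, 2, 1, 4, 1, 1, 1, 4, 4, 0, 4, 1, 3, 2, 4, 1, 1, 2, 0, 4, 2, 0, 4, 2, 4, 0, 3, 1, 3, 3, 0, 0, 0, 3, 0, 4, 0, 3, 1, 3, 3, 0, 0, 0, 3, 0],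
    [],
    [4, 0, 3, 1, 3, 3, 0, 0, 0, 3, 0, 2, 4, 1, 1, 2, 0, 4, 2, 0, 4, 2, 1, 4, 1, 1, 1, 4, 4, 0, 4, 1, 3, 2, 3, 1, 2, 3, 1, 2, 0, 0, 3, 2, 4, 0, 3, 1, 3, 3, 0, 0, 0, 3, 0, 2, 3, 1, 2, 3, 1, 2, 0, 0, 3, 2],
    [2, 3, 1, 2, 3, 1, 2, 0, 0, 3, 2, 4, 0, 3, 1, 3, 3, 0, 0, 0, 3, 0, 2, 3, 1, 2, 3, 1, 2, 0, 0, 3, 2, 1, 4, 1, 1, 1, 4, 4, 0, 4, 1, 3, 2, 3, 1, 2, 3, 1, 2, 0, 0, 3, 2],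
    [1, 4, 1, 1, 1, 4, 4, 0, 4, 1, 3, 1, 4, 1, 1, 1, 4, 4, 0, 4, 1, 3, 2, 3, 1, 2, 3, 1, 2, 0, 0, 3, 2, 1, 4, 1, 1, 1, 4, 4, 0, 4, 1, 3, 2, 3, 1, 2, 3, 1, 2, 0, 0, 3, 2],
    [4, 0, 3, 1, 3, 3, 0, 0, 0, 3, 0, 4, 0, 3, 1, 3, 3, 0, 0, 0, 3, 0, 4, 0, 3, 1, 3, 3, 0, 0, 0, 3, 0, 2, 4, 1, 1, 2, 0, 4, 2, 0, 4, 2, 1, 4, 1, 1, 1, 4, 4, 0, 4, 1, 3, 2, 4, 1, 1, 2, 0, 4, 2, 0, 4, 2],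
    [],
    [2, 3, 1, 2, 3, 1, 2, 0, 0, 3, 2, 4, 0, 3, 1, 3, 3, 0, 0, 0, 3, 0, 2, 4, 1, 1, 2, 0, 4, 2, 0, 4, 2, 4, 0, 3, 1, 3, 3, 0, 0, 0, 3, 0],
    [],
    [1, 4, 1, 1, 1, 4, 4, 0, 4, 1, 3, 1, 4, 1, 1, 1, 4, 4, 0, 4, 1, 3, 2, 4, 1, 1, 2, 0, 4, 2, 0, 4, 2, 4, 0, 3, 1, 3, 3, 0, 0, 0, 3, 0],
    [],
    [4, 0, 3, 1, 3, 3, 0, 0, 0, 3, 0, 4, 0, 3, 1, 3, 3, 0, 0, 0, 3, 0, 2, 4, 1, 1, 2, 0, 4, 2, 0, 4, 2, 1, 4, 1, 1, 1, 4, 4, 0, 4, 1, 3, 1, 4, 1, 1, 1, 4, 4, 0, 4, 1, 3, 2, 3, 1, 2, 3, 1, 2, 0, 0, 3, 2, 4, 0, 3, 1, 3, 3, 0, 0, 0, 3, 0],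
    [2, 4, 1, 1, 2, 0, 4, 2, 0, 4, 2, 4, 0, 3, 1, 3, 3, 0, 0, 0, 3, 0, 2, 4, 1, 1, 2, 0, 4, 2, 0, 4, 2, 1, 4, 1, 1, 1, 4, 4, 0, 4, 1, 3, 2, 4, 1, 1, 2, 0, 4, 2, 0, 4, 2],
    [2, 4, 1, 1, 2, 0, 4, 2, 0, 4, 2, 4, 0, 3, 1, 3, 3, 0, 0, 0, 3, 0, 2, 3, 1, 2, 3, 1, 2, 0, 0, 3, 2, 4, 0, 3, 1, 3, 3, 0, 0, 0, 3, 0],
    [],
    [4, 0, 3, 1, 3, 3, 0, 0, 0, 3, 0, 2, 4, 1, 1, 2, 0, 4, 2, 0, 4, 2, 4, 0, 3, 1, 3, 3, 0, 0, 0, 3, 0, 2, 3, 1, 2, 3, 1, 2, 0, 0, 3, 2, 1, 4, 1, 1, 1, 4, 4, 0, 4, 1, 3],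
    [2, 4, 1, 1, 2, 0, 4, 2, 0, 4, 2, 1, 4, 1, 1, 1, 4, 4, 0, 4, 1, 3, 2, 4, 1, 1, 2, 0, 4, 2, 0, 4, 2, 1, 4, 1, 1, 1, 4, 4, 0, 4, 1, 3, 2, 3, 1, 2, 3, 1, 2, 0, 0, 3, 2, 1, 4, 1, 1, 1, 4, 4, 0, 4, 1, 3],
    [1, 4, 1, 1, 1, 4, 4, 0, 4, 1, 3, 2, 3, 1, 2, 3, 1, 2, 0, 0, 3, 2, 1, 4, 1, 1, 1, 4, 4, 0, 4, 1, 3, 2, 3, 1, 2, 3, 1, 2, 0, 0, 3, 2, 1, 4, 1, 1, 1, 4, 4, 0, 4, 1, 3, 1, 4, 1, 1, 1, 4, 4, 0, 4, 1, 3],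
    []]

/-- the word of a matrix -/
def Lof (a b c d : ZMod 3) : List ℕ := Ltab.getD (27 * a.val + 9 * b.val + 3 * c.val + d.val) []

/-- words carrying the point `0` to the points of the dodecad -/

def Ptab : List (List ℕ) := [
    [],
    [1, 4, 1, 1, 1, 4, 4, 0, 4, 1, 3, 2, 3, 1, 2, 3, 1, 2, 0, 0, 3, 2],
    [2, 3, 1, 2, 3, 1, 2, 0, 0, 3, 2],
    [1, 4, 1, 1, 1, 4, 4, 0, 4, 1, 3],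
    [2, 3, 1, 2, 3, 1, 2, 0, 0, 3, 2, 1, 4, 1, 1, 1, 4, 4, 0, 4, 1, 3],
    [],
    [1, 4, 1, 1, 1, 4, 4, 0, 4, 1, 3, 2, 3, 1, 2, 3, 1, 2, 0, 0, 3, 2, 4, 0, 3, 1, 3, 3, 0, 0, 0, 3, 0],
    [],
    [4, 0, 3, 1, 3, 3, 0, 0, 0, 3, 0, 2, 4, 1, 1, 2, 0, 4, 2, 0, 4, 2],
    [4, 0, 3, 1, 3, 3, 0, 0, 0, 3, 0, 2, 3, 1, 2, 3, 1, 2, 0, 0, 3, 2],
    [],
    [],
    [2, 4, 1, 1, 2, 0, 4, 2, 0, 4, 2],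
    [2, 3, 1, 2, 3, 1, 2, 0, 0, 3, 2, 4, 0, 3, 1, 3, 3, 0, 0, 0, 3, 0],
    [],
    [],
    [4, 0, 3, 1, 3, 3, 0, 0, 0, 3, 0],
    [],
    [4, 0, 3, 1, 3, 3, 0, 0, 0, 3, 0, 2, 3, 1, 2, 3, 1, 2, 0, 0, 3, 2, 1, 4, 1, 1, 1, 4, 4, 0, 4, 1, 3],
    [],
    [],
    [],
    [],
    []]

/-- the word carrying the point `0` to the point `j` -/
def Pof (j : Fin 24) : List ℕ := Ptab.getD j.val []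

theorem bix_inj : ∀ v1 v2 u1 u2 : ZMod 3, bix v1 v2 = bix u1 u2 → v1 = u1 ∧ v2 = u2 := by
  decide +kernel

theorem T_ok : ∀ e f : ZMod 3,
    (∀ v1 v2 : ZMod 3, evalT (Tof e f) (bix v1 v2) = bix (v1 + e) (v2 + f)) ∧
    Cfsg.Agent.S1599.chkDQ (evalT (Tof e f)) 1237954224850713470709006616
      1237954224850713470709006616 0 = true := by
  decide +kernel

theorem L_ok : ∀ a b c d : ZMod 3, a * d - b * c ≠ 0 →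
    (∀ v1 v2 : ZMod 3, evalT (Lof a b c d) (bix v1 v2) = bix (a * v1 + b * v2) (c * v1 + d * v2)) ∧
    Cfsg.Agent.S1599.chkDQ (evalT (Lof a b c d)) 1237954224850713470709006616
      1237954224850713470709006616 0 = true := by
  decide +kernel

theorem P_ok : ∀ j : Fin 24, (combo 1).testBit j = true →
    evalT (Pof j) 0 = j ∧
    Cfsg.Agent.S1599.chkDQ (evalT (Pof j)) 1237954224850713470709006616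
      1237954224850713470709006616 0 = true := by
  decide +kernel

/-- the quartet stabiliser as a group of permutations -/
def K0 : Subgroup (Equiv.Perm GolayPt) :=
  stabX Cfsg.Agent.S1599.objDQ 1237954224850713470709006616

theorem evalW_mem_K0 (w : List ℕ)
    (h : Cfsg.Agent.S1599.chkDQ (evalT w) 1237954224850713470709006616
      1237954224850713470709006616 0 = true) : evalW w ∈ K0 := by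
  have hM : evalW w ∈ M24 := H0_le_M24 (evalW_mem _)
  have hT : HasTable ((evalW w)⁻¹)⁻¹ (evalT w) := by
    rw [inv_inv]
    exact evalW_table w
  have h1 := Cfsg.Agent.S1599.soundDQ _ (inv_mem hM) _ hT _ _ _ h
  unfold K0
  rw [mem_stabX]
  refine ⟨hM, ?_⟩
  calc evalW w • Cfsg.Agent.S1599.objDQ 1237954224850713470709006616
      = evalW w • ((evalW w)⁻¹ • Cfsg.Agent.S1599.objDQ 1237954224850713470709006616) := by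
        rw [h1]
    _ = Cfsg.Agent.S1599.objDQ 1237954224850713470709006616 := smul_inv_smul _ _

/-- `g` acts on the nine points as the affine map with matrix `A` and translation part `t` -/
def ActsAs (g : Equiv.Perm GolayPt) (A : GL (Fin 2) (ZMod 3)) (t : ZMod 3 × ZMod 3) : Prop :=
  ∀ v1 v2 : ZMod 3, g (gpt (bix v1 v2)) =
    gpt (bix (A.1 0 0 * v1 + A.1 0 1 * v2 + t.1) (A.1 1 0 * v1 + A.1 1 1 * v2 + t.2))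

theorem actsAs_unique {g : Equiv.Perm GolayPt} {A B : GL (Fin 2) (ZMod 3)}
    {t s : ZMod 3 × ZMod 3} (h1 : ActsAs g A t) (h2 : ActsAs g B s) : A = B ∧ t = s := by
  have key : ∀ v1 v2 : ZMod 3,
      A.1 0 0 * v1 + A.1 0 1 * v2 + t.1 = B.1 0 0 * v1 + B.1 0 1 * v2 + s.1 ∧
      A.1 1 0 * v1 + A.1 1 1 * v2 + t.2 = B.1 1 0 * v1 + B.1 1 1 * v2 + s.2 := by
    intro v1 v2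
    have e := (h1 v1 v2).symm.trans (h2 v1 v2)
    exact bix_inj _ _ _ _ (gpt_bij.injective e)
  have k00 := key 0 0
  have k10 := key 1 0
  have k01 := key 0 1
  simp only [mul_zero, mul_one, add_zero, zero_add] at k00 k10 k01
  have ht : t = s := Prod.ext k00.1 k00.2
  refine ⟨?_, ht⟩
  rw [k00.1, k00.2] at k10 k01
  apply Units.ext
  ext i j
  fin_cases i <;> fin_cases j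
  · exact add_right_cancel k10.1
  · exact add_right_cancel k01.1
  · exact add_right_cancel k10.2
  · exact add_right_cancel k01.2

theorem actsAs_one : ActsAs 1 1 (0, 0) := by
  intro v1 v2
  simp [Matrix.one_apply]

theorem actsAs_mul {g h : Equiv.Perm GolayPt} {A B : GL (Fin 2) (ZMod 3)}
    {t s : ZMod 3 × ZMod 3} (h1 : ActsAs g A t) (h2 : ActsAs h B s) :
    ActsAs (g * h) (A * B)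
      (A.1 0 0 * s.1 + A.1 0 1 * s.2 + t.1, A.1 1 0 * s.1 + A.1 1 1 * s.2 + t.2) := by
  intro v1 v2
  rw [Equiv.Perm.mul_apply, h2 v1 v2, h1]
  congr 2
  · rw [Units.val_mul, Matrix.mul_apply, Matrix.mul_apply, Fin.sum_univ_two, Fin.sum_univ_two]
    ring
  · rw [Units.val_mul, Matrix.mul_apply, Matrix.mul_apply, Fin.sum_univ_two, Fin.sum_univ_two]
    ring

/-- the element with given matrix and translation part -/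
noncomputable def PsiFun (p : GL (Fin 2) (ZMod 3) × (ZMod 3 × ZMod 3)) : Equiv.Perm GolayPt :=
  evalW (Tof p.2.1 p.2.2) * evalW (Lof (p.1.1 0 0) (p.1.1 0 1) (p.1.1 1 0) (p.1.1 1 1))

theorem PsiFun_mem (p : GL (Fin 2) (ZMod 3) × (ZMod 3 × ZMod 3)) : PsiFun p ∈ K0 :=
  K0.mul_mem (evalW_mem_K0 _ (T_ok _ _).2) (evalW_mem_K0 _ (L_ok _ _ _ _ (det_ne p.1)).2)

theorem PsiFun_acts (p : GL (Fin 2) (ZMod 3) × (ZMod 3 × ZMod 3)) : ActsAs (PsiFun p) p.1 p.2 := by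
  intro v1 v2
  rw [PsiFun, Equiv.Perm.mul_apply, evalW_table _ _, (L_ok _ _ _ _ (det_ne p.1)).1,
    evalW_table _ _, (T_ok _ _).1]

theorem card_GL23 : Nat.card (GL (Fin 2) (ZMod 3)) = 48 := by
  have h := Matrix.card_GL_field (𝔽 := ZMod 3) 2
  rw [ZMod.card, Fin.prod_univ_two] at h
  rw [h]
  norm_num

theorem card_K0 : Nat.card K0 = 432 := by
  rw [← Cfsg.Agent.S1599.card_stab]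
  apply Nat.card_congr
  refine ⟨fun k => ⟨⟨k.1, (mem_stabX.1 k.2).1⟩, (Cfsg.Agent.S1599.mem_stab_iff _).2 k.2⟩,
    fun g => ⟨g.1.1, (Cfsg.Agent.S1599.mem_stab_iff g.1).1 g.2⟩, ?_, ?_⟩
  · intro k
    rfl
  · intro g
    rfl

theorem Psi_bij : Function.Bijective
    (fun p : GL (Fin 2) (ZMod 3) × (ZMod 3 × ZMod 3) => (⟨PsiFun p, PsiFun_mem p⟩ : ↥K0)) := by
  apply Function.Injective.bijective_of_nat_card_le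
  · intro p q h
    have h1 : PsiFun p = PsiFun q := congrArg Subtype.val h
    have h2 := PsiFun_acts p
    rw [h1] at h2
    obtain ⟨e1, e2⟩ := actsAs_unique h2 (PsiFun_acts q)
    exact Prod.ext e1 e2
  · rw [card_K0, Nat.card_prod, Nat.card_prod, card_GL23, Nat.card_eq_fintype_card, ZMod.card]

theorem exists_acts (g : Equiv.Perm GolayPt) (hg : g ∈ K0) :
    ∃ (A : GL (Fin 2) (ZMod 3)) (t : ZMod 3 × ZMod 3), ActsAs g A t := by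
  obtain ⟨p, hp⟩ := Psi_bij.2 ⟨g, hg⟩
  have h1 : PsiFun p = g := congrArg Subtype.val hp
  exact ⟨p.1, p.2, h1 ▸ PsiFun_acts p⟩

/-- the linear part of an element of the quartet stabiliser -/
noncomputable def linPart : ↥K0 →* GL (Fin 2) (ZMod 3) where
  toFun g := (exists_acts g.1 g.2).choose
  map_one' := by
    have h := (exists_acts (1 : ↥K0).1 (1 : ↥K0).2).choose_spec.choose_spec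
    exact (actsAs_unique h actsAs_one).1
  map_mul' g h := by
    have h1 := (exists_acts g.1 g.2).choose_spec.choose_spec
    have h2 := (exists_acts h.1 h.2).choose_spec.choose_spec
    have h3 := (exists_acts (g * h).1 (g * h).2).choose_spec.choose_spec
    exact (actsAs_unique h3 (actsAs_mul h1 h2)).1

theorem linPart_surjective : Function.Surjective linPart := by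
  intro A
  refine ⟨⟨PsiFun (A, (0, 0)), PsiFun_mem _⟩, ?_⟩
  have h := (exists_acts (PsiFun (A, (0, 0))) (PsiFun_mem _)).choose_spec.choose_spec
  exact (actsAs_unique h (PsiFun_acts (A, (0, 0)))).1

theorem K0_trans (i j : Fin 24) (hi : (combo 1).testBit i = true)
    (hj : (combo 1).testBit j = true) : ∃ g ∈ K0, g (gpt i) = gpt j := by
  refine ⟨evalW (Pof j) * (evalW (Pof i))⁻¹,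
    K0.mul_mem (evalW_mem_K0 _ (P_ok j hj).2) (K0.inv_mem (evalW_mem_K0 _ (P_ok i hi).2)), ?_⟩
  have h1 : evalW (Pof i) (gpt 0) = gpt i := by rw [evalW_table _ _, (P_ok i hi).1]
  have h2 : evalW (Pof j) (gpt 0) = gpt j := by rw [evalW_table _ _, (P_ok j hj).1]
  rw [Equiv.Perm.mul_apply, ← h1, perm_inv_apply_self, h2]

end Cfsg.Agent.Lib.Helper1.AGL
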