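import Mathlib

set_option autoImplicit false

namespace Cfsg.Agent.Lib.Helper1

/-- an automorphism is trivial as soon as, for every prime `q` dividing its order, the fixed point
congruence `|Q| ≡ |F| mod q` forces `F = Q` for subgroups `F` -/
theorem mulAut_eq_one_of_fixed {Q : Type*} [Group Q] [Finite Q] (β : MulAut Q)
    (h : ∀ q : ℕ, q.Prime → q ∣ orderOf β → ∀ F : Subgroup Q,
      Nat.card Q ≡ Nat.card F [MOD q] → F = ⊤) : β = 1 := by
  by_contra hne
  have hord : orderOf β ≠ 1 := fun h1 => hne (orderOf_eq_one_iff.1 h1)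
  obtain ⟨q, hq, hqd⟩ := Nat.exists_prime_and_dvd hord
  haveI := Fact.mk hq
  have hfin : IsOfFinOrder β := isOfFinOrder_of_finite β
  have hpos : 0 < orderOf β := hfin.orderOf_pos
  set γ := β ^ (orderOf β / q) with hγ
  have hγord : orderOf γ = q := orderOf_pow_orderOf_div hpos.ne' hqd
  set Z := Subgroup.zpowers γ with hZ
  have hZp : IsPGroup q Z := by
    apply IsPGroup.of_card (n := 1)
    rw [Nat.card_zpowers, hγord, pow_one]
  have hmod := hZp.card_modEq_card_fixedPoints Q
  have hF := h q hq hqd (FixedPoints.subgroup Z Q) hmod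
  have hγ1 : γ = 1 := by
    ext t
    have ht : t ∈ FixedPoints.subgroup Z Q := by rw [hF]; trivial
    exact ht ⟨γ, Subgroup.mem_zpowers _⟩
  rw [hγ1, orderOf_one] at hγord
  exact hq.one_lt.ne hγord

/-- an element normalising `Q` centralises it under the fixed point criterion -/
theorem mem_centralizer_of_fixed {G : Type*} [Group G] [Finite G] (Q : Subgroup G) (g : G)
    (hg : g ∈ Subgroup.normalizer (Q : Set G))
    (h : ∀ q : ℕ, q.Prime → q ∣ orderOf g → ∀ F : Subgroup Q,
      Nat.card Q ≡ Nat.card F [MOD q] → F = ⊤) : g ∈ Subgroup.centralizer (Q : Set G) := by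
  set β := Q.normalizerMonoidHom ⟨g, hg⟩ with hβ
  have hdvd : orderOf β ∣ orderOf g := by
    have h1 : orderOf β ∣ orderOf (⟨g, hg⟩ : Subgroup.normalizer (Q : Set G)) :=
      orderOf_map_dvd _ _
    rwa [Subgroup.orderOf_mk] at h1
  have hβ1 : β = 1 := mulAut_eq_one_of_fixed β (fun q hq hqd F hF => h q hq (dvd_trans hqd hdvd) F hF)
  have hker : (⟨g, hg⟩ : Subgroup.normalizer (Q : Set G)) ∈ Q.normalizerMonoidHom.ker :=
    MonoidHom.mem_ker.2 hβ1
  rw [Subgroup.normalizerMonoidHom_ker, Subgroup.mem_subgroupOf] at hker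
  exact hker

end Cfsg.Agent.Lib.Helper1
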