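import Mathlib

set_option autoImplicit false

namespace Cfsg.Agent.Lib.Helper1

variable {G : Type*} [Group G]

theorem sq_eq_one_of_orderOf_two {d : G} (h : orderOf d = 2) : d * d = 1 := by
  have := pow_orderOf_eq_one d
  rw [h, pow_two] at this
  exact this

theorem inv_eq_self_of_orderOf_two {d : G} (h : orderOf d = 2) : d⁻¹ = d :=
  inv_eq_of_mul_eq_one_left (sq_eq_one_of_orderOf_two h)

theorem ne_one_of_orderOf_two {d : G} (h : orderOf d = 2) : d ≠ 1 := by
  intro h1
  rw [h1, orderOf_one] at h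
  norm_num at h

theorem orderOf_eq_two_iff' {d : G} : orderOf d = 2 ↔ d * d = 1 ∧ d ≠ 1 := by
  constructor
  · intro h
    exact ⟨sq_eq_one_of_orderOf_two h, ne_one_of_orderOf_two h⟩
  · rintro ⟨h1, h2⟩
    have : orderOf d ∣ 2 := orderOf_dvd_of_pow_eq_one (by rw [pow_two]; exact h1)
    rcases (Nat.dvd_prime Nat.prime_two).1 this with h | h
    · exact absurd (orderOf_eq_one_iff.1 h) h2
    · exact h

/-- involutions whose product squares to one commute -/
theorem commute_of_mul_sq {d e : G} (hd : d * d = 1) (he : e * e = 1) (h : (d * e) ^ 2 = 1) :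
    Commute d e := by
  have hd' : d⁻¹ = d := inv_eq_of_mul_eq_one_left hd
  have he' : e⁻¹ = e := inv_eq_of_mul_eq_one_left he
  have h1 : (d * e) * (d * e) = 1 := by rw [← pow_two]; exact h
  have h2 : d * e = (d * e)⁻¹ := (inv_eq_of_mul_eq_one_left h1).symm
  rw [mul_inv_rev, hd', he'] at h2
  exact h2

/-- braid relation from `(d e)^3 = 1` for involutions -/
theorem braid_of_mul_cube {d e : G} (hd : d * d = 1) (he : e * e = 1) (h : (d * e) ^ 3 = 1) :
    e * d * e = d * e * d := by
  have hd' : d⁻¹ = d := inv_eq_of_mul_eq_one_left hd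
  have he' : e⁻¹ = e := inv_eq_of_mul_eq_one_left he
  have h1 : (d * e * d) * (e * d * e) = 1 := by
    have : (d * e) ^ 3 = (d * e * d) * (e * d * e) := by
      rw [pow_succ, pow_two]; group
    rw [← this]; exact h
  have h2 : e * d * e = (d * e * d)⁻¹ := (inv_eq_of_mul_eq_one_right h1).symm
  rw [h2, mul_inv_rev, mul_inv_rev, hd', he', mul_assoc]

/-- an involution `a` inverts the powers of `a * b` when `b` is an involution -/
theorem conj_mul_pow {a b : G} (ha : a * a = 1) (hb : b * b = 1) (k : ℕ) :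
    a * (a * b) ^ k * a = ((a * b) ^ k)⁻¹ := by
  have ha' : a⁻¹ = a := inv_eq_of_mul_eq_one_left ha
  have hb' : b⁻¹ = b := inv_eq_of_mul_eq_one_left hb
  have h1 : a * (a * b) * a⁻¹ = (a * b)⁻¹ := by
    rw [mul_inv_rev, hb', ← mul_assoc, ha, one_mul]
  have h2 : a * (a * b) ^ k * a⁻¹ = ((a * b)⁻¹) ^ k := by
    rw [← h1, conj_pow]
  rw [ha'] at h2
  rw [h2, inv_pow]

end Cfsg.Agent.Lib.Helper1
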