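import Mathlib
import Cfsg.Agent.Lib.Helper1.Invol

set_option autoImplicit false

namespace Cfsg.Agent.Lib.Helper1

section
variable {G : Type*} [Group G]

/-- the set of ordered pairs of involutions with product `x` -/
abbrev InvPairs (x : G) : Type _ :=
  {p : G × G // orderOf p.1 = 2 ∧ orderOf p.2 = 2 ∧ p.1 * p.2 = x}

theorem invPairs_fst_inverts {x : G} (p : InvPairs x) :
    p.1.1 * x * p.1.1⁻¹ = x⁻¹ := by
  obtain ⟨⟨u, v⟩, hu, hv, huv⟩ := p
  simp only at hu hv huv ⊢
  have hu2 : u * u = 1 := sq_eq_one_of_orderOf_two hu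
  have hv2 : v * v = 1 := sq_eq_one_of_orderOf_two hv
  have hui : u⁻¹ = u := inv_eq_of_mul_eq_one_left hu2
  have hvi : v⁻¹ = v := inv_eq_of_mul_eq_one_left hv2
  rw [← huv, mul_inv_rev, hui, hvi]
  calc u * (u * v) * u = (u * u) * v * u := by group
    _ = v * u := by rw [hu2, one_mul]

theorem invPairs_fst_injective (x : G) :
    Function.Injective (fun p : InvPairs x => p.1.1) := by
  rintro ⟨⟨u, v⟩, hu, hv, huv⟩ ⟨⟨u', v'⟩, hu', hv', huv'⟩ h
  simp only at h huv huv'
  subst h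
  have : v = v' := by
    have := huv.trans huv'.symm
    exact mul_left_cancel this
  subst this
  rfl

/-- pairs of involutions with product `x` correspond to involutions `u` with `u * x` an
involution -/
def invPairsEquiv (x : G) :
    InvPairs x ≃ {u : G // orderOf u = 2 ∧ orderOf (u * x) = 2} where
  toFun p := ⟨p.1.1, p.2.1, by
    obtain ⟨⟨u, v⟩, hu, hv, huv⟩ := p
    simp only at hu hv huv ⊢
    have hu2 : u * u = 1 := sq_eq_one_of_orderOf_two hu
    have : u * x = v := by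
      rw [← huv, ← mul_assoc, hu2, one_mul]
    rw [this]; exact hv⟩
  invFun u := ⟨(u.1, u.1 * x), u.2.1, u.2.2, by
    have hu2 : u.1 * u.1 = 1 := sq_eq_one_of_orderOf_two u.2.1
    show u.1 * (u.1 * x) = x
    rw [← mul_assoc, hu2, one_mul]⟩
  left_inv p := by
    obtain ⟨⟨u, v⟩, hu, hv, huv⟩ := p
    simp only at hu hv huv
    have hu2 : u * u = 1 := sq_eq_one_of_orderOf_two hu
    apply Subtype.ext
    show (u, u * x) = (u, v)
    rw [← huv, ← mul_assoc, hu2, one_mul]
  right_inv u := by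
    apply Subtype.ext
    rfl

/-- for an involution `u`, `u * x` is an involution iff `u` inverts `x` and `u ≠ x⁻¹` -/
theorem orderOf_mul_eq_two_iff {u x : G} (hu : orderOf u = 2) :
    orderOf (u * x) = 2 ↔ u * x * u⁻¹ = x⁻¹ ∧ u ≠ x⁻¹ := by
  have hu2 : u * u = 1 := sq_eq_one_of_orderOf_two hu
  have hui : u⁻¹ = u := inv_eq_of_mul_eq_one_left hu2
  rw [orderOf_eq_two_iff']
  constructor
  · rintro ⟨h2, h1⟩
    refine ⟨?_, ?_⟩
    · rw [hui]
      have e : u * x * u = (u * x) * (u * x) * x⁻¹ := by group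
      rw [e, h2, one_mul]
    · intro h
      apply h1
      rw [h]; exact inv_mul_cancel x
  · rintro ⟨h1, h2⟩
    refine ⟨?_, ?_⟩
    · have e : (u * x) * (u * x) = (u * x * u⁻¹) * (u * u) * x := by group
      rw [e, h1, hu2, mul_one, inv_mul_cancel]
    · intro h
      apply h2
      exact eq_inv_of_mul_eq_one_left h

/-- the elements inverting `x` form a coset of the centralizer -/
def inverterEquiv {x g₀ : G} (h₀ : g₀ * x * g₀⁻¹ = x⁻¹) :
    {g : G // g * x * g⁻¹ = x⁻¹} ≃ Subgroup.centralizer ({x} : Set G) where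
  toFun g := ⟨g₀⁻¹ * g.1, by
    rw [Subgroup.mem_centralizer_singleton_iff]
    have hg := g.2
    calc g₀⁻¹ * g.1 * x = g₀⁻¹ * (g.1 * x * g.1⁻¹) * g.1 := by group
      _ = g₀⁻¹ * (g₀ * x * g₀⁻¹) * g.1 := by rw [hg, h₀]
      _ = x * (g₀⁻¹ * g.1) := by group⟩
  invFun c := ⟨g₀ * c.1, by
    have hc := Subgroup.mem_centralizer_singleton_iff.1 c.2
    calc g₀ * c.1 * x * (g₀ * c.1)⁻¹ = g₀ * (c.1 * x) * c.1⁻¹ * g₀⁻¹ := by group
      _ = g₀ * (x * c.1) * c.1⁻¹ * g₀⁻¹ := by rw [hc]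
      _ = g₀ * x * g₀⁻¹ := by group
      _ = x⁻¹ := h₀⟩
  left_inv g := by
    apply Subtype.ext
    show g₀ * (g₀⁻¹ * g.1) = g.1
    group
  right_inv c := by
    apply Subtype.ext
    show g₀⁻¹ * (g₀ * c.1) = c.1
    group

theorem card_inverters {x : G} (hreal : IsConj x x⁻¹) :
    Nat.card {g : G // g * x * g⁻¹ = x⁻¹} = Nat.card (Subgroup.centralizer ({x} : Set G)) := by
  obtain ⟨g₀, h₀⟩ := isConj_iff.1 hreal
  exact Nat.card_congr (inverterEquiv h₀)

theorem isEmpty_inverters {x : G} (hreal : ¬ IsConj x x⁻¹) :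
    IsEmpty {g : G // g * x * g⁻¹ = x⁻¹} := by
  constructor
  rintro ⟨g, hg⟩
  exact hreal (isConj_iff.2 ⟨g, hg⟩)

/-- the injection of pairs into inverters -/
def invPairsToInverters (x : G) (p : InvPairs x) : {g : G // g * x * g⁻¹ = x⁻¹} :=
  ⟨p.1.1, invPairs_fst_inverts p⟩

theorem invPairsToInverters_injective (x : G) :
    Function.Injective (invPairsToInverters x) := by
  intro p q h
  apply invPairs_fst_injective x
  exact congrArg Subtype.val h

end

end Cfsg.Agent.Lib.Helper1
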