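import Mathlib
import Cfsg.Agent.Lib.Helper1.InvPairs
import Cfsg.Agent.S0238

set_option autoImplicit false

namespace Cfsg.Agent.Lib.Helper1

section
variable {G : Type*} [Group G]

/-- the extended centralizer `C*(x)`: elements conjugating `x` to `x` or `x⁻¹` -/
def extCentralizer (x : G) : Subgroup G where
  carrier := {g | g * x * g⁻¹ = x ∨ g * x * g⁻¹ = x⁻¹}
  one_mem' := Or.inl (by simp)
  mul_mem' := by
    intro a b ha hb
    have e : a * b * x * (a * b)⁻¹ = a * (b * x * b⁻¹) * a⁻¹ := by group
    have e' : a * x⁻¹ * a⁻¹ = (a * x * a⁻¹)⁻¹ := by group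
    rcases hb with hb | hb
    · rcases ha with ha | ha
      · exact Or.inl (by rw [e, hb, ha])
      · exact Or.inr (by rw [e, hb, ha])
    · rcases ha with ha | ha
      · exact Or.inr (by rw [e, hb, e', ha])
      · exact Or.inl (by rw [e, hb, e', ha, inv_inv])
  inv_mem' := by
    intro a ha
    rcases ha with ha | ha
    · left
      have : a⁻¹ * x * a⁻¹⁻¹ = a⁻¹ * (a * x * a⁻¹) * a := by rw [ha, inv_inv]
      rw [this]; group
    · right
      have h1 : a * x⁻¹ * a⁻¹ = x := by
        rw [← inv_inj]
        simp only [mul_inv_rev, inv_inv]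
        rw [← mul_assoc]
        exact ha
      calc a⁻¹ * x * a⁻¹⁻¹ = a⁻¹ * (a * x⁻¹ * a⁻¹) * a := by rw [h1, inv_inv]
        _ = x⁻¹ := by group

theorem mem_extCentralizer {x g : G} :
    g ∈ extCentralizer x ↔ g * x * g⁻¹ = x ∨ g * x * g⁻¹ = x⁻¹ := Iff.rfl

theorem centralizer_le_extCentralizer (x : G) :
    Subgroup.centralizer ({x} : Set G) ≤ extCentralizer x := by
  intro g hg
  left
  rw [Subgroup.mem_centralizer_singleton_iff] at hg
  rw [hg]; group

theorem card_extCentralizer [Finite G] {x : G} (hx : x ^ 2 ≠ 1) (hreal : IsConj x x⁻¹) :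
    Nat.card (extCentralizer x) = 2 * Nat.card (Subgroup.centralizer ({x} : Set G)) := by
  classical
  have hne : x ≠ x⁻¹ := by
    intro h
    apply hx
    rw [pow_two]
    nth_rewrite 2 [h]
    exact mul_inv_cancel x
  have e : extCentralizer x ≃ (Subgroup.centralizer ({x} : Set G)) ⊕ {g : G // g * x * g⁻¹ = x⁻¹} :=
    { toFun := fun g => if h : (g : G) * x * (g : G)⁻¹ = x then
          Sum.inl ⟨g, by
            rw [Subgroup.mem_centralizer_singleton_iff]
            calc (g : G) * x = ((g : G) * x * (g : G)⁻¹) * g := by group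
              _ = x * g := by rw [h]⟩
        else Sum.inr ⟨g, by
          rcases g.2 with h' | h'
          · exact absurd h' h
          · exact h'⟩
      invFun := fun s => match s with
        | Sum.inl c => ⟨c, centralizer_le_extCentralizer x c.2⟩
        | Sum.inr i => ⟨i, Or.inr i.2⟩
      left_inv := by
        intro g
        by_cases h : (g : G) * x * (g : G)⁻¹ = x
        · simp [h]
        · simp [h]
      right_inv := by
        rintro (c | i)
        · have hc : (c : G) * x * (c : G)⁻¹ = x := by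
            have := Subgroup.mem_centralizer_singleton_iff.1 c.2
            rw [this]; group
          simp [hc]
        · have hi : ¬ ((i : G) * x * (i : G)⁻¹ = x) := by
            rw [i.2]; exact fun h => hne h.symm
          simp [hi] }
  rw [Nat.card_congr e, Nat.card_sum, card_inverters hreal]
  ring

/-- the pairs of involutions, counted by their product -/
theorem sum_card_invPairs [Fintype G] :
    ∑ x : G, Nat.card (InvPairs x) =
      Nat.card {t : G // orderOf t = 2} * Nat.card {t : G // orderOf t = 2} := by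
  classical
  rw [← Nat.card_sigma, ← Nat.card_prod]
  apply Nat.card_congr
  exact
    { toFun := fun s => (⟨s.2.1.1, s.2.2.1⟩, ⟨s.2.1.2, s.2.2.2.1⟩)
      invFun := fun uv => ⟨uv.1.1 * uv.2.1, ⟨(uv.1.1, uv.2.1), uv.1.2, uv.2.2, rfl⟩⟩
      left_inv := by
        rintro ⟨x, ⟨⟨u, v⟩, hu, hv, rfl⟩⟩
        rfl
      right_inv := by
        rintro ⟨⟨u, hu⟩, ⟨v, hv⟩⟩
        rfl }

/-- The Brauer–Fowler counting inequality. -/
theorem bf_count [Finite G] (A B : ℕ)
    (hA : ∀ x : G, orderOf x = 2 → Nat.card (Subgroup.centralizer ({x} : Set G)) ≤ A)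
    (hB : ∀ x : G, x ^ 2 ≠ 1 → IsConj x x⁻¹ → Nat.card (Subgroup.centralizer ({x} : Set G)) ≤ B) :
    ∃ r : ℕ, Nat.card {t : G // orderOf t = 2} + 1 + r = Nat.card G ∧
      Nat.card {t : G // orderOf t = 2} * Nat.card {t : G // orderOf t = 2} +
        Nat.card {t : G // orderOf t = 2} ≤ Nat.card {t : G // orderOf t = 2} * A + r * B := by
  classical
  haveI := Fintype.ofFinite G
  set n := Nat.card {t : G // orderOf t = 2} with hn
  set I : Finset G := Finset.univ.filter (fun x => orderOf x = 2) with hI
  set R : Finset G := (Finset.univ.filter (fun x : G => ¬ orderOf x = 2)).erase 1 with hR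
  have hIcard : I.card = n := by
    rw [hn, Nat.card_eq_fintype_card, Fintype.card_subtype]
  have h1mem : (1 : G) ∈ Finset.univ.filter (fun x : G => ¬ orderOf x = 2) := by
    simp
  have hcard2 : I.card + (Finset.univ.filter (fun x : G => ¬ orderOf x = 2)).card = Nat.card G := by
    rw [Nat.card_eq_fintype_card, ← Finset.card_univ (α := G)]
    exact Finset.card_filter_add_card_filter_not (fun x : G => orderOf x = 2)
  have hRcard : R.card + 1 = (Finset.univ.filter (fun x : G => ¬ orderOf x = 2)).card := by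
    rw [hR, Finset.card_erase_of_mem h1mem]
    have : 0 < (Finset.univ.filter (fun x : G => ¬ orderOf x = 2)).card :=
      Finset.card_pos.2 ⟨1, h1mem⟩
    omega
  refine ⟨R.card, by omega, ?_⟩
  have hsum := sum_card_invPairs (G := G)
  rw [← hn] at hsum
  have hsplit : ∑ x : G, Nat.card (InvPairs x) =
      ∑ x ∈ I, Nat.card (InvPairs x) + (Nat.card (InvPairs (1 : G)) + ∑ x ∈ R, Nat.card (InvPairs x)) := by
    rw [← Finset.sum_filter_add_sum_filter_not Finset.univ (fun x : G => orderOf x = 2), hR,
      Finset.add_sum_erase _ (fun x : G => Nat.card (InvPairs x)) h1mem]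
  -- bounds
  have hb1 : Nat.card (InvPairs (1 : G)) ≤ n := by
    rw [hn]
    apply Nat.card_le_card_of_injective (fun p : InvPairs (1 : G) => (⟨p.1.1, p.2.1⟩ : {t : G // orderOf t = 2}))
    intro p q hpq
    apply invPairs_fst_injective (1 : G)
    exact congrArg Subtype.val hpq
  have hbI : ∑ x ∈ I, Nat.card (InvPairs x) + 2 * n ≤ n * A := by
    have h1 : ∑ x ∈ I, (Nat.card (InvPairs x) + 2) ≤ ∑ _x ∈ I, A := by
      apply Finset.sum_le_sum
      intro x hx
      have hx2 : orderOf x = 2 := (Finset.mem_filter.1 hx).2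
      exact le_trans ((Cfsg.Agent.S0238.result x).2.2 hx2) (hA x hx2)
    rw [Finset.sum_add_distrib, Finset.sum_const, Finset.sum_const, hIcard, smul_eq_mul, smul_eq_mul] at h1
    linarith
  have hbR : ∑ x ∈ R, Nat.card (InvPairs x) ≤ R.card * B := by
    have h1 : ∑ x ∈ R, Nat.card (InvPairs x) ≤ ∑ _x ∈ R, B := by
      apply Finset.sum_le_sum
      intro x hx
      obtain ⟨hx1, hx2⟩ := Finset.mem_erase.1 hx
      have hx3 : ¬ orderOf x = 2 := (Finset.mem_filter.1 hx2).2
      have hxsq : x ^ 2 ≠ 1 := by
        intro h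
        have hd : orderOf x ∣ 2 := orderOf_dvd_of_pow_eq_one h
        rcases (Nat.dvd_prime Nat.prime_two).1 hd with h1 | h2
        · exact hx1 (orderOf_eq_one_iff.1 h1)
        · exact hx3 h2
      by_cases hreal : IsConj x x⁻¹
      · exact le_trans (Cfsg.Agent.S0238.result x).1 (hB x hxsq hreal)
      · have : Nat.card (InvPairs x) = 0 := (Cfsg.Agent.S0238.result x).2.1 hreal
        rw [this]; exact Nat.zero_le _
    rw [Finset.sum_const, smul_eq_mul] at h1
    exact h1
  rw [hsplit] at hsum
  nlinarith [hsum, hb1, hbI, hbR]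

end

end Cfsg.Agent.Lib.Helper1
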