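import Mathlib
import Cfsg.Prelude.Def_LieExceptional

set_option autoImplicit false

namespace Cfsg.Agent.Lib.Helper1

open DoubleCoset

variable {G : Type*} [Group G]

/-- The data of a Tits system without the generation condition. -/
structure TitsData (B N : Subgroup G) (S : Set G) : Prop where
  conj_mem : ∀ n ∈ N, ∀ t ∈ B ⊓ N, n * t * n⁻¹ ∈ B
  subset : S ⊆ (N : Set G)
  sq_mem : ∀ s ∈ S, s * s ∈ B
  closure_sup : Subgroup.closure S ⊔ (B ⊓ N) = N
  mul_mem_union : ∀ s ∈ S, ∀ n ∈ N, ∀ b ∈ B,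
    s * b * n ∈ doubleCoset (s * n) (B : Set G) B ∪ doubleCoset n (B : Set G) B
  conj_ne : ∀ s ∈ S, (fun b : G => s * b * s) '' (B : Set G) ≠ (B : Set G)

theorem titsData_of_BNPair (P : Cfsg.BNPair G) : TitsData P.B P.N P.S where
  conj_mem := P.conj_mem
  subset := P.subset
  sq_mem := P.sq_mem
  closure_sup := P.closure_sup
  mul_mem_union := P.mul_mem_union
  conj_ne := P.conj_ne

namespace TitsData

variable {B N : Subgroup G} {S : Set G}

/-- the double coset `B n B` -/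
abbrev dc (B : Subgroup G) (n : G) : Set G := doubleCoset n (B : Set G) B

theorem mem_dc {n g : G} : g ∈ dc B n ↔ ∃ x ∈ B, ∃ y ∈ B, g = x * n * y :=
  mem_doubleCoset

theorem self_mem_dc (n : G) : n ∈ dc B n := mem_doubleCoset_self B B n

theorem dc_eq_of_mem {n g : G} (h : g ∈ dc B n) : dc B g = dc B n := doubleCoset_eq_of_mem h

theorem mul_mem_dc {n g b : G} (hb : b ∈ B) (h : g ∈ dc B n) : b * g ∈ dc B n := by
  obtain ⟨x, hx, y, hy, rfl⟩ := mem_dc.1 h
  exact mem_dc.2 ⟨b * x, B.mul_mem hb hx, y, hy, by group⟩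

theorem mem_dc_mul {n g b : G} (hb : b ∈ B) (h : g ∈ dc B n) : g * b ∈ dc B n := by
  obtain ⟨x, hx, y, hy, rfl⟩ := mem_dc.1 h
  exact mem_dc.2 ⟨x, hx, y * b, B.mul_mem hy hb, by group⟩

theorem dc_eq_of_rel {n n' : G} (h : n⁻¹ * n' ∈ B) : dc B n' = dc B n := by
  apply dc_eq_of_mem
  exact mem_dc.2 ⟨1, B.one_mem, n⁻¹ * n', h, by group⟩

theorem dc_one : dc B (1 : G) = (B : Set G) := by
  ext g
  constructor
  · intro h
    obtain ⟨x, hx, y, hy, rfl⟩ := mem_dc.1 h
    simpa using B.mul_mem hx hy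
  · intro h
    exact mem_dc.2 ⟨g, h, 1, B.one_mem, by group⟩

theorem dc_eq_of_mem_B {b : G} (hb : b ∈ B) : dc B b = (B : Set G) := by
  rw [← dc_one]
  apply dc_eq_of_rel
  simpa using hb

theorem inv_mem_dc {n g : G} (h : g ∈ dc B n) : g⁻¹ ∈ dc B n⁻¹ := by
  obtain ⟨x, hx, y, hy, rfl⟩ := mem_dc.1 h
  exact mem_dc.2 ⟨y⁻¹, B.inv_mem hy, x⁻¹, B.inv_mem hx, by group⟩

theorem mem_B_of_dc_eq {n : G} (h : dc B n = (B : Set G)) : n ∈ B := by
  have := self_mem_dc (B := B) n
  rw [h] at this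
  exact this

variable (h : TitsData B N S)
include h

theorem mem_N {s : G} (hs : s ∈ S) : s ∈ N := h.subset hs

theorem T_conj {n t : G} (hn : n ∈ N) (ht : t ∈ B) (htN : t ∈ N) : n * t * n⁻¹ ∈ B :=
  h.conj_mem n hn t ⟨ht, htN⟩

theorem T_conj' {n t : G} (hn : n ∈ N) (ht : t ∈ B) (htN : t ∈ N) : n⁻¹ * t * n ∈ B := by
  have := h.conj_mem n⁻¹ (N.inv_mem hn) t ⟨ht, htN⟩
  simpa using this

theorem sq_inv_mem {s : G} (hs : s ∈ S) : s⁻¹ * s⁻¹ ∈ B := by
  have := B.inv_mem (h.sq_mem s hs)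
  simpa using this

theorem not_mem_B {s : G} (hs : s ∈ S) : s ∉ B := by
  intro hsB
  apply h.conj_ne s hs
  ext g
  constructor
  · rintro ⟨b, hb, rfl⟩
    exact B.mul_mem (B.mul_mem hsB hb) hsB
  · intro hg
    refine ⟨s⁻¹ * g * s⁻¹, B.mul_mem (B.mul_mem (B.inv_mem hsB) hg) (B.inv_mem hsB), ?_⟩
    simp only
    group

theorem list_prod_mem {L : List G} (hL : ∀ x ∈ L, x ∈ S) : L.prod ∈ N :=
  N.list_prod_mem fun x hx => h.subset (hL x hx)

/-- every element of `N` is a word in `S` modulo `B` -/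
theorem exists_word {n : G} (hn : n ∈ N) :
    ∃ L : List G, (∀ x ∈ L, x ∈ S) ∧ (L.prod)⁻¹ * n ∈ B := by
  have hn' : n ∈ Subgroup.closure (S ∪ ((B ⊓ N : Subgroup G) : Set G)) := by
    rw [Subgroup.closure_union, Subgroup.closure_eq, h.closure_sup]
    exact hn
  induction hn' using Subgroup.closure_induction'' with
  | mem x hx =>
    rcases hx with hx | hx
    · exact ⟨[x], by simpa using hx, by simp⟩
    · exact ⟨[], by simp, by simpa using hx.1⟩
  | inv_mem x hx =>
    rcases hx with hx | hx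
    · exact ⟨[x], by simpa using hx, by simpa using h.sq_inv_mem hx⟩
    · exact ⟨[], by simp, by simpa using B.inv_mem hx.1⟩
  | one => exact ⟨[], by simp, by simp⟩
  | mul x y hx hy ihx ihy =>
    have hxN : x ∈ N := by
      have := hx
      rw [Subgroup.closure_union, Subgroup.closure_eq, h.closure_sup] at this
      exact this
    have hyN : y ∈ N := by
      have := hy
      rw [Subgroup.closure_union, Subgroup.closure_eq, h.closure_sup] at this
      exact this
    obtain ⟨L1, hL1, h1⟩ := ihx hxN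
    obtain ⟨L2, hL2, h2⟩ := ihy hyN
    refine ⟨L1 ++ L2, ?_, ?_⟩
    · intro z hz
      rcases List.mem_append.1 hz with hz | hz
      · exact hL1 z hz
      · exact hL2 z hz
    · have hw1 := h.list_prod_mem hL1
      have hw2 := h.list_prod_mem hL2
      have e : (L1 ++ L2).prod⁻¹ * (x * y) =
          (L2.prod⁻¹ * (L1.prod⁻¹ * x) * L2.prod) * (L2.prod⁻¹ * y) := by
        rw [List.prod_append]; group
      rw [e]
      refine B.mul_mem ?_ h2
      exact h.T_conj' hw2 h1 (N.mul_mem (N.inv_mem hw1) hxN)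


/-- the set of lengths of `S`-words representing `n` modulo `B` -/
def lenSet (B : Subgroup G) (S : Set G) (n : G) : Set ℕ :=
  {k | ∃ L : List G, (∀ x ∈ L, x ∈ S) ∧ L.length = k ∧ (L.prod)⁻¹ * n ∈ B}

/-- the length of `n` with respect to `S` modulo `B` -/
noncomputable def len (B : Subgroup G) (S : Set G) (n : G) : ℕ := sInf (lenSet B S n)

omit h in
theorem len_le_of_word {n : G} {L : List G} (hL : ∀ x ∈ L, x ∈ S) (hn : (L.prod)⁻¹ * n ∈ B) :
    len B S n ≤ L.length :=
  Nat.sInf_le ⟨L, hL, rfl, hn⟩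

theorem len_spec {n : G} (hn : n ∈ N) :
    ∃ L : List G, (∀ x ∈ L, x ∈ S) ∧ L.length = len B S n ∧ (L.prod)⁻¹ * n ∈ B := by
  have hne : (lenSet B S n).Nonempty := by
    obtain ⟨L, hL, hLn⟩ := h.exists_word hn
    exact ⟨L.length, L, hL, rfl, hLn⟩
  exact Nat.sInf_mem hne

omit h in
theorem lenSet_congr {n n' : G} (hr : n⁻¹ * n' ∈ B) : lenSet B S n = lenSet B S n' := by
  ext k
  constructor
  · rintro ⟨L, hL, hk, hn⟩
    refine ⟨L, hL, hk, ?_⟩
    have : L.prod⁻¹ * n' = (L.prod⁻¹ * n) * (n⁻¹ * n') := by group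
    rw [this]; exact B.mul_mem hn hr
  · rintro ⟨L, hL, hk, hn⟩
    refine ⟨L, hL, hk, ?_⟩
    have : L.prod⁻¹ * n = (L.prod⁻¹ * n') * (n⁻¹ * n')⁻¹ := by group
    rw [this]; exact B.mul_mem hn (B.inv_mem hr)

omit h in
theorem len_congr {n n' : G} (hr : n⁻¹ * n' ∈ B) : len B S n = len B S n' := by
  unfold len; rw [lenSet_congr hr]

theorem len_eq_zero {n : G} (hn : n ∈ N) : len B S n = 0 ↔ n ∈ B := by
  constructor
  · intro h0
    obtain ⟨L, hL, hlen, hLn⟩ := h.len_spec hn
    rw [h0] at hlen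
    have : L = [] := List.length_eq_zero_iff.1 hlen
    subst this
    simpa using hLn
  · intro hB
    have := len_le_of_word (B := B) (S := S) (n := n) (L := []) (by simp) (by simpa using hB)
    simpa using this

theorem len_s_mul_le {s n : G} (hs : s ∈ S) (hn : n ∈ N) : len B S (s * n) ≤ len B S n + 1 := by
  obtain ⟨L, hL, hlen, hLn⟩ := h.len_spec hn
  have := len_le_of_word (B := B) (S := S) (n := s * n) (L := s :: L)
    (by intro x hx; rcases List.mem_cons.1 hx with rfl | hx; exacts [hs, hL x hx])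
    (by
      have e : (s :: L).prod⁻¹ * (s * n) = L.prod⁻¹ * n := by rw [List.prod_cons]; group
      rw [e]; exact hLn)
  rw [List.length_cons, hlen] at this
  exact this

theorem len_le_s_mul {s n : G} (hs : s ∈ S) (hn : n ∈ N) : len B S n ≤ len B S (s * n) + 1 := by
  have hsN := h.mem_N hs
  have h1 := h.len_s_mul_le hs (N.mul_mem hsN hn)
  have h2 : len B S (s * (s * n)) = len B S n := by
    apply len_congr
    have e : (s * (s * n))⁻¹ * n = n⁻¹ * (s⁻¹ * s⁻¹) * n := by group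
    rw [e]
    exact h.T_conj' hn (h.sq_inv_mem hs) (N.mul_mem (N.inv_mem hsN) (N.inv_mem hsN))
  omega

theorem len_mul_s_le {s n : G} (hs : s ∈ S) (hn : n ∈ N) : len B S (n * s) ≤ len B S n + 1 := by
  obtain ⟨L, hL, hlen, hLn⟩ := h.len_spec hn
  have hsN := h.mem_N hs
  have hw := h.list_prod_mem hL
  have := len_le_of_word (B := B) (S := S) (n := n * s) (L := L ++ [s])
    (by
      intro x hx
      rcases List.mem_append.1 hx with hx | hx
      · exact hL x hx
      · simp at hx; subst hx; exact hs)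
    (by
      have e : (L ++ [s]).prod⁻¹ * (n * s) = s⁻¹ * (L.prod⁻¹ * n) * s := by
        rw [List.prod_append]; simp; group
      rw [e]
      exact h.T_conj' hsN hLn (N.mul_mem (N.inv_mem hw) hn))
  rw [List.length_append, hlen] at this
  simpa using this

theorem len_le_mul_s {s n : G} (hs : s ∈ S) (hn : n ∈ N) : len B S n ≤ len B S (n * s) + 1 := by
  have hsN := h.mem_N hs
  have h1 := h.len_mul_s_le hs (N.mul_mem hn hsN)
  have h2 : len B S (n * s * s) = len B S n := by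
    apply len_congr
    have e : (n * s * s)⁻¹ * n = s⁻¹ * s⁻¹ := by group
    rw [e]
    exact h.sq_inv_mem hs
  omega

/-- peel a letter off the left of a reduced word -/
theorem left_peel {n : G} {q : ℕ} (hn : n ∈ N) (hq : len B S n = q + 1) :
    ∃ s ∈ S, ∃ m ∈ N, len B S m = q ∧ (s * m)⁻¹ * n ∈ B := by
  obtain ⟨L, hL, hlen, hLn⟩ := h.len_spec hn
  rw [hq] at hlen
  match L, hL, hlen, hLn with
  | [], _, hlen, _ => simp at hlen
  | s :: L', hL, hlen, hLn =>
    have hs : s ∈ S := hL s (by simp)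
    have hL' : ∀ x ∈ L', x ∈ S := fun x hx => hL x (by simp [hx])
    have hm : L'.prod ∈ N := h.list_prod_mem hL'
    refine ⟨s, hs, L'.prod, hm, ?_, by simpa [List.prod_cons] using hLn⟩
    have h1 : len B S L'.prod ≤ q := by
      have := len_le_of_word (B := B) (S := S) (n := L'.prod) (L := L') hL' (by simp)
      simp at hlen
      omega
    have h2 : len B S n = len B S (s * L'.prod) := by
      apply len_congr
      have : n⁻¹ * (s * L'.prod) = ((s :: L').prod⁻¹ * n)⁻¹ := by rw [List.prod_cons]; group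
      rw [this]; exact B.inv_mem hLn
    have h3 := h.len_s_mul_le hs hm
    omega

/-- peel a letter off the right of a reduced word -/
theorem right_peel {n : G} {q : ℕ} (hn : n ∈ N) (hq : len B S n = q + 1) :
    ∃ s ∈ S, ∃ m ∈ N, len B S m = q ∧ (m * s)⁻¹ * n ∈ B := by
  obtain ⟨L, hL, hlen, hLn⟩ := h.len_spec hn
  rw [hq] at hlen
  rcases List.eq_nil_or_concat L with rfl | ⟨L', s, rfl⟩
  · simp at hlen
  · rw [List.concat_eq_append] at hL hlen hLn
    have hs : s ∈ S := hL s (by simp)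
    have hL' : ∀ x ∈ L', x ∈ S := fun x hx => hL x (by simp [hx])
    have hm : L'.prod ∈ N := h.list_prod_mem hL'
    refine ⟨s, hs, L'.prod, hm, ?_, by simpa [List.prod_append] using hLn⟩
    have h1 : len B S L'.prod ≤ q := by
      have := len_le_of_word (B := B) (S := S) (n := L'.prod) (L := L') hL' (by simp)
      simp at hlen
      omega
    have h2 : len B S n = len B S (L'.prod * s) := by
      apply len_congr
      have : n⁻¹ * (L'.prod * s) = ((L' ++ [s]).prod⁻¹ * n)⁻¹ := by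
        rw [List.prod_append]; simp
      rw [this]; exact B.inv_mem hLn
    have h3 := h.len_mul_s_le hs hm
    omega


theorem dc_s_mul {s n g g' : G} (hs : s ∈ S) (hn : n ∈ N) (hg : g ∈ dc B s) (hg' : g' ∈ dc B n) :
    g * g' ∈ dc B (s * n) ∪ dc B n := by
  obtain ⟨x, hx, y, hy, rfl⟩ := mem_dc.1 hg
  obtain ⟨x', hx', y', hy', rfl⟩ := mem_dc.1 hg'
  have e : x * s * y * (x' * n * y') = x * (s * (y * x') * n) * y' := by group
  rw [e]
  rcases h.mul_mem_union s hs n hn (y * x') (B.mul_mem hy hx') with h1 | h1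
  · left; exact mem_dc_mul hy' (mul_mem_dc hx h1)
  · right; exact mem_dc_mul hy' (mul_mem_dc hx h1)

theorem dc_inv_s {s : G} (hs : s ∈ S) : dc B s⁻¹ = dc B s := by
  apply dc_eq_of_rel
  simpa using h.sq_inv_mem hs

theorem dc_mul_s {s n g g' : G} (hs : s ∈ S) (hn : n ∈ N) (hg : g ∈ dc B n) (hg' : g' ∈ dc B s) :
    g * g' ∈ dc B (n * s) ∪ dc B n := by
  have h1 : g'⁻¹ ∈ dc B s := by
    have := inv_mem_dc hg'
    rwa [h.dc_inv_s hs] at this
  have h2 : g⁻¹ ∈ dc B n⁻¹ := inv_mem_dc hg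
  have h3 := h.dc_s_mul hs (N.inv_mem hn) h1 h2
  have e : g * g' = (g'⁻¹ * g⁻¹)⁻¹ := by group
  rw [e]
  rcases h3 with h3 | h3
  · left
    have := inv_mem_dc h3
    have e2 : dc B (s * n⁻¹)⁻¹ = dc B (n * s) := by
      apply dc_eq_of_rel
      have : (n * s)⁻¹ * (s * n⁻¹)⁻¹ = s⁻¹ * s⁻¹ := by group
      rw [this]; exact h.sq_inv_mem hs
    rwa [e2] at this
  · right
    have := inv_mem_dc h3
    simpa using this

theorem exists_s_s {s : G} (hs : s ∈ S) : ∃ b ∈ B, s * b * s ∈ dc B s := by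
  by_contra hcon
  have hsN := h.mem_N hs
  have key : ∀ b ∈ B, s * b * s ∈ B := by
    intro b hb
    rcases h.mul_mem_union s hs s hsN b hb with h1 | h1
    · have h1' : s * b * s ∈ dc B (s * s) := h1
      rw [dc_eq_of_mem_B (h.sq_mem s hs)] at h1'
      exact h1'
    · exact absurd ⟨b, hb, h1⟩ hcon
  apply h.conj_ne s hs
  ext g
  constructor
  · rintro ⟨b, hb, rfl⟩
    exact key b hb
  · intro hg
    refine ⟨s⁻¹ * g * s⁻¹, ?_, by simp only; group⟩
    have e : s⁻¹ * g * s⁻¹ = (s⁻¹ * s⁻¹) * (s * g * s) * (s⁻¹ * s⁻¹) := by group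
    rw [e]
    exact B.mul_mem (B.mul_mem (h.sq_inv_mem hs) (key g hg)) (h.sq_inv_mem hs)

/-- Bruhat uniqueness, with a length hypothesis. -/
theorem bruhat_unique_aux : ∀ (q : ℕ) (n n' : G), n ∈ N → n' ∈ N → len B S n = q →
    q ≤ len B S n' → dc B n = dc B n' → n⁻¹ * n' ∈ B := by
  intro q
  induction q with
  | zero =>
    intro n n' hn hn' hq _ hdc
    have hnB : n ∈ B := (h.len_eq_zero hn).1 hq
    have : n' ∈ B := by
      apply mem_B_of_dc_eq
      rw [← hdc]; exact dc_eq_of_mem_B hnB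
    exact B.mul_mem (B.inv_mem hnB) this
  | succ q ih =>
    intro n n' hn hn' hq hle hdc
    obtain ⟨s, hs, m, hm, hlm, hrel⟩ := h.left_peel hn hq
    have hsN := h.mem_N hs
    have h1 : dc B n = dc B (s * m) := dc_eq_of_rel hrel
    have h2 : s * m ∈ dc B n' := by
      rw [← hdc, h1]; exact self_mem_dc _
    have h3 : m ∈ dc B (s * n') ∪ dc B n' := by
      have hs' : s⁻¹ ∈ dc B s := by
        rw [← h.dc_inv_s hs]; exact self_mem_dc _
      have := h.dc_s_mul hs hn' hs' h2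
      simpa using this
    rcases h3 with h3 | h3
    · have hsn' : s * n' ∈ N := N.mul_mem hsN hn'
      have hle' : q ≤ len B S (s * n') := by
        have := h.len_le_s_mul hs hn'
        omega
      have h4 := ih m (s * n') hm hsn' hlm hle' (dc_eq_of_mem h3)
      have e : n⁻¹ * n' = ((s * m)⁻¹ * n)⁻¹ * ((m⁻¹ * (s⁻¹ * s⁻¹) * m) * (m⁻¹ * (s * n'))) := by
        group
      rw [e]
      refine B.mul_mem (B.inv_mem hrel) (B.mul_mem ?_ h4)
      exact h.T_conj' hm (h.sq_inv_mem hs) (N.mul_mem (N.inv_mem hsN) (N.inv_mem hsN))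
    · have h4 := ih m n' hm hn' hlm (by omega) (dc_eq_of_mem h3)
      have := len_congr (S := S) h4
      omega

/-- Bruhat uniqueness. -/
theorem bruhat_unique {n n' : G} (hn : n ∈ N) (hn' : n' ∈ N) (hdc : dc B n = dc B n') :
    n⁻¹ * n' ∈ B := by
  rcases le_total (len B S n) (len B S n') with hle | hle
  · exact h.bruhat_unique_aux _ n n' hn hn' rfl hle hdc
  · have := h.bruhat_unique_aux _ n' n hn' hn rfl hle hdc.symm
    have e : n⁻¹ * n' = (n'⁻¹ * n)⁻¹ := by group
    rw [e]; exact B.inv_mem this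

theorem dc_eq_iff {n n' : G} (hn : n ∈ N) (hn' : n' ∈ N) :
    dc B n = dc B n' ↔ n⁻¹ * n' ∈ B :=
  ⟨h.bruhat_unique hn hn', fun hr => (dc_eq_of_rel hr).symm⟩

theorem dc_s_mul_ne {s n : G} (hs : s ∈ S) (hn : n ∈ N) : dc B (s * n) ≠ dc B n := by
  intro hdc
  have hsN := h.mem_N hs
  have h1 := h.bruhat_unique (N.mul_mem hsN hn) hn hdc
  have h2 : s⁻¹ ∈ B := by
    have e : s⁻¹ = n * ((s * n)⁻¹ * n) * n⁻¹ := by group
    rw [e]
    exact h.T_conj hn h1 (N.mul_mem (N.inv_mem (N.mul_mem hsN hn)) hn)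
  exact h.not_mem_B hs (by simpa using B.inv_mem h2)

/-- Claim A: if `s` does not shorten `n` then `s B n ⊆ B s n B`. -/
theorem claimA_aux : ∀ (q : ℕ) (s n : G), s ∈ S → n ∈ N → len B S n = q →
    len B S n ≤ len B S (s * n) → ∀ b ∈ B, s * b * n ∈ dc B (s * n) := by
  intro q
  induction q with
  | zero =>
    intro s n hs hn hq _ b hb
    have hnB : n ∈ B := (h.len_eq_zero hn).1 hq
    have e : dc B (s * n) = dc B s := dc_eq_of_rel (by simpa using hnB)
    rw [e]
    exact mem_dc.2 ⟨1, B.one_mem, b * n, B.mul_mem hb hnB, by group⟩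
  | succ q ih =>
    intro s n hs hn hq hle b hb
    have hsN := h.mem_N hs
    obtain ⟨s', hs', m, hm, hlm, hrel⟩ := h.right_peel hn hq
    have hs'N := h.mem_N hs'
    have hlen_sn : len B S (s * n) = len B S (s * (m * s')) := by
      apply len_congr
      have e : (s * n)⁻¹ * (s * (m * s')) = ((m * s')⁻¹ * n)⁻¹ := by group
      rw [e]; exact B.inv_mem hrel
    have hle_m : len B S m ≤ len B S (s * m) := by
      by_contra hlt
      have hlt := not_le.1 hlt
      have h1 := h.len_mul_s_le hs' (N.mul_mem hsN hm)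
      have e : s * m * s' = s * (m * s') := by group
      rw [e] at h1
      omega
    have ihm := ih s m hs hm hlm hle_m
    rcases h.mul_mem_union s hs n hn b hb with h1 | h1
    · exact h1
    · exfalso
      have hdcn : dc B n = dc B (m * s') := dc_eq_of_rel hrel
      have h1 : s * b * n ∈ dc B n := h1
      rw [hdcn] at h1
      -- s b m s' t ∈ dc (m s')
      have h2 : s * b * m * s' ∈ dc B (m * s') := by
        have := mem_dc_mul (B.inv_mem hrel) h1
        have e : s * b * n * ((m * s')⁻¹ * n)⁻¹ = s * b * m * s' := by group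
        rwa [e] at this
      -- hence s b m ∈ dc m ∪ dc (m s')
      have h3 : s * b * m ∈ dc B m ∪ dc B (m * s') := by
        have hs'inv : s'⁻¹ ∈ dc B s' := by
          rw [← h.dc_inv_s hs']; exact self_mem_dc _
        have h4 := h.dc_mul_s hs' (N.mul_mem hm hs'N) h2 hs'inv
        have e : s * b * m * s' * s'⁻¹ = s * b * m := by group
        rw [e] at h4
        rcases h4 with h4 | h4
        · left
          have e2 : dc B (m * s' * s') = dc B m := by
            apply dc_eq_of_rel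
            have : m⁻¹ * (m * s' * s') = s' * s' := by group
            rw [this]; exact h.sq_mem s' hs'
          rwa [e2] at h4
        · right; exact h4
      have h5 : s * b * m ∈ dc B (s * m) := ihm b hb
      rcases h3 with h3 | h3
      · have : dc B (s * m) = dc B m := by
          rw [← dc_eq_of_mem h5, dc_eq_of_mem h3]
        exact h.dc_s_mul_ne hs hm this
      · have hdc : dc B (s * m) = dc B (m * s') := by
          rw [← dc_eq_of_mem h5, dc_eq_of_mem h3]
        have h6 := h.bruhat_unique (N.mul_mem hsN hm) (N.mul_mem hm hs'N) hdc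
        have h7 : len B S (s * (m * s')) = len B S m := by
          apply len_congr
          have e : (s * (m * s'))⁻¹ * m =
              ((s * m)⁻¹ * (m * s'))⁻¹ * (m⁻¹ * (s⁻¹ * s⁻¹) * m) := by group
          rw [e]
          refine B.mul_mem (B.inv_mem h6) ?_
          exact h.T_conj' hm (h.sq_inv_mem hs) (N.mul_mem (N.inv_mem hsN) (N.inv_mem hsN))
        omega

theorem claimA {s n b : G} (hs : s ∈ S) (hn : n ∈ N) (hle : len B S n ≤ len B S (s * n))
    (hb : b ∈ B) : s * b * n ∈ dc B (s * n) :=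
  h.claimA_aux _ s n hs hn rfl hle b hb

/-- Claim B: if `s` does not lengthen `n` then `s B n` meets `B n B`. -/
theorem claimB {s n : G} (hs : s ∈ S) (hn : n ∈ N) (hle : len B S (s * n) ≤ len B S n) :
    ∃ b ∈ B, s * b * n ∈ dc B n := by
  have hsN := h.mem_N hs
  have hsn : s * n ∈ N := N.mul_mem hsN hn
  have hrel : n⁻¹ * (s * (s * n)) ∈ B := by
    have e : n⁻¹ * (s * (s * n)) = n⁻¹ * (s * s) * n := by group
    rw [e]
    exact h.T_conj' hn (h.sq_mem s hs) (N.mul_mem hsN hsN)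
  have hlen : len B S (s * (s * n)) = len B S n := (len_congr hrel).symm
  have hdc : dc B (s * (s * n)) = dc B n := dc_eq_of_rel hrel
  obtain ⟨b0, hb0, hb0s⟩ := h.exists_s_s hs
  obtain ⟨x, hx, y, hy, hxy⟩ := mem_dc.1 hb0s
  refine ⟨y, hy, ?_⟩
  have hA := h.claimA hs hsn (by omega) hb0
  rw [hdc] at hA
  have := mul_mem_dc (B.inv_mem hx) hA
  have e : x⁻¹ * (s * b0 * (s * n)) = s * y * n := by
    have : s * b0 * (s * n) = (s * b0 * s) * n := by group
    rw [this, hxy]; group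
  rwa [e] at this

theorem len_s_mul_ne {s n : G} (hs : s ∈ S) (hn : n ∈ N) : len B S (s * n) ≠ len B S n := by
  intro heq
  obtain ⟨b, hb, hbn⟩ := h.claimB hs hn heq.le
  have hA := h.claimA hs hn heq.ge hb
  apply h.dc_s_mul_ne hs hn
  rw [← dc_eq_of_mem hA, dc_eq_of_mem hbn]


theorem closure_le_N {J : Set G} (hJ : J ⊆ S) : Subgroup.closure J ≤ N :=
  (Subgroup.closure_le N).2 fun _ hx => h.subset (hJ hx)

/-- `P_J = B W_J B`. -/
theorem mem_parabolic_iff {J : Set G} (hJ : J ⊆ S) (g : G) :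
    g ∈ B ⊔ Subgroup.closure J ↔ ∃ n ∈ Subgroup.closure J, g ∈ dc B n := by
  constructor
  · intro hg
    have key : ∀ x ∈ B ⊔ Subgroup.closure J, ∀ g : G, (∃ n ∈ Subgroup.closure J, g ∈ dc B n) →
        ∃ n ∈ Subgroup.closure J, x * g ∈ dc B n := by
      intro x hx
      have hx' : x ∈ Subgroup.closure ((B : Set G) ∪ J) := by
        rw [Subgroup.closure_union, Subgroup.closure_eq]; exact hx
      induction hx' using Subgroup.closure_induction'' with
      | mem y hy =>
        rintro g ⟨n, hn, hgn⟩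
        rcases hy with hy | hy
        · exact ⟨n, hn, mul_mem_dc hy hgn⟩
        · have hnN := h.closure_le_N hJ hn
          rcases h.dc_s_mul (hJ hy) hnN (self_mem_dc y) hgn with h1 | h1
          · exact ⟨y * n, (Subgroup.closure J).mul_mem (Subgroup.subset_closure hy) hn, h1⟩
          · exact ⟨n, hn, h1⟩
      | inv_mem y hy =>
        rintro g ⟨n, hn, hgn⟩
        rcases hy with hy | hy
        · exact ⟨n, hn, mul_mem_dc (B.inv_mem hy) hgn⟩
        · have hnN := h.closure_le_N hJ hn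
          have hy' : y⁻¹ ∈ dc B y := by
            rw [← h.dc_inv_s (hJ hy)]; exact self_mem_dc _
          rcases h.dc_s_mul (hJ hy) hnN hy' hgn with h1 | h1
          · exact ⟨y * n, (Subgroup.closure J).mul_mem (Subgroup.subset_closure hy) hn, h1⟩
          · exact ⟨n, hn, h1⟩
      | one =>
        rintro g ⟨n, hn, hgn⟩
        exact ⟨n, hn, by simpa using hgn⟩
      | mul y z hy hz ihy ihz =>
        intro g hg
        have hy' : y ∈ B ⊔ Subgroup.closure J := by
          have := hy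
          rwa [Subgroup.closure_union, Subgroup.closure_eq] at this
        have hz' : z ∈ B ⊔ Subgroup.closure J := by
          have := hz
          rwa [Subgroup.closure_union, Subgroup.closure_eq] at this
        have := ihy hy' (z * g) (ihz hz' g hg)
        rwa [← mul_assoc] at this
    have := key g hg 1 ⟨1, Subgroup.one_mem _, by rw [dc_one]; exact B.one_mem⟩
    simpa using this
  · rintro ⟨n, hn, hgn⟩
    obtain ⟨x, hx, y, hy, rfl⟩ := mem_dc.1 hgn
    have hB : B ≤ B ⊔ Subgroup.closure J := le_sup_left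
    have hC : Subgroup.closure J ≤ B ⊔ Subgroup.closure J := le_sup_right
    exact Subgroup.mul_mem _ (Subgroup.mul_mem _ (hB hx) (hC hn)) (hB hy)

/-- Bruhat decomposition, existence, given that `B` and `N` generate. -/
theorem bruhat_exists (htop : B ⊔ N = ⊤) (g : G) : ∃ n ∈ N, g ∈ dc B n := by
  have h1 : B ⊔ Subgroup.closure S = ⊤ := by
    rw [eq_top_iff, ← htop, ← h.closure_sup]
    refine sup_le le_sup_left (sup_le le_sup_right ?_)
    exact le_trans inf_le_left le_sup_left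
  have hg : g ∈ B ⊔ Subgroup.closure S := by rw [h1]; trivial
  obtain ⟨n, hn, hgn⟩ := (h.mem_parabolic_iff (le_refl S) g).1 hg
  exact ⟨n, h.closure_le_N (le_refl S) hn, hgn⟩


/-- if `len (s n) ≤ len n` then `s ∈ ⟨B, n B n⁻¹⟩`-like: `s = x (n y n⁻¹) b⁻¹`. -/
theorem exists_decomp_of_len_le {s n : G} (hs : s ∈ S) (hn : n ∈ N)
    (hle : len B S (s * n) ≤ len B S n) :
    ∃ x ∈ B, ∃ y ∈ B, ∃ b ∈ B, s = x * (n * y * n⁻¹) * b := by
  obtain ⟨b, hb, hbn⟩ := h.claimB hs hn hle
  obtain ⟨x, hx, y, hy, hxy⟩ := mem_dc.1 hbn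
  refine ⟨x, hx, y, hy, b⁻¹, B.inv_mem hb, ?_⟩
  have : s = (s * b * n) * n⁻¹ * b⁻¹ := by group
  rw [this, hxy]; group

/-- in a left peeling `n ≡ s m` with `len m + 1 = len n`, `len (s n) ≤ len n` -/
theorem len_s_mul_of_peel {s m n : G} (hs : s ∈ S) (hm : m ∈ N) (hn : n ∈ N)
    (hrel : (s * m)⁻¹ * n ∈ B) : len B S (s * n) = len B S m := by
  have hsN := h.mem_N hs
  symm
  apply len_congr
  have e : m⁻¹ * (s * n) = (m⁻¹ * (s * s) * m) * ((s * m)⁻¹ * n) := by group
  rw [e]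
  exact B.mul_mem (h.T_conj' hm (h.sq_mem s hs) (N.mul_mem hsN hsN)) hrel

/-- letters lemma: an element of `N` lying in an overgroup `M` of `B` lies in the parabolic
generated by the letters from `S ∩ M`. -/
theorem mem_parabolic_of_mem_aux (M : Subgroup G) (hBM : B ≤ M) : ∀ (q : ℕ) (n : G), n ∈ N →
    len B S n = q → n ∈ M → n ∈ B ⊔ Subgroup.closure {s | s ∈ S ∧ s ∈ M} := by
  intro q
  induction q with
  | zero =>
    intro n hn hq _
    exact (le_sup_left : B ≤ _) ((h.len_eq_zero hn).1 hq)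
  | succ q ih =>
    intro n hn hq hnM
    obtain ⟨s, hs, m, hm, hlm, hrel⟩ := h.left_peel hn hq
    have hlen : len B S (s * n) = len B S m := h.len_s_mul_of_peel hs hm hn hrel
    obtain ⟨x, hx, y, hy, b, hb, hsdec⟩ := h.exists_decomp_of_len_le hs hn (by omega)
    have hsM : s ∈ M := by
      rw [hsdec]
      exact M.mul_mem (M.mul_mem (hBM hx) (M.mul_mem (M.mul_mem hnM (hBM hy)) (M.inv_mem hnM)))
        (hBM hb)
    have hmM : m ∈ M := by
      have e : m = s⁻¹ * n * ((s * m)⁻¹ * n)⁻¹ := by group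
      rw [e]
      exact M.mul_mem (M.mul_mem (M.inv_mem hsM) hnM) (M.inv_mem (hBM hrel))
    have hmP := ih m hm hlm hmM
    have e : n = s * m * ((s * m)⁻¹ * n) := by group
    rw [e]
    refine Subgroup.mul_mem _ (Subgroup.mul_mem _ ?_ hmP) ((le_sup_left : B ≤ _) hrel)
    exact (le_sup_right : Subgroup.closure {s | s ∈ S ∧ s ∈ M} ≤ _)
      (Subgroup.subset_closure ⟨hs, hsM⟩)

theorem mem_parabolic_of_mem (M : Subgroup G) (hBM : B ≤ M) {n : G} (hn : n ∈ N) (hnM : n ∈ M) :
    n ∈ B ⊔ Subgroup.closure {s | s ∈ S ∧ s ∈ M} :=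
  h.mem_parabolic_of_mem_aux M hBM _ n hn rfl hnM

/-- every overgroup of `B` is a standard parabolic -/
theorem overgroup_eq_parabolic (htop : B ⊔ N = ⊤) (M : Subgroup G) (hBM : B ≤ M) :
    M = B ⊔ Subgroup.closure {s | s ∈ S ∧ s ∈ M} := by
  apply le_antisymm
  · intro g hg
    obtain ⟨n, hn, hgn⟩ := h.bruhat_exists htop g
    obtain ⟨x, hx, y, hy, rfl⟩ := mem_dc.1 hgn
    have hnM : n ∈ M := by
      have e : n = x⁻¹ * (x * n * y) * y⁻¹ := by group
      rw [e]
      exact M.mul_mem (M.mul_mem (M.inv_mem (hBM hx)) hg) (M.inv_mem (hBM hy))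
    have := h.mem_parabolic_of_mem M hBM hn hnM
    exact Subgroup.mul_mem _ (Subgroup.mul_mem _ ((le_sup_left : B ≤ _) hx) this)
      ((le_sup_left : B ≤ _) hy)
  · refine sup_le hBM ?_
    rw [Subgroup.closure_le]
    intro s hs
    exact hs.2

/-- `n ∈ ⟨B, n B n⁻¹⟩` -/
theorem mem_sup_conj_aux : ∀ (q : ℕ) (n : G), n ∈ N → len B S n = q →
    ∀ M : Subgroup G, B ≤ M → (∀ b ∈ B, n * b * n⁻¹ ∈ M) → n ∈ M := by
  intro q
  induction q with
  | zero =>
    intro n hn hq M hBM _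
    exact hBM ((h.len_eq_zero hn).1 hq)
  | succ q ih =>
    intro n hn hq M hBM hconj
    obtain ⟨s, hs, m, hm, hlm, hrel⟩ := h.left_peel hn hq
    have hlen : len B S (s * n) = len B S m := h.len_s_mul_of_peel hs hm hn hrel
    obtain ⟨x, hx, y, hy, b, hb, hsdec⟩ := h.exists_decomp_of_len_le hs hn (by omega)
    have hsM : s ∈ M := by
      rw [hsdec]
      exact M.mul_mem (M.mul_mem (hBM hx) (hconj y hy)) (hBM hb)
    have hmM : m ∈ M := by
      apply ih m hm hlm M hBM
      intro b hb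
      have e : m * b * m⁻¹ =
          s⁻¹ * (n * (((s * m)⁻¹ * n)⁻¹ * b * ((s * m)⁻¹ * n)) * n⁻¹) * s := by group
      rw [e]
      refine M.mul_mem (M.mul_mem (M.inv_mem hsM) (hconj _ ?_)) hsM
      exact B.mul_mem (B.mul_mem (B.inv_mem hrel) hb) hrel
    have e : n = s * m * ((s * m)⁻¹ * n) := by group
    rw [e]
    exact M.mul_mem (M.mul_mem hsM hmM) (hBM hrel)

theorem mem_sup_conj {n : G} (hn : n ∈ N) (M : Subgroup G) (hBM : B ≤ M)
    (hconj : ∀ b ∈ B, n * b * n⁻¹ ∈ M) : n ∈ M :=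
  h.mem_sup_conj_aux _ n hn rfl M hBM hconj

/-- if `g P_J g⁻¹ ≤ M` for an overgroup `M` of `B` then `g ∈ M`. -/
theorem mem_of_conj_le (htop : B ⊔ N = ⊤) {g : G} (M : Subgroup G) (hBM : B ≤ M)
    (hconj : ∀ b ∈ B, g * b * g⁻¹ ∈ M) : g ∈ M := by
  obtain ⟨n, hn, hgn⟩ := h.bruhat_exists htop g
  obtain ⟨x, hx, y, hy, rfl⟩ := mem_dc.1 hgn
  have hnM : n ∈ M := by
    apply h.mem_sup_conj hn M hBM
    intro b hb
    have e : n * b * n⁻¹ = x⁻¹ * ((x * n * y) * (y⁻¹ * b * y) * (x * n * y)⁻¹) * x := by group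
    rw [e]
    refine M.mul_mem (M.mul_mem (M.inv_mem (hBM hx)) (hconj _ ?_)) (hBM hx)
    exact B.mul_mem (B.mul_mem (B.inv_mem hy) hb) hy
  exact M.mul_mem (M.mul_mem (hBM hx) hnM) (hBM hy)

/-- restriction of a Tits datum to a subset of the generators -/
theorem restrict {K : Set G} (hK : K ⊆ S) :
    TitsData B (Subgroup.closure K ⊔ (B ⊓ N)) K := by
  have hNK : Subgroup.closure K ⊔ (B ⊓ N) ≤ N := sup_le (h.closure_le_N hK) inf_le_right
  have hinf : B ⊓ (Subgroup.closure K ⊔ (B ⊓ N)) = B ⊓ N :=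
    le_antisymm (inf_le_inf_left B hNK) (le_inf inf_le_left le_sup_right)
  refine ⟨?_, ?_, ?_, ?_, ?_, ?_⟩
  · intro n hn t ht
    rw [hinf] at ht
    exact h.conj_mem n (hNK hn) t ht
  · intro s hs
    exact (le_sup_left : Subgroup.closure K ≤ _) (Subgroup.subset_closure hs)
  · intro s hs
    exact h.sq_mem s (hK hs)
  · rw [hinf]
  · intro s hs n hn b hb
    exact h.mul_mem_union s (hK hs) n (hNK hn) b hb
  · intro s hs
    exact h.conj_ne s (hK hs)

omit h in
theorem len_le_len_of_subset {K : Set G} (hK : K ⊆ S) {n : G}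
    (hne : (lenSet B K n).Nonempty) : len B S n ≤ len B K n := by
  obtain ⟨L, hL, hlen, hLn⟩ := Nat.sInf_mem hne
  have := len_le_of_word (B := B) (S := S) (n := n) (L := L) (fun x hx => hK (hL x hx)) hLn
  unfold len at *
  omega

theorem len_restrict_aux {K : Set G} (hK : K ⊆ S) : ∀ (q : ℕ) (n : G),
    n ∈ Subgroup.closure K ⊔ (B ⊓ N) → len B K n = q → q ≤ len B S n := by
  have hR := h.restrict hK
  have hNK : Subgroup.closure K ⊔ (B ⊓ N) ≤ N := sup_le (h.closure_le_N hK) inf_le_right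
  intro q
  induction q with
  | zero => intro n _ _; exact Nat.zero_le _
  | succ q ih =>
    intro n hn hq
    obtain ⟨s, hs, m, hm, hlm, hrel⟩ := hR.left_peel hn hq
    have hmN := hNK hm
    have hsS := hK hs
    have h1 : q ≤ len B S m := ih m hm hlm
    have h2 : len B S m ≤ q := by
      have := len_le_len_of_subset (B := B) hK (n := m)
        (by
          obtain ⟨L, hL, hlen, hLn⟩ := hR.len_spec hm
          exact ⟨_, L, hL, rfl, hLn⟩)
      omega
    have h3 : len B K n = len B K (s * m) := by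
      apply len_congr
      have e : n⁻¹ * (s * m) = ((s * m)⁻¹ * n)⁻¹ := by group
      rw [e]; exact B.inv_mem hrel
    have h4 : len B S n = len B S (s * m) := by
      apply len_congr
      have e : n⁻¹ * (s * m) = ((s * m)⁻¹ * n)⁻¹ := by group
      rw [e]; exact B.inv_mem hrel
    -- in the K-system, s lengthens m
    have hA : ∀ b ∈ B, s * b * m ∈ dc B (s * m) := fun b hb =>
      hR.claimA hs hm (by omega) hb
    by_contra hlt
    have hlt := not_le.1 hlt
    have hle : len B S (s * m) ≤ len B S m := by omega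
    obtain ⟨b, hb, hbm⟩ := h.claimB hsS hmN hle
    apply h.dc_s_mul_ne hsS hmN
    rw [← dc_eq_of_mem (hA b hb), dc_eq_of_mem hbm]

theorem len_restrict {K : Set G} (hK : K ⊆ S) {n : G}
    (hn : n ∈ Subgroup.closure K ⊔ (B ⊓ N)) : len B K n = len B S n := by
  apply le_antisymm
  · exact h.len_restrict_aux hK _ n hn rfl
  · apply len_le_len_of_subset hK
    obtain ⟨L, hL, hlen, hLn⟩ := (h.restrict hK).len_spec hn
    exact ⟨_, L, hL, rfl, hLn⟩

theorem len_gen {s : G} (hs : s ∈ S) : len B S s = 1 := by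
  have h1 : len B S s ≤ 1 := by
    have := len_le_of_word (B := B) (S := S) (n := s) (L := [s]) (by simpa using hs) (by simp)
    simpa using this
  have h2 : len B S s ≠ 0 := by
    intro h0
    exact h.not_mem_B hs ((h.len_eq_zero (h.mem_N hs)).1 h0)
  omega

/-- `S ∩ W_K = K` -/
theorem mem_of_mem_closure_sup (hinj : ∀ s ∈ S, ∀ s' ∈ S, s⁻¹ * s' ∈ B → s = s')
    {K : Set G} (hK : K ⊆ S) {s : G} (hs : s ∈ S)
    (hsK : s ∈ Subgroup.closure K ⊔ (B ⊓ N)) : s ∈ K := by
  have h1 : len B K s = 1 := by rw [h.len_restrict hK hsK, h.len_gen hs]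
  obtain ⟨L, hL, hlen, hLn⟩ := (h.restrict hK).len_spec hsK
  rw [h1] at hlen
  obtain ⟨k, rfl⟩ := List.length_eq_one_iff.1 hlen
  have hk : k ∈ K := hL k (by simp)
  have : k = s := hinj k (hK hk) s hs (by simpa using hLn)
  rwa [← this]

/-- `S ∩ P_K = K` -/
theorem mem_of_mem_parabolic (hinj : ∀ s ∈ S, ∀ s' ∈ S, s⁻¹ * s' ∈ B → s = s')
    {K : Set G} (hK : K ⊆ S) {s : G} (hs : s ∈ S)
    (hsK : s ∈ B ⊔ Subgroup.closure K) : s ∈ K := by
  obtain ⟨n, hn, hsn⟩ := (h.mem_parabolic_iff hK s).1 hsK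
  have hnN := h.closure_le_N hK hn
  have hsN := h.mem_N hs
  have hrel : n⁻¹ * s ∈ B := h.bruhat_unique hnN hsN (dc_eq_of_mem hsn).symm
  apply h.mem_of_mem_closure_sup hinj hK hs
  have e : s = n * (n⁻¹ * s) := by group
  rw [e]
  exact Subgroup.mul_mem _ ((le_sup_left : Subgroup.closure K ≤ _) hn)
    ((le_sup_right : B ⊓ N ≤ _) ⟨hrel, N.mul_mem (N.inv_mem hnN) hsN⟩)

theorem parabolic_le_iff (hinj : ∀ s ∈ S, ∀ s' ∈ S, s⁻¹ * s' ∈ B → s = s')
    {J K : Set G} (hJ : J ⊆ S) (hK : K ⊆ S) :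
    B ⊔ Subgroup.closure J ≤ B ⊔ Subgroup.closure K ↔ J ⊆ K := by
  constructor
  · intro hle s hs
    apply h.mem_of_mem_parabolic hinj hK (hJ hs)
    exact hle ((le_sup_right : Subgroup.closure J ≤ _) (Subgroup.subset_closure hs))
  · intro hJK
    exact sup_le_sup_left (Subgroup.closure_mono hJK) B

theorem parabolic_inj (hinj : ∀ s ∈ S, ∀ s' ∈ S, s⁻¹ * s' ∈ B → s = s')
    {J K : Set G} (hJ : J ⊆ S) (hK : K ⊆ S)
    (heq : B ⊔ Subgroup.closure J = B ⊔ Subgroup.closure K) : J = K :=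
  Set.Subset.antisymm ((h.parabolic_le_iff hinj hJ hK).1 heq.le)
    ((h.parabolic_le_iff hinj hK hJ).1 heq.ge)

/-- `P_J ⊓ P_K = P_{J ∩ K}` -/
theorem parabolic_inf (hinj : ∀ s ∈ S, ∀ s' ∈ S, s⁻¹ * s' ∈ B → s = s')
    {J K : Set G} (hJ : J ⊆ S) (hK : K ⊆ S) :
    (B ⊔ Subgroup.closure J) ⊓ (B ⊔ Subgroup.closure K) = B ⊔ Subgroup.closure (J ∩ K) := by
  apply le_antisymm
  · intro g hg
    obtain ⟨n, hn, hgn⟩ := (h.mem_parabolic_iff hJ g).1 hg.1
    have hnN := h.closure_le_N hJ hn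
    obtain ⟨x, hx, y, hy, rfl⟩ := mem_dc.1 hgn
    -- n lies in both parabolics
    have hnJ : n ∈ B ⊔ Subgroup.closure J :=
      (le_sup_right : Subgroup.closure J ≤ _) hn
    have hnK : n ∈ B ⊔ Subgroup.closure K := by
      have e : n = x⁻¹ * (x * n * y) * y⁻¹ := by group
      rw [e]
      exact Subgroup.mul_mem _ (Subgroup.mul_mem _
        (Subgroup.inv_mem _ ((le_sup_left : B ≤ _) hx)) hg.2)
        (Subgroup.inv_mem _ ((le_sup_left : B ≤ _) hy))
    set M : Subgroup G := (B ⊔ Subgroup.closure J) ⊓ (B ⊔ Subgroup.closure K) with hM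
    have hBM : B ≤ M := le_inf le_sup_left le_sup_left
    have hnM : n ∈ M := ⟨hnJ, hnK⟩
    have h1 := h.mem_parabolic_of_mem M hBM hnN hnM
    have hsub : {s | s ∈ S ∧ s ∈ M} ⊆ J ∩ K := by
      rintro s ⟨hsS, hsM⟩
      exact ⟨h.mem_of_mem_parabolic hinj hJ hsS hsM.1, h.mem_of_mem_parabolic hinj hK hsS hsM.2⟩
    have h2 : n ∈ B ⊔ Subgroup.closure (J ∩ K) :=
      (sup_le_sup_left (Subgroup.closure_mono hsub) B) h1
    exact Subgroup.mul_mem _ (Subgroup.mul_mem _ ((le_sup_left : B ≤ _) hx) h2)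
      ((le_sup_left : B ≤ _) hy)
  · exact le_inf (sup_le_sup_left (Subgroup.closure_mono Set.inter_subset_left) B)
      (sup_le_sup_left (Subgroup.closure_mono Set.inter_subset_right) B)

end TitsData

end Cfsg.Agent.Lib.Helper1
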