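import Mathlib
import Cfsg.Prelude.Def_LieExceptional
import Cfsg.Agent.Lib.Helper1.BN

set_option autoImplicit false

namespace Cfsg.Agent.Lib.Helper1

open DoubleCoset

variable {G : Type*} [Group G]

namespace TitsData

variable {B N : Subgroup G} {S : Set G}
variable (h : TitsData B N S)
include h

/-- elements of `⟨s⟩` are `≡ 1` or `≡ s` modulo `B`. -/
theorem closure_singleton_cases {s m : G} (hs : s ∈ S) (hm : m ∈ Subgroup.closure {s}) :
    m ∈ B ∨ s⁻¹ * m ∈ B := by
  have hsN := h.mem_N hs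
  have hcl : Subgroup.closure {s} ≤ N := by
    rw [Subgroup.closure_le]; intro x hx; rw [Set.mem_singleton_iff] at hx; subst hx; exact hsN
  induction hm using Subgroup.closure_induction with
  | mem x hx =>
    rw [Set.mem_singleton_iff] at hx; subst hx
    right; simp
  | one => left; exact B.one_mem
  | mul x y hx hy ihx ihy =>
    have hxN := hcl hx
    have hyN := hcl hy
    rcases ihx with ihx | ihx <;> rcases ihy with ihy | ihy
    · left; exact B.mul_mem ihx ihy
    · right
      have e : s⁻¹ * (x * y) = (s⁻¹ * x * s) * (s⁻¹ * y) := by group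
      rw [e]
      exact B.mul_mem (h.T_conj' hsN ihx hxN) ihy
    · right
      have e : s⁻¹ * (x * y) = (s⁻¹ * x) * y := by group
      rw [e]
      exact B.mul_mem ihx ihy
    · left
      have e : x * y = (s * s) * (s⁻¹ * (s⁻¹ * x) * s) * (s⁻¹ * y) := by group
      rw [e]
      refine B.mul_mem (B.mul_mem (h.sq_mem s hs) ?_) ihy
      exact h.T_conj' hsN ihx (N.mul_mem (N.inv_mem hsN) hxN)
  | inv x hx ihx =>
    have hxN := hcl hx
    rcases ihx with ihx | ihx
    · left; exact B.inv_mem ihx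
    · right
      have e : s⁻¹ * x⁻¹ = (s⁻¹ * (s⁻¹ * x)⁻¹ * s) * (s⁻¹ * s⁻¹) := by group
      rw [e]
      refine B.mul_mem ?_ (h.sq_inv_mem hs)
      exact h.T_conj' hsN (B.inv_mem ihx) (N.inv_mem (N.mul_mem (N.inv_mem hsN) hxN))

/-- `P_{s} = B ∪ B s B`. -/
theorem mem_sup_closure_singleton {s : G} (hs : s ∈ S) (g : G) :
    g ∈ B ⊔ Subgroup.closure {s} ↔ g ∈ B ∨ g ∈ TitsData.dc B s := by
  rw [h.mem_parabolic_iff (J := {s}) (by intro x hx; rw [Set.mem_singleton_iff] at hx; subst hx; exact hs)]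
  constructor
  · rintro ⟨m, hm, hgm⟩
    rcases h.closure_singleton_cases hs hm with hmB | hmB
    · left
      rw [TitsData.dc_eq_of_mem_B hmB] at hgm
      exact hgm
    · right
      rw [TitsData.dc_eq_of_rel hmB] at hgm
      exact hgm
  · rintro (hg | hg)
    · exact ⟨1, Subgroup.one_mem _, by rw [TitsData.dc_one]; exact hg⟩
    · exact ⟨s, Subgroup.subset_closure rfl, hg⟩

/-- the letters of a reduced word of `n` lie in every overgroup of `B` containing `n`. -/
theorem letters_mem (M : Subgroup G) (hBM : B ≤ M) : ∀ (L : List G), (∀ x ∈ L, x ∈ S) →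
    TitsData.len B S L.prod = L.length → L.prod ∈ M → ∀ x ∈ L, x ∈ M := by
  intro L
  induction L with
  | nil => intro _ _ _ x hx; simp at hx
  | cons s L' ih =>
    intro hL hlen hM
    have hs : s ∈ S := hL s (by simp)
    have hL' : ∀ x ∈ L', x ∈ S := fun x hx => hL x (by simp [hx])
    have hm : L'.prod ∈ N := h.list_prod_mem hL'
    have hsN := h.mem_N hs
    have hn : (s :: L').prod ∈ N := h.list_prod_mem hL
    rw [List.prod_cons] at hlen hM hn
    rw [List.length_cons] at hlen
    have h1 : TitsData.len B S L'.prod ≤ L'.length :=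
      TitsData.len_le_of_word (B := B) (S := S) (n := L'.prod) (L := L') hL' (by simp)
    have h2 := h.len_s_mul_le hs hm
    have hlen' : TitsData.len B S L'.prod = L'.length := by omega
    have hrel : (s * L'.prod)⁻¹ * (s * L'.prod) ∈ B := by simp
    have h3 : TitsData.len B S (s * (s * L'.prod)) = TitsData.len B S L'.prod :=
      h.len_s_mul_of_peel hs hm hn hrel
    obtain ⟨x, hx, y, hy, b, hb, hsdec⟩ := h.exists_decomp_of_len_le hs hn (by omega)
    have hsM : s ∈ M := by
      rw [hsdec]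
      exact M.mul_mem (M.mul_mem (hBM hx) (M.mul_mem (M.mul_mem hM (hBM hy)) (M.inv_mem hM)))
        (hBM hb)
    have hmM : L'.prod ∈ M := by
      have e : L'.prod = s⁻¹ * (s * L'.prod) := by group
      rw [e]
      exact M.mul_mem (M.inv_mem hsM) hM
    intro z hz
    rcases List.mem_cons.1 hz with rfl | hz
    · exact hsM
    · exact ih hL' hlen' hmM z hz

/-- the length of a product of two distinct generators is `2`. -/
theorem len_mul_gen (hinj : ∀ s ∈ S, ∀ s' ∈ S, s⁻¹ * s' ∈ B → s = s') {s1 s2 : G}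
    (hs1 : s1 ∈ S) (hs2 : s2 ∈ S) (hne : s1 ≠ s2) : TitsData.len B S (s2 * s1) = 2 := by
  have hs1N := h.mem_N hs1
  have hs2N := h.mem_N hs2
  have h1 := h.len_s_mul_le hs2 hs1N
  have h2 := h.len_s_mul_ne hs2 hs1N
  have h3 := h.len_gen hs1
  have h4 : TitsData.len B S (s2 * s1) ≠ 0 := by
    intro h0
    have hB : s2 * s1 ∈ B := (h.len_eq_zero (N.mul_mem hs2N hs1N)).1 h0
    apply hne
    symm
    apply hinj s2 hs2 s1 hs1
    have e : s2⁻¹ * s1 = (s2⁻¹ * s2⁻¹) * (s2 * s1) := by group
    rw [e]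
    exact B.mul_mem (h.sq_inv_mem hs2) hB
  omega

/-- Bourbaki's commuting lemma: if `H` is normal and `H ⊔ B = P_X` then every element of `X`
commutes modulo `B` with every element of `S \ X`. -/
theorem comm_of_normal (hinj : ∀ s ∈ S, ∀ s' ∈ S, s⁻¹ * s' ∈ B → s = s')
    (H : Subgroup G) [H.Normal] {X : Set G} (hX : X ⊆ S)
    (hHB : H ⊔ B = B ⊔ Subgroup.closure X) {s1 s2 : G} (hs1 : s1 ∈ X) (hs2 : s2 ∈ S)
    (hs2X : s2 ∉ X) : s1 * s2 * s1⁻¹ * s2⁻¹ ∈ B := by
  have hs1S := hX hs1
  have hs1N := h.mem_N hs1S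
  have hs2N := h.mem_N hs2
  have hne : s1 ≠ s2 := fun e => hs2X (e ▸ hs1)
  have hNX : Subgroup.closure X ⊔ (B ⊓ N) ≤ N := sup_le (h.closure_le_N hX) inf_le_right
  -- an element of H in dc s1
  have hs1M : s1 ∈ H ⊔ B := by
    rw [hHB]
    exact (le_sup_right : Subgroup.closure X ≤ _) (Subgroup.subset_closure hs1)
  obtain ⟨hh, hhH, b, hb, hhb⟩ := Subgroup.mem_sup_of_normal_left.1 hs1M
  have hlen21 := h.len_mul_gen hinj hs1S hs2 hne
  have hA : s2 * 1 * s1 ∈ TitsData.dc B (s2 * s1) :=
    h.claimA hs2 hs1N (by rw [h.len_gen hs1S, hlen21]; norm_num) B.one_mem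
  have h1 : s2 * hh ∈ TitsData.dc B (s2 * s1) := by
    have e : s2 * hh = (s2 * 1 * s1) * b⁻¹ := by rw [← hhb]; group
    rw [e]; exact TitsData.mem_dc_mul (B.inv_mem hb) hA
  have hs2inv : s2⁻¹ ∈ TitsData.dc B s2 := by
    rw [← h.dc_inv_s hs2]; exact TitsData.self_mem_dc _
  have h2 := h.dc_mul_s hs2 (N.mul_mem hs2N hs1N) h1 hs2inv
  have hH' : s2 * hh * s2⁻¹ ∈ H := Subgroup.Normal.conj_mem inferInstance hh hhH s2
  have hP : s2 * hh * s2⁻¹ ∈ B ⊔ Subgroup.closure X := by
    rw [← hHB]; exact (le_sup_left : H ≤ _) hH'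
  obtain ⟨n, hn, hgn⟩ := (h.mem_parabolic_iff hX _).1 hP
  have hnN := h.closure_le_N hX hn
  have hs1cl : s1 ∈ Subgroup.closure X ⊔ (B ⊓ N) :=
    (le_sup_left : Subgroup.closure X ≤ _) (Subgroup.subset_closure hs1)
  rcases h2 with h2 | h2
  · have hdc : TitsData.dc B (s2 * s1 * s2) = TitsData.dc B n := by
      rw [← TitsData.dc_eq_of_mem h2, TitsData.dc_eq_of_mem hgn]
    have hw : s2 * s1 * s2 ∈ N := N.mul_mem (N.mul_mem hs2N hs1N) hs2N
    have hrel := h.bruhat_unique hnN hw hdc.symm
    have hwX : s2 * s1 * s2 ∈ Subgroup.closure X ⊔ (B ⊓ N) := by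
      have e : s2 * s1 * s2 = n * (n⁻¹ * (s2 * s1 * s2)) := by group
      rw [e]
      exact Subgroup.mul_mem _ ((le_sup_left : Subgroup.closure X ≤ _) hn)
        ((le_sup_right : B ⊓ N ≤ _) ⟨hrel, N.mul_mem (N.inv_mem hnN) hw⟩)
    have hlen12 := h.len_mul_gen hinj hs2 hs1S (Ne.symm hne)
    have hs12N : s1 * s2 ∈ N := N.mul_mem hs1N hs2N
    have hne3 := h.len_s_mul_ne hs2 hs12N
    have hle3 := h.len_s_mul_le hs2 hs12N
    have hge := h.len_le_s_mul hs2 hs12N
    have eassoc : s2 * (s1 * s2) = s2 * s1 * s2 := by group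
    rw [eassoc] at hne3 hle3 hge
    rcases (by omega : TitsData.len B S (s2 * s1 * s2) = 3 ∨
        TitsData.len B S (s2 * s1 * s2) = 1) with h3 | h1'
    · exfalso
      have hwP : s2 * s1 * s2 ∈ B ⊔ Subgroup.closure X := by
        have e : s2 * s1 * s2 = n * (n⁻¹ * (s2 * s1 * s2)) := by group
        rw [e]
        exact Subgroup.mul_mem _ ((le_sup_right : Subgroup.closure X ≤ _) hn)
          ((le_sup_left : B ≤ _) hrel)
      have hlist : ([s2, s1, s2] : List G).prod = s2 * s1 * s2 := by simp [mul_assoc]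
      have := h.letters_mem (B ⊔ Subgroup.closure X) le_sup_left [s2, s1, s2]
        (by
          intro x hx
          simp only [List.mem_cons, List.not_mem_nil, or_false] at hx
          rcases hx with rfl | rfl | rfl
          exacts [hs2, hs1S, hs2])
        (by rw [hlist, h3]; rfl)
        (by rw [hlist]; exact hwP) s2 (by simp)
      exact hs2X (h.mem_of_mem_parabolic hinj hX hs2 this)
    · obtain ⟨L, hL, hlenL, hLn⟩ := h.len_spec hw
      rw [h1'] at hlenL
      obtain ⟨s', rfl⟩ := List.length_eq_one_iff.1 hlenL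
      have hs' : s' ∈ S := hL s' (by simp)
      have hs'N := h.mem_N hs'
      have ht : s'⁻¹ * (s2 * s1 * s2) ∈ B := by simpa using hLn
      have htN : s'⁻¹ * (s2 * s1 * s2) ∈ N := N.mul_mem (N.inv_mem hs'N) hw
      -- the word [s', s2] represents s2 * s1
      have hrel2 : (s' * s2)⁻¹ * (s2 * s1) ∈ B := by
        have e : (s' * s2)⁻¹ * (s2 * s1) =
            (s2⁻¹ * (s'⁻¹ * (s2 * s1 * s2)) * s2) * (s2⁻¹ * s2⁻¹) := by group
        rw [e]
        exact B.mul_mem (h.T_conj' hs2N ht htN) (h.sq_inv_mem hs2)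
      have hlen' : TitsData.len B S (s' * s2) = 2 := by
        rw [TitsData.len_congr hrel2, hlen21]
      set K : Set G := {s2, s1} with hKdef
      have hK : K ⊆ S := by
        intro x hx
        rcases hx with rfl | hx
        · exact hs2
        · rw [Set.mem_singleton_iff] at hx; subst hx; exact hs1S
      have hn2M : s2 * s1 ∈ B ⊔ Subgroup.closure K := by
        refine (le_sup_right : Subgroup.closure K ≤ _) (Subgroup.mul_mem _ ?_ ?_)
        · exact Subgroup.subset_closure (by simp [hKdef])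
        · exact Subgroup.subset_closure (by simp [hKdef])
      have hs's2M : s' * s2 ∈ B ⊔ Subgroup.closure K := by
        have e : s' * s2 = (s2 * s1) * ((s' * s2)⁻¹ * (s2 * s1))⁻¹ := by group
        rw [e]
        exact Subgroup.mul_mem _ hn2M (Subgroup.inv_mem _ ((le_sup_left : B ≤ _) hrel2))
      have hs'M := h.letters_mem (B ⊔ Subgroup.closure K) le_sup_left [s', s2]
        (by
          intro x hx
          simp only [List.mem_cons, List.not_mem_nil, or_false] at hx
          rcases hx with rfl | rfl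
          exacts [hs', hs2])
        (by simp only [List.prod_cons, List.prod_nil, mul_one, hlen']; rfl)
        (by simpa using hs's2M) s' (by simp)
      have hs'K : s' ∈ K := h.mem_of_mem_parabolic hinj hK hs' hs'M
      have hs'eq : s' = s1 := by
        rcases hs'K with hx | hx
        · exfalso
          have hB12 : s1 * s2 ∈ B := by
            have e : s1 * s2 = s2⁻¹ * (s2 * s1 * s2) := by group
            rw [e]
            have ht' := ht
            rw [hx] at ht'
            exact ht'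
          have := (h.len_eq_zero hs12N).2 hB12
          omega
        · rw [Set.mem_singleton_iff] at hx; exact hx
      subst hs'eq
      have e : s' * s2 * s'⁻¹ * s2⁻¹ =
          (s2⁻¹ * (s' * (s'⁻¹ * (s2 * s' * s2)) * s'⁻¹) * s2) * (s2⁻¹ * s2⁻¹) := by group
      rw [e]
      refine B.mul_mem ?_ (h.sq_inv_mem hs2)
      refine h.T_conj' hs2N (h.T_conj hs1N ht htN) ?_
      exact N.mul_mem (N.mul_mem hs1N htN) (N.inv_mem hs1N)
  · exfalso
    have hdc : TitsData.dc B (s2 * s1) = TitsData.dc B n := by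
      rw [← TitsData.dc_eq_of_mem h2, TitsData.dc_eq_of_mem hgn]
    have hw : s2 * s1 ∈ N := N.mul_mem hs2N hs1N
    have hrel := h.bruhat_unique hnN hw hdc.symm
    have hwX : s2 * s1 ∈ Subgroup.closure X ⊔ (B ⊓ N) := by
      have e : s2 * s1 = n * (n⁻¹ * (s2 * s1)) := by group
      rw [e]
      exact Subgroup.mul_mem _ ((le_sup_left : Subgroup.closure X ≤ _) hn)
        ((le_sup_right : B ⊓ N ≤ _) ⟨hrel, N.mul_mem (N.inv_mem hnN) hw⟩)
    have hs2cl : s2 ∈ Subgroup.closure X ⊔ (B ⊓ N) := by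
      have e : s2 = (s2 * s1) * s1⁻¹ := by group
      rw [e]
      exact Subgroup.mul_mem _ hwX (Subgroup.inv_mem _ hs1cl)
    exact hs2X (h.mem_of_mem_closure_sup hinj hX hs2 hs2cl)

end TitsData

end Cfsg.Agent.Lib.Helper1
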