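import Mathlib

set_option autoImplicit false

namespace Cfsg.Agent.Lib.Helper1

section
variable {G : Type*} [Group G]

theorem mem_map_conj_iff {H : Subgroup G} {g x : G} :
    x ∈ H.map (MulAut.conj g).toMonoidHom ↔ g⁻¹ * x * g ∈ H := by
  constructor
  · rintro ⟨y, hy, rfl⟩
    have : g⁻¹ * ((MulAut.conj g).toMonoidHom y) * g = y := by
      simp only [MulEquiv.coe_toMonoidHom, MulAut.conj_apply]
      group
    rw [this]; exact hy
  · intro h
    refine ⟨g⁻¹ * x * g, h, ?_⟩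
    simp [MulAut.conj_apply, mul_assoc]

theorem map_conj_eq_iff {H : Subgroup G} {g : G} :
    H.map (MulAut.conj g).toMonoidHom = H ↔ g ∈ Subgroup.normalizer (H : Set G) :=
  (Subgroup.mem_normalizer_iff_map_conj_eq (H := H)).symm

theorem mem_sylow_smul_iff {p : ℕ} {g x : G} {P : Sylow p G} :
    x ∈ (g • P : Sylow p G) ↔ g⁻¹ * x * g ∈ P := by
  have : x ∈ (g • P : Sylow p G) ↔ x ∈ ((g • P : Sylow p G) : Subgroup G) := Iff.rfl
  rw [this, Sylow.coe_subgroup_smul, Subgroup.mem_pointwise_smul_iff_inv_smul_mem]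
  simp [MulAut.smul_def]
  rfl

theorem conj_mem_normalizer_iff {H : Subgroup G} {g : G} :
    g ∈ Subgroup.normalizer (H : Set G) ↔ ∀ h, h ∈ H ↔ g * h * g⁻¹ ∈ H :=
  Subgroup.mem_normalizer_iff

end

end Cfsg.Agent.Lib.Helper1
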