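import Mathlib
import Cfsg.Agent.Lib.Helper1.SylowConj

set_option autoImplicit false

namespace Cfsg.Agent.Lib.Helper1

open scoped Pointwise

section
variable {G : Type*} [Group G] [Finite G] {p : ℕ} [Fact p.Prime]

/-- Claim A in the Alperin–Lyons proof of the Baer–Suzuki theorem. -/
theorem bs_claimA (K : Set G) (hK : ∀ g k : G, k ∈ K → g * k * g⁻¹ ∈ K) (P : Subgroup G)
    (hP : IsPGroup p P) (M₀ : Subgroup G) (hM₀ : M₀ ≤ P)
    (hne : K ∩ (M₀ : Set G) ≠ K ∩ (P : Set G)) :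
    ∃ x : G, x ∈ K ∧ x ∈ P ∧ x ∉ K ∩ (M₀ : Set G) ∧
      ∀ e : G, e ∈ K ∩ (M₀ : Set G) ↔ x * e * x⁻¹ ∈ K ∩ (M₀ : Set G) := by
  classical
  let MM := {M : Subgroup G // M ≤ P ∧ K ∩ (M : Set G) = K ∩ (M₀ : Set G)}
  haveI : Nonempty MM := ⟨⟨M₀, hM₀, rfl⟩⟩
  obtain ⟨⟨M, hMP, hME⟩, hmax⟩ := Finite.exists_max (fun M : MM => Nat.card (M.1 : Subgroup G))
  have hMneP : M ≠ P := by
    rintro rfl
    exact hne hME.symm
  have hMlt : M < P := lt_of_le_of_ne hMP hMneP
  -- normalizer condition in P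
  haveI : Group.IsNilpotent P := hP.isNilpotent
  have hnc : NormalizerCondition P := Group.normalizerCondition_of_isNilpotent
  have hlt : M.subgroupOf P < ⊤ := by
    rw [lt_top_iff_ne_top, Ne, Subgroup.subgroupOf_eq_top]
    exact fun h => hMneP (le_antisymm hMP h)
  have h2 := hnc _ hlt
  rw [← Subgroup.subgroupOf_normalizer_eq hMP] at h2
  obtain ⟨y, hyN, hyM⟩ := SetLike.exists_of_lt h2
  rw [Subgroup.mem_subgroupOf] at hyN hyM
  set N : Subgroup G := Subgroup.normalizer (M : Set G) ⊓ P with hN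
  have hMN : M ≤ N := le_inf Subgroup.le_normalizer hMP
  have hyNN : (y : G) ∈ N := Subgroup.mem_inf.2 ⟨hyN, y.2⟩
  have hKN : K ∩ (N : Set G) ≠ K ∩ (M₀ : Set G) := by
    intro hEq
    have h3 := hmax ⟨N, inf_le_right, hEq⟩
    simp only at h3
    have h4 : M = N := Subgroup.eq_of_le_of_card_ge hMN h3
    exact hyM (h4 ▸ hyNN)
  have hex : ∃ x ∈ K ∩ (N : Set G), x ∉ K ∩ (M₀ : Set G) := by
    by_contra hcon
    push Not at hcon
    apply hKN
    apply Set.Subset.antisymm hcon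
    rw [← hME]
    exact Set.inter_subset_inter_right _ hMN
  obtain ⟨x, ⟨hxK, hxN⟩, hxE⟩ := hex
  obtain ⟨hxnorm, hxP⟩ := Subgroup.mem_inf.1 hxN
  refine ⟨x, hxK, hxP, hxE, ?_⟩
  intro e
  rw [← hME]
  constructor
  · rintro ⟨heK, heM⟩
    exact ⟨hK x e heK, (Subgroup.mem_normalizer_iff.1 hxnorm e).1 heM⟩
  · rintro ⟨heK, heM⟩
    refine ⟨?_, (Subgroup.mem_normalizer_iff.1 hxnorm e).2 heM⟩
    have := hK x⁻¹ _ heK
    simpa [mul_assoc] using this

theorem mem_normalizer_closure_of_conj_iff (E : Set G) (x : G)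
    (h : ∀ e : G, e ∈ E ↔ x * e * x⁻¹ ∈ E) :
    x ∈ Subgroup.normalizer ((Subgroup.closure E : Subgroup G) : Set G) := by
  rw [← map_conj_eq_iff, MonoidHom.map_closure]
  congr 1
  ext e
  constructor
  · rintro ⟨e', he', rfl⟩
    exact (h e').1 he'
  · intro he
    refine ⟨x⁻¹ * e * x, ?_, ?_⟩
    · rw [h]
      have : x * (x⁻¹ * e * x) * x⁻¹ = e := by group
      rw [this]; exact he
    · simp [MulAut.conj_apply, mul_assoc]

theorem ncard_inter_smul (K : Set G) (hK : ∀ g k : G, k ∈ K → g * k * g⁻¹ ∈ K) (P : Sylow p G)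
    (g : G) : (K ∩ ((g • P : Sylow p G) : Set G)).ncard = (K ∩ (P : Set G)).ncard := by
  have : K ∩ ((g • P : Sylow p G) : Set G) = (fun y => g * y * g⁻¹) '' (K ∩ (P : Set G)) := by
    ext z
    constructor
    · rintro ⟨hzK, hzP⟩
      have hzP' : g⁻¹ * z * g ∈ P := mem_sylow_smul_iff.1 hzP
      refine ⟨g⁻¹ * z * g, ⟨?_, hzP'⟩, by group⟩
      have := hK g⁻¹ z hzK
      simpa using this
    · rintro ⟨y, ⟨hyK, hyP⟩, rfl⟩
      refine ⟨hK g y hyK, ?_⟩
      apply mem_sylow_smul_iff.2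
      have : g⁻¹ * (g * y * g⁻¹) * g = y := by group
      rw [this]; exact hyP
  rw [this]
  apply Set.ncard_image_of_injective
  intro a b hab
  simpa using hab

/-- Main step of Baer–Suzuki (Alperin–Lyons): a normal set of elements, any two of which
generate a `p`-group, meets all Sylow `p`-subgroups in the same set. -/
theorem bs_main (K : Set G) (hK : ∀ g k : G, k ∈ K → g * k * g⁻¹ ∈ K)
    (hpair : ∀ a ∈ K, ∀ b ∈ K, IsPGroup p (Subgroup.closure ({a, b} : Set G)))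
    (P Q : Sylow p G) : K ∩ (P : Set G) = K ∩ (Q : Set G) := by
  classical
  by_contra hPQ0
  let PP := {PQ : Sylow p G × Sylow p G // K ∩ (PQ.1 : Set G) ≠ K ∩ (PQ.2 : Set G)}
  haveI : Nonempty PP := ⟨⟨(P, Q), hPQ0⟩⟩
  obtain ⟨⟨⟨P, Q⟩, hPQ⟩, hmax⟩ := Finite.exists_max
    (fun PQ : PP => (K ∩ ((PQ.1.1 : Set G) ∩ (PQ.1.2 : Set G))).ncard)
  simp only at hPQ hmax
  set E : Set G := K ∩ ((P : Set G) ∩ (Q : Set G)) with hE
  have hEM : K ∩ (((P : Subgroup G) ⊓ (Q : Subgroup G) : Subgroup G) : Set G) = E := by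
    rw [Subgroup.coe_inf]
    rfl
  -- cardinalities of K ∩ P and K ∩ Q agree
  have hcard : (K ∩ (Q : Set G)).ncard = (K ∩ (P : Set G)).ncard := by
    obtain ⟨g, hg⟩ := MulAction.exists_smul_eq G P Q
    rw [← hg]
    exact ncard_inter_smul K hK P g
  have hfinP : (K ∩ (P : Set G)).Finite := Set.toFinite _
  have hfinQ : (K ∩ (Q : Set G)).Finite := Set.toFinite _
  have hEP : E ≠ K ∩ (P : Set G) := by
    intro h
    -- then K ∩ P ⊆ K ∩ Q, equal by cardinality
    have hsub : K ∩ (P : Set G) ⊆ K ∩ (Q : Set G) := by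
      rw [← h]
      exact Set.inter_subset_inter_right _ Set.inter_subset_right
    exact hPQ (Set.eq_of_subset_of_ncard_le hsub hcard.le hfinQ)
  have hEQ : E ≠ K ∩ (Q : Set G) := by
    intro h
    have hsub : K ∩ (Q : Set G) ⊆ K ∩ (P : Set G) := by
      rw [← h]
      exact Set.inter_subset_inter_right _ Set.inter_subset_left
    exact hPQ (Set.eq_of_subset_of_ncard_le hsub hcard.ge hfinP).symm
  obtain ⟨x, hxK, hxP, hxE, hxn⟩ := bs_claimA K hK (P : Subgroup G) P.isPGroup'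
    ((P : Subgroup G) ⊓ (Q : Subgroup G)) inf_le_left (by rw [hEM]; exact hEP)
  obtain ⟨y, hyK, hyQ, hyE, hyn⟩ := bs_claimA K hK (Q : Subgroup G) Q.isPGroup'
    ((P : Subgroup G) ⊓ (Q : Subgroup G)) inf_le_right (by rw [hEM]; exact hEQ)
  rw [hEM] at hxE hxn hyE hyn
  set E₀ : Subgroup G := Subgroup.closure E with hE₀
  have hxN := mem_normalizer_closure_of_conj_iff E x hxn
  have hyN := mem_normalizer_closure_of_conj_iff E y hyn
  set W : Subgroup G := Subgroup.closure ({x, y} : Set G) with hW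
  have hWp : IsPGroup p W := hpair x hxK y hyK
  have hWN : W ≤ Subgroup.normalizer (E₀ : Set G) := by
    rw [hW, Subgroup.closure_le]
    intro z hz
    rcases hz with rfl | rfl
    · exact hxN
    · exact hyN
  have hE₀P : E₀ ≤ (P : Subgroup G) := by
    rw [hE₀, Subgroup.closure_le]
    intro z hz
    exact hz.2.1
  have hE₀p : IsPGroup p E₀ := P.isPGroup'.to_le hE₀P
  have hsup : IsPGroup p (W ⊔ E₀ : Subgroup G) := hWp.to_sup_of_normal_right' hE₀p hWN
  obtain ⟨T, hT⟩ := hsup.exists_le_sylow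
  have hET : E ⊆ (T : Set G) := fun z hz => hT (le_sup_right (a := W) (Subgroup.subset_closure hz))
  have hxT : x ∈ (T : Set G) :=
    hT (le_sup_left (b := E₀) (Subgroup.subset_closure (by simp)))
  have hyT : y ∈ (T : Set G) :=
    hT (le_sup_left (b := E₀) (Subgroup.subset_closure (by simp)))
  have hEfin : E.Finite := Set.toFinite _
  have hTP : K ∩ (T : Set G) = K ∩ (P : Set G) := by
    by_contra hne
    have h1 := hmax ⟨(T, P), hne⟩
    simp only at h1
    have hsub : insert x E ⊆ K ∩ ((T : Set G) ∩ (P : Set G)) := by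
      intro z hz
      rcases hz with rfl | hz
      · exact ⟨hxK, hxT, hxP⟩
      · exact ⟨hz.1, hET hz, hz.2.1⟩
    have h2 : (insert x E).ncard ≤ (K ∩ ((T : Set G) ∩ (P : Set G))).ncard :=
      Set.ncard_le_ncard hsub (Set.toFinite _)
    rw [Set.ncard_insert_of_notMem hxE hEfin] at h2
    omega
  have hTQ : K ∩ (T : Set G) = K ∩ (Q : Set G) := by
    by_contra hne
    have h1 := hmax ⟨(T, Q), hne⟩
    simp only at h1
    have hsub : insert y E ⊆ K ∩ ((T : Set G) ∩ (Q : Set G)) := by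
      intro z hz
      rcases hz with rfl | hz
      · exact ⟨hyK, hyT, hyQ⟩
      · exact ⟨hz.1, hET hz, hz.2.2⟩
    have h2 : (insert y E).ncard ≤ (K ∩ ((T : Set G) ∩ (Q : Set G))).ncard :=
      Set.ncard_le_ncard hsub (Set.toFinite _)
    rw [Set.ncard_insert_of_notMem hyE hEfin] at h2
    omega
  exact hPQ (hTP.symm.trans hTQ)

/-- Baer–Suzuki, element version: if `x` generates a `p`-group together with each of its
conjugates, then `x` lies in every Sylow `p`-subgroup. -/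
theorem baer_suzuki_elem (x : G)
    (h : ∀ g : G, IsPGroup p (Subgroup.closure ({x, g * x * g⁻¹} : Set G))) (P : Sylow p G) :
    x ∈ (P : Subgroup G) := by
  set K : Set G := {y | ∃ g : G, y = g * x * g⁻¹} with hKdef
  have hK : ∀ g k : G, k ∈ K → g * k * g⁻¹ ∈ K := by
    rintro g k ⟨g', rfl⟩
    exact ⟨g * g', by group⟩
  have hpair : ∀ a ∈ K, ∀ b ∈ K, IsPGroup p (Subgroup.closure ({a, b} : Set G)) := by
    rintro a ⟨g₁, rfl⟩ b ⟨g₂, rfl⟩
    have h1 := (h (g₁⁻¹ * g₂)).map (MulAut.conj g₁).toMonoidHom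
    refine h1.to_le ?_
    rw [Subgroup.closure_le]
    intro z hz
    rcases hz with rfl | rfl
    · exact ⟨x, Subgroup.subset_closure (by simp), by simp [MulAut.conj_apply]⟩
    · refine ⟨g₁⁻¹ * g₂ * x * (g₁⁻¹ * g₂)⁻¹, Subgroup.subset_closure (by simp), ?_⟩
      simp only [MulEquiv.coe_toMonoidHom, MulAut.conj_apply]
      group
  have hxK : x ∈ K := ⟨1, by simp⟩
  have hx1 : IsPGroup p (Subgroup.closure ({x, 1 * x * 1⁻¹} : Set G)) := h 1
  obtain ⟨P₀, hP₀⟩ := hx1.exists_le_sylow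
  have hxP₀ : x ∈ (P₀ : Set G) := hP₀ (Subgroup.subset_closure (by simp))
  have := bs_main K hK hpair P₀ P
  have hx : x ∈ K ∩ (P : Set G) := by rw [← this]; exact ⟨hxK, hxP₀⟩
  exact hx.2

/-- Baer–Suzuki: the element lies in a normal `p`-subgroup. -/
theorem baer_suzuki_normal (x : G)
    (h : ∀ g : G, IsPGroup p (Subgroup.closure ({x, g * x * g⁻¹} : Set G))) :
    ∃ N : Subgroup G, N.Normal ∧ IsPGroup p N ∧ x ∈ N ∧
      ∀ x' : G, (∀ g : G, IsPGroup p (Subgroup.closure ({x', g * x' * g⁻¹} : Set G))) → x' ∈ N := by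
  obtain ⟨P⟩ : Nonempty (Sylow p G) := inferInstance
  have key : ∀ x' : G, (∀ g : G, IsPGroup p (Subgroup.closure ({x', g * x' * g⁻¹} : Set G))) →
      x' ∈ Subgroup.normalCore (P : Subgroup G) := by
    intro x' hx' g
    have h1 := baer_suzuki_elem x' hx' (g⁻¹ • P)
    have h2 : x' ∈ (g⁻¹ • P : Sylow p G) := h1
    rw [mem_sylow_smul_iff, inv_inv] at h2
    exact h2
  exact ⟨Subgroup.normalCore (P : Subgroup G), Subgroup.normalCore_normal _,
    P.isPGroup'.to_le (Subgroup.normalCore_le _), key x h, key⟩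

end

end Cfsg.Agent.Lib.Helper1
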