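import Mathlib
import Cfsg.Prelude.Def_Solvable

set_option autoImplicit false

namespace Cfsg.Agent.Lib.Helper1

open Cfsg

section
variable {G : Type*} [Group G]

theorem pCore_normal (p : ℕ) : (pCore p G).Normal := by
  unfold pCore
  exact Subgroup.sSup_normal _ (fun N hN => hN.1)

theorem le_pCore {p : ℕ} (N : Subgroup G) (h1 : N.Normal) (h2 : IsPGroup p N) : N ≤ pCore p G :=
  le_sSup ⟨h1, h2⟩

theorem pCore_le_sylow {p : ℕ} [Fact p.Prime] [Finite G] (Q : Sylow p G) : pCore p G ≤ Q := by
  unfold pCore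
  apply sSup_le
  rintro N ⟨hN1, hN2⟩
  haveI := hN1
  exact hN2.le_sylow_of_normal Q

theorem pCore_isPGroup {p : ℕ} [Fact p.Prime] [Finite G] : IsPGroup p (pCore p G) := by
  obtain ⟨Q⟩ : Nonempty (Sylow p G) := inferInstance
  exact Q.isPGroup'.to_le (pCore_le_sylow Q)

/-- the order of the join with a normal subgroup divides the product of the orders -/
theorem card_sup_dvd_mul [Finite G] (H K : Subgroup G) [K.Normal] :
    Nat.card (H ⊔ K : Subgroup G) ∣ Nat.card H * Nat.card K := by
  have h1 : Nat.card K * K.relIndex (H ⊔ K) = Nat.card (H ⊔ K : Subgroup G) := by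
    have := (K.subgroupOf (H ⊔ K)).card_mul_index
    rw [← this, Subgroup.relIndex]
    congr 1
    exact (Nat.card_congr (Subgroup.subgroupOfEquivOfLe (le_sup_right : K ≤ H ⊔ K)).toEquiv).symm
  rw [← h1, Subgroup.relIndex_sup_right, mul_comm]
  exact Nat.mul_dvd_mul_right (Subgroup.relIndex_dvd_card K H) _

theorem pPrimeCore_normal (p : ℕ) : (pPrimeCore p G).Normal := by
  unfold pPrimeCore
  exact Subgroup.sSup_normal _ (fun N hN => hN.1)

/-- the `p'`-core of a finite group has order prime to `p` -/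
theorem pPrimeCore_coprime [Finite G] (p : ℕ) [hp : Fact p.Prime] :
    (Nat.card (pPrimeCore p G)).Coprime p := by
  classical
  unfold pPrimeCore
  have hfin : ({N : Subgroup G | N.Normal ∧ (Nat.card N).Coprime p}).Finite := Set.toFinite _
  have : sSup {N : Subgroup G | N.Normal ∧ (Nat.card N).Coprime p}
      = hfin.toFinset.sup id := by
    rw [Finset.sup_id_eq_sSup]
    congr 1
    ext N
    simp
  rw [this]
  have key : (hfin.toFinset.sup id).Normal ∧ (Nat.card (hfin.toFinset.sup id : Subgroup G)).Coprime p := by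
    apply Finset.sup_induction (p := fun K : Subgroup G => K.Normal ∧ (Nat.card K).Coprime p)
    · refine ⟨inferInstance, ?_⟩
      rw [Subgroup.card_bot]
      exact Nat.coprime_one_left p
    · rintro K₁ ⟨hn1, hc1⟩ K₂ ⟨hn2, hc2⟩
      haveI := hn1
      haveI := hn2
      refine ⟨inferInstance, ?_⟩
      exact Nat.Coprime.coprime_dvd_left (card_sup_dvd_mul K₁ K₂) (Nat.Coprime.mul_left hc1 hc2)
    · intro K hK
      rw [Set.Finite.mem_toFinset] at hK
      exact hK
  exact key.2

theorem le_pPrimeCore {p : ℕ} (N : Subgroup G) (h1 : N.Normal) (h2 : (Nat.card N).Coprime p) :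
    N ≤ pPrimeCore p G :=
  le_sSup ⟨h1, h2⟩

end

end Cfsg.Agent.Lib.Helper1
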