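import Mathlib

set_option autoImplicit false

namespace Cfsg.Agent.Lib.Helper1

open scoped Pointwise

section
variable {G : Type*} [Group G]

theorem mem_conj_smul_iff {H : Subgroup G} {g x : G} :
    x ∈ MulAut.conj g • H ↔ g⁻¹ * x * g ∈ H := by
  rw [Subgroup.mem_pointwise_smul_iff_inv_smul_mem]
  simp [MulAut.smul_def]

theorem conj_mem_conj_smul {H : Subgroup G} {g x : G} (hx : x ∈ H) :
    g * x * g⁻¹ ∈ MulAut.conj g • H := by
  rw [mem_conj_smul_iff]
  have : g⁻¹ * (g * x * g⁻¹) * g = x := by group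
  rw [this]; exact hx

/-- decomposition of an element relative to a complement -/
theorem exists_mul_of_isComplement' {K H : Subgroup G} (hc : Subgroup.IsComplement' K H) (g : G) :
    ∃ k ∈ K, ∃ h ∈ H, g = k * h := by
  obtain ⟨⟨⟨k, hk⟩, ⟨h, hh⟩⟩, hx, -⟩ := (Subgroup.isComplement_iff_existsUnique.1 hc g)
  exact ⟨k, hk, h, hh, hx.symm⟩

theorem inf_eq_bot_of_isComplement' {K H : Subgroup G} (hc : Subgroup.IsComplement' K H) {x : G}
    (hK : x ∈ K) (hH : x ∈ H) : x = 1 := by
  have := hc.disjoint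
  rw [disjoint_iff] at this
  have hx : x ∈ K ⊓ H := Subgroup.mem_inf.2 ⟨hK, hH⟩
  rw [this, Subgroup.mem_bot] at hx
  exact hx

end

end Cfsg.Agent.Lib.Helper1
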