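import Mathlib
import Cfsg.Agent.Lib.Helper1.SylowConj
import Cfsg.Agent.Lib.Helper1.Fitting
import Cfsg.Agent.Lib.Helper1.Frob

set_option autoImplicit false

namespace Cfsg.Agent.Lib.Helper1

open scoped Pointwise

section
variable {G : Type*} [Group G]

/-- Sylow's theorem inside a subgroup `N` containing the Sylow subgroup `S` of `G`. -/
theorem exists_conj_le_of_le_sylow_in [Finite G] {p : ℕ} [Fact p.Prime] (N : Subgroup G)
    (S : Sylow p G) (hS : (S : Subgroup G) ≤ N) (R : Subgroup G) (hR : IsPGroup p R)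
    (hRN : R ≤ N) : ∃ x ∈ N, ∀ r ∈ R, x⁻¹ * r * x ∈ (S : Subgroup G) := by
  have hR' : IsPGroup p (R.subgroupOf N) := hR.comap_subtype
  obtain ⟨Q, hQ⟩ := hR'.exists_le_sylow
  obtain ⟨n, hn⟩ := MulAction.exists_smul_eq N (S.subtype hS) Q
  refine ⟨n, n.2, ?_⟩
  intro r hr
  have h1 : (⟨r, hRN hr⟩ : N) ∈ R.subgroupOf N := by
    rw [Subgroup.mem_subgroupOf]; exact hr
  have h2 : (⟨r, hRN hr⟩ : N) ∈ (n • (S.subtype hS) : Sylow p N) := by
    rw [hn]; exact hQ h1
  rw [mem_sylow_smul_iff] at h2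
  have h3 : n⁻¹ * (⟨r, hRN hr⟩ : N) * n ∈ ((S.subtype hS : Sylow p N) : Subgroup N) := h2
  rw [Sylow.coe_subtype, Subgroup.mem_subgroupOf] at h3
  simpa using h3

/-- Brodkey: abelian Sylow `p`-subgroups: some two conjugates of `S` meet in a subgroup
contained in every conjugate of `S`. -/
theorem brodkey_aux [Finite G] {p : ℕ} [Fact p.Prime] (S : Sylow p G)
    (hS : IsMulCommutative S) :
    ∃ a b : G, ∀ c : G, MulAut.conj a • (S : Subgroup G) ⊓ MulAut.conj b • (S : Subgroup G) ≤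
      MulAut.conj c • (S : Subgroup G) := by
  obtain ⟨ab, hmin⟩ := Finite.exists_min (fun ab : G × G =>
    Nat.card (MulAut.conj ab.1 • (S : Subgroup G) ⊓ MulAut.conj ab.2 • (S : Subgroup G) : Subgroup G))
  obtain ⟨a, b⟩ := ab
  refine ⟨a, b, ?_⟩
  intro c
  set S₁ : Subgroup G := MulAut.conj a • (S : Subgroup G) with hS₁
  set S₂ : Subgroup G := MulAut.conj b • (S : Subgroup G) with hS₂
  set D : Subgroup G := S₁ ⊓ S₂ with hD
  set N : Subgroup G := Subgroup.normalizer (D : Set G) with hN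
  have hcomm : ∀ x y : G, x ∈ (S : Subgroup G) → y ∈ (S : Subgroup G) → x * y = y * x := by
    intro x y hx hy
    have := hS.is_comm.comm (⟨x, hx⟩ : S) ⟨y, hy⟩
    exact congrArg Subtype.val this
  -- conjugates are abelian
  have hconjcomm : ∀ (g x y : G), x ∈ MulAut.conj g • (S : Subgroup G) →
      y ∈ MulAut.conj g • (S : Subgroup G) → x * y = y * x := by
    intro g x y hx hy
    rw [mem_conj_smul_iff] at hx hy
    have h := hcomm _ _ hx hy
    have h' := congrArg (fun z => g * z * g⁻¹) h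
    simp only [mul_assoc, mul_inv_cancel_left, mul_inv_cancel, mul_one] at h'
    simpa [mul_assoc] using h'
  have hS₁N : S₁ ≤ N := by
    refine le_trans ?_ (Subgroup.centralizer_le_normalizer (s := (D : Set G)))
    intro s hs
    rw [Subgroup.mem_centralizer_iff]
    intro d hd
    exact hconjcomm a d s (Subgroup.mem_inf.1 hd).1 hs
  have hS₂N : S₂ ≤ N := by
    refine le_trans ?_ (Subgroup.centralizer_le_normalizer (s := (D : Set G)))
    intro s hs
    rw [Subgroup.mem_centralizer_iff]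
    intro d hd
    exact hconjcomm b d s (Subgroup.mem_inf.1 hd).2 hs
  -- S₁ as a Sylow subgroup
  have hS₁coe : ((a • S : Sylow p G) : Subgroup G) = S₁ := Sylow.coe_subgroup_smul
  set P : Subgroup G := MulAut.conj c • (S : Subgroup G) with hP
  have hPp : IsPGroup p P := by
    have : ((c • S : Sylow p G) : Subgroup G) = P := Sylow.coe_subgroup_smul
    rw [← this]; exact (c • S : Sylow p G).isPGroup'
  have hRp : IsPGroup p (P ⊓ N : Subgroup G) := hPp.to_le inf_le_left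
  obtain ⟨x, hxN, hx⟩ := exists_conj_le_of_le_sylow_in N (a • S) (by rw [hS₁coe]; exact hS₁N)
    (P ⊓ N) hRp inf_le_right
  rw [hS₁coe] at hx
  -- K := P ⊓ conj (x*b) • S ≤ D
  have hKD : P ⊓ MulAut.conj (x * b) • (S : Subgroup G) ≤ D := by
    intro y hy
    obtain ⟨hyP, hy2⟩ := Subgroup.mem_inf.1 hy
    rw [mem_conj_smul_iff] at hy2
    have hy3 : x⁻¹ * y * x ∈ S₂ := by
      rw [hS₂, mem_conj_smul_iff]
      have : b⁻¹ * (x⁻¹ * y * x) * b = (x * b)⁻¹ * y * (x * b) := by group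
      rw [this]; exact hy2
    have hyN : y ∈ N := by
      have h1 : x⁻¹ * y * x ∈ N := hS₂N hy3
      have h2 : x * (x⁻¹ * y * x) * x⁻¹ ∈ N := N.mul_mem (N.mul_mem hxN h1) (N.inv_mem hxN)
      have : x * (x⁻¹ * y * x) * x⁻¹ = y := by group
      rwa [this] at h2
    have hy4 : x⁻¹ * y * x ∈ S₁ := hx y (Subgroup.mem_inf.2 ⟨hyP, hyN⟩)
    have hy5 : x⁻¹ * y * x ∈ D := Subgroup.mem_inf.2 ⟨hy4, hy3⟩
    have hxn := (Subgroup.mem_normalizer_iff.1 hxN (x⁻¹ * y * x)).1 hy5
    have : x * (x⁻¹ * y * x) * x⁻¹ = y := by group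
    rwa [this] at hxn
  have hcard := hmin (c, x * b)
  simp only at hcard
  have heq : P ⊓ MulAut.conj (x * b) • (S : Subgroup G) = D :=
    Subgroup.eq_of_le_of_card_ge hKD hcard
  rw [← heq]
  exact inf_le_left

/-- Brodkey's theorem. -/
theorem brodkey [Finite G] {p : ℕ} [Fact p.Prime] (S : Sylow p G)
    (hS : IsMulCommutative S) (hOp : Cfsg.pCore p G = ⊥) :
    ∃ g : G, (S : Subgroup G) ⊓ MulAut.conj g • (S : Subgroup G) = ⊥ := by
  obtain ⟨a, b, hab⟩ := brodkey_aux S hS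
  have hD : MulAut.conj a • (S : Subgroup G) ⊓ MulAut.conj b • (S : Subgroup G) ≤
      Subgroup.normalCore (S : Subgroup G) := by
    intro d hd c
    have := hab c⁻¹ hd
    rw [mem_conj_smul_iff] at this
    simpa using this
  have hcore : Subgroup.normalCore (S : Subgroup G) ≤ Cfsg.pCore p G :=
    le_pCore _ (Subgroup.normalCore_normal _) (S.isPGroup'.to_le (Subgroup.normalCore_le _))
  rw [hOp] at hcore
  have hbot : MulAut.conj a • (S : Subgroup G) ⊓ MulAut.conj b • (S : Subgroup G) = ⊥ :=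
    le_bot_iff.1 (le_trans hD hcore)
  refine ⟨a⁻¹ * b, ?_⟩
  rw [eq_bot_iff]
  intro y hy
  obtain ⟨hy1, hy2⟩ := Subgroup.mem_inf.1 hy
  rw [mem_conj_smul_iff] at hy2
  have h1 : a * y * a⁻¹ ∈ MulAut.conj a • (S : Subgroup G) := by
    rw [mem_conj_smul_iff]
    have : a⁻¹ * (a * y * a⁻¹) * a = y := by group
    rw [this]; exact hy1
  have h2 : a * y * a⁻¹ ∈ MulAut.conj b • (S : Subgroup G) := by
    rw [mem_conj_smul_iff]
    have : b⁻¹ * (a * y * a⁻¹) * b = (a⁻¹ * b)⁻¹ * y * (a⁻¹ * b) := by group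
    rw [this]; exact hy2
  have h3 : a * y * a⁻¹ ∈ (⊥ : Subgroup G) := by
    rw [← hbot]; exact Subgroup.mem_inf.2 ⟨h1, h2⟩
  rw [Subgroup.mem_bot] at h3 ⊢
  have := congrArg (fun z => a⁻¹ * z * a) h3
  simpa [mul_assoc] using this

end

end Cfsg.Agent.Lib.Helper1
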