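import Mathlib

set_option autoImplicit false

namespace Cfsg.Agent.Lib.Helper1

open scoped commutatorElement

section
variable {G : Type*} [Group G]

theorem mul_eq_commutator_mul (x y : G) : y * x = ⁅y, x⁆ * x * y := by
  rw [commutatorElement_def]; group

/-- if `⁅y, x⁆` commutes with `y` then `⁅y ^ n, x⁆ = ⁅y, x⁆ ^ n` -/
theorem commutator_pow_left_of_commute (x y : G) (hy : ⁅y, x⁆ * y = y * ⁅y, x⁆) (n : ℕ) :
    ⁅y ^ n, x⁆ = ⁅y, x⁆ ^ n := by
  induction n with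
  | zero => simp
  | succ n ih =>
    have h1 : ⁅y ^ (n + 1), x⁆ = y * ⁅y ^ n, x⁆ * y⁻¹ * ⁅y, x⁆ := by
      simp only [commutatorElement_def, pow_succ]; group
    have h2 : y * ⁅y, x⁆ ^ n = ⁅y, x⁆ ^ n * y := by
      have : Commute (⁅y, x⁆) y := hy
      exact (this.pow_left n).eq.symm
    rw [h1, ih, h2, pow_succ]; group

/-- if `⁅y, x⁆` commutes with `x` then `⁅y, x ^ n⁆ = ⁅y, x⁆ ^ n` -/
theorem commutator_pow_right_of_commute (x y : G) (hx : ⁅y, x⁆ * x = x * ⁅y, x⁆) (n : ℕ) :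
    ⁅y, x ^ n⁆ = ⁅y, x⁆ ^ n := by
  induction n with
  | zero => simp
  | succ n ih =>
    have h1 : ⁅y, x ^ (n + 1)⁆ = ⁅y, x⁆ * (x * ⁅y, x ^ n⁆ * x⁻¹) := by
      simp only [commutatorElement_def, pow_succ']; group
    have h2 : x * ⁅y, x⁆ ^ n = ⁅y, x⁆ ^ n * x := by
      have : Commute (⁅y, x⁆) x := hx
      exact (this.pow_left n).eq.symm
    rw [h1, ih, h2, pow_succ']; group

/-- the class two power formula `(xy)^n = x^n y^n [y,x]^(n choose 2)` -/
theorem mul_pow_of_commute_commutator (x y : G) (hx : ⁅y, x⁆ * x = x * ⁅y, x⁆)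
    (hy : ⁅y, x⁆ * y = y * ⁅y, x⁆) (n : ℕ) :
    (x * y) ^ n = x ^ n * y ^ n * ⁅y, x⁆ ^ (n.choose 2) := by
  set c := ⁅y, x⁆ with hc
  have hcx : Commute c x := hx
  have hcy : Commute c y := hy
  induction n with
  | zero => simp
  | succ n ih =>
    have h1 : y ^ n * x = c ^ n * x * y ^ n := by
      rw [mul_eq_commutator_mul x (y ^ n), commutator_pow_left_of_commute x y hy n]
    have h2 : c ^ (n.choose 2) * (x * y) = (x * y) * c ^ (n.choose 2) :=
      ((hcx.mul_right hcy).pow_left _).eq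
    have h3 : x ^ n * c ^ n = c ^ n * x ^ n := ((hcx.pow_pow n n).eq).symm
    have h4 : c ^ n * (x ^ (n + 1) * y ^ (n + 1)) = (x ^ (n + 1) * y ^ (n + 1)) * c ^ n :=
      (((hcx.pow_right (n + 1)).mul_right (hcy.pow_right (n + 1))).pow_left n).eq
    have h5 : (n + 1).choose 2 = n + n.choose 2 := by
      rw [Nat.choose_succ_succ, Nat.choose_one_right]
    calc (x * y) ^ (n + 1) = (x * y) ^ n * (x * y) := pow_succ _ _
      _ = x ^ n * y ^ n * (c ^ (n.choose 2) * (x * y)) := by rw [ih]; group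
      _ = x ^ n * (y ^ n * x) * y * c ^ (n.choose 2) := by rw [h2]; group
      _ = (x ^ n * c ^ n) * x * y ^ n * y * c ^ (n.choose 2) := by rw [h1]; group
      _ = c ^ n * (x ^ (n + 1) * y ^ (n + 1)) * c ^ (n.choose 2) := by
          rw [h3, pow_succ, pow_succ]; group
      _ = x ^ (n + 1) * y ^ (n + 1) * (c ^ n * c ^ (n.choose 2)) := by rw [h4]; group
      _ = x ^ (n + 1) * y ^ (n + 1) * c ^ ((n + 1).choose 2) := by rw [h5, pow_add c]

end

end Cfsg.Agent.Lib.Helper1
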