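import Mathlib.GroupTheory.GroupAction.ConjAct
import Mathlib.GroupTheory.GroupAction.Quotient
import Mathlib.GroupTheory.Index
import Mathlib.GroupTheory.Rank

set_option autoImplicit false

namespace Cfsg.Agent.Lib.Helper1

/-- the index of the centralizer of `g` is the size of the conjugacy class of `g` -/
theorem index_centralizer_eq_card_conj {G : Type*} [Group G] (g : G) :
    (Subgroup.centralizer ({g} : Set G)).index = Nat.card {y : G // IsConj g y} := by
  have h1 : (Subgroup.centralizer ({g} : Set G)).index =
      (MulAction.stabilizer (ConjAct G) g).index := by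
    rw [Subgroup.centralizer_eq_comap_stabilizer]
    exact Subgroup.index_comap_of_surjective _ ConjAct.toConjAct.surjective
  rw [h1, MulAction.index_stabilizer, ← Nat.card_coe_set_eq]
  apply Nat.card_congr
  refine Equiv.subtypeEquivRight (fun y => ?_)
  rw [ConjAct.mem_orbit_conjAct, isConj_comm]

/-- class equation for one element -/
theorem card_conj_mul_card_centralizer {G : Type*} [Group G] (g : G) :
    Nat.card {y : G // IsConj g y} * Nat.card (Subgroup.centralizer ({g} : Set G)) = Nat.card G := by
  rw [← index_centralizer_eq_card_conj, Subgroup.index_mul_card]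

end Cfsg.Agent.Lib.Helper1
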