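import Mathlib
import Cfsg.Prelude.Def_Sporadic_a
import Cfsg.Agent.Lib.Helper1.Leech

set_option autoImplicit false

namespace Cfsg.Agent.Lib.Helper1

open Cfsg
open scoped Pointwise

/-- precomposing a codeword with an element of `M24` gives a codeword -/
theorem comp_mem_golayCode {σ : Equiv.Perm GolayPt} (hσ : σ ∈ M24) {w : GolayPt → ZMod 2}
    (hw : w ∈ golayCode) : (fun i => w (σ i)) ∈ golayCode := by
  have hinv : σ⁻¹ ∈ M24 := inv_mem hσ
  have hstab : σ⁻¹ • supports (golayCode : Set (GolayPt → ZMod 2)) =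
      supports (golayCode : Set (GolayPt → ZMod 2)) := MulAction.mem_stabilizer_iff.1 hinv
  have hmem : σ⁻¹ • support₂ w ∈ supports (golayCode : Set (GolayPt → ZMod 2)) := by
    rw [← hstab]
    exact Set.smul_mem_smul_set ⟨w, hw, rfl⟩
  obtain ⟨w', hw', hsupp⟩ := hmem
  rw [← support₂_permWord] at hsupp
  have h := support₂_injective hsupp
  have h2 : permWord σ⁻¹ w = fun i => w (σ i) := by
    funext i
    rw [permWord_apply]
    rfl
  rw [← h2, ← h]
  exact hw'

theorem card_support₂_add (u v : GolayPt → ZMod 2) :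
    (support₂ (u + v)).card + 2 * (support₂ u ∩ support₂ v).card =
      (support₂ u).card + (support₂ v).card := by
  classical
  have h1 : support₂ (u + v) = (support₂ u \ support₂ v) ∪ (support₂ v \ support₂ u) := by
    ext i
    rw [Finset.mem_union, Finset.mem_sdiff, Finset.mem_sdiff, mem_support₂_iff, mem_support₂_iff,
      mem_support₂_iff, Pi.add_apply]
    generalize u i = a
    generalize v i = b
    revert a b
    decide
  rw [h1, Finset.card_union_of_disjoint disjoint_sdiff_sdiff]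
  have h2 := Finset.card_sdiff_add_card_inter (support₂ u) (support₂ v)
  have h3 := Finset.card_sdiff_add_card_inter (support₂ v) (support₂ u)
  rw [Finset.inter_comm] at h3
  omega

/-- two codewords meet evenly -/
theorem even_card_inter_support₂ {u v : GolayPt → ZMod 2} (hu : u ∈ golayCode)
    (hv : v ∈ golayCode) : 2 ∣ (support₂ u ∩ support₂ v).card := by
  have h := card_support₂_add u v
  have h1 := four_dvd_card_support₂ hu
  have h2 := four_dvd_card_support₂ hv
  have h3 := four_dvd_card_support₂ (Submodule.add_mem _ hu hv)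
  omega

theorem sq_emod_four (z : ℤ) : z ^ 2 % 4 = if z % 2 = 1 then 1 else 0 := by
  obtain ⟨k, rfl | rfl⟩ := Int.even_or_odd' z
  · have : (2 * k) ^ 2 = 4 * (k ^ 2) := by ring
    rw [this]
    have h2 : (2 * k) % 2 ≠ 1 := by omega
    rw [if_neg h2]
    omega
  · have : (2 * k + 1) ^ 2 = 4 * (k ^ 2 + k) + 1 := by ring
    rw [this]
    have h2 : (2 * k + 1) % 2 = 1 := by omega
    rw [if_pos h2]
    omega

theorem support₂_wordZ (a : GolayPt → ℤ) :
    support₂ (wordZ a) = Finset.univ.filter (fun i => a i % 2 = 1) := by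
  ext i
  rw [mem_support₂_iff, wordZ_apply, intCast_zmod2_ne_zero_iff, Finset.mem_filter]
  exact ⟨fun h => ⟨Finset.mem_univ _, h⟩, fun h => h.2⟩

/-- sum of squares mod 4 is the weight of the reduction mod 2 -/
theorem sum_sq_emod_four (a : GolayPt → ℤ) :
    (∑ i, a i ^ 2) % 4 = ((support₂ (wordZ a)).card : ℤ) % 4 := by
  rw [Finset.sum_int_mod]
  have : ∀ i ∈ (Finset.univ : Finset GolayPt), a i ^ 2 % 4 = if a i % 2 = 1 then 1 else 0 :=
    fun i _ => sq_emod_four (a i)
  rw [Finset.sum_congr rfl this, Finset.sum_boole, support₂_wordZ]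

theorem card_golayPt : Fintype.card GolayPt = 24 := by
  rw [Fintype.card_option, ZMod.card]

theorem sqNorm_expand (x a : GolayPt → ℤ) (m : ℤ) (hx : ∀ i, x i = m + 2 * a i) :
    sqNorm x = 24 * m ^ 2 + 4 * m * (∑ i, a i) + 4 * ∑ i, a i ^ 2 := by
  unfold sqNorm
  have : ∀ i ∈ (Finset.univ : Finset GolayPt), x i ^ 2 = m ^ 2 + (4 * m * a i + 4 * a i ^ 2) := by
    intro i _
    rw [hx i]; ring
  rw [Finset.sum_congr rfl this, Finset.sum_add_distrib, Finset.sum_add_distrib,
    Finset.sum_const, Finset.card_univ, card_golayPt, ← Finset.mul_sum, ← Finset.mul_sum]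
  simp only [nsmul_eq_mul, Nat.cast_ofNat]
  ring

theorem sum_expand (x a : GolayPt → ℤ) (m : ℤ) (hx : ∀ i, x i = m + 2 * a i) :
    ∑ i, x i = 24 * m + 2 * ∑ i, a i := by
  have : ∀ i ∈ (Finset.univ : Finset GolayPt), x i = m + 2 * a i := fun i _ => hx i
  rw [Finset.sum_congr rfl this, Finset.sum_add_distrib,
    Finset.sum_const, Finset.card_univ, card_golayPt, ← Finset.mul_sum]
  simp only [nsmul_eq_mul, Nat.cast_ofNat]

theorem sixteen_dvd_sqNorm {x : GolayPt → ℤ} (hx : x ∈ leechLattice) : (16 : ℤ) ∣ sqNorm x := by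
  rw [mem_leechLattice_iff] at hx
  obtain ⟨m, a, hxa, hs, hw⟩ := hx
  rw [sqNorm_expand x a m hxa]
  rw [sum_expand x a m hxa] at hs
  have hQ := sum_sq_emod_four a
  have h4 := four_dvd_card_support₂ hw
  obtain ⟨c, hc⟩ := h4
  rw [hc] at hQ
  push_cast at hQ
  unfold Int.ModEq at hs
  set A := ∑ i, a i with hA
  set Q := ∑ i, a i ^ 2 with hQ'
  have hA4 : ∃ t, A = 2 * m + 4 * t := ⟨(A - 2 * m) / 4, by omega⟩
  have hQ4 : ∃ s, Q = 4 * s := ⟨Q / 4, by omega⟩
  obtain ⟨t, ht⟩ := hA4
  obtain ⟨s, hs'⟩ := hQ4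
  rw [ht, hs']
  exact ⟨2 * m ^ 2 + m * t + s, by ring⟩

end Cfsg.Agent.Lib.Helper1
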