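import Mathlib
import Cfsg.Prelude.Def_Sporadic_a
import Cfsg.Agent.Lib.Helper1.Leech2

set_option autoImplicit false

namespace Cfsg.Agent.Lib.Helper1

open Cfsg
open scoped Pointwise

theorem wordZ_eq_ite (a : GolayPt → ℤ) (i : GolayPt) :
    wordZ a i = if i ∈ support₂ (wordZ a) then 1 else 0 := by
  by_cases h : i ∈ support₂ (wordZ a)
  · rw [if_pos h]
    rw [mem_support₂_iff] at h
    revert h
    generalize wordZ a i = c
    revert c
    decide
  · rw [if_neg h]
    rw [mem_support₂_iff] at h
    push Not at h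
    exact h

/-- the integer coordinates of a lattice-type vector sum evenly over the support of a codeword -/
theorem two_dvd_sum_support₂ {v : GolayPt → ZMod 2} (hv : v ∈ golayCode) {a : GolayPt → ℤ}
    (hw : wordZ a ∈ golayCode) : (2 : ℤ) ∣ ∑ i ∈ support₂ v, a i := by
  classical
  have h := (ZMod.intCast_zmod_eq_zero_iff_dvd (∑ i ∈ support₂ v, a i) 2).1
  apply h
  push_cast
  have h1 : ∀ i ∈ support₂ v, ((a i : ℤ) : ZMod 2) = if i ∈ support₂ (wordZ a) then 1 else 0 :=
    fun i _ => wordZ_eq_ite a i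
  rw [Finset.sum_congr rfl h1, Finset.sum_ite_mem, Finset.sum_const, nsmul_eq_mul, mul_one]
  have h2 := even_card_inter_support₂ hv hw
  exact (ZMod.natCast_eq_zero_iff _ 2).2 h2

end Cfsg.Agent.Lib.Helper1
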