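import Mathlib
import Cfsg.Prelude.Def_Sporadic_a
import Cfsg.Agent.Lib.Helper1.Leech3
import Cfsg.Agent.S0432
import Cfsg.Agent.S0433
import Cfsg.Agent.S0376

set_option autoImplicit false

namespace Cfsg.Agent.Lib.Helper1

open Cfsg

/-! ### some elements of `Co0` -/

theorem mem_Co0_iff (f : Equiv.Perm leechLattice) : f ∈ Co0 ↔
    (∀ v w : leechLattice, f (v + w) = f v + f w) ∧
    ∀ v : leechLattice, sqNorm ((f v : leechLattice) : GolayPt → ℤ) = sqNorm (v : GolayPt → ℤ) :=
  Iff.rfl

theorem sqNorm_add (x y : GolayPt → ℤ) :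
    sqNorm (x + y) = sqNorm x + sqNorm y + 2 * dotInt x y := by
  unfold sqNorm dotInt
  rw [Finset.mul_sum, ← Finset.sum_add_distrib, ← Finset.sum_add_distrib]
  apply Finset.sum_congr rfl
  intro i _
  simp only [Pi.add_apply]
  ring

/-- elements of `Co0` preserve the inner product -/
theorem Co0_dot {f : Equiv.Perm leechLattice} (hf : f ∈ Co0) (v w : leechLattice) :
    dotInt ((f v : leechLattice) : GolayPt → ℤ) ((f w : leechLattice) : GolayPt → ℤ) =
      dotInt (v : GolayPt → ℤ) (w : GolayPt → ℤ) := by
  have h1 := hf.2 (v + w)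
  rw [hf.1 v w] at h1
  simp only [AddSubgroup.coe_add] at h1
  rw [sqNorm_add, sqNorm_add, hf.2 v, hf.2 w] at h1
  omega

theorem Co0_map_zero {f : Equiv.Perm leechLattice} (hf : f ∈ Co0) : f 0 = 0 := by
  have h := hf.1 0 0
  rw [add_zero] at h
  have : f 0 + 0 = f 0 + f 0 := by rw [add_zero]; exact h
  exact (add_left_cancel this).symm

theorem Co0_map_neg {f : Equiv.Perm leechLattice} (hf : f ∈ Co0) (v : leechLattice) :
    f (-v) = - f v := by
  have h := hf.1 v (-v)
  rw [add_neg_cancel, Co0_map_zero hf] at h
  exact (neg_eq_of_add_eq_zero_right h.symm).symm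

/-- negation -/
def negE : Equiv.Perm leechLattice := Equiv.neg _

theorem negE_apply (v : leechLattice) : negE v = -v := rfl

theorem negE_mem : negE ∈ Co0 := by
  refine ⟨fun v w => ?_, fun v => ?_⟩
  · rw [negE_apply, negE_apply, negE_apply, neg_add]
  · rw [negE_apply]
    unfold sqNorm
    apply Finset.sum_congr rfl
    intro i _
    simp only [AddSubgroup.coe_neg, Pi.neg_apply]
    ring

/-- sign change on a set -/
def signFun (c : Finset GolayPt) (x : GolayPt → ℤ) : GolayPt → ℤ :=
  fun i => if i ∈ c then -x i else x i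

theorem signFun_signFun (c : Finset GolayPt) (x : GolayPt → ℤ) :
    signFun c (signFun c x) = x := by
  funext i
  unfold signFun
  by_cases h : i ∈ c
  · simp only [if_pos h, neg_neg]
  · simp only [if_neg h]

def signE (c : Finset GolayPt) (hc : c ∈ supports (golayCode : Set (GolayPt → ZMod 2))) :
    Equiv.Perm leechLattice where
  toFun v := ⟨signFun c v.1, Cfsg.Agent.S0433.result c hc v.1 v.2⟩
  invFun v := ⟨signFun c v.1, Cfsg.Agent.S0433.result c hc v.1 v.2⟩
  left_inv v := by
    apply Subtype.ext
    exact signFun_signFun c v.1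
  right_inv v := by
    apply Subtype.ext
    exact signFun_signFun c v.1

theorem signE_apply (c : Finset GolayPt)
    (hc : c ∈ supports (golayCode : Set (GolayPt → ZMod 2))) (v : leechLattice) :
    ((signE c hc v : leechLattice) : GolayPt → ℤ) = signFun c v.1 := rfl

theorem signE_mem (c : Finset GolayPt)
    (hc : c ∈ supports (golayCode : Set (GolayPt → ZMod 2))) : signE c hc ∈ Co0 := by
  refine ⟨fun v w => ?_, fun v => ?_⟩
  · apply Subtype.ext
    rw [AddSubgroup.coe_add, signE_apply, signE_apply, signE_apply]
    funext i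
    simp only [signFun, AddSubgroup.coe_add, Pi.add_apply]
    split_ifs <;> ring
  · rw [signE_apply]
    unfold sqNorm
    apply Finset.sum_congr rfl
    intro i _
    simp only [signFun]
    split_ifs <;> ring

def permE (σ : Equiv.Perm GolayPt) (hσ : σ ∈ M24) : Equiv.Perm leechLattice where
  toFun v := ⟨fun i => v.1 (σ i), Cfsg.Agent.S0432.result σ hσ v.1 v.2⟩
  invFun v := ⟨fun i => v.1 (σ⁻¹ i), Cfsg.Agent.S0432.result σ⁻¹ (inv_mem hσ) v.1 v.2⟩
  left_inv v := by
    apply Subtype.ext
    funext i
    simp
  right_inv v := by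
    apply Subtype.ext
    funext i
    simp

theorem permE_apply (σ : Equiv.Perm GolayPt) (hσ : σ ∈ M24) (v : leechLattice) :
    ((permE σ hσ v : leechLattice) : GolayPt → ℤ) = fun i => v.1 (σ i) := rfl

theorem permE_mem (σ : Equiv.Perm GolayPt) (hσ : σ ∈ M24) : permE σ hσ ∈ Co0 := by
  refine ⟨fun v w => ?_, fun v => ?_⟩
  · apply Subtype.ext
    rw [AddSubgroup.coe_add, permE_apply, permE_apply, permE_apply]
    funext i
    simp only [AddSubgroup.coe_add, Pi.add_apply]
  · rw [permE_apply]
    unfold sqNorm
    exact Equiv.sum_comp σ (fun i => (v : GolayPt → ℤ) i ^ 2)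

/-! ### the vectors `8 e_i` -/

def Efun (i : GolayPt) : GolayPt → ℤ := fun k => if k = i then 8 else 0

theorem Efun_mem (i : GolayPt) : Efun i ∈ leechLattice := by
  classical
  rw [mem_leechLattice_iff]
  refine ⟨0, fun k => if k = i then 4 else 0, ?_, ?_, ?_⟩
  · intro k
    show (if k = i then (8 : ℤ) else 0) = 0 + 2 * (if k = i then 4 else 0)
    by_cases hk : k = i
    · rw [if_pos hk, if_pos hk]; norm_num
    · rw [if_neg hk, if_neg hk]; norm_num
  · unfold Efun
    rw [Finset.sum_ite_eq' Finset.univ i (fun _ => (8 : ℤ))]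
    simp only [Finset.mem_univ, if_true]
    decide
  · have : wordZ (fun k => if k = i then (4 : ℤ) else 0) = 0 := by
      funext k
      simp only [wordZ_apply, Pi.zero_apply]
      split_ifs
      · decide
      · simp
    rw [this]
    exact golayCode.zero_mem

def Evec (i : GolayPt) : leechLattice := ⟨Efun i, Efun_mem i⟩

theorem dotInt_Efun (x : GolayPt → ℤ) (i : GolayPt) : dotInt x (Efun i) = 8 * x i := by
  classical
  unfold dotInt Efun
  simp only [mul_ite, mul_zero]
  rw [Finset.sum_ite_eq' Finset.univ i (fun k => x k * 8)]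
  simp only [Finset.mem_univ, if_true]
  ring

theorem sqNorm_Efun (i : GolayPt) : sqNorm (Efun i) = 64 := by
  classical
  unfold sqNorm Efun
  have : ∀ k ∈ (Finset.univ : Finset GolayPt),
      (if k = i then (8 : ℤ) else 0) ^ 2 = if k = i then 64 else 0 := by
    intro k _
    split_ifs <;> norm_num
  rw [Finset.sum_congr rfl this, Finset.sum_ite_eq' Finset.univ i (fun _ => (64 : ℤ))]
  simp

/-- a codeword separating two points -/
theorem exists_codeword_sep (i j : GolayPt) (hij : j ≠ i) :
    ∃ c ∈ supports (golayCode : Set (GolayPt → ZMod 2)), j ∈ c ∧ i ∉ c := by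
  have h2 := Cfsg.Agent.S0376.two_pretrans
  rw [MulAction.is_two_pretransitive_iff] at h2
  obtain ⟨g, hg1, hg2⟩ := h2 (a := j) (b := i) (c := some 0) (d := none) hij (by simp)
  have hw : (fun k => qrWord 0 ((g : Equiv.Perm GolayPt) k)) ∈ golayCode :=
    comp_mem_golayCode g.2 (Submodule.subset_span (Or.inl ⟨0, rfl⟩))
  refine ⟨_, ⟨_, hw, rfl⟩, ?_, ?_⟩
  · rw [mem_support₂_iff]
    have : (g : Equiv.Perm GolayPt) j = some 0 := hg1
    rw [this]
    have : qrWord 0 (some 0) = 1 := by
      unfold qrWord
      simp only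
      rw [if_pos ⟨0, by ring⟩]
    rw [this]
    decide
  · rw [mem_support₂_iff]
    have : (g : Equiv.Perm GolayPt) i = none := hg2
    rw [this]
    simp [qrWord]

/-! ### the centre -/

theorem central_fixes_Evec {z : Equiv.Perm leechLattice} (hz : z ∈ Co0)
    (hc : ∀ g ∈ Co0, ∀ v, g (z v) = z (g v)) :
    (∀ v : leechLattice, z v = v) ∨ (∀ v : leechLattice, z v = -v) := by
  classical
  -- z (Evec i) is supported on i
  have h1 : ∀ i j, j ≠ i → ((z (Evec i) : leechLattice) : GolayPt → ℤ) j = 0 := by
    intro i j hij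
    obtain ⟨c, hcs, hjc, hic⟩ := exists_codeword_sep i j hij
    have h2 : signE c hcs (Evec i) = Evec i := by
      apply Subtype.ext
      rw [signE_apply]
      funext k
      show (if k ∈ c then -(Efun i k) else Efun i k) = Efun i k
      by_cases hk : k ∈ c
      · rw [if_pos hk]
        have : k ≠ i := fun h => hic (h ▸ hk)
        unfold Efun
        rw [if_neg this]
        simp
      · rw [if_neg hk]
    have h3 := hc _ (signE_mem c hcs) (Evec i)
    rw [h2] at h3
    have h4 := congrFun (congrArg Subtype.val h3) j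
    rw [signE_apply] at h4
    simp only [signFun, if_pos hjc] at h4
    omega
  have h2 : ∀ i, ((z (Evec i) : leechLattice) : GolayPt → ℤ) i = 8 ∨
      ((z (Evec i) : leechLattice) : GolayPt → ℤ) i = -8 := by
    intro i
    have h3 := hz.2 (Evec i)
    have h4 : sqNorm ((z (Evec i) : leechLattice) : GolayPt → ℤ) =
        (((z (Evec i) : leechLattice) : GolayPt → ℤ) i) ^ 2 := by
      unfold sqNorm
      apply Finset.sum_eq_single i
      · intro j _ hj
        rw [h1 i j hj]
        norm_num
      · intro h
        exact absurd (Finset.mem_univ i) h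
    rw [h4] at h3
    have h5 : sqNorm ((Evec i : leechLattice) : GolayPt → ℤ) = 64 := sqNorm_Efun i
    rw [h5] at h3
    have h6 : (((z (Evec i) : leechLattice) : GolayPt → ℤ) i - 8) *
        (((z (Evec i) : leechLattice) : GolayPt → ℤ) i + 8) = 0 := by
      have : ∀ t : ℤ, t ^ 2 = 64 → (t - 8) * (t + 8) = 0 := fun t ht => by ring_nf; omega
      exact this _ h3
    rcases mul_eq_zero.1 h6 with h | h
    · left; omega
    · right; omega
  -- description of z (Evec i)
  have h3 : ∀ i, ((z (Evec i) : leechLattice) : GolayPt → ℤ) =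
      fun k => if k = i then ((z (Evec i) : leechLattice) : GolayPt → ℤ) i else 0 := by
    intro i
    funext k
    by_cases hk : k = i
    · rw [if_pos hk, hk]
    · rw [if_neg hk]
      exact h1 i k hk
  -- the sign does not depend on i
  have h4 : ∀ i j, ((z (Evec i) : leechLattice) : GolayPt → ℤ) i =
      ((z (Evec j) : leechLattice) : GolayPt → ℤ) j := by
    intro i j
    haveI := Cfsg.Agent.S0376.pretrans
    obtain ⟨g, hg⟩ := MulAction.exists_smul_eq M24 j i
    have hg' : (g : Equiv.Perm GolayPt) j = i := hg
    have h5 : permE g g.2 (Evec i) = Evec j := by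
      apply Subtype.ext
      rw [permE_apply]
      funext k
      show Efun i ((g : Equiv.Perm GolayPt) k) = Efun j k
      unfold Efun
      by_cases hk : k = j
      · rw [if_pos hk, hk, hg', if_pos rfl]
      · rw [if_neg hk, if_neg]
        intro h
        apply hk
        apply (g : Equiv.Perm GolayPt).injective
        rw [h, hg']
    have h6 := hc _ (permE_mem g g.2) (Evec i)
    rw [h5] at h6
    have h7 := congrFun (congrArg Subtype.val h6) j
    rw [permE_apply] at h7
    simp only at h7
    rw [hg'] at h7
    exact h7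
  -- conclusion
  have h5 : ∀ (v : leechLattice) (i : GolayPt),
      ((z (Evec i) : leechLattice) : GolayPt → ℤ) i * ((z v : leechLattice) : GolayPt → ℤ) i =
        8 * (v : GolayPt → ℤ) i := by
    intro v i
    have h6 := Co0_dot hz v (Evec i)
    have h7 : dotInt (v : GolayPt → ℤ) ((Evec i : leechLattice) : GolayPt → ℤ) =
        8 * (v : GolayPt → ℤ) i := dotInt_Efun _ i
    rw [h7, h3 i] at h6
    rw [← h6]
    unfold dotInt
    simp only [mul_ite, mul_zero]
    rw [Finset.sum_ite_eq' Finset.univ i
      (fun k => ((z v : leechLattice) : GolayPt → ℤ) k *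
        ((z (Evec i) : leechLattice) : GolayPt → ℤ) i)]
    simp only [Finset.mem_univ, if_true]
    ring
  rcases h2 none with h | h
  · left
    intro v
    apply Subtype.ext
    funext i
    have := h5 v i
    rw [h4 i none, h] at this
    omega
  · right
    intro v
    apply Subtype.ext
    funext i
    have := h5 v i
    rw [h4 i none, h] at this
    simp only [AddSubgroup.coe_neg, Pi.neg_apply]
    omega

theorem card_center_Co0 : Nat.card (Subgroup.center Co0) = 2 := by
  rw [Nat.card_eq_two_iff]
  have hneg_central : (⟨negE, negE_mem⟩ : Co0) ∈ Subgroup.center Co0 := by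
    rw [Subgroup.mem_center_iff]
    intro g
    apply Subtype.ext
    apply Equiv.ext
    intro v
    show (g : Equiv.Perm leechLattice) (negE v) = negE ((g : Equiv.Perm leechLattice) v)
    rw [negE_apply, negE_apply, Co0_map_neg g.2]
  refine ⟨1, ⟨⟨negE, negE_mem⟩, hneg_central⟩, ?_, ?_⟩
  · intro h
    have h1 : negE = 1 := by
      have := congrArg (fun t : Subgroup.center Co0 => ((t : Co0) : Equiv.Perm leechLattice)) h
      exact this.symm
    have h2 := congrArg (fun f : Equiv.Perm leechLattice => ((f (Evec none) : leechLattice) :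
      GolayPt → ℤ) none) h1
    simp only [negE_apply, Equiv.Perm.coe_one, id_eq, AddSubgroup.coe_neg, Pi.neg_apply] at h2
    have h3 : ((Evec none : leechLattice) : GolayPt → ℤ) none = 8 := by
      show Efun none none = 8
      unfold Efun
      rw [if_pos rfl]
    rw [h3] at h2
    omega
  · apply Set.eq_univ_of_forall
    intro z
    have hz : ((z : Co0) : Equiv.Perm leechLattice) ∈ Co0 := (z : Co0).2
    have hc : ∀ g ∈ Co0, ∀ v, g (((z : Co0) : Equiv.Perm leechLattice) v) =
        ((z : Co0) : Equiv.Perm leechLattice) (g v) := by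
      intro g hg v
      have h1 := Subgroup.mem_center_iff.1 z.2 ⟨g, hg⟩
      have h2 := congrArg (fun t : Co0 => (t : Equiv.Perm leechLattice) v) h1
      exact h2
    rcases central_fixes_Evec hz hc with h | h
    · left
      apply Subtype.ext
      apply Subtype.ext
      apply Equiv.ext
      intro v
      exact h v
    · right
      rw [Set.mem_singleton_iff]
      apply Subtype.ext
      apply Subtype.ext
      apply Equiv.ext
      intro v
      exact h v

end Cfsg.Agent.Lib.Helper1
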