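import Mathlib

set_option autoImplicit false

namespace Cfsg.Agent.Lib.Helper1

open scoped Pointwise

section
variable {G X : Type*} [Group G] [Finite G] [MulAction G X]

/-- maximality of a point stabilizer from the sizes of its orbits -/
theorem isCoatom_stabilizer_of_classes (x : X) (c : X → ℕ) (labels : Finset ℕ) (n : ℕ → ℕ) (N : ℕ)
    (hc : ∀ y ∈ MulAction.orbit G x, c y ∈ labels)
    (hx : ∀ y ∈ MulAction.orbit G x, c y = c x → y = x)
    (htr : ∀ y ∈ MulAction.orbit G x, ∀ z ∈ MulAction.orbit G x, c y = c z →
      ∃ h ∈ MulAction.stabilizer G x, h • y = z)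
    (hn : ∀ k ∈ labels, {y | y ∈ MulAction.orbit G x ∧ c y = k}.ncard = n k)
    (hN : (MulAction.orbit G x).ncard = N) (hN1 : 1 < N)
    (harith : ∀ S ∈ labels.powerset, c x ∈ S → (∑ k ∈ S, n k) ∣ N → S = {c x} ∨ S = labels) :
    IsCoatom (MulAction.stabilizer G x) := by
  classical
  set H := MulAction.stabilizer G x with hH
  have hGH : Nat.card G = N * Nat.card H := by
    rw [← hN, ← MulAction.index_stabilizer, mul_comm, Subgroup.card_mul_index]
  have hHpos : 0 < Nat.card H := Nat.card_pos
  constructor
  · intro htop
    rw [htop, Subgroup.card_top] at hGH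
    have : N = 1 := by
      have h1 : Nat.card G * 1 = Nat.card G * N := by rw [mul_one, mul_comm]; exact hGH
      have hGpos : 0 < Nat.card G := Nat.card_pos
      exact (Nat.eq_of_mul_eq_mul_left hGpos h1).symm
    omega
  · intro K hK
    -- the orbit of x under K
    set B : Set X := MulAction.orbit K x with hB
    have hBsub : B ⊆ MulAction.orbit G x := by
      rintro _ ⟨k, rfl⟩
      exact ⟨k.1, rfl⟩
    have hxB : x ∈ B := MulAction.mem_orbit_self x
    have hBfin : B.Finite := Set.finite_range _
    -- |K| = |B| * |H|
    have hKcard : Nat.card K = B.ncard * Nat.card H := by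
      have h1 : MulAction.stabilizer K x = H.subgroupOf K := by
        ext g
        rw [MulAction.mem_stabilizer_iff, Subgroup.mem_subgroupOf, MulAction.mem_stabilizer_iff]
        rfl
      have h2 : Nat.card (MulAction.stabilizer K x) = Nat.card H := by
        rw [h1]
        exact Nat.card_congr (Subgroup.subgroupOfEquivOfLe hK.le).toEquiv
      rw [← h2, ← MulAction.index_stabilizer, mul_comm, Subgroup.card_mul_index]
    -- H-invariance
    have hBinv : ∀ h ∈ H, ∀ y ∈ B, h • y ∈ B := by
      rintro h hh _ ⟨k, rfl⟩
      exact ⟨⟨h, hK.le hh⟩ * k, mul_smul (⟨h, hK.le hh⟩ : K) k x⟩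
    set S : Finset ℕ := labels.filter (fun k => ∃ y ∈ B, c y = k) with hS
    have hBeq : B = {y | y ∈ MulAction.orbit G x ∧ c y ∈ S} := by
      ext y
      constructor
      · intro hy
        refine ⟨hBsub hy, ?_⟩
        rw [hS, Finset.mem_filter]
        exact ⟨hc y (hBsub hy), y, hy, rfl⟩
      · rintro ⟨hyO, hyS⟩
        rw [hS, Finset.mem_filter] at hyS
        obtain ⟨_, z, hz, hzy⟩ := hyS
        obtain ⟨h, hh, rfl⟩ := htr z (hBsub hz) y hyO hzy
        exact hBinv h hh z hz
    have hBcard : B.ncard = ∑ k ∈ S, n k := by
      have hOfin : (MulAction.orbit G x).Finite := Set.finite_range _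
      have h1 : B.ncard = (hBfin.toFinset).card := Set.ncard_eq_toFinset_card B hBfin
      rw [h1, Finset.card_eq_sum_card_fiberwise (f := c) (t := S)]
      · apply Finset.sum_congr rfl
        intro k hk
        rw [← hn k (Finset.mem_of_mem_filter k hk)]
        have hfin2 : {y | y ∈ MulAction.orbit G x ∧ c y = k}.Finite :=
          hOfin.subset (fun y hy => hy.1)
        rw [Set.ncard_eq_toFinset_card _ hfin2]
        congr 1
        ext y
        rw [Finset.mem_filter, Set.Finite.mem_toFinset, Set.Finite.mem_toFinset]
        constructor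
        · rintro ⟨hy, rfl⟩
          exact ⟨hBsub hy, rfl⟩
        · rintro ⟨hyO, rfl⟩
          refine ⟨?_, rfl⟩
          rw [hBeq]
          exact ⟨hyO, hk⟩
      · intro y hy
        rw [Finset.mem_coe, Set.Finite.mem_toFinset] at hy
        rw [hBeq] at hy
        exact Finset.mem_coe.2 hy.2
    have hdvd : (∑ k ∈ S, n k) ∣ N := by
      rw [← hBcard]
      have h1 : Nat.card K ∣ Nat.card G := Subgroup.card_subgroup_dvd_card K
      rw [hKcard, hGH] at h1
      exact Nat.dvd_of_mul_dvd_mul_right hHpos h1
    have hcxS : c x ∈ S := by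
      rw [hS, Finset.mem_filter]
      exact ⟨hc x (MulAction.mem_orbit_self x), x, hxB, rfl⟩
    rcases harith S (Finset.mem_powerset.2 (Finset.filter_subset _ _)) hcxS hdvd with h1 | h1
    · -- B = {x}: contradiction
      exfalso
      have hB1 : B = {x} := by
        ext y
        constructor
        · intro hy
          rw [hBeq] at hy
          have hy2 := hy.2
          rw [h1, Finset.mem_singleton] at hy2
          exact hx y hy.1 hy2
        · rintro rfl
          exact hxB
      rw [hB1, Set.ncard_singleton, one_mul] at hKcard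
      have : K = H := by
        symm
        apply Subgroup.eq_of_le_of_card_ge hK.le
        rw [hKcard]
      exact absurd this (ne_of_gt hK)
    · -- B = everything
      have hB2 : B = MulAction.orbit G x := by
        rw [hBeq]
        ext y
        constructor
        · exact fun h => h.1
        · intro hy
          exact ⟨hy, by rw [h1]; exact hc y hy⟩
      rw [hB2, hN, ← hGH] at hKcard
      exact Subgroup.eq_top_of_card_eq K hKcard
end

end Cfsg.Agent.Lib.Helper1
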