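import Mathlib
import Cfsg.Agent.Lib.Helper1.CoatomOrbits

set_option autoImplicit false

namespace Cfsg.Agent.Lib.Helper1

open scoped Pointwise

section
variable {G X : Type*} [Group G] [Finite G] [MulAction G X]

/-- variant of `isCoatom_stabilizer_of_classes` where the size of the orbit is the sum of the
class sizes -/
theorem isCoatom_stabilizer_of_classes' (x : X) (c : X → ℕ) (labels : Finset ℕ) (n : ℕ → ℕ)
    (hc : ∀ y ∈ MulAction.orbit G x, c y ∈ labels)
    (hx : ∀ y ∈ MulAction.orbit G x, c y = c x → y = x)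
    (htr : ∀ y ∈ MulAction.orbit G x, ∀ z ∈ MulAction.orbit G x, c y = c z →
      ∃ h ∈ MulAction.stabilizer G x, h • y = z)
    (hn : ∀ k ∈ labels, {y | y ∈ MulAction.orbit G x ∧ c y = k}.ncard = n k)
    (hN1 : 1 < ∑ k ∈ labels, n k)
    (harith : ∀ S ∈ labels.powerset, c x ∈ S → (∑ k ∈ S, n k) ∣ (∑ k ∈ labels, n k) →
      S = {c x} ∨ S = labels) :
    IsCoatom (MulAction.stabilizer G x) := by
  classical
  apply isCoatom_stabilizer_of_classes x c labels n (∑ k ∈ labels, n k) hc hx htr hn _ hN1 harith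
  have hOfin : (MulAction.orbit G x).Finite := Set.finite_range _
  rw [Set.ncard_eq_toFinset_card _ hOfin,
    Finset.card_eq_sum_card_fiberwise (f := c) (t := labels)]
  · apply Finset.sum_congr rfl
    intro k hk
    rw [← hn k hk]
    have hfin2 : {y | y ∈ MulAction.orbit G x ∧ c y = k}.Finite :=
      hOfin.subset (fun y hy => hy.1)
    rw [Set.ncard_eq_toFinset_card _ hfin2]
    congr 1
    ext y
    rw [Finset.mem_filter, Set.Finite.mem_toFinset, Set.Finite.mem_toFinset]
    rfl
  · intro y hy
    rw [Finset.mem_coe, Set.Finite.mem_toFinset] at hy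
    exact Finset.mem_coe.2 (hc y hy)
end

end Cfsg.Agent.Lib.Helper1
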