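import Mathlib

set_option autoImplicit false

namespace Cfsg.Agent.Lib.Helper1

open scoped IsMulCommutative commutatorElement

section
variable {G : Type*} [Group G] (A V : Subgroup G)
  (hAV : A ≤ Subgroup.normalizer (V : Set G))

/-- conjugation by an element of `A` as an endomorphism of `V` -/
def conjHom (a : A) : V →* V where
  toFun v := ⟨a.1 * v.1 * a.1⁻¹, (Subgroup.mem_normalizer_iff.1 (hAV a.2) v.1).1 v.2⟩
  map_one' := by
    apply Subtype.ext
    show a.1 * (1 : G) * a.1⁻¹ = 1
    group
  map_mul' v w := by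
    apply Subtype.ext
    show a.1 * (v.1 * w.1) * a.1⁻¹ = (a.1 * v.1 * a.1⁻¹) * (a.1 * w.1 * a.1⁻¹)
    group

theorem conjHom_val (a : A) (v : V) : ((conjHom A V hAV a v : V) : G) = a.1 * v.1 * a.1⁻¹ := rfl

theorem conjHom_mul (a b : A) (v : V) :
    conjHom A V hAV (a * b) v = conjHom A V hAV a (conjHom A V hAV b v) := by
  apply Subtype.ext
  simp only [conjHom_val, Subgroup.coe_mul]
  group

variable [IsMulCommutative V] [Finite A]

/-- the norm map `v ↦ ∏ a, a v a⁻¹` -/
noncomputable def normHom : V →* V :=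
  letI : Fintype A := Fintype.ofFinite A
  ∏ a : A, conjHom A V hAV a

theorem normHom_apply (v : V) :
    letI : Fintype A := Fintype.ofFinite A
    normHom A V hAV v = ∏ a : A, conjHom A V hAV a v := by
  letI : Fintype A := Fintype.ofFinite A
  unfold normHom
  rw [MonoidHom.finsetProd_apply]

theorem normHom_conj (b : A) (v : V) :
    normHom A V hAV (conjHom A V hAV b v) = normHom A V hAV v := by
  letI : Fintype A := Fintype.ofFinite A
  rw [normHom_apply, normHom_apply]
  apply Fintype.prod_equiv (Equiv.mulRight b)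
  intro a
  rw [Equiv.coe_mulRight, conjHom_mul]

theorem conj_normHom (b : A) (v : V) :
    conjHom A V hAV b (normHom A V hAV v) = normHom A V hAV v := by
  letI : Fintype A := Fintype.ofFinite A
  rw [normHom_apply, map_prod]
  apply Fintype.prod_equiv (Equiv.mulLeft b)
  intro a
  rw [Equiv.coe_mulLeft, conjHom_mul]

theorem normHom_of_fixed (v : V) (hv : ∀ a : A, conjHom A V hAV a v = v) :
    normHom A V hAV v = v ^ Nat.card A := by
  letI : Fintype A := Fintype.ofFinite A
  rw [normHom_apply]
  simp only [hv, Finset.prod_const, Finset.card_univ, Nat.card_eq_fintype_card]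

/-- `[V, A]` lies in the kernel of the norm map -/
theorem commutator_le_map_ker :
    ⁅V, A⁆ ≤ (normHom A V hAV).ker.map V.subtype := by
  rw [Subgroup.commutator_le]
  intro v hv a ha
  refine ⟨⟨v, hv⟩ * (conjHom A V hAV ⟨a, ha⟩ ⟨v, hv⟩)⁻¹, ?_, ?_⟩
  · rw [SetLike.mem_coe, MonoidHom.mem_ker, map_mul, map_inv, normHom_conj, mul_inv_cancel]
  · rw [commutatorElement_def]
    simp only [Subgroup.subtype_apply, Subgroup.coe_mul, Subgroup.coe_inv, conjHom_val]
    group

include hAV in
theorem commutator_le_of_normalizer : ⁅V, A⁆ ≤ V :=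
  le_trans (commutator_le_map_ker A V hAV) (Subgroup.map_subtype_le _)

end

section
variable {G : Type*} [Group G] [Finite G] (A V : Subgroup G) [IsMulCommutative V]
  (hAV : A ≤ Subgroup.normalizer (V : Set G)) (hcop : (Nat.card A).Coprime (Nat.card V))

include hAV hcop in
theorem fixed_inf_commutator_eq_bot :
    (V ⊓ Subgroup.centralizer (A : Set G)) ⊓ ⁅V, A⁆ = ⊥ := by
  rw [eq_bot_iff]
  intro x hx
  obtain ⟨hx1, hx2⟩ := Subgroup.mem_inf.1 hx
  obtain ⟨hxV, hxC⟩ := Subgroup.mem_inf.1 hx1
  obtain ⟨y, hy, hyx⟩ := commutator_le_map_ker A V hAV hx2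
  rw [Subgroup.mem_bot]
  have hyx' : (y : G) = x := hyx
  have hfix : ∀ a : A, conjHom A V hAV a y = y := by
    intro a
    apply Subtype.ext
    rw [conjHom_val, hyx']
    have := Subgroup.mem_centralizer_iff.1 hxC a.1 a.2
    rw [this]; group
  have h1 : y ^ Nat.card A = 1 := by
    rw [← normHom_of_fixed A V hAV y hfix]
    exact hy
  have h2 : y ^ Nat.card V = 1 := pow_card_eq_one'
  have h3 : orderOf y ∣ Nat.gcd (Nat.card A) (Nat.card V) :=
    Nat.dvd_gcd (orderOf_dvd_of_pow_eq_one h1) (orderOf_dvd_of_pow_eq_one h2)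
  rw [hcop.gcd_eq_one, Nat.dvd_one, orderOf_eq_one_iff] at h3
  rw [← hyx', h3]
  rfl

include hAV hcop in
theorem fixed_sup_commutator_eq :
    (V ⊓ Subgroup.centralizer (A : Set G)) ⊔ ⁅V, A⁆ = V := by
  apply le_antisymm
  · exact sup_le inf_le_left (commutator_le_of_normalizer A V hAV)
  · intro x hx
    set S := (V ⊓ Subgroup.centralizer (A : Set G)) ⊔ ⁅V, A⁆ with hS
    letI : Fintype A := Fintype.ofFinite A
    set v : V := ⟨x, hx⟩ with hv
    -- θ v lies in the fixed points
    have h1 : ((normHom A V hAV v : V) : G) ∈ S := by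
      apply Subgroup.mem_sup_left
      refine Subgroup.mem_inf.2 ⟨(normHom A V hAV v).2, ?_⟩
      rw [Subgroup.mem_centralizer_iff]
      intro a ha
      have := congrArg Subtype.val (conj_normHom A V hAV ⟨a, ha⟩ v)
      rw [conjHom_val] at this
      calc a * ((normHom A V hAV v : V) : G)
          = (a * ((normHom A V hAV v : V) : G) * a⁻¹) * a := by group
        _ = ((normHom A V hAV v : V) : G) * a := by rw [this]
    -- v^n / θ v lies in the commutator
    have h2 : ((v ^ Nat.card A * (normHom A V hAV v)⁻¹ : V) : G) ∈ S := by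
      apply Subgroup.mem_sup_right
      have e : v ^ Nat.card A * (normHom A V hAV v)⁻¹
          = ∏ a : A, (v * (conjHom A V hAV a v)⁻¹) := by
        rw [Finset.prod_mul_distrib, Finset.prod_const, Finset.card_univ, Finset.prod_inv_distrib,
          normHom_apply, Nat.card_eq_fintype_card]
      rw [e, ← Subgroup.mem_subgroupOf]
      apply Subgroup.prod_mem
      intro a _
      rw [Subgroup.mem_subgroupOf]
      have : ((v * (conjHom A V hAV a v)⁻¹ : V) : G) = ⁅x, (a : G)⁆ := by
        rw [commutatorElement_def]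
        simp only [Subgroup.coe_mul, Subgroup.coe_inv, conjHom_val, hv]
        group
      rw [this]
      exact Subgroup.commutator_mem_commutator hx a.2
    have h3 : ((v ^ Nat.card A : V) : G) ∈ S := by
      have : v ^ Nat.card A = (v ^ Nat.card A * (normHom A V hAV v)⁻¹) * normHom A V hAV v := by
        group
      rw [this, Subgroup.coe_mul]
      exact S.mul_mem h2 h1
    have h4 : v = (v ^ Nat.card A) ^ (Nat.card V).gcdB (Nat.card A) :=
      ((powCoprime hcop.symm).left_inv v).symm
    have h5 : x = ((v ^ Nat.card A : V) : G) ^ (Nat.card V).gcdB (Nat.card A) := by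
      have := congrArg Subtype.val h4
      rw [Subgroup.coe_zpow] at this
      exact this
    rw [h5]
    exact S.zpow_mem h3 _

end

end Cfsg.Agent.Lib.Helper1
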