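import Mathlib

set_option autoImplicit false

namespace Cfsg.Agent.Lib.Helper1

section fibers

/-- all fibres of a surjective additive homomorphism have the same size -/
theorem card_fiber_mul_card {G H : Type*} [AddGroup G] [AddCommGroup H] [Finite G] [Finite H]
    (f : G →+ H) (hf : Function.Surjective f) (c : H) :
    Nat.card {g : G // f g = c} * Nat.card H = Nat.card G := by
  classical
  haveI : Fintype G := Fintype.ofFinite G
  haveI : Fintype H := Fintype.ofFinite H
  have hE : ∀ h : H, Nonempty ({g : G // f g = c} ≃ {g : G // f g = h}) := by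
    intro h
    obtain ⟨g0, hg0⟩ := hf (h - c)
    exact ⟨{ toFun := fun g => ⟨g.1 + g0, by rw [map_add, g.2, hg0]; abel⟩
             invFun := fun g => ⟨g.1 - g0, by rw [map_sub, g.2, hg0]; abel⟩
             left_inv := fun g => by apply Subtype.ext; simp
             right_inv := fun g => by apply Subtype.ext; simp }⟩
  have h1 : Nat.card G = Nat.card (Σ y : H, {x : G // f x = y}) :=
    (Nat.card_congr (Equiv.sigmaFiberEquiv f)).symm
  rw [h1, Nat.card_sigma]
  have h2 : ∀ h ∈ (Finset.univ : Finset H), Nat.card {x : G // f x = h} =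
      Nat.card {g : G // f g = c} := fun h _ => (Nat.card_congr (hE h).some).symm
  rw [Finset.sum_congr rfl h2, Finset.sum_const, Finset.card_univ, smul_eq_mul,
    Nat.card_eq_fintype_card (α := H), mul_comm]

variable {F : Type*} [Field F] [Fintype F]

/-- the dot product with a fixed vector as an additive map -/
def dotHom (m : ℕ) (x : Fin m → F) : (Fin m → F) →+ F where
  toFun y := ∑ i, x i * y i
  map_zero' := by simp
  map_add' := by
    intro y z
    simp only [Pi.add_apply, mul_add, Finset.sum_add_distrib]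

theorem dotHom_surjective (m : ℕ) (x : Fin m → F) (hx : x ≠ 0) :
    Function.Surjective (dotHom m x) := by
  classical
  have : ∃ j, x j ≠ 0 := by
    by_contra h
    push Not at h
    exact hx (funext h)
  obtain ⟨j, hj⟩ := this
  intro t
  refine ⟨Pi.single j (t / x j), ?_⟩
  show ∑ i, x i * (Pi.single j (t / x j) : Fin m → F) i = t
  rw [Finset.sum_eq_single j]
  · rw [Pi.single_eq_same]
    field_simp
  · intro i _ hij
    rw [Pi.single_eq_of_ne hij, mul_zero]
  · intro h
    exact absurd (Finset.mem_univ j) h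

/-- number of solutions `y` of `x · y = c` for a nonzero vector `x` -/
theorem card_dot_eq (m : ℕ) (x : Fin m → F) (hx : x ≠ 0) (c : F) :
    Nat.card {y : Fin m → F // ∑ i, x i * y i = c} * Fintype.card F = Fintype.card F ^ m := by
  have h := card_fiber_mul_card (dotHom m x) (dotHom_surjective m x hx) c
  rw [Nat.card_eq_fintype_card (α := F), Nat.card_eq_fintype_card (α := Fin m → F),
    Fintype.card_fun, Fintype.card_fin] at h
  exact h

/-- the same with the exponent written out, for `m = k + 1` -/
theorem card_dot_eq' (k : ℕ) (x : Fin (k + 1) → F) (hx : x ≠ 0) (c : F) :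
    Nat.card {y : Fin (k + 1) → F // ∑ i, x i * y i = c} = Fintype.card F ^ k := by
  have h := card_dot_eq (k + 1) x hx c
  rw [pow_succ] at h
  exact Nat.eq_of_mul_eq_mul_right Fintype.card_pos h

/-- number of pairs `(x, y)` with `x · y = c` -/
theorem card_pairs_dot [DecidableEq F] (k : ℕ) (c : F) :
    Nat.card {p : (Fin (k + 1) → F) × (Fin (k + 1) → F) // ∑ i, p.1 i * p.2 i = c} =
      (if c = 0 then Fintype.card F ^ (k + 1) else 0) +
        (Fintype.card F ^ (k + 1) - 1) * Fintype.card F ^ k := by
  let e : {p : (Fin (k + 1) → F) × (Fin (k + 1) → F) // ∑ i, p.1 i * p.2 i = c} ≃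
      (Σ x : Fin (k + 1) → F, {y : Fin (k + 1) → F // ∑ i, x i * y i = c}) :=
    { toFun := fun p => ⟨p.1.1, ⟨p.1.2, p.2⟩⟩
      invFun := fun s => ⟨(s.1, s.2.1), s.2.2⟩
      left_inv := fun p => rfl
      right_inv := fun s => rfl }
  rw [Nat.card_congr e, Nat.card_sigma]
  rw [← Finset.add_sum_erase Finset.univ _ (Finset.mem_univ (0 : Fin (k + 1) → F))]
  congr 1
  · by_cases hc : c = 0
    · rw [if_pos hc]
      have : ∀ y : Fin (k + 1) → F, (∑ i, (0 : Fin (k + 1) → F) i * y i = c) := by
        intro y
        simp [hc]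
      rw [Nat.card_congr (Equiv.subtypeUnivEquiv this), Nat.card_eq_fintype_card,
        Fintype.card_fun, Fintype.card_fin]
    · rw [if_neg hc]
      have : IsEmpty {y : Fin (k + 1) → F // ∑ i, (0 : Fin (k + 1) → F) i * y i = c} := by
        constructor
        rintro ⟨y, hy⟩
        simp at hy
        exact hc hy.symm
      exact Nat.card_of_isEmpty
  · have h2 : ∀ x ∈ (Finset.univ : Finset (Fin (k + 1) → F)).erase 0,
        Nat.card {y : Fin (k + 1) → F // ∑ i, x i * y i = c} = Fintype.card F ^ k := by
      intro x hx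
      exact card_dot_eq' k x (Finset.ne_of_mem_erase hx) c
    rw [Finset.sum_congr rfl h2, Finset.sum_const, Finset.card_erase_of_mem (Finset.mem_univ _),
      Finset.card_univ, Fintype.card_fun, Fintype.card_fin, smul_eq_mul]

/-- the case `m = 0` -/
theorem card_pairs_dot_zero [DecidableEq F] (c : F) :
    Nat.card {p : (Fin 0 → F) × (Fin 0 → F) // ∑ i, p.1 i * p.2 i = c} =
      if c = 0 then 1 else 0 := by
  by_cases hc : c = 0
  · rw [if_pos hc]
    have : ∀ p : (Fin 0 → F) × (Fin 0 → F), ∑ i, p.1 i * p.2 i = c := by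
      intro p
      simp [hc]
    rw [Nat.card_congr (Equiv.subtypeUnivEquiv this), Nat.card_eq_fintype_card]
    simp
  · rw [if_neg hc]
    have : IsEmpty {p : (Fin 0 → F) × (Fin 0 → F) // ∑ i, p.1 i * p.2 i = c} := by
      constructor
      rintro ⟨p, hp⟩
      simp at hp
      exact hc hp.symm
    exact Nat.card_of_isEmpty

/-- number of triples `(t, x, y)` with `x · y = c t` -/
theorem card_sigma_pairs [DecidableEq F] {T : Type*} [Fintype T] (k : ℕ) (c : T → F) :
    Nat.card (Σ t : T, {p : (Fin (k + 1) → F) × (Fin (k + 1) → F) //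
        ∑ i, p.1 i * p.2 i = c t}) =
      (Finset.univ.filter (fun t => c t = 0)).card * Fintype.card F ^ (k + 1) +
        Fintype.card T * ((Fintype.card F ^ (k + 1) - 1) * Fintype.card F ^ k) := by
  rw [Nat.card_sigma]
  have h : ∀ t ∈ (Finset.univ : Finset T),
      Nat.card {p : (Fin (k + 1) → F) × (Fin (k + 1) → F) // ∑ i, p.1 i * p.2 i = c t} =
      (if c t = 0 then Fintype.card F ^ (k + 1) else 0) +
        (Fintype.card F ^ (k + 1) - 1) * Fintype.card F ^ k := fun t _ => card_pairs_dot k (c t)
  rw [Finset.sum_congr rfl h, Finset.sum_add_distrib, Finset.sum_const, Finset.card_univ,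
    smul_eq_mul, Finset.sum_ite, Finset.sum_const, Finset.sum_const_zero, add_zero, smul_eq_mul]

theorem card_sigma_pairs_zero [DecidableEq F] {T : Type*} [Fintype T] (c : T → F) :
    Nat.card (Σ t : T, {p : (Fin 0 → F) × (Fin 0 → F) // ∑ i, p.1 i * p.2 i = c t}) =
      (Finset.univ.filter (fun t => c t = 0)).card := by
  rw [Nat.card_sigma]
  have h : ∀ t ∈ (Finset.univ : Finset T),
      Nat.card {p : (Fin 0 → F) × (Fin 0 → F) // ∑ i, p.1 i * p.2 i = c t} =
      (if c t = 0 then 1 else 0) := fun t _ => card_pairs_dot_zero (c t)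
  rw [Finset.sum_congr rfl h, Finset.sum_ite, Finset.sum_const, Finset.sum_const_zero, add_zero,
    smul_eq_mul, mul_one]

end fibers

end Cfsg.Agent.Lib.Helper1
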