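import Mathlib
import Cfsg.Prelude.Def_Sporadic_a
import Cfsg.Agent.Lib.Helper1.Leech3

set_option autoImplicit false

namespace Cfsg.Agent.Lib.Helper1

open Cfsg

theorem one_mem_golayCode : (1 : GolayPt → ZMod 2) ∈ golayCode :=
  Submodule.subset_span (Or.inr rfl)

theorem support₂_one : support₂ (1 : GolayPt → ZMod 2) = Finset.univ := by
  ext i
  rw [mem_support₂_iff]
  simp

/-- the sublattice of vectors with all coordinates of the same parity -/
def latA1 : AddSubgroup (GolayPt → ℤ) where
  carrier := {x | ∀ i, (x i - x none) % 2 = 0}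
  zero_mem' := by intro i; simp
  add_mem' := by
    intro x y hx hy i
    have h1 := hx i
    have h2 := hy i
    simp only [Pi.add_apply]
    omega
  neg_mem' := by
    intro x hx i
    have h1 := hx i
    simp only [Pi.neg_apply]
    omega

theorem mem_latA1 (x : GolayPt → ℤ) : x ∈ latA1 ↔ ∀ i, (x i - x none) % 2 = 0 := Iff.rfl

/-- the half vector -/
def halfV (x : GolayPt → ℤ) : GolayPt → ℤ := fun i => (x i - x none) / 2

theorem halfV_add {x y : GolayPt → ℤ} (hx : x ∈ latA1) (hy : y ∈ latA1) :
    halfV (x + y) = halfV x + halfV y := by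
  funext i
  have h1 := hx i
  have h2 := hy i
  simp only [halfV, Pi.add_apply]
  omega

theorem halfV_neg {x : GolayPt → ℤ} (hx : x ∈ latA1) : halfV (-x) = - halfV x := by
  funext i
  have h1 := hx i
  simp only [halfV, Pi.neg_apply]
  omega

theorem halfV_zero : halfV 0 = 0 := by
  funext i
  simp [halfV]

theorem wordZ_zero : wordZ 0 = 0 := by
  funext i
  simp [wordZ]

def latA2 : AddSubgroup (GolayPt → ℤ) where
  carrier := {x | x ∈ latA1 ∧ wordZ (halfV x) ∈ golayCode}
  zero_mem' := ⟨latA1.zero_mem, by rw [halfV_zero, wordZ_zero]; exact golayCode.zero_mem⟩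
  add_mem' := by
    rintro x y ⟨hx1, hx2⟩ ⟨hy1, hy2⟩
    refine ⟨latA1.add_mem hx1 hy1, ?_⟩
    rw [halfV_add hx1 hy1, wordZ_add]
    exact golayCode.add_mem hx2 hy2
  neg_mem' := by
    rintro x ⟨hx1, hx2⟩
    refine ⟨latA1.neg_mem hx1, ?_⟩
    rw [halfV_neg hx1, wordZ_neg]
    exact hx2

theorem mem_latA2 (x : GolayPt → ℤ) :
    x ∈ latA2 ↔ x ∈ latA1 ∧ wordZ (halfV x) ∈ golayCode := Iff.rfl

def g1 : (GolayPt → ℤ) →+ (ZMod 23 → ZMod 2) where
  toFun x := fun j => ((x (some j) - x none : ℤ) : ZMod 2)
  map_zero' := by funext j; simp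
  map_add' := by
    intro x y
    funext j
    simp only [Pi.add_apply]
    push_cast
    ring

theorem ker_g1 : g1.ker = latA1 := by
  ext x
  rw [AddMonoidHom.mem_ker]
  constructor
  · intro h i
    cases i with
    | none => simp
    | some j =>
      have h1 : ((x (some j) - x none : ℤ) : ZMod 2) = 0 := congrFun h j
      have h2 := (ZMod.intCast_zmod_eq_zero_iff_dvd _ 2).1 h1
      omega
  · intro h
    funext j
    have h1 := h (some j)
    show ((x (some j) - x none : ℤ) : ZMod 2) = 0
    apply (ZMod.intCast_zmod_eq_zero_iff_dvd _ 2).2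
    omega

theorem g1_surjective : Function.Surjective g1 := by
  intro w
  refine ⟨fun i => match i with
    | none => 0
    | some j => ((w j).val : ℤ), ?_⟩
  funext j
  show (((((w j).val : ℕ) : ℤ) - 0 : ℤ) : ZMod 2) = w j
  simp

theorem index_latA1 : latA1.index = 2 ^ 23 := by
  rw [← ker_g1, AddSubgroup.index_ker, AddMonoidHom.range_eq_top.2 g1_surjective,
    AddSubgroup.card_top, Nat.card_eq_fintype_card, Fintype.card_fun, ZMod.card, ZMod.card]

theorem relIndex_eq_card {G B : Type*} [AddGroup G] [AddGroup B] (H K : AddSubgroup G)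
    (f : K →+ B) (hf : Function.Surjective f) (hker : ∀ x : K, f x = 0 ↔ (x : G) ∈ H) :
    H.relIndex K = Nat.card B := by
  have h1 : H.addSubgroupOf K = f.ker := by
    ext x
    rw [AddSubgroup.mem_addSubgroupOf, AddMonoidHom.mem_ker, hker]
  unfold AddSubgroup.relIndex
  rw [h1, AddSubgroup.index_ker, AddMonoidHom.range_eq_top.2 hf, AddSubgroup.card_top]

def g2 : latA1 →+ ((GolayPt → ZMod 2) ⧸ golayCode) where
  toFun x := Submodule.Quotient.mk (wordZ (halfV x.1))
  map_zero' := by
    show Submodule.Quotient.mk (wordZ (halfV 0)) = 0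
    rw [halfV_zero, wordZ_zero, Submodule.Quotient.mk_zero]
  map_add' := by
    intro x y
    show Submodule.Quotient.mk (wordZ (halfV (x.1 + y.1))) = _
    rw [halfV_add x.2 y.2, wordZ_add, Submodule.Quotient.mk_add]

theorem g2_surjective : Function.Surjective g2 := by
  intro q
  obtain ⟨w, rfl⟩ := Submodule.Quotient.mk_surjective _ q
  have hx : (fun i => 2 * (((w i + w none).val : ℕ) : ℤ)) ∈ latA1 := by
    intro i
    show (2 * (((w i + w none).val : ℕ) : ℤ) - 2 * (((w none + w none).val : ℕ) : ℤ)) % 2 = 0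
    omega
  refine ⟨⟨_, hx⟩, ?_⟩
  show Submodule.Quotient.mk (wordZ (halfV (fun i => 2 * (((w i + w none).val : ℕ) : ℤ)))) = _
  rw [Submodule.Quotient.eq]
  have h0 : w none + w none = 0 := by
    generalize w none = c
    revert c
    decide
  have h1 : wordZ (halfV (fun i => 2 * (((w i + w none).val : ℕ) : ℤ))) - w =
      (w none) • (1 : GolayPt → ZMod 2) := by
    funext i
    simp only [wordZ_apply, halfV, h0, ZMod.val_zero, Nat.cast_zero, mul_zero, sub_zero,
      Pi.sub_apply, Pi.smul_apply, Pi.one_apply, smul_eq_mul, mul_one]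
    rw [Int.mul_ediv_cancel_left _ (by norm_num : (2 : ℤ) ≠ 0)]
    simp
  rw [h1]
  exact golayCode.smul_mem _ one_mem_golayCode

theorem g2_ker (x : latA1) : g2 x = 0 ↔ (x : GolayPt → ℤ) ∈ latA2 := by
  show Submodule.Quotient.mk (wordZ (halfV x.1)) = 0 ↔ _
  rw [Submodule.Quotient.mk_eq_zero, mem_latA2]
  exact ⟨fun h => ⟨x.2, h⟩, fun h => h.2⟩

theorem card_quot : Nat.card ((GolayPt → ZMod 2) ⧸ golayCode) = 2 ^ 12 := by
  have h1 := Submodule.card_eq_card_quotient_mul_card golayCode
  have h2 : Nat.card golayCode = 4096 := by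
    rw [← Nat.card_congr codeEquiv, Nat.card_eq_fintype_card, Fintype.card_fin]
  have h3 : Nat.card (GolayPt → ZMod 2) = 2 ^ 24 := by
    rw [Nat.card_eq_fintype_card, Fintype.card_fun, ZMod.card, card_golayPt]
  rw [h2, h3] at h1
  omega

theorem relIndex_latA2 : latA2.relIndex latA1 = 2 ^ 12 := by
  rw [relIndex_eq_card latA2 latA1 g2 g2_surjective g2_ker, card_quot]

def h3 : (GolayPt → ℤ) →+ ZMod 8 where
  toFun x := ((∑ i, x i - 4 * x none : ℤ) : ZMod 8)
  map_zero' := by simp
  map_add' := by
    intro x y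
    simp only [Pi.add_apply, Finset.sum_add_distrib]
    push_cast
    ring

theorem h3_apply (x : GolayPt → ℤ) : h3 x = ((∑ i, x i - 4 * x none : ℤ) : ZMod 8) := rfl

theorem leech_eq : leechLattice = latA2 ⊓ h3.ker := by
  ext x
  rw [mem_leechLattice_iff, AddSubgroup.mem_inf, AddMonoidHom.mem_ker, h3_apply]
  constructor
  · rintro ⟨m, a, hxa, hs, hw⟩
    have hnone := hxa none
    have h1 : x ∈ latA1 := by
      intro i
      rw [hxa i, hnone]
      omega
    have hhalf : halfV x = fun i => a i - a none := by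
      funext i
      simp only [halfV]
      rw [hxa i, hnone]
      omega
    refine ⟨⟨h1, ?_⟩, ?_⟩
    · rw [hhalf]
      have h2 : wordZ (fun i => a i - a none) =
          wordZ a - ((a none : ℤ) : ZMod 2) • (1 : GolayPt → ZMod 2) := by
        funext i
        simp [wordZ]
      rw [h2]
      exact golayCode.sub_mem hw (golayCode.smul_mem _ one_mem_golayCode)
    · apply (ZMod.intCast_zmod_eq_zero_iff_dvd _ 8).2
      unfold Int.ModEq at hs
      rw [hnone]
      omega
  · rintro ⟨⟨h1, h2⟩, h3'⟩
    refine ⟨x none, halfV x, ?_, ?_, h2⟩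
    · intro i
      have := h1 i
      simp only [halfV]
      omega
    · have := (ZMod.intCast_zmod_eq_zero_iff_dvd _ 8).1 h3'
      unfold Int.ModEq
      omega

theorem map_h3 : latA2.map h3 = AddSubgroup.zmultiples (4 : ZMod 8) := by
  apply le_antisymm
  · rintro _ ⟨x, ⟨h1, h2⟩, rfl⟩
    have hsum : ∑ i, x i = 24 * x none + 2 * ∑ i, halfV x i :=
      sum_expand x (halfV x) (x none) (fun i => by
        have := h1 i
        simp only [halfV]
        omega)
    have heven : (2 : ℤ) ∣ ∑ i, halfV x i := by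
      have := two_dvd_sum_support₂ one_mem_golayCode h2
      rwa [support₂_one] at this
    obtain ⟨k, hk⟩ := heven
    have h4 : (∑ i, x i - 4 * x none) = 4 * (5 * x none + k) := by rw [hsum, hk]; ring
    rw [h3_apply, h4, AddSubgroup.mem_zmultiples_iff]
    refine ⟨5 * x none + k, ?_⟩
    rw [zsmul_eq_mul]
    push_cast
    ring
  · rw [AddSubgroup.zmultiples_le]
    have hn : ¬ ((none : GolayPt) = some 0) := by simp
    have hx1 : (fun i : GolayPt => if i = some 0 then (4 : ℤ) else 0) ∈ latA1 := by
      intro i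
      show ((if i = some 0 then (4 : ℤ) else 0) -
        (if (none : GolayPt) = some 0 then (4 : ℤ) else 0)) % 2 = 0
      rw [if_neg hn]
      by_cases hi : i = some 0
      · rw [if_pos hi]; norm_num
      · rw [if_neg hi]; norm_num
    have hhalf : halfV (fun i : GolayPt => if i = some 0 then (4 : ℤ) else 0) =
        fun i => if i = some 0 then 2 else 0 := by
      funext i
      show ((if i = some 0 then (4 : ℤ) else 0) -
        (if (none : GolayPt) = some 0 then (4 : ℤ) else 0)) / 2 = _
      rw [if_neg hn]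
      by_cases hi : i = some 0
      · rw [if_pos hi, if_pos hi]; norm_num
      · rw [if_neg hi, if_neg hi]; norm_num
    refine ⟨fun i => if i = some 0 then 4 else 0, ⟨hx1, ?_⟩, ?_⟩
    · rw [hhalf]
      have : wordZ (fun i : GolayPt => if i = some 0 then (2 : ℤ) else 0) = 0 := by
        funext i
        simp only [wordZ_apply, Pi.zero_apply]
        split_ifs
        · decide
        · simp
      rw [this]
      exact golayCode.zero_mem
    · rw [h3_apply, Finset.sum_ite_eq' Finset.univ (some (0 : ZMod 23)) (fun _ => (4 : ℤ))]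
      simp

theorem card_zmultiples_four : Nat.card (AddSubgroup.zmultiples (4 : ZMod 8)) = 2 := by
  haveI : Fact (Nat.Prime 2) := ⟨Nat.prime_two⟩
  rw [Nat.card_zmultiples]
  exact addOrderOf_eq_prime (by decide) (by decide)

theorem relIndex_leech : leechLattice.relIndex latA2 = 2 := by
  rw [leech_eq, AddSubgroup.inf_relIndex_left, AddSubgroup.relIndex_ker, map_h3,
    card_zmultiples_four]

theorem index_leechLattice : leechLattice.index = 2 ^ 36 := by
  have hle2 : leechLattice ≤ latA2 := by rw [leech_eq]; exact inf_le_left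
  have hle1 : latA2 ≤ latA1 := fun x hx => hx.1
  rw [← AddSubgroup.relIndex_mul_index hle2, ← AddSubgroup.relIndex_mul_index hle1, index_latA1,
    relIndex_latA2, relIndex_leech]
  norm_num

end Cfsg.Agent.Lib.Helper1
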