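import Mathlib
import Cfsg.Prelude.Def_SporadicCombinatorics
import Cfsg.Agent.Lib.Helper1.Co0Center
import Cfsg.Agent.Lib.Helper9.LeechTS
import Cfsg.Agent.S0394
import Cfsg.Agent.Lib.Helper1.M24Order

/-!
# The stabiliser of the standard cross in the automorphism group of the rank-24 lattice
-/

set_option autoImplicit false

namespace Cfsg.Agent.Lib.Helper1.CrossStab

open Cfsg Cfsg.Agent.Lib.Helper1 Cfsg.Agent.Lib.Helper9.LeechTS Cfsg.Agent.S0394
open scoped Pointwise

theorem Efun_eq_single (i : GolayPt) : Efun i = Pi.single i 8 := by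
  funext k
  unfold Efun
  rw [Pi.single_apply]

theorem dotInt_single (x : GolayPt → ℤ) (j : GolayPt) (s : ℤ) :
    dotInt x (Pi.single j s) = s * x j := by
  classical
  unfold dotInt
  rw [Finset.sum_eq_single j]
  · rw [Pi.single_eq_same]
    ring
  · intro k _ hk
    rw [Pi.single_eq_of_ne hk]
    ring
  · intro h
    exact absurd (Finset.mem_univ j) h

theorem cast_key : ∀ t : ℤ, (t = 1 ∨ t = -3) →
    ((((-t - 1) / 2 : ℤ) : ZMod 2) ≠ 0) ∧ ((((t - 1) / 2 : ℤ) : ZMod 2) = 0) := by
  rintro t (rfl | rfl) <;> decide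

theorem neg_eq_self_zmod2 : ∀ a : ZMod 2, -a = a := by decide

theorem stab_structure {z : Equiv.Perm leechLattice} (hz : z ∈ Co0)
    (hst : ∀ v : leechLattice, (v : GolayPt → ℤ) ∈ stdCross →
      ((z v : leechLattice) : GolayPt → ℤ) ∈ stdCross) :
    ∃ σ ∈ M24, ∃ c ∈ supports (golayCode : Set (GolayPt → ZMod 2)),
      ∀ v : leechLattice, ((z v : leechLattice) : GolayPt → ℤ) =
        signedPerm σ c (v : GolayPt → ℤ) := by
  classical
  have hE : ∀ i, ((Evec i : leechLattice) : GolayPt → ℤ) ∈ stdCross :=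
    fun i => ⟨i, 8, Or.inl rfl, Efun_eq_single i⟩
  have hex : ∀ i, ∃ (j : GolayPt) (s : ℤ), (s = 8 ∨ s = -8) ∧
      ((z (Evec i) : leechLattice) : GolayPt → ℤ) = Pi.single j s := fun i => hst _ (hE i)
  choose τ s hs hτ using hex
  have hco : ∀ (v : leechLattice) (i : GolayPt),
      s i * ((z v : leechLattice) : GolayPt → ℤ) (τ i) = 8 * (v : GolayPt → ℤ) i := by
    intro v i
    have h1 := Co0_dot hz v (Evec i)
    rw [hτ i, dotInt_single] at h1
    have h2 : dotInt (v : GolayPt → ℤ) ((Evec i : leechLattice) : GolayPt → ℤ) =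
        8 * (v : GolayPt → ℤ) i := dotInt_Efun _ i
    rw [h2] at h1
    exact h1
  have hinj : Function.Injective τ := by
    intro i i' h
    by_contra hne
    have h1 := hco (Evec i) i'
    have h2 : ((Evec i : leechLattice) : GolayPt → ℤ) i' = 0 := by
      show Efun i i' = 0
      unfold Efun
      rw [if_neg (fun h' => hne h'.symm)]
    rw [h2, ← h, hτ i, Pi.single_eq_same] at h1
    rcases hs i with h3 | h3 <;> rcases hs i' with h4 | h4 <;> rw [h3, h4] at h1 <;>
      norm_num at h1
  have hbij : Function.Bijective τ := Finite.injective_iff_bijective.1 hinj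
  obtain ⟨σ, hσ⟩ : ∃ σ : Equiv.Perm GolayPt, ∀ i, σ i = τ i :=
    ⟨Equiv.ofBijective τ hbij, fun i => rfl⟩
  obtain ⟨c, hc⟩ : ∃ c : Finset GolayPt, c = Finset.univ.filter (fun j => s (σ.symm j) = -8) :=
    ⟨_, rfl⟩
  have hform : ∀ v : leechLattice, ((z v : leechLattice) : GolayPt → ℤ) =
      signedPerm σ c (v : GolayPt → ℤ) := by
    intro v
    funext j
    unfold signedPerm
    have h1 := hco v (σ.symm j)
    rw [← hσ, Equiv.apply_symm_apply] at h1
    by_cases hj : j ∈ c
    · rw [if_pos hj]
      have : s (σ.symm j) = -8 := by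
        rw [hc] at hj
        exact (Finset.mem_filter.1 hj).2
      rw [this] at h1
      omega
    · rw [if_neg hj]
      have : s (σ.symm j) = 8 := by
        rcases hs (σ.symm j) with h | h
        · exact h
        · exfalso
          apply hj
          rw [hc]
          exact Finset.mem_filter.2 ⟨Finset.mem_univ _, h⟩
      rw [this] at h1
      omega
  have hσM : σ ∈ M24 := by
    have hC : ∀ w ∈ golayCode, permWord σ w ∈ golayCode := by
      intro w hw
      have hv := even_lift_mem hw
      have h1 := hform ⟨_, hv⟩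
      have hmem : signedPerm σ c (fun i => 2 * liftZ w i) ∈ leechLattice := by
        rw [← h1]
        exact (z ⟨_, hv⟩).2
      have h2 : (2 : ℤ) ∣ signedPerm σ c (fun i => 2 * liftZ w i) none := by
        unfold signedPerm
        split_ifs
        · exact Dvd.dvd.neg_right (dvd_mul_right 2 _)
        · exact dvd_mul_right 2 _
      have h3 := (half_word_mem hmem h2).2
      have h4 : wordZ (half (signedPerm σ c (fun i => 2 * liftZ w i))) = permWord σ w := by
        funext j
        rw [wordZ_apply, permWord_apply]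
        unfold half signedPerm
        have h6 : ((liftZ w (σ.symm j) : ℤ) : ZMod 2) = w (σ.symm j) :=
          congrFun (wordZ_liftZ w) (σ.symm j)
        by_cases hj : j ∈ c
        · rw [if_pos hj]
          have : (-(2 * liftZ w (σ.symm j))) / 2 = - liftZ w (σ.symm j) := by omega
          rw [this, Int.cast_neg, h6]
          exact neg_eq_self_zmod2 _
        · rw [if_neg hj]
          have : (2 * liftZ w (σ.symm j)) / 2 = liftZ w (σ.symm j) := by omega
          rw [this]
          exact h6
      rw [h4] at h3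
      exact h3
    show σ ∈ MulAction.stabilizer (Equiv.Perm GolayPt)
      (supports (golayCode : Set (GolayPt → ZMod 2)))
    rw [MulAction.mem_stabilizer_set_iff_smul_set_subset (Set.toFinite _)]
    rintro _ ⟨b, ⟨w, hw, rfl⟩, rfl⟩
    exact ⟨permWord σ w, hC w hw, support₂_permWord σ w⟩
  have hcs : c ∈ supports (golayCode : Set (GolayPt → ZMod 2)) := by
    have h1 := hform ⟨x0, x0_mem⟩
    have hmem : signedPerm σ c x0 ∈ leechLattice := by
      rw [← h1]
      exact (z ⟨x0, x0_mem⟩).2
    have hx0 : ∀ i, x0 i = 1 ∨ x0 i = -3 := by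
      intro i
      cases i
      · right; rfl
      · left; rfl
    have h2 : ¬ (2 : ℤ) ∣ signedPerm σ c x0 none := by
      unfold signedPerm
      rcases hx0 (σ.symm none) with h | h <;> split_ifs <;> rw [h] <;> norm_num
    have h3 := (halfO_word_mem hmem h2).2
    refine ⟨wordZ (halfO (signedPerm σ c x0)), h3, ?_⟩
    ext j
    rw [mem_support₂_iff, wordZ_apply]
    unfold halfO signedPerm
    have hk := cast_key (x0 (σ.symm j)) (hx0 (σ.symm j))
    by_cases hj : j ∈ c
    · rw [if_pos hj]
      exact ⟨fun _ => hj, fun _ => hk.1⟩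
    · rw [if_neg hj]
      exact ⟨fun h' => absurd hk.2 h', fun h' => absurd h' hj⟩
  exact ⟨σ, hσM, c, hcs, hform⟩

end Cfsg.Agent.Lib.Helper1.CrossStab
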