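import Mathlib
import Cfsg.Agent.Lib.Helper1.CrossStab

/-!
# The stabiliser of the standard cross: its order
-/

set_option autoImplicit false

namespace Cfsg.Agent.Lib.Helper1.CrossStab

open Cfsg Cfsg.Agent.Lib.Helper1 Cfsg.Agent.Lib.Helper9.LeechTS Cfsg.Agent.S0394
open scoped Pointwise

/-- the monomial elements -/
def monoE (σ : Equiv.Perm GolayPt) (hσ : σ ∈ M24) (c : Finset GolayPt)
    (hc : c ∈ supports (golayCode : Set (GolayPt → ZMod 2))) : Equiv.Perm leechLattice :=
  signE c hc * permE σ⁻¹ (inv_mem hσ)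

theorem monoE_mem (σ : Equiv.Perm GolayPt) (hσ : σ ∈ M24) (c : Finset GolayPt)
    (hc : c ∈ supports (golayCode : Set (GolayPt → ZMod 2))) : monoE σ hσ c hc ∈ Co0 :=
  mul_mem (signE_mem c hc) (permE_mem _ _)

theorem monoE_apply (σ : Equiv.Perm GolayPt) (hσ : σ ∈ M24) (c : Finset GolayPt)
    (hc : c ∈ supports (golayCode : Set (GolayPt → ZMod 2))) (v : leechLattice) :
    ((monoE σ hσ c hc v : leechLattice) : GolayPt → ℤ) = signedPerm σ c (v : GolayPt → ℤ) := by
  funext j
  rfl

theorem signedPerm_single (σ : Equiv.Perm GolayPt) (c : Finset GolayPt) (i : GolayPt) (s : ℤ) :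
    signedPerm σ c (Pi.single i s) = Pi.single (σ i) (if σ i ∈ c then -s else s) := by
  funext j
  unfold signedPerm
  by_cases hj : j = σ i
  · subst hj
    rw [Equiv.symm_apply_apply, Pi.single_eq_same, Pi.single_eq_same]
  · have h1 : σ.symm j ≠ i := fun h => hj (by rw [← h, Equiv.apply_symm_apply])
    rw [Pi.single_eq_of_ne h1, Pi.single_eq_of_ne hj]
    split_ifs <;> simp

theorem signedPerm_stdCross (σ : Equiv.Perm GolayPt) (c : Finset GolayPt) (x : GolayPt → ℤ)
    (hx : x ∈ stdCross) : signedPerm σ c x ∈ stdCross := by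
  obtain ⟨i, s, hs, rfl⟩ := hx
  rw [signedPerm_single]
  refine ⟨σ i, _, ?_, rfl⟩
  split_ifs <;> rcases hs with rfl | rfl <;> simp

/-- the stabiliser, as a type -/
abbrev StabT := {g : ↥Co0 // ∀ v : ↥leechLattice, (v : GolayPt → ℤ) ∈ stdCross →
  ((g • v : ↥leechLattice) : GolayPt → ℤ) ∈ stdCross}

/-- the parametrisation of the stabiliser -/
def param (p : ↥M24 × ↥(supports (golayCode : Set (GolayPt → ZMod 2)))) : StabT :=
  ⟨⟨monoE p.1.1 p.1.2 p.2.1 p.2.2, monoE_mem _ _ _ _⟩, by
    intro v hv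
    show ((monoE p.1.1 p.1.2 p.2.1 p.2.2 v : leechLattice) : GolayPt → ℤ) ∈ stdCross
    rw [monoE_apply]
    exact signedPerm_stdCross _ _ _ hv⟩

theorem param_apply (p : ↥M24 × ↥(supports (golayCode : Set (GolayPt → ZMod 2))))
    (v : leechLattice) :
    ((((param p).1 : ↥Co0) : Equiv.Perm leechLattice) v : GolayPt → ℤ) =
      signedPerm p.1.1 p.2.1 (v : GolayPt → ℤ) :=
  monoE_apply p.1.1 p.1.2 p.2.1 p.2.2 v

theorem param_injective : Function.Injective param := by
  intro p q h
  have h1 : ∀ v : leechLattice, signedPerm p.1.1 p.2.1 (v : GolayPt → ℤ) =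
      signedPerm q.1.1 q.2.1 (v : GolayPt → ℤ) := by
    intro v
    rw [← param_apply, ← param_apply, h]
  have h2 : ∀ i, (Pi.single ((p.1.1 : Equiv.Perm GolayPt) i)
      (if (p.1.1 : Equiv.Perm GolayPt) i ∈ p.2.1 then (-8 : ℤ) else 8) : GolayPt → ℤ) =
      Pi.single ((q.1.1 : Equiv.Perm GolayPt) i)
        (if (q.1.1 : Equiv.Perm GolayPt) i ∈ q.2.1 then (-8 : ℤ) else 8) := by
    intro i
    have := h1 (Evec i)
    have hE : ((Evec i : leechLattice) : GolayPt → ℤ) = Pi.single i 8 := Efun_eq_single i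
    rw [hE, signedPerm_single, signedPerm_single] at this
    exact this
  have hσ : ∀ i, (p.1.1 : Equiv.Perm GolayPt) i = (q.1.1 : Equiv.Perm GolayPt) i := by
    intro i
    by_contra hne
    have h3 := congrFun (h2 i) ((p.1.1 : Equiv.Perm GolayPt) i)
    rw [Pi.single_eq_same, Pi.single_eq_of_ne hne] at h3
    split_ifs at h3 <;> norm_num at h3
  have hσ' : p.1 = q.1 := Subtype.ext (Equiv.ext hσ)
  have hc : p.2.1 = q.2.1 := by
    ext j
    have h3 := congrFun (h2 ((p.1.1 : Equiv.Perm GolayPt).symm j)) j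
    rw [← hσ, Equiv.apply_symm_apply, Pi.single_eq_same, Pi.single_eq_same] at h3
    by_cases h4 : j ∈ p.2.1 <;> by_cases h5 : j ∈ q.2.1
    · exact ⟨fun _ => h5, fun _ => h4⟩
    · rw [if_pos h4, if_neg h5] at h3
      norm_num at h3
    · rw [if_neg h4, if_pos h5] at h3
      norm_num at h3
    · exact ⟨fun h => absurd h h4, fun h => absurd h h5⟩
  exact Prod.ext hσ' (Subtype.ext hc)

theorem param_surjective : Function.Surjective param := by
  intro g
  obtain ⟨σ, hσ, c, hc, hform⟩ := stab_structure (z := (g.1 : Equiv.Perm leechLattice)) g.1.2 g.2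
  refine ⟨(⟨σ, hσ⟩, ⟨c, hc⟩), ?_⟩
  apply Subtype.ext
  apply Subtype.ext
  apply Equiv.ext
  intro v
  apply Subtype.ext
  rw [param_apply]
  exact (hform v).symm

theorem card_supports : Nat.card ↥(supports (golayCode : Set (GolayPt → ZMod 2))) = 4096 := by
  unfold supports
  rw [Nat.card_image_of_injective support₂_injective]
  have : Nat.card ↥golayCode = 4096 := by
    rw [Nat.card_congr codeEquiv.symm, Nat.card_eq_fintype_card, Fintype.card_fin]
  exact this

theorem card_StabT : Nat.card StabT = 4096 * 244823040 := by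
  rw [← Nat.card_congr (Equiv.ofBijective param ⟨param_injective, param_surjective⟩),
    Nat.card_prod, card_M24, card_supports]

end Cfsg.Agent.Lib.Helper1.CrossStab
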