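import Mathlib
import Cfsg.Agent.Lib.Helper1.Invol

set_option autoImplicit false

namespace Cfsg.Agent.Lib.Helper1

/-- a cyclic group has at most one involution -/
theorem eq_of_orderOf_two_of_isCyclic {A : Type*} [Group A] [Finite A] [IsCyclic A] {a b : A}
    (ha : orderOf a = 2) (hb : orderOf b = 2) : a = b := by
  classical
  haveI : Fintype A := Fintype.ofFinite A
  by_contra hne
  have hle := IsCyclic.card_pow_eq_one_le (α := A) (n := 2) (by decide)
  have ha2 : a ^ 2 = 1 := by rw [pow_two]; exact sq_eq_one_of_orderOf_two ha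
  have hb2 : b ^ 2 = 1 := by rw [pow_two]; exact sq_eq_one_of_orderOf_two hb
  have ha1 : a ≠ 1 := ne_one_of_orderOf_two ha
  have hb1 : b ≠ 1 := ne_one_of_orderOf_two hb
  have hsub : ({1, a, b} : Finset A) ⊆ Finset.univ.filter (fun x : A => x ^ 2 = 1) := by
    intro x hx
    simp only [Finset.mem_insert, Finset.mem_singleton] at hx
    rw [Finset.mem_filter]
    refine ⟨Finset.mem_univ _, ?_⟩
    rcases hx with rfl | rfl | rfl
    · exact one_pow 2
    · exact ha2
    · exact hb2
  have hcard : ({1, a, b} : Finset A).card = 3 := by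
    rw [Finset.card_insert_of_notMem, Finset.card_insert_of_notMem, Finset.card_singleton]
    · simpa using hne
    · simp only [Finset.mem_insert, Finset.mem_singleton, not_or]
      exact ⟨fun h => ha1 h.symm, fun h => hb1 h.symm⟩
  have := Finset.card_le_card hsub
  omega

end Cfsg.Agent.Lib.Helper1
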