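import Mathlib

set_option autoImplicit false

namespace Cfsg.Agent.Lib.Helper1

/-- in a finite cyclic group, an element of order `p` generates all solutions of `x ^ p = 1` -/
theorem mem_zpowers_of_pow_eq_one_of_isCyclic {A : Type*} [Group A] [Finite A] [IsCyclic A]
    {p : ℕ} (hp : p.Prime) {a b : A} (ha : orderOf a = p) (hb : b ^ p = 1) :
    b ∈ Subgroup.zpowers a := by
  classical
  haveI : Fintype A := Fintype.ofFinite A
  have hle := IsCyclic.card_pow_eq_one_le (α := A) (n := p) hp.pos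
  have hsub : (Subgroup.zpowers a : Set A).toFinset ⊆
      Finset.univ.filter (fun x : A => x ^ p = 1) := by
    intro x hx
    rw [Set.mem_toFinset] at hx
    rw [Finset.mem_filter]
    refine ⟨Finset.mem_univ _, ?_⟩
    obtain ⟨k, rfl⟩ := hx
    rw [← zpow_natCast, ← zpow_mul, mul_comm, zpow_mul, zpow_natCast, ← ha, pow_orderOf_eq_one,
      one_zpow]
  have hcard : (Subgroup.zpowers a : Set A).toFinset.card = p := by
    rw [Set.toFinset_card, ← Nat.card_eq_fintype_card]
    rw [← ha]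
    exact Nat.card_zpowers a
  have heq := Finset.eq_of_subset_of_card_le hsub (by rw [hcard]; exact hle)
  have hbm : b ∈ Finset.univ.filter (fun x : A => x ^ p = 1) := by
    rw [Finset.mem_filter]; exact ⟨Finset.mem_univ _, hb⟩
  rw [← heq, Set.mem_toFinset] at hbm
  exact hbm

/-- two subgroups of a cyclic `p`-group with trivial intersection: one of them is trivial -/
theorem eq_bot_or_eq_bot_of_inf_eq_bot {G : Type*} [Group G] [Finite G] {p : ℕ} [Fact p.Prime]
    {P : Subgroup G} (hcyc : IsCyclic P) (hP : IsPGroup p P) {A B : Subgroup G}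
    (hA : A ≤ P) (hB : B ≤ P) (h : A ⊓ B = ⊥) : A = ⊥ ∨ B = ⊥ := by
  have hp : p.Prime := Fact.out
  by_contra hne
  push Not at hne
  obtain ⟨hA0, hB0⟩ := hne
  have hex : ∀ C : Subgroup G, C ≤ P → C ≠ ⊥ → ∃ c ∈ C, orderOf c = p := by
    intro C hC hC0
    have hCp : IsPGroup p C := hP.to_le hC
    obtain ⟨k, hk⟩ := IsPGroup.iff_card.1 hCp
    have hk0 : k ≠ 0 := by
      rintro rfl
      rw [pow_zero] at hk
      exact hC0 (Subgroup.card_eq_one.1 hk)
    have hdvd : p ∣ Nat.card C := by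
      rw [hk]; exact dvd_pow_self p hk0
    obtain ⟨c, hc⟩ := exists_prime_orderOf_dvd_card' (G := C) p hdvd
    exact ⟨c.1, c.2, by rw [Subgroup.orderOf_coe]; exact hc⟩
  obtain ⟨a, haA, hao⟩ := hex A hA hA0
  obtain ⟨b, hbB, hbo⟩ := hex B hB hB0
  haveI := hcyc
  have hao' : orderOf (⟨a, hA haA⟩ : P) = p := by
    rw [← Subgroup.orderOf_coe]; exact hao
  have hbp : (⟨b, hB hbB⟩ : P) ^ p = 1 := by
    apply Subtype.ext
    rw [Subgroup.coe_pow, Subgroup.coe_one]
    show b ^ p = 1
    rw [← hbo]; exact pow_orderOf_eq_one b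
  obtain ⟨k, hk⟩ := mem_zpowers_of_pow_eq_one_of_isCyclic hp hao' hbp
  have hk' : a ^ k = b := by
    have := congrArg Subtype.val hk
    simpa using this
  have hbA : b ∈ A := hk' ▸ A.zpow_mem haA k
  have hb1 : b ∈ A ⊓ B := Subgroup.mem_inf.2 ⟨hbA, hbB⟩
  rw [h, Subgroup.mem_bot] at hb1
  rw [hb1, orderOf_one] at hbo
  exact hp.one_lt.ne hbo

end Cfsg.Agent.Lib.Helper1
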