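import Mathlib
import Cfsg.Agent.Lib.Helper1.Invol

set_option autoImplicit false

namespace Cfsg.Agent.Lib.Helper1

variable {G : Type*} [Group G]

/-- an involution `x` inverts the integer powers of `x * y` when `y` is an involution -/
theorem conj_mul_zpow {x y : G} (hx : x * x = 1) (hy : y * y = 1) (k : ℤ) :
    x * (x * y) ^ k * x = (x * y) ^ (-k) := by
  have hx' : x⁻¹ = x := inv_eq_of_mul_eq_one_left hx
  have hy' : y⁻¹ = y := inv_eq_of_mul_eq_one_left hy
  have h1 : x * (x * y) * x⁻¹ = (x * y)⁻¹ := by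
    rw [mul_inv_rev, hy', ← mul_assoc, hx, one_mul]
  have h2 : x * (x * y) ^ k * x⁻¹ = ((x * y)⁻¹) ^ k := by
    rw [← h1, conj_zpow]
  rw [hx'] at h2
  rw [h2, inv_zpow, zpow_neg]

theorem x_mul_zpow {x y : G} (hx : x * x = 1) (hy : y * y = 1) (k : ℤ) :
    x * (x * y) ^ k = (x * y) ^ (-k) * x := by
  rw [← conj_mul_zpow hx hy k, mul_assoc (x * (x * y) ^ k), hx, mul_one]

theorem zpow_mul_x {x y : G} (hx : x * x = 1) (hy : y * y = 1) (k : ℤ) :
    (x * y) ^ k * x = x * (x * y) ^ (-k) := by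
  rw [x_mul_zpow hx hy, neg_neg]

/-- description of the elements of the subgroup generated by two involutions -/
theorem mem_closure_pair {x y : G} (hx : x * x = 1) (hy : y * y = 1) {d : G}
    (hd : d ∈ Subgroup.closure ({x, y} : Set G)) :
    ∃ k : ℤ, d = (x * y) ^ k ∨ d = x * (x * y) ^ k := by
  have hx' : x⁻¹ = x := inv_eq_of_mul_eq_one_left hx
  have hy' : y⁻¹ = y := inv_eq_of_mul_eq_one_left hy
  have hxg : ∃ k : ℤ, x = (x * y) ^ k ∨ x = x * (x * y) ^ k := ⟨0, Or.inr (by simp)⟩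
  have hyg : ∃ k : ℤ, y = (x * y) ^ k ∨ y = x * (x * y) ^ k :=
    ⟨1, Or.inr (by rw [zpow_one, ← mul_assoc, hx, one_mul])⟩
  induction hd using Subgroup.closure_induction'' with
  | mem z hz =>
    rcases hz with rfl | hz
    · exact hxg
    · rw [Set.mem_singleton_iff] at hz; subst hz; exact hyg
  | inv_mem z hz =>
    rcases hz with rfl | hz
    · rw [hx']; exact hxg
    · rw [Set.mem_singleton_iff] at hz; subst hz; rw [hy']; exact hyg
  | one => exact ⟨0, Or.inl (by simp)⟩
  | mul a b _ _ iha ihb =>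
    obtain ⟨k, hk⟩ := iha
    obtain ⟨l, hl⟩ := ihb
    rcases hk with rfl | rfl <;> rcases hl with rfl | rfl
    · exact ⟨k + l, Or.inl (zpow_add _ _ _).symm⟩
    · refine ⟨-k + l, Or.inr ?_⟩
      rw [← mul_assoc, zpow_mul_x hx hy, mul_assoc, ← zpow_add]
    · exact ⟨k + l, Or.inr (by rw [mul_assoc, ← zpow_add])⟩
    · refine ⟨-k + l, Or.inl ?_⟩
      calc x * (x * y) ^ k * (x * (x * y) ^ l) = (x * (x * y) ^ k * x) * (x * y) ^ l := by group
        _ = (x * y) ^ (-k + l) := by rw [conj_mul_zpow hx hy, ← zpow_add]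

theorem zpow_mem_closure_pair {x y : G} (k : ℤ) :
    (x * y) ^ k ∈ Subgroup.closure ({x, y} : Set G) :=
  Subgroup.zpow_mem _ (Subgroup.mul_mem _ (Subgroup.subset_closure (by simp))
    (Subgroup.subset_closure (by simp))) k

theorem x_mul_zpow_mem_closure_pair {x y : G} (k : ℤ) :
    x * (x * y) ^ k ∈ Subgroup.closure ({x, y} : Set G) :=
  Subgroup.mul_mem _ (Subgroup.subset_closure (by simp)) (zpow_mem_closure_pair k)

/-- `x ∉ ⟨x y⟩` for distinct involutions -/
theorem x_not_mem_zpowers {x y : G} (hx : x * x = 1) (hy : y * y = 1) (hx1 : x ≠ 1) (hy1 : y ≠ 1)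
    (hxy : x ≠ y) : x ∉ Subgroup.zpowers (x * y) := by
  rintro ⟨k, hk⟩
  have hx' : x⁻¹ = x := inv_eq_of_mul_eq_one_left hx
  have hy' : y⁻¹ = y := inv_eq_of_mul_eq_one_left hy
  -- x commutes with x * y
  have hc : Commute x (x * y) := by
    have : Commute ((x * y) ^ k) (x * y) := (Commute.refl _).zpow_left k
    simp only at hk
    rwa [hk] at this
  have hcy : Commute x y := by
    have := (Commute.refl x).inv_right.mul_right hc
    rwa [inv_mul_cancel_left] at this
  -- so (xy)^2 = 1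
  have h2 : (x * y) * (x * y) = 1 := by
    calc (x * y) * (x * y) = x * (y * x) * y := by group
      _ = x * (x * y) * y := by rw [hcy.eq]
      _ = (x * x) * (y * y) := by group
      _ = 1 := by rw [hx, hy, one_mul]
  -- (xy)^k is 1 or xy
  have hcases : (x * y) ^ k = 1 ∨ (x * y) ^ k = x * y := by
    rcases Int.even_or_odd' k with ⟨j, hj | hj⟩
    · left
      rw [hj, zpow_mul, zpow_two, h2, one_zpow]
    · right
      rw [hj, zpow_add, zpow_mul, zpow_two, h2, one_zpow, one_mul, zpow_one]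
  simp only at hk
  rcases hcases with h | h
  · rw [h] at hk; exact hx1 hk.symm
  · rw [h] at hk
    have : y = 1 := mul_left_cancel (a := x) (by rw [hk, mul_one])
    exact hy1 this

end Cfsg.Agent.Lib.Helper1
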