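import Mathlib
import Cfsg.Agent.Lib.Helper1.Dih

set_option autoImplicit false

namespace Cfsg.Agent.Lib.Helper1

variable {G : Type*} [Group G]

/-- powers of an element indexed by `ZMod (orderOf ρ)` -/
noncomputable def zmodPow (ρ : G) (i : ZMod (orderOf ρ)) : G := ρ ^ (ZMod.cast i : ℤ)

theorem zmodPow_of_intCast (ρ : G) (a : ℤ) (i : ZMod (orderOf ρ)) (h : (a : ZMod (orderOf ρ)) = i) :
    ρ ^ a = zmodPow ρ i := by
  unfold zmodPow
  rw [zpow_eq_zpow_iff_modEq, ← ZMod.intCast_eq_intCast_iff, h, ZMod.intCast_zmod_cast]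

theorem zmodPow_add (ρ : G) (i j : ZMod (orderOf ρ)) :
    zmodPow ρ (i + j) = zmodPow ρ i * zmodPow ρ j := by
  rw [← zmodPow_of_intCast ρ ((ZMod.cast i : ℤ) + (ZMod.cast j : ℤ)) (i + j)
    (by push_cast; simp), zpow_add]
  rfl

theorem zmodPow_neg (ρ : G) (i : ZMod (orderOf ρ)) :
    zmodPow ρ (-i) = (zmodPow ρ i)⁻¹ := by
  rw [← zmodPow_of_intCast ρ (-(ZMod.cast i : ℤ)) (-i)
    (by push_cast; simp), zpow_neg]
  rfl

theorem zmodPow_sub (ρ : G) (i j : ZMod (orderOf ρ)) :
    zmodPow ρ (j - i) = (zmodPow ρ i)⁻¹ * zmodPow ρ j := by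
  rw [sub_eq_add_neg, add_comm, zmodPow_add, zmodPow_neg]

theorem zmodPow_zero (ρ : G) : zmodPow ρ 0 = 1 := by
  rw [← zmodPow_of_intCast ρ 0 0 (by simp), zpow_zero]

theorem zmodPow_eq_one (ρ : G) (i : ZMod (orderOf ρ)) (h : zmodPow ρ i = 1) : i = 0 := by
  unfold zmodPow at h
  have := (orderOf_dvd_iff_zpow_eq_one).2 h
  rw [← ZMod.intCast_zmod_eq_zero_iff_dvd, ZMod.intCast_zmod_cast] at this
  exact this

/-- the homomorphism from the dihedral group determined by two involutions -/
noncomputable def dihedralHom {x y : G} (hx : x * x = 1) (hy : y * y = 1) :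
    DihedralGroup (orderOf (x * y)) →* G :=
  MonoidHom.mk'
    (fun g => match g with
      | DihedralGroup.r i => zmodPow (x * y) i
      | DihedralGroup.sr i => x * zmodPow (x * y) i)
    (by
      have hconj : ∀ i : ZMod (orderOf (x * y)),
          x * zmodPow (x * y) i * x = (zmodPow (x * y) i)⁻¹ := by
        intro i
        unfold zmodPow
        rw [conj_mul_zpow hx hy, zpow_neg]
      intro a b
      rcases a with i | i <;> rcases b with j | j
      · show zmodPow (x * y) (i + j) = _
        rw [zmodPow_add]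
      · show x * zmodPow (x * y) (j - i) = zmodPow (x * y) i * (x * zmodPow (x * y) j)
        rw [zmodPow_sub]
        have h1 : zmodPow (x * y) i * x = x * (zmodPow (x * y) i)⁻¹ := by
          rw [← hconj i]
          calc zmodPow (x * y) i * x = (x * x) * zmodPow (x * y) i * x := by rw [hx, one_mul]
            _ = x * (x * zmodPow (x * y) i * x) := by group
        calc x * ((zmodPow (x * y) i)⁻¹ * zmodPow (x * y) j)
            = (x * (zmodPow (x * y) i)⁻¹) * zmodPow (x * y) j := by group
          _ = zmodPow (x * y) i * (x * zmodPow (x * y) j) := by rw [← h1]; group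
      · show x * zmodPow (x * y) (i + j) = x * zmodPow (x * y) i * zmodPow (x * y) j
        rw [zmodPow_add, mul_assoc]
      · show zmodPow (x * y) (j - i) = x * zmodPow (x * y) i * (x * zmodPow (x * y) j)
        rw [zmodPow_sub, ← hconj i]
        group)

theorem dihedralHom_r {x y : G} (hx : x * x = 1) (hy : y * y = 1) (i : ZMod (orderOf (x * y))) :
    dihedralHom hx hy (DihedralGroup.r i) = zmodPow (x * y) i := rfl

theorem dihedralHom_sr {x y : G} (hx : x * x = 1) (hy : y * y = 1) (i : ZMod (orderOf (x * y))) :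
    dihedralHom hx hy (DihedralGroup.sr i) = x * zmodPow (x * y) i := rfl

theorem dihedralHom_injective {x y : G} (hx : x * x = 1) (hy : y * y = 1) (hx1 : x ≠ 1)
    (hy1 : y ≠ 1) (hxy : x ≠ y) : Function.Injective (dihedralHom hx hy) := by
  rw [injective_iff_map_eq_one]
  intro g hg
  rcases g with i | i
  · rw [dihedralHom_r] at hg
    rw [zmodPow_eq_one _ i hg]
    rfl
  · exfalso
    rw [dihedralHom_sr] at hg
    apply x_not_mem_zpowers hx hy hx1 hy1 hxy
    have : x = (zmodPow (x * y) i)⁻¹ := eq_inv_of_mul_eq_one_left hg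
    have h2 : (zmodPow (x * y) i)⁻¹ ∈ Subgroup.zpowers (x * y) :=
      Subgroup.inv_mem _ ⟨(ZMod.cast i : ℤ), rfl⟩
    rwa [← this] at h2

theorem dihedralHom_range {x y : G} (hx : x * x = 1) (hy : y * y = 1) :
    (dihedralHom hx hy).range = Subgroup.closure ({x, y} : Set G) := by
  apply le_antisymm
  · rintro _ ⟨g, rfl⟩
    rcases g with i | i
    · rw [dihedralHom_r]
      exact zpow_mem_closure_pair _
    · rw [dihedralHom_sr]
      exact x_mul_zpow_mem_closure_pair _
  · intro d hd
    obtain ⟨k, hk | hk⟩ := mem_closure_pair hx hy hd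
    · exact ⟨DihedralGroup.r (k : ZMod (orderOf (x * y))), by
        rw [dihedralHom_r, hk, zmodPow_of_intCast _ k _ rfl]⟩
    · exact ⟨DihedralGroup.sr (k : ZMod (orderOf (x * y))), by
        rw [dihedralHom_sr, hk, zmodPow_of_intCast _ k _ rfl]⟩

/-- two distinct involutions generate a dihedral group -/
theorem nonempty_mulEquiv_dihedral {x y : G} (hx : orderOf x = 2) (hy : orderOf y = 2)
    (hxy : x ≠ y) :
    Nonempty (↥(Subgroup.closure ({x, y} : Set G)) ≃* DihedralGroup (orderOf (x * y))) := by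
  have hx2 := sq_eq_one_of_orderOf_two hx
  have hy2 := sq_eq_one_of_orderOf_two hy
  have hinj := dihedralHom_injective hx2 hy2 (ne_one_of_orderOf_two hx) (ne_one_of_orderOf_two hy) hxy
  have e1 := MonoidHom.ofInjective hinj
  rw [dihedralHom_range hx2 hy2] at e1
  exact ⟨e1.symm⟩

end Cfsg.Agent.Lib.Helper1
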