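import Mathlib
import Cfsg.Agent.Lib.Helper1.Invol
import Cfsg.Agent.Lib.Helper1.Dih

set_option autoImplicit false

namespace Cfsg.Agent.Lib.Helper1

section
variable {G : Type*} [Group G]

/-- conjugating the involution `a` by a power of `a * b` -/
theorem zpow_conj_left {a b : G} (ha : a * a = 1) (hb : b * b = 1) (j : ℤ) :
    (a * b) ^ j * a * ((a * b) ^ j)⁻¹ = (a * b) ^ (2 * j) * a := by
  have h := x_mul_zpow ha hb (-j)
  rw [neg_neg] at h
  rw [← zpow_neg, mul_assoc, h, ← mul_assoc, ← zpow_add]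
  congr 2
  ring

/-- `b = (a b)⁻¹ a` -/
theorem b_eq_inv_mul_a {a b : G} (_ha : a * a = 1) (hb : b * b = 1) :
    b = (a * b)⁻¹ * a := by
  have hb' : b⁻¹ = b := inv_eq_of_mul_eq_one_left hb
  rw [mul_inv_rev, hb', mul_assoc, inv_mul_cancel, mul_one]

/-- conjugating the involution `b` by a power of `a * b` -/
theorem zpow_conj_right {a b : G} (ha : a * a = 1) (hb : b * b = 1) (j : ℤ) :
    (a * b) ^ j * b * ((a * b) ^ j)⁻¹ = (a * b) ^ (2 * j) * b := by
  have e : b = (a * b)⁻¹ * a := b_eq_inv_mul_a ha hb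
  have key : ∀ c : G, c = (a * b)⁻¹ * a →
      (a * b) ^ j * c * ((a * b) ^ j)⁻¹ = (a * b) ^ (2 * j) * c := by
    rintro c rfl
    have hc : Commute ((a * b) ^ j) (a * b)⁻¹ := (Commute.refl (a * b)).inv_right.zpow_left j
    have h1 : (a * b) ^ j * ((a * b)⁻¹ * a) * ((a * b) ^ j)⁻¹
        = (a * b)⁻¹ * ((a * b) ^ j * a * ((a * b) ^ j)⁻¹) := by
      calc (a * b) ^ j * ((a * b)⁻¹ * a) * ((a * b) ^ j)⁻¹
          = ((a * b) ^ j * (a * b)⁻¹) * a * ((a * b) ^ j)⁻¹ := by group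
        _ = ((a * b)⁻¹ * (a * b) ^ j) * a * ((a * b) ^ j)⁻¹ := by rw [hc.eq]
        _ = (a * b)⁻¹ * ((a * b) ^ j * a * ((a * b) ^ j)⁻¹) := by group
    have hc2 : Commute ((a * b) ^ (2 * j)) (a * b)⁻¹ :=
      (Commute.refl (a * b)).inv_right.zpow_left _
    rw [h1, zpow_conj_left ha hb]
    calc (a * b)⁻¹ * ((a * b) ^ (2 * j) * a) = ((a * b)⁻¹ * (a * b) ^ (2 * j)) * a := by group
      _ = ((a * b) ^ (2 * j) * (a * b)⁻¹) * a := by rw [hc2.eq]
      _ = (a * b) ^ (2 * j) * ((a * b)⁻¹ * a) := by group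
  exact key b e

/-- two involutions whose product has odd order are conjugate -/
theorem conj_of_odd_orderOf_mul {a b : G} (ha : a * a = 1) (hb : b * b = 1)
    (hodd : Odd (orderOf (a * b))) : ∃ g : G, g * a * g⁻¹ = b := by
  obtain ⟨k, hk⟩ := hodd
  refine ⟨(a * b) ^ (k : ℤ), ?_⟩
  rw [zpow_conj_left ha hb]
  have h1 : (a * b) ^ (2 * (k : ℤ)) = (a * b)⁻¹ := by
    have : (2 * (k : ℤ)) = ((2 * k + 1 : ℕ) : ℤ) + (-1) := by push_cast; ring
    rw [this, zpow_add, zpow_natCast, ← hk, pow_orderOf_eq_one, one_mul, zpow_neg, zpow_one]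
  rw [h1]
  exact (b_eq_inv_mul_a ha hb).symm

/-- if the product of two involutions has even order `2k`, then `(a b)^k` is an involution
commuting with both -/
theorem central_invol_of_even {a b : G} (ha : a * a = 1) (hb : b * b = 1) {k : ℕ}
    (h : orderOf (a * b) = 2 * k) (hk : 0 < k) :
    ((a * b) ^ k) * ((a * b) ^ k) = 1 ∧ (a * b) ^ k ≠ 1 ∧ Commute a ((a * b) ^ k) ∧
      Commute b ((a * b) ^ k) := by
  have hzz : ((a * b) ^ k) * ((a * b) ^ k) = 1 := by
    rw [← pow_add, ← two_mul, ← h, pow_orderOf_eq_one]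
  have hz1 : (a * b) ^ k ≠ 1 := by
    intro h1
    have := orderOf_dvd_of_pow_eq_one h1
    rw [h] at this
    have := Nat.le_of_dvd hk this
    omega
  have hzi : ((a * b) ^ k)⁻¹ = (a * b) ^ k := inv_eq_of_mul_eq_one_left hzz
  have hca : Commute a ((a * b) ^ k) := by
    have := conj_mul_pow ha hb k
    rw [hzi] at this
    show a * (a * b) ^ k = (a * b) ^ k * a
    calc a * (a * b) ^ k = (a * (a * b) ^ k * a) * a := by
          rw [mul_assoc (a * (a * b) ^ k), ha, mul_one]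
      _ = (a * b) ^ k * a := by rw [this]
  refine ⟨hzz, hz1, hca, ?_⟩
  have hcu : Commute (a * b) ((a * b) ^ k) := (Commute.refl _).pow_right k
  have e : b = a⁻¹ * (a * b) := by group
  have key : ∀ c : G, c = a⁻¹ * (a * b) → Commute c ((a * b) ^ k) := by
    rintro c rfl
    exact (hca.inv_left).mul_left hcu
  exact key b e

end

end Cfsg.Agent.Lib.Helper1
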