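import Mathlib

/-!
# Even lattices of rank 24 without roots: classes modulo two of the vectors of norm 8
-/

set_option autoImplicit false

namespace Cfsg.Agent.Lib.Helper1.EvenLattice48

open Matrix

theorem symm_form (B : Matrix (Fin 24) (Fin 24) ℤ) (hsymm : B.IsSymm) (u v : Fin 24 → ℤ) :
    u ⬝ᵥ (B *ᵥ v) = v ⬝ᵥ (B *ᵥ u) := by
  rw [Matrix.dotProduct_mulVec, ← Matrix.mulVec_transpose, hsymm.eq, dotProduct_comm]

theorem form_neg (B : Matrix (Fin 24) (Fin 24) ℤ) (x : Fin 24 → ℤ) :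
    (-x) ⬝ᵥ (B *ᵥ (-x)) = x ⬝ᵥ (B *ᵥ x) := by
  simp [Matrix.mulVec_neg]

theorem form_zero (B : Matrix (Fin 24) (Fin 24) ℤ) :
    (0 : Fin 24 → ℤ) ⬝ᵥ (B *ᵥ (0 : Fin 24 → ℤ)) = 0 := by
  simp

/-- distinct short vectors congruent modulo two are opposite, or both of norm 8 and orthogonal -/
theorem gcong (B : Matrix (Fin 24) (Fin 24) ℤ) (hsymm : B.IsSymm)
    (hpos : ∀ x : Fin 24 → ℤ, x ≠ 0 → 0 < x ⬝ᵥ (B *ᵥ x))
    (heven : ∀ x : Fin 24 → ℤ, (2 : ℤ) ∣ x ⬝ᵥ (B *ᵥ x))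
    (h2 : ∀ x : Fin 24 → ℤ, x ⬝ᵥ (B *ᵥ x) ≠ 2) (x y : Fin 24 → ℤ)
    (hx : x ⬝ᵥ (B *ᵥ x) ≤ 8) (hy : y ⬝ᵥ (B *ᵥ y) ≤ 8) (hne : x ≠ y)
    (hc : ∀ i, (2 : ℤ) ∣ (x - y) i) :
    x = -y ∨ (x ⬝ᵥ (B *ᵥ x) = 8 ∧ y ⬝ᵥ (B *ᵥ y) = 8 ∧ x ⬝ᵥ (B *ᵥ y) = 0) := by
  have hyx : y ⬝ᵥ (B *ᵥ x) = x ⬝ᵥ (B *ᵥ y) := symm_form B hsymm y x
  have hc' : ∀ i, (2 : ℤ) ∣ (x + y) i := by
    intro i
    have h1 := hc i
    have : (x + y) i = (x - y) i + 2 * y i := by
      simp only [Pi.add_apply, Pi.sub_apply]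
      ring
    rw [this]
    exact dvd_add h1 (dvd_mul_right 2 _)
  obtain ⟨z, hz⟩ : ∃ z : Fin 24 → ℤ, z = fun i => (x - y) i / 2 := ⟨_, rfl⟩
  obtain ⟨w, hw⟩ : ∃ w : Fin 24 → ℤ, w = fun i => (x + y) i / 2 := ⟨_, rfl⟩
  have hzx : x - y = (2 : ℤ) • z := by
    funext i
    simp only [Pi.smul_apply, smul_eq_mul, hz]
    exact (Int.mul_ediv_cancel' (hc i)).symm
  have hwx : x + y = (2 : ℤ) • w := by
    funext i
    simp only [Pi.smul_apply, smul_eq_mul, hw]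
    exact (Int.mul_ediv_cancel' (hc' i)).symm
  have e1 : (x - y) ⬝ᵥ (B *ᵥ (x - y)) =
      x ⬝ᵥ (B *ᵥ x) + y ⬝ᵥ (B *ᵥ y) - 2 * (x ⬝ᵥ (B *ᵥ y)) := by
    simp only [Matrix.mulVec_sub, dotProduct_sub, sub_dotProduct]
    rw [hyx]
    ring
  have e2 : (x + y) ⬝ᵥ (B *ᵥ (x + y)) =
      x ⬝ᵥ (B *ᵥ x) + y ⬝ᵥ (B *ᵥ y) + 2 * (x ⬝ᵥ (B *ᵥ y)) := by
    simp only [Matrix.mulVec_add, dotProduct_add, add_dotProduct]
    rw [hyx]
    ring
  have e3 : ((2 : ℤ) • z) ⬝ᵥ (B *ᵥ ((2 : ℤ) • z)) = 4 * (z ⬝ᵥ (B *ᵥ z)) := by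
    simp only [Matrix.mulVec_smul, dotProduct_smul, smul_dotProduct, smul_eq_mul]
    ring
  have e4 : ((2 : ℤ) • w) ⬝ᵥ (B *ᵥ ((2 : ℤ) • w)) = 4 * (w ⬝ᵥ (B *ᵥ w)) := by
    simp only [Matrix.mulVec_smul, dotProduct_smul, smul_dotProduct, smul_eq_mul]
    ring
  rw [hzx, e3] at e1
  rw [hwx, e4] at e2
  have hz0 : z ≠ 0 := by
    intro h0
    rw [h0, smul_zero] at hzx
    exact hne (sub_eq_zero.1 hzx)
  have hnz := hpos z hz0
  have hez := heven z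
  have hz2 := h2 z
  by_cases hw0 : w = 0
  · left
    rw [hw0, smul_zero] at hwx
    exact eq_neg_of_add_eq_zero_left hwx
  · right
    have hnw := hpos w hw0
    have hew := heven w
    have hw2 := h2 w
    generalize z ⬝ᵥ (B *ᵥ z) = nz at *
    generalize w ⬝ᵥ (B *ᵥ w) = nw at *
    generalize x ⬝ᵥ (B *ᵥ y) = b at *
    generalize x ⬝ᵥ (B *ᵥ x) = nx at *
    generalize y ⬝ᵥ (B *ᵥ y) = ny at *
    obtain ⟨k, hk⟩ := hez
    obtain ⟨l, hl⟩ := hew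
    omega

/-- reduction modulo two -/
def cls (v : Fin 24 → ℤ) : Fin 24 → ZMod 2 := fun i => (v i : ZMod 2)

theorem cls_eq_iff (v w : Fin 24 → ℤ) : cls v = cls w ↔ ∀ i, (2 : ℤ) ∣ (v - w) i := by
  unfold cls
  rw [funext_iff]
  apply forall_congr'
  intro i
  rw [Pi.sub_apply]
  constructor
  · intro h
    have h1 : (((v i - w i : ℤ)) : ZMod 2) = 0 := by rw [Int.cast_sub, h, sub_self]
    exact (ZMod.intCast_zmod_eq_zero_iff_dvd _ 2).1 h1
  · intro h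
    have h1 := (ZMod.intCast_zmod_eq_zero_iff_dvd (v i - w i) 2).2 h
    rw [Int.cast_sub, sub_eq_zero] at h1
    exact h1

theorem orth_card_le {κ ι : Type*} [Fintype κ] [Fintype ι] (r u : ι → κ → ℤ)
    (hnz : ∀ p, r p ⬝ᵥ u p ≠ 0) (horth : ∀ p q, p ≠ q → r p ⬝ᵥ u q = 0) :
    Fintype.card ι ≤ Fintype.card κ := by
  classical
  have hli : LinearIndependent ℚ (fun p => (fun j => ((r p j : ℤ) : ℚ)) : ι → κ → ℚ) := by
    rw [Fintype.linearIndependent_iff]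
    intro g hg q
    have h1 : ∀ j, ∑ p, g p * ((r p j : ℤ) : ℚ) = 0 := by
      intro j
      have := congrFun hg j
      simpa [Finset.sum_apply, Pi.smul_apply, smul_eq_mul] using this
    have h2 : ∑ j, (∑ p, g p * ((r p j : ℤ) : ℚ)) * ((u q j : ℤ) : ℚ) = 0 := by
      apply Finset.sum_eq_zero
      intro j _
      rw [h1 j, zero_mul]
    have h3 : ∑ j, (∑ p, g p * ((r p j : ℤ) : ℚ)) * ((u q j : ℤ) : ℚ) =
        ∑ p, g p * ((r p ⬝ᵥ u q : ℤ) : ℚ) := by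
      simp only [Finset.sum_mul]
      rw [Finset.sum_comm]
      apply Finset.sum_congr rfl
      intro p _
      unfold dotProduct
      push_cast
      rw [Finset.mul_sum]
      exact Finset.sum_congr rfl (fun j _ => by ring)
    rw [h3, Finset.sum_eq_single q] at h2
    · rcases mul_eq_zero.1 h2 with h | h
      · exact h
      · exfalso
        exact hnz q (by exact_mod_cast h)
    · intro p _ hpq
      rw [horth p q hpq]
      simp
    · intro h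
      exact absurd (Finset.mem_univ q) h
  have := hli.fintype_card_le_finrank
  rw [Module.finrank_fintype_fun_eq_card] at this
  exact this

theorem orth_bound (B : Matrix (Fin 24) (Fin 24) ℤ) (F : Finset (Fin 24 → ℤ))
    (hnz : ∀ w ∈ F, w ⬝ᵥ (B *ᵥ w) ≠ 0)
    (h : ∀ w1 ∈ F, ∀ w2 ∈ F, w1 ≠ w2 → w1 = -w2 ∨ w1 ⬝ᵥ (B *ᵥ w2) = 0) : F.card ≤ 48 := by
  classical
  have h1 : F.card ≤ 2 * (F.image (fun w => ({w, -w} : Finset (Fin 24 → ℤ)))).card := by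
    apply Finset.card_le_mul_card_image
    intro b hb
    obtain ⟨w, _, rfl⟩ := Finset.mem_image.1 hb
    have hsub : F.filter (fun a => ({a, -a} : Finset (Fin 24 → ℤ)) = {w, -w}) ⊆ {w, -w} := by
      intro a ha
      have h2 := (Finset.mem_filter.1 ha).2
      rw [← h2]
      exact Finset.mem_insert_self _ _
    exact (Finset.card_le_card hsub).trans Finset.card_le_two
  have h2 : (F.image (fun w => ({w, -w} : Finset (Fin 24 → ℤ)))).card ≤ 24 := by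
    rw [← Fintype.card_coe]
    have hex : ∀ p : ↥(F.image (fun w => ({w, -w} : Finset (Fin 24 → ℤ)))),
        ∃ w, w ∈ F ∧ ({w, -w} : Finset (Fin 24 → ℤ)) = p.1 := by
      intro p
      obtain ⟨w, hw, hp⟩ := Finset.mem_image.1 p.2
      exact ⟨w, hw, hp⟩
    choose r hr using hex
    have := orth_card_le (κ := Fin 24) r (fun p => B *ᵥ r p) (fun p => hnz _ (hr p).1) (by
      intro p q hpq
      have hne : r p ≠ r q := by
        intro he
        apply hpq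
        apply Subtype.ext
        rw [← (hr p).2, ← (hr q).2, he]
      have hne2 : r p ≠ -r q := by
        intro he
        apply hpq
        apply Subtype.ext
        rw [← (hr p).2, ← (hr q).2, he, neg_neg, Finset.pair_comm]
      rcases h _ (hr p).1 _ (hr q).1 hne with h' | h'
      · exact absurd h' hne2
      · exact h')
    rw [Fintype.card_fin] at this
    exact this
  omega

end Cfsg.Agent.Lib.Helper1.EvenLattice48
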