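import Mathlib
import Cfsg.Agent.Lib.Helper1.EvenLattice48

/-!
# Even lattices of rank 24 without roots: the classes of the vectors of norm 8 have 48 members
-/

set_option autoImplicit false

namespace Cfsg.Agent.Lib.Helper1.EvenLattice48

open Matrix

theorem main (B : Matrix (Fin 24) (Fin 24) ℤ) (hsymm : B.IsSymm)
    (hpos : ∀ x : Fin 24 → ℤ, x ≠ 0 → 0 < x ⬝ᵥ (B *ᵥ x))
    (heven : ∀ x : Fin 24 → ℤ, (2 : ℤ) ∣ x ⬝ᵥ (B *ᵥ x))
    (h2 : ∀ x : Fin 24 → ℤ, x ⬝ᵥ (B *ᵥ x) ≠ 2)
    (h4 : {x : Fin 24 → ℤ | x ⬝ᵥ (B *ᵥ x) = 4}.ncard = 196560)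
    (h6 : {x : Fin 24 → ℤ | x ⬝ᵥ (B *ᵥ x) = 6}.ncard = 16773120)
    (h8 : {x : Fin 24 → ℤ | x ⬝ᵥ (B *ᵥ x) = 8}.ncard = 398034000)
    (x : Fin 24 → ℤ) (hx : x ⬝ᵥ (B *ᵥ x) = 8) :
    {y : Fin 24 → ℤ | y ⬝ᵥ (B *ᵥ y) = 8 ∧ ∀ i, (2 : ℤ) ∣ (x - y) i}.ncard = 48 := by
  classical
  have f4 : {x : Fin 24 → ℤ | x ⬝ᵥ (B *ᵥ x) = 4}.Finite :=
    Set.finite_of_ncard_ne_zero (by rw [h4]; norm_num)
  have f6 : {x : Fin 24 → ℤ | x ⬝ᵥ (B *ᵥ x) = 6}.Finite :=
    Set.finite_of_ncard_ne_zero (by rw [h6]; norm_num)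
  have f8 : {x : Fin 24 → ℤ | x ⬝ᵥ (B *ᵥ x) = 8}.Finite :=
    Set.finite_of_ncard_ne_zero (by rw [h8]; norm_num)
  have hcardQ : Fintype.card (Fin 24 → ZMod 2) = 2 ^ 24 := by
    rw [Fintype.card_fun, ZMod.card, Fintype.card_fin]
  obtain ⟨A, hA⟩ : ∃ A : Finset (Fin 24 → ℤ), A = f4.toFinset ∪ f6.toFinset := ⟨_, rfl⟩
  obtain ⟨C, hC⟩ : ∃ C : Finset (Fin 24 → ℤ), C = f8.toFinset := ⟨_, rfl⟩
  have memA : ∀ v, v ∈ A ↔ (v ⬝ᵥ (B *ᵥ v) = 4 ∨ v ⬝ᵥ (B *ᵥ v) = 6) := by
    intro v
    rw [hA, Finset.mem_union, Set.Finite.mem_toFinset, Set.Finite.mem_toFinset]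
    rfl
  have memC : ∀ v, v ∈ C ↔ v ⬝ᵥ (B *ᵥ v) = 8 := by
    intro v
    rw [hC, Set.Finite.mem_toFinset]
    rfl
  have hdis : Disjoint f4.toFinset f6.toFinset := by
    rw [Finset.disjoint_left]
    intro v h1 h2'
    have a : v ⬝ᵥ (B *ᵥ v) = 4 := (Set.Finite.mem_toFinset f4).1 h1
    have b : v ⬝ᵥ (B *ᵥ v) = 6 := (Set.Finite.mem_toFinset f6).1 h2'
    omega
  have cardA : A.card = 16969680 := by
    rw [hA, Finset.card_union_of_disjoint hdis, ← Set.ncard_eq_toFinset_card _ f4,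
      ← Set.ncard_eq_toFinset_card _ f6, h4, h6]
  have cardC : C.card = 398034000 := by
    rw [hC, ← Set.ncard_eq_toFinset_card _ f8, h8]
  have cong : ∀ v w : Fin 24 → ℤ, v ⬝ᵥ (B *ᵥ v) ≤ 8 → w ⬝ᵥ (B *ᵥ w) ≤ 8 → v ≠ w →
      cls v = cls w →
      v = -w ∨ (v ⬝ᵥ (B *ᵥ v) = 8 ∧ w ⬝ᵥ (B *ᵥ w) = 8 ∧ v ⬝ᵥ (B *ᵥ w) = 0) := by
    intro v w hvn hwn hne hc
    exact gcong B hsymm hpos heven h2 v w hvn hwn hne ((cls_eq_iff v w).1 hc)
  have fibA : ∀ q ∈ A.image cls, (A.filter (fun w => cls w = q)).card = 2 := by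
    intro q hq
    obtain ⟨v, hvA, rfl⟩ := Finset.mem_image.1 hq
    have hvn := (memA v).1 hvA
    have hnegA : -v ∈ A := (memA (-v)).2 (by rw [form_neg]; exact hvn)
    have hclsneg : cls (-v) = cls v := by
      rw [cls_eq_iff]
      intro i
      rw [Pi.sub_apply, Pi.neg_apply]
      omega
    have hvne : v ≠ -v := by
      intro h
      have h0 : v = 0 := by
        funext i
        have := congrFun h i
        rw [Pi.neg_apply] at this
        show v i = 0
        omega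
      rw [h0, form_zero] at hvn
      omega
    have hfib : A.filter (fun w => cls w = cls v) = {v, -v} := by
      ext w
      rw [Finset.mem_filter, Finset.mem_insert, Finset.mem_singleton]
      constructor
      · rintro ⟨hwA, hc⟩
        have hwn := (memA w).1 hwA
        by_cases hwv : w = v
        · left; exact hwv
        · right
          rcases cong w v (by omega) (by omega) hwv hc with h | ⟨h1, _, _⟩
          · exact h
          · omega
      · rintro (h | h)
        · rw [h]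
          exact ⟨hvA, rfl⟩
        · rw [h]
          exact ⟨hnegA, hclsneg⟩
    rw [hfib, Finset.card_pair hvne]
  have fibC : ∀ q ∈ C.image cls, (C.filter (fun w => cls w = q)).card ≤ 48 := by
    intro q _
    apply orth_bound B
    · intro w hw
      have := (memC w).1 (Finset.mem_filter.1 hw).1
      rw [this]
      norm_num
    · intro w1 h1 w2 h2' hne
      obtain ⟨hw1, hc1⟩ := Finset.mem_filter.1 h1
      obtain ⟨hw2, hc2⟩ := Finset.mem_filter.1 h2'
      have hn1 := (memC w1).1 hw1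
      have hn2 := (memC w2).1 hw2
      rcases cong w1 w2 (by omega) (by omega) hne (hc1.trans hc2.symm) with h | ⟨_, _, h⟩
      · left; exact h
      · right; exact h
  have hA2 : A.card = 2 * (A.image cls).card := by
    rw [Finset.card_eq_sum_card_image cls A, Finset.sum_const_nat fibA, mul_comm]
  have hC48 : C.card ≤ 48 * (C.image cls).card := Finset.card_le_mul_card_image C 48 fibC
  have h0A : cls 0 ∉ A.image cls := by
    intro h
    obtain ⟨v, hvA, hc⟩ := Finset.mem_image.1 h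
    have hvn := (memA v).1 hvA
    have hv0 : v ≠ 0 := by
      intro h0
      rw [h0, form_zero] at hvn
      omega
    rcases cong v 0 (by omega) (by rw [form_zero]; norm_num) hv0 hc with h | ⟨_, h, _⟩
    · rw [neg_zero] at h
      exact hv0 h
    · rw [form_zero] at h
      norm_num at h
  have h0C : cls 0 ∉ C.image cls := by
    intro h
    obtain ⟨v, hvC, hc⟩ := Finset.mem_image.1 h
    have hvn := (memC v).1 hvC
    have hv0 : v ≠ 0 := by
      intro h0
      rw [h0, form_zero] at hvn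
      omega
    rcases cong v 0 (by omega) (by rw [form_zero]; norm_num) hv0 hc with h | ⟨_, h, _⟩
    · rw [neg_zero] at h
      exact hv0 h
    · rw [form_zero] at h
      norm_num at h
  have hAC : Disjoint (A.image cls) (C.image cls) := by
    rw [Finset.disjoint_left]
    intro q hqA hqC
    obtain ⟨v, hvA, rfl⟩ := Finset.mem_image.1 hqA
    obtain ⟨w, hwC, hc⟩ := Finset.mem_image.1 hqC
    have hvn := (memA v).1 hvA
    have hwn := (memC w).1 hwC
    have hne : v ≠ w := by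
      intro h
      rw [h] at hvn
      omega
    rcases cong v w (by omega) (by omega) hne hc.symm with h | ⟨h, _, _⟩
    · rw [h, form_neg] at hvn
      omega
    · omega
  have hnot : cls 0 ∉ A.image cls ∪ C.image cls := by
    rw [Finset.mem_union]
    rintro (h | h)
    · exact h0A h
    · exact h0C h
  have hI : (insert (cls 0) (A.image cls ∪ C.image cls)).card =
      1 + (A.image cls).card + (C.image cls).card := by
    rw [Finset.card_insert_of_notMem hnot, Finset.card_union_of_disjoint hAC]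
    ring
  have hle : (insert (cls 0) (A.image cls ∪ C.image cls)).card ≤ 2 ^ 24 := by
    rw [← hcardQ]
    exact Finset.card_le_univ _
  have hb : (C.image cls).card = 8292375 := by omega
  have hxC : x ∈ C := (memC x).2 hx
  have hsum : ∑ q ∈ C.image cls, (C.filter (fun w => cls w = q)).card =
      ∑ _q ∈ C.image cls, 48 := by
    rw [← Finset.card_eq_sum_card_image cls C, Finset.sum_const, smul_eq_mul, cardC, hb]
  have hall := (Finset.sum_eq_sum_iff_of_le fibC).1 hsum
  have h48 := hall (cls x) (Finset.mem_image_of_mem cls hxC)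
  have hset : {y : Fin 24 → ℤ | y ⬝ᵥ (B *ᵥ y) = 8 ∧ ∀ i, (2 : ℤ) ∣ (x - y) i} =
      ↑(C.filter (fun w => cls w = cls x)) := by
    ext w
    rw [Finset.mem_coe, Finset.mem_filter, memC, eq_comm (a := cls w), cls_eq_iff]
    rfl
  rw [hset, Set.ncard_coe_finset]
  exact h48

end Cfsg.Agent.Lib.Helper1.EvenLattice48
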