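import Mathlib
import Cfsg.Prelude.Def_Solvable
import Cfsg.Agent.Lib.Helper1.Fitting

set_option autoImplicit false

namespace Cfsg.Agent.Lib.Helper1

open Cfsg

section
variable {G : Type*} [Group G] [Finite G]

/-- the join of the `p`-cores -/
def pCoreSup (G : Type*) [Group G] : Subgroup G := ⨆ p : Nat.Primes, pCore (p : ℕ) G

theorem pCore_le_pCoreSup {p : ℕ} (hp : p.Prime) : pCore p G ≤ pCoreSup G :=
  le_iSup (fun q : Nat.Primes => pCore (q : ℕ) G) ⟨p, hp⟩

theorem pCoreSup_normal : (pCoreSup G).Normal := by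
  unfold pCoreSup
  haveI : ∀ p : Nat.Primes, (pCore (p : ℕ) G).Normal := fun p => pCore_normal _
  infer_instance

/-- a normal nilpotent subgroup lies in the join of the `p`-cores -/
theorem le_pCoreSup_of_nilpotent (N : Subgroup G) (hN : N.Normal) (hnil : Group.IsNilpotent N) :
    N ≤ pCoreSup G := by
  haveI := hN
  haveI := hnil
  rw [← Subgroup.subgroupOf_eq_top]
  apply Subgroup.eq_top_of_card_eq
  apply Nat.dvd_antisymm (Subgroup.card_subgroup_dvd_card _)
  rw [← Nat.factorization_prime_le_iff_dvd Nat.card_pos.ne' Nat.card_pos.ne']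
  intro p hp
  haveI : Fact p.Prime := ⟨hp⟩
  obtain ⟨P⟩ : Nonempty (Sylow p N) := inferInstance
  haveI hPn : (P : Subgroup N).Normal := inferInstance
  haveI hPc : (P : Subgroup N).Characteristic := P.characteristic_of_normal hPn
  have hPG : ((P : Subgroup N).map N.subtype).Normal := inferInstance
  have hle : (P : Subgroup N).map N.subtype ≤ pCoreSup G :=
    le_trans (le_pCore _ hPG (P.isPGroup'.map _)) (pCore_le_pCoreSup hp)
  have hPK : (P : Subgroup N) ≤ (pCoreSup G).subgroupOf N := by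
    intro x hx
    rw [Subgroup.mem_subgroupOf]
    exact hle ⟨x, hx, rfl⟩
  have hdvd := Subgroup.card_dvd_of_le hPK
  rw [P.card_eq_multiplicity] at hdvd
  exact (hp.pow_dvd_iff_le_factorization Nat.card_pos.ne').1 hdvd

theorem pCoreSup_le_fitting : pCoreSup G ≤ fittingSubgroup G := by
  unfold pCoreSup
  apply iSup_le
  intro p
  haveI : Fact (p : ℕ).Prime := ⟨p.2⟩
  unfold fittingSubgroup
  apply le_sSup
  exact ⟨pCore_normal _, (pCore_isPGroup (p := (p : ℕ)) (G := G)).isNilpotent⟩

theorem fitting_eq_pCoreSup : fittingSubgroup G = pCoreSup G := by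
  apply le_antisymm _ pCoreSup_le_fitting
  unfold fittingSubgroup
  apply sSup_le
  rintro N ⟨hN, hnil⟩
  exact le_pCoreSup_of_nilpotent N hN hnil

theorem pCoreSup_le_sup (p : ℕ) [Fact p.Prime] : pCoreSup G ≤ pCore p G ⊔ pPrimeCore p G := by
  unfold pCoreSup
  apply iSup_le
  intro q
  by_cases hq : (q : ℕ) = p
  · rw [hq]; exact le_sup_left
  · apply le_trans _ le_sup_right
    haveI : Fact (q : ℕ).Prime := ⟨q.2⟩
    apply le_pPrimeCore _ (pCore_normal _)
    obtain ⟨k, hk⟩ := IsPGroup.iff_card.1 (pCore_isPGroup (p := (q : ℕ)) (G := G))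
    rw [hk]
    apply Nat.Coprime.pow_left
    exact (Nat.coprime_primes q.2 Fact.out).2 hq

theorem pCoreSup_isNilpotent : Group.IsNilpotent (pCoreSup G) := by
  have q := (Group.isNilpotent_of_finite_tfae (G := pCoreSup G)).out 0 3
  rw [q]
  intro p hp P
  haveI := hp
  haveI : (pCore p G).Normal := pCore_normal p
  haveI : (pPrimeCore p G).Normal := pPrimeCore_normal p
  set Op : Subgroup (pCoreSup G) := (pCore p G).subgroupOf (pCoreSup G) with hOp
  haveI hOpn : Op.Normal := Subgroup.Normal.subgroupOf inferInstance _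
  have hOpp : IsPGroup p Op := (pCore_isPGroup (p := p) (G := G)).comap_subtype
  have hle : Op ≤ P := hOpp.le_sylow_of_normal P
  have hcardOp : Nat.card Op = Nat.card (pCore p G) :=
    Nat.card_congr (Subgroup.subgroupOfEquivOfLe (pCore_le_pCoreSup hp.out)).toEquiv
  -- |P| divides |O_p(G)|
  have h1 : Nat.card (pCoreSup G) ∣ Nat.card (pCore p G) * Nat.card (pPrimeCore p G) := by
    apply dvd_trans (Subgroup.card_dvd_of_le (pCoreSup_le_sup p))
    exact card_sup_dvd_mul _ _
  have h2 : Nat.card (P : Subgroup (pCoreSup G)) ∣ Nat.card (pCoreSup G) :=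
    Subgroup.card_subgroup_dvd_card _
  obtain ⟨k, hk⟩ := IsPGroup.iff_card.1 P.isPGroup'
  have h3 : (Nat.card (P : Subgroup (pCoreSup G))).Coprime (Nat.card (pPrimeCore p G)) := by
    rw [hk]
    apply Nat.Coprime.pow_left
    exact (pPrimeCore_coprime p).symm
  have h4 : Nat.card (P : Subgroup (pCoreSup G)) ∣ Nat.card (pCore p G) :=
    h3.dvd_of_dvd_mul_right (dvd_trans h2 h1)
  have h5 : (P : Subgroup (pCoreSup G)) = Op := by
    symm
    apply Subgroup.eq_of_le_of_card_ge hle
    rw [hcardOp]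
    exact Nat.le_of_dvd Nat.card_pos h4
  rw [h5]
  exact hOpn

end

end Cfsg.Agent.Lib.Helper1
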