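import Mathlib
import Cfsg.Prelude.Def_Solvable

set_option autoImplicit false

namespace Cfsg.Agent.Lib.Helper1.FrobFpf

open scoped Pointwise

/-- A group `H` acting fixed-point-freely on a group `N` is a Frobenius complement in `N ⋊ H`. -/
theorem frobenius_of_fpf {N H : Type} [Group N] [Group H] [Finite N] [Finite H] [Nontrivial N]
    [Nontrivial H] (φ : H →* MulAut N) (hfpf : ∀ h : H, h ≠ 1 → ∀ n : N, φ h n = n → n = 1) :
    ∃ (L : Type) (_ : Group L) (_ : Finite L) (K : Subgroup L),
      Cfsg.IsFrobeniusComplement K ∧ Nonempty (K ≃* H) := by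
  haveI : Finite (N ⋊[φ] H) := Finite.of_equiv (N × H) SemidirectProduct.equivProd.symm
  refine ⟨N ⋊[φ] H, inferInstance, inferInstance,
    (SemidirectProduct.inr : H →* N ⋊[φ] H).range, ?_, ?_⟩
  · have hmem : ∀ g : N ⋊[φ] H, g ∈ (SemidirectProduct.inr : H →* N ⋊[φ] H).range ↔
        g.left = 1 := by
      intro g
      constructor
      · rintro ⟨h, rfl⟩
        rfl
      · intro hg
        refine ⟨g.right, ?_⟩
        ext
        · rw [SemidirectProduct.left_inr, hg]
        · rfl
    refine ⟨?_, ?_, ?_⟩
    · intro h
      obtain ⟨a, ha⟩ := exists_ne (1 : H)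
      have h1 : (SemidirectProduct.inr a : N ⋊[φ] H) ∈
          (SemidirectProduct.inr : H →* N ⋊[φ] H).range := ⟨a, rfl⟩
      rw [h, Subgroup.mem_bot] at h1
      apply ha
      have := congrArg SemidirectProduct.right h1
      exact this
    · intro h
      obtain ⟨n, hn⟩ := exists_ne (1 : N)
      have h1 : (SemidirectProduct.inl n : N ⋊[φ] H) ∈
          (SemidirectProduct.inr : H →* N ⋊[φ] H).range := by rw [h]; exact Subgroup.mem_top _
      rw [hmem] at h1
      exact hn h1
    · intro g hg
      rw [hmem] at hg
      rw [eq_bot_iff]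
      intro x hx
      rw [Subgroup.mem_inf] at hx
      obtain ⟨hx1, hx2⟩ := hx
      rw [Subgroup.mem_pointwise_smul_iff_inv_smul_mem] at hx2
      rw [hmem] at hx1 hx2
      have hx2' : (g⁻¹ * x * g).left = 1 := by
        have : (MulAut.conj g)⁻¹ • x = g⁻¹ * x * g := by
          rw [← map_inv, MulAut.smul_def, MulAut.conj_apply, inv_inv]
        rw [this] at hx2
        exact hx2
      rw [Subgroup.mem_bot]
      -- compute
      have h3 : (g⁻¹ * x * g).left = φ g.right⁻¹ (g.left⁻¹ * φ x.right g.left) := by
        rw [SemidirectProduct.mul_left, SemidirectProduct.mul_left, SemidirectProduct.inv_left,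
          SemidirectProduct.mul_right, SemidirectProduct.inv_right, hx1, map_one, mul_one,
          map_mul, map_mul, MulAut.mul_apply]
      rw [h3] at hx2'
      have h4 : g.left⁻¹ * φ x.right g.left = 1 := by
        have := (φ g.right⁻¹).injective (hx2'.trans (map_one _).symm)
        exact this
      have h5 : φ x.right g.left = g.left := by
        have := congrArg (fun t => g.left * t) h4
        simpa using this
      have h6 : x.right = 1 := by
        by_contra hne
        exact hg (hfpf _ hne _ h5)
      ext
      · rw [hx1]; rfl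
      · rw [h6]; rfl
  · exact ⟨(MonoidHom.ofInjective SemidirectProduct.inr_injective).symm⟩

end Cfsg.Agent.Lib.Helper1.FrobFpf

namespace Cfsg.Agent.Lib.Helper1.FrobFpf

/-- A finite group with a fixed-point-free matrix representation over a finite ring is a
Frobenius complement. -/
theorem frobenius_of_matrix_rep {H : Type} [Group H] [Finite H] [Nontrivial H] {n : Type}
    [Fintype n] [DecidableEq n] [Nonempty n] {R : Type} [CommRing R] [Finite R] [Nontrivial R]
    (f : H →* Matrix n n R)
    (hfpf : ∀ h : H, h ≠ 1 → ∀ v : n → R, (f h).mulVec v = v → v = 0) :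
    ∃ (L : Type) (_ : Group L) (_ : Finite L) (K : Subgroup L),
      Cfsg.IsFrobeniusComplement K ∧ Nonempty (K ≃* H) := by
  have hinv : ∀ (h : H) (v : n → R), (f h⁻¹).mulVec ((f h).mulVec v) = v := by
    intro h v
    rw [Matrix.mulVec_mulVec, ← map_mul, inv_mul_cancel, map_one, Matrix.one_mulVec]
  have hinv' : ∀ (h : H) (v : n → R), (f h).mulVec ((f h⁻¹).mulVec v) = v := by
    intro h v
    rw [Matrix.mulVec_mulVec, ← map_mul, mul_inv_cancel, map_one, Matrix.one_mulVec]
  let φ : H →* MulAut (Multiplicative (n → R)) :=
    { toFun := fun h =>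
        { toFun := fun x => Multiplicative.ofAdd ((f h).mulVec (Multiplicative.toAdd x))
          invFun := fun x => Multiplicative.ofAdd ((f h⁻¹).mulVec (Multiplicative.toAdd x))
          left_inv := by
            intro x
            show Multiplicative.ofAdd ((f h⁻¹).mulVec ((f h).mulVec (Multiplicative.toAdd x))) = x
            rw [hinv]; rfl
          right_inv := by
            intro x
            show Multiplicative.ofAdd ((f h).mulVec ((f h⁻¹).mulVec (Multiplicative.toAdd x))) = x
            rw [hinv']; rfl
          map_mul' := by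
            intro x y
            show Multiplicative.ofAdd ((f h).mulVec (Multiplicative.toAdd x + Multiplicative.toAdd y))
              = Multiplicative.ofAdd ((f h).mulVec (Multiplicative.toAdd x) +
                (f h).mulVec (Multiplicative.toAdd y))
            rw [Matrix.mulVec_add] }
      map_one' := by
        apply MulEquiv.ext
        intro x
        show Multiplicative.ofAdd ((f 1).mulVec (Multiplicative.toAdd x)) = x
        rw [map_one, Matrix.one_mulVec]; rfl
      map_mul' := by
        intro a b
        apply MulEquiv.ext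
        intro x
        show Multiplicative.ofAdd ((f (a * b)).mulVec (Multiplicative.toAdd x)) =
          Multiplicative.ofAdd ((f a).mulVec ((f b).mulVec (Multiplicative.toAdd x)))
        rw [map_mul, Matrix.mulVec_mulVec] }
  haveI : Finite (Multiplicative (n → R)) := Finite.of_equiv (n → R) Multiplicative.ofAdd
  apply frobenius_of_fpf φ
  intro h hh x hx
  have hx' : Multiplicative.ofAdd ((f h).mulVec (Multiplicative.toAdd x)) = x := hx
  have h2 : (f h).mulVec (Multiplicative.toAdd x) = Multiplicative.toAdd x :=
    congrArg Multiplicative.toAdd hx'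
  have h3 := hfpf h hh _ h2
  exact congrArg Multiplicative.ofAdd h3

end Cfsg.Agent.Lib.Helper1.FrobFpf
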