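import Mathlib

set_option autoImplicit false

namespace Cfsg.Agent.Lib.Helper1

open MulAction

/-- In a transitive action of a finite group on a finite nonempty set in which every nonidentity
element fixes at most one point, the number of elements that are trivial or fixed-point-free
equals the degree. -/
theorem card_fixedPointFree_of_transitive {K X : Type*} [Group K] [Finite K] [Finite X]
    [Nonempty X] [MulAction K X] [IsPretransitive K X]
    (h1 : ∀ x : K, x ≠ 1 → ∀ b c : X, x • b = b → x • c = c → b = c) :
    Nat.card {x : K // x = 1 ∨ ∀ b : X, x • b ≠ b} = Nat.card X := by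
  classical
  haveI := Fintype.ofFinite K
  haveI := Fintype.ofFinite X
  haveI : Fintype (orbitRel.Quotient K X) := Fintype.ofFinite _
  have hB := sum_card_fixedBy_eq_card_orbits_mul_card_group K X
  have horb : Fintype.card (orbitRel.Quotient K X) = 1 := by
    obtain ⟨hu⟩ := (pretransitive_iff_unique_quotient_of_nonempty K X).1 inferInstance
    rw [Fintype.card_eq_one_iff_nonempty_unique]
    exact ⟨hu⟩
  rw [horb, one_mul] at hB
  -- split the sum
  have hsplit := Finset.sum_filter_add_sum_filter_not (Finset.univ : Finset K)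
    (fun x : K => x = 1 ∨ ∀ b : X, x • b ≠ b) (fun x => Fintype.card (fixedBy X x))
  rw [hB] at hsplit
  have hs1 : ∑ x ∈ Finset.univ.filter (fun x : K => x = 1 ∨ ∀ b : X, x • b ≠ b),
      Fintype.card (fixedBy X x) = Fintype.card X := by
    rw [Finset.sum_eq_single_of_mem (1 : K)]
    · apply Fintype.card_of_subtype Finset.univ
      intro x
      simp
    · rw [Finset.mem_filter]
      exact ⟨Finset.mem_univ _, Or.inl rfl⟩
    · intro x hx hx1
      rw [Finset.mem_filter] at hx
      rcases hx.2 with h | h
      · exact absurd h hx1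
      · rw [Fintype.card_eq_zero_iff]
        exact ⟨fun b => h b.1 b.2⟩
  have hs2 : ∑ x ∈ Finset.univ.filter (fun x : K => ¬ (x = 1 ∨ ∀ b : X, x • b ≠ b)),
      Fintype.card (fixedBy X x) =
      (Finset.univ.filter (fun x : K => ¬ (x = 1 ∨ ∀ b : X, x • b ≠ b))).card := by
    rw [Finset.card_eq_sum_ones]
    apply Finset.sum_congr rfl
    intro x hx
    rw [Finset.mem_filter] at hx
    have hx2 := hx.2
    push Not at hx2
    obtain ⟨hx1, b, hb⟩ := hx2
    rw [Fintype.card_eq_one_iff]
    refine ⟨⟨b, hb⟩, ?_⟩
    rintro ⟨c, hc⟩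
    apply Subtype.ext
    exact h1 x hx1 c b hc hb
  rw [hs1, hs2] at hsplit
  have hcard := Finset.card_filter_add_card_filter_not (s := (Finset.univ : Finset K))
    (fun x : K => x = 1 ∨ ∀ b : X, x • b ≠ b)
  rw [Finset.card_univ] at hcard
  rw [Nat.card_eq_fintype_card, Nat.card_eq_fintype_card, Fintype.card_subtype]
  omega

end Cfsg.Agent.Lib.Helper1
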