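import Mathlib
import Cfsg.Prelude.Def_Sporadic_a
import Cfsg.Agent.Lib.Helper1.GL23

set_option autoImplicit false

namespace Cfsg.Agent.Lib.Helper1

open Cfsg
open scoped Pointwise

/-- an embedding of `Fin 5` from five distinct points -/
def emb5of (p0 p1 p2 p3 p4 : GolayPt) (h01 : p0 ≠ p1) (h02 : p0 ≠ p2) (h03 : p0 ≠ p3)
    (h04 : p0 ≠ p4) (h12 : p1 ≠ p2) (h13 : p1 ≠ p3) (h14 : p1 ≠ p4) (h23 : p2 ≠ p3)
    (h24 : p2 ≠ p4) (h34 : p3 ≠ p4) : Fin 5 ↪ GolayPt :=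
  ⟨![p0, p1, p2, p3, p4], by
    intro i j hij
    fin_cases i <;> fin_cases j <;> simp_all⟩

/-- five more points of the base dodecad -/
def emb5' : Fin 5 ↪ GolayPt := ⟨fun j => gpt ((![0, 3, 4, 6, 8] : Fin 5 → Fin 24) j), by
  intro i j hij
  have := gpt_bij.injective hij
  revert this
  revert i j
  decide⟩

theorem emb5'_mem (j : Fin 5) : emb5' j ∈ dod0 := by
  show gpt ((![0, 3, 4, 6, 8] : Fin 5 → Fin 24) j) ∈ dod0
  rw [gpt_mem_dod0]
  revert j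
  decide +kernel

theorem emb5'_ne (j : Fin 5) : emb5' j ≠ gpt 1 ∧ emb5' j ≠ gpt 2 := by
  constructor
  · show gpt ((![0, 3, 4, 6, 8] : Fin 5 → Fin 24) j) ≠ gpt 1
    apply gpt_ne
    revert j
    decide
  · show gpt ((![0, 3, 4, 6, 8] : Fin 5 → Fin 24) j) ≠ gpt 2
    apply gpt_ne
    revert j
    decide

/-- all the involutions of `M11` are conjugate to the base involution -/
theorem invol_conj (y : Equiv.Perm GolayPt) (hy : y ∈ M11) (hy2 : ∀ p, y (y p) = p) (hy1 : y ≠ 1) :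
    ∃ k ∈ M11, y = k * x0 * k⁻¹ := by
  classical
  obtain ⟨hy12, hy0⟩ := mem_M11.1 hy
  have h0 : gpt 0 ∈ dod0 := (gpt_mem_dod0 0).2 (by decide +kernel)
  have hd1 : gpt 1 ∈ dod0 := (gpt_mem_dod0 1).2 (by decide +kernel)
  have hd2 : gpt 2 ∈ dod0 := (gpt_mem_dod0 2).2 (by decide +kernel)
  have ex1 : ∃ a ∈ dod0, y a ≠ a := by
    by_contra hcon
    push Not at hcon
    exact hy1 (M12_fix5_eq_one hy12 emb5 emb5_mem (fun j => hcon _ (emb5_mem j)))
  obtain ⟨a, ha, hya⟩ := ex1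
  have ha0 : gpt 0 ≠ a := by
    rintro rfl
    exact hya hy0
  have hb : y a ∈ dod0 := M12_preserves hy12 a ha
  have hb0 : gpt 0 ≠ y a := by
    intro h
    apply ha0
    apply y.injective
    rw [hy0, ← h]
  obtain ⟨g1, hg1, e0, ea, eb⟩ := M12_trans3 (p := gpt 0) (a := a) (b := y a) (p' := gpt 0)
    (a' := gpt 1) (b' := gpt 2) h0 ha hb h0 hd1 hd2 ha0 hb0 (Ne.symm hya)
    (gpt_ne (by decide)) (gpt_ne (by decide)) (gpt_ne (by decide))
  obtain ⟨y', hy'⟩ : ∃ y', y' = g1 * y * g1⁻¹ := ⟨_, rfl⟩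
  have hy'12 : y' ∈ M12 := by
    rw [hy']
    exact mul_mem (mul_mem hg1 hy12) (inv_mem hg1)
  have j0 : g1⁻¹ (gpt 0) = gpt 0 := by rw [Equiv.Perm.inv_eq_iff_eq, e0]
  have j1 : g1⁻¹ (gpt 1) = a := by rw [Equiv.Perm.inv_eq_iff_eq, ea]
  have y'0 : y' (gpt 0) = gpt 0 := by
    rw [hy', Equiv.Perm.mul_apply, Equiv.Perm.mul_apply, j0, hy0, e0]
  have y'1 : y' (gpt 1) = gpt 2 := by
    rw [hy', Equiv.Perm.mul_apply, Equiv.Perm.mul_apply, j1, eb]
  have y'sq : ∀ p, y' (y' p) = p := by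
    intro p
    rw [hy']
    simp only [Equiv.Perm.mul_apply, perm_inv_apply_self, hy2, perm_apply_inv_self]
  have y'2 : y' (gpt 2) = gpt 1 := by rw [← y'1, y'sq]
  have ex2 : ∃ c ∈ dod0, c ≠ gpt 1 ∧ c ≠ gpt 2 ∧ y' c ≠ c := by
    by_contra hcon
    push Not at hcon
    have h1 : y' = 1 := by
      apply M12_fix5_eq_one hy'12 emb5' emb5'_mem
      intro j
      exact hcon _ (emb5'_mem j) (emb5'_ne j).1 (emb5'_ne j).2
    rw [h1] at y'1
    exact gpt_ne (by decide : (1 : Fin 24) ≠ 2) y'1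
  obtain ⟨c, hc, hc1, hc2, hyc⟩ := ex2
  have hd : y' c ∈ dod0 := M12_preserves hy'12 c hc
  have hc0 : gpt 0 ≠ c := by
    rintro rfl
    exact hyc y'0
  have hd0 : gpt 0 ≠ y' c := by
    intro h
    apply hc0
    apply y'.injective
    rw [y'0, ← h]
  have hd1' : gpt 1 ≠ y' c := by
    intro h
    apply hc2
    have h2 := congrArg y' h
    rw [y'1, y'sq] at h2
    exact h2.symm
  have hd2' : gpt 2 ≠ y' c := by
    intro h
    apply hc1
    have h2 := congrArg y' h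
    rw [y'2, y'sq] at h2
    exact h2.symm
  obtain ⟨g2, hg2, hx⟩ := M12_to_base (emb5of (gpt 0) (gpt 1) (gpt 2) c (y' c)
    (gpt_ne (by decide)) (gpt_ne (by decide)) hc0 hd0 (gpt_ne (by decide)) (Ne.symm hc1) hd1'
    (Ne.symm hc2) hd2' (Ne.symm hyc)) (by
      intro j
      fin_cases j
      · exact h0
      · exact hd1
      · exact hd2
      · exact hc
      · exact hd)
  have f0 : g2 (gpt 0) = gpt 0 := hx 0
  have f1 : g2 (gpt 1) = gpt 1 := hx 1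
  have f2 : g2 (gpt 2) = gpt 2 := hx 2
  have f3 : g2 c = gpt 3 := hx 3
  have f4 : g2 (y' c) = gpt 4 := hx 4
  have i0 : g2⁻¹ (gpt 0) = gpt 0 := by rw [Equiv.Perm.inv_eq_iff_eq, f0]
  have i1 : g2⁻¹ (gpt 1) = gpt 1 := by rw [Equiv.Perm.inv_eq_iff_eq, f1]
  have i2 : g2⁻¹ (gpt 2) = gpt 2 := by rw [Equiv.Perm.inv_eq_iff_eq, f2]
  have i3 : g2⁻¹ (gpt 3) = c := by rw [Equiv.Perm.inv_eq_iff_eq, f3]
  have i4 : g2⁻¹ (gpt 4) = y' c := by rw [Equiv.Perm.inv_eq_iff_eq, f4]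
  obtain ⟨y'', hy''⟩ : ∃ y'', y'' = g2 * y' * g2⁻¹ := ⟨_, rfl⟩
  have z0 : y'' (gpt 0) = x0 (gpt 0) := by
    rw [hy'', Equiv.Perm.mul_apply, Equiv.Perm.mul_apply, i0, y'0, f0, x0_0]
  have z1 : y'' (gpt 1) = x0 (gpt 1) := by
    rw [hy'', Equiv.Perm.mul_apply, Equiv.Perm.mul_apply, i1, y'1, f2, x0_1]
  have z2 : y'' (gpt 2) = x0 (gpt 2) := by
    rw [hy'', Equiv.Perm.mul_apply, Equiv.Perm.mul_apply, i2, y'2, f1, x0_2]
  have z3 : y'' (gpt 3) = x0 (gpt 3) := by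
    rw [hy'', Equiv.Perm.mul_apply, Equiv.Perm.mul_apply, i3, f4, x0_3]
  have z4 : y'' (gpt 4) = x0 (gpt 4) := by
    rw [hy'', Equiv.Perm.mul_apply, Equiv.Perm.mul_apply, i4, y'sq, f3, x0_4]
  have hy''12 : y'' ∈ M12 := by
    rw [hy'']
    exact mul_mem (mul_mem hg2 hy'12) (inv_mem hg2)
  have key : x0⁻¹ * y'' = 1 := by
    apply M12_fix5_eq_one (mul_mem (inv_mem x0_mem12) hy''12) emb5 emb5_mem
    intro j
    fin_cases j
    · show (x0⁻¹ * y'') (gpt 0) = gpt 0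
      rw [Equiv.Perm.mul_apply, z0, perm_inv_apply_self]
    · show (x0⁻¹ * y'') (gpt 1) = gpt 1
      rw [Equiv.Perm.mul_apply, z1, perm_inv_apply_self]
    · show (x0⁻¹ * y'') (gpt 2) = gpt 2
      rw [Equiv.Perm.mul_apply, z2, perm_inv_apply_self]
    · show (x0⁻¹ * y'') (gpt 3) = gpt 3
      rw [Equiv.Perm.mul_apply, z3, perm_inv_apply_self]
    · show (x0⁻¹ * y'') (gpt 4) = gpt 4
      rw [Equiv.Perm.mul_apply, z4, perm_inv_apply_self]
  have hfin : y'' = x0 := by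
    calc y'' = x0 * (x0⁻¹ * y'') := by group
      _ = x0 := by rw [key, mul_one]
  have hk12 : g2 * g1 ∈ M12 := mul_mem hg2 hg1
  have hk0 : (g2 * g1) (gpt 0) = gpt 0 := by rw [Equiv.Perm.mul_apply, e0, f0]
  refine ⟨(g2 * g1)⁻¹, inv_mem (mem_M11.2 ⟨hk12, hk0⟩), ?_⟩
  rw [← hfin, hy'', hy']
  group

/-- transport of the isomorphism type along a conjugation, for a subgroup of a subgroup -/
theorem iso_transport2 (K0 : Subgroup (Equiv.Perm GolayPt)) (G : Subgroup M24) (S : Subgroup G)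
    (t : Equiv.Perm GolayPt)
    (hS : (S.map G.subtype).map M24.subtype = K0.map (MulAut.conj t).toMonoidHom) :
    Nonempty (S ≃* K0) := by
  have e1 : K0 ≃* K0.map (MulAut.conj t).toMonoidHom := (MulAut.conj t).subgroupMap K0
  have e2 : K0.map (MulAut.conj t).toMonoidHom ≃* (S.map G.subtype).map M24.subtype :=
    MulEquiv.subgroupCongr hS.symm
  have e3 : S ≃* S.map G.subtype := S.equivMapOfInjective G.subtype G.subtype_injective
  have e4 : S.map G.subtype ≃* (S.map G.subtype).map M24.subtype :=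
    (S.map G.subtype).equivMapOfInjective M24.subtype M24.subtype_injective
  exact ⟨(e3.trans e4).trans (e1.trans e2).symm⟩

theorem mem_C0' {g : Equiv.Perm GolayPt} : g ∈ C0 ↔ g ∈ M11 ∧ x0 * g = g * x0 := by
  unfold C0
  rw [Subgroup.mem_inf, Subgroup.mem_centralizer_iff]
  constructor
  · rintro ⟨h1, h2⟩
    exact ⟨h1, h2 x0 (Set.mem_singleton x0)⟩
  · rintro ⟨h1, h2⟩
    refine ⟨h1, fun h hh => ?_⟩
    rw [Set.mem_singleton_iff] at hh
    rw [hh]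
    exact h2

end Cfsg.Agent.Lib.Helper1
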