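import Mathlib

set_option autoImplicit false

namespace Cfsg.Agent.Lib.Helper1

open Matrix

section
variable {n : Type*} [DecidableEq n] [Fintype n] {R : Type*} [CommRing R]

theorem range_toGL_eq_ker_det :
    (SpecialLinearGroup.toGL : SpecialLinearGroup n R →* GL n R).range =
      (GeneralLinearGroup.det : GL n R →* Rˣ).ker := by
  ext g
  constructor
  · rintro ⟨A, rfl⟩
    rw [MonoidHom.mem_ker]
    exact SpecialLinearGroup.coeToGL_det A
  · intro hg
    rw [MonoidHom.mem_ker] at hg
    have hdet : (g : Matrix n n R).det = 1 := by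
      have := congrArg Units.val hg
      simpa using this
    refine ⟨⟨g, hdet⟩, ?_⟩
    apply Units.ext
    rfl

/-- `|GL_n(R)| = |SL_n(R)| * |Rˣ|` -/
theorem card_GL_eq_card_SL_mul [Nonempty n] [Finite R] :
    Nat.card (GL n R) = Nat.card (SpecialLinearGroup n R) * Nat.card Rˣ := by
  have h1 : Nat.card (SpecialLinearGroup n R) =
      Nat.card (GeneralLinearGroup.det : GL n R →* Rˣ).ker := by
    rw [← range_toGL_eq_ker_det]
    exact Nat.card_congr (MonoidHom.ofInjective SpecialLinearGroup.toGL_injective).toEquiv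
  have h2 : (GeneralLinearGroup.det : GL n R →* Rˣ).ker.index = Nat.card Rˣ := by
    rw [Subgroup.index_ker]
    have : (GeneralLinearGroup.det : GL n R →* Rˣ).range = ⊤ :=
      MonoidHom.range_eq_top.2 GeneralLinearGroup.det_surjective
    rw [this, Subgroup.card_top]
  rw [h1, ← h2, Subgroup.card_mul_index]

end

theorem card_SL_field {F : Type*} [Field F] [Fintype F] (n : ℕ) (hn : 1 ≤ n) :
    (Fintype.card F - 1) * Nat.card (SpecialLinearGroup (Fin n) F) =
      ∏ i : Fin n, (Fintype.card F ^ n - Fintype.card F ^ (i : ℕ)) := by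
  haveI : Nonempty (Fin n) := ⟨⟨0, hn⟩⟩
  rw [← Matrix.card_GL_field, card_GL_eq_card_SL_mul, Nat.card_units,
    Nat.card_eq_fintype_card (α := F), mul_comm]

end Cfsg.Agent.Lib.Helper1

namespace Cfsg.Agent.Lib.Helper1

open Matrix

theorem card_rootsOfUnity_field {F : Type*} [Field F] [Fintype F] (n : ℕ) :
    Nat.card (rootsOfUnity n F) = Nat.gcd n (Fintype.card F - 1) := by
  have h : rootsOfUnity n F = (powMonoidHom n : Fˣ →* Fˣ).ker := by
    ext x
    rw [mem_rootsOfUnity, MonoidHom.mem_ker, powMonoidHom_apply]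
  rw [h, IsCyclic.card_powMonoidHom_ker, Nat.card_units, Nat.card_eq_fintype_card (α := F),
    Nat.gcd_comm]

theorem card_center_SL_field {F : Type*} [Field F] [Fintype F] (n : ℕ) (hn : 1 ≤ n) :
    Nat.card (Subgroup.center (SpecialLinearGroup (Fin n) F)) =
      Nat.gcd n (Fintype.card F - 1) := by
  rw [Nat.card_congr (SpecialLinearGroup.center_equiv_rootsOfUnity (n := Fin n) (R := F)).toEquiv,
    Fintype.card_fin, max_eq_left hn, card_rootsOfUnity_field]

theorem card_PSL_field {F : Type*} [Field F] [Fintype F] (n : ℕ) (hn : 1 ≤ n) :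
    Nat.gcd n (Fintype.card F - 1) * ((Fintype.card F - 1) *
      Nat.card (ProjectiveSpecialLinearGroup (Fin n) F)) =
      ∏ i : Fin n, (Fintype.card F ^ n - Fintype.card F ^ (i : ℕ)) := by
  rw [← card_SL_field n hn, ← card_center_SL_field n hn]
  have := Subgroup.card_eq_card_quotient_mul_card_subgroup
    (Subgroup.center (SpecialLinearGroup (Fin n) F))
  rw [this]
  show _ = _ * (Nat.card (ProjectiveSpecialLinearGroup (Fin n) F) * _)
  ring

end Cfsg.Agent.Lib.Helper1
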