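import Mathlib

set_option autoImplicit false

namespace Cfsg.Agent.Lib.Helper1

open Matrix Matrix.SpecialLinearGroup
open scoped commutatorElement MatrixGroups

section
variable {ι F : Type*} [DecidableEq ι] [Fintype ι] [Field F]

theorem tv_val {i j : ι} (hij : i ≠ j) (b : F) :
    (transvection hij b : SpecialLinearGroup ι F).1 = 1 + single i j b := rfl

/-- `[T_ik(a), T_kj(1)] = T_ij(a)` -/
theorem commutator_transvection {i j k : ι} (hik : i ≠ k) (hkj : k ≠ j) (hij : i ≠ j) (a : F) :
    ⁅(transvection hik a : SpecialLinearGroup ι F), transvection hkj 1⁆ = transvection hij a := by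
  rw [commutatorElement_def, transvection_inv, transvection_inv]
  apply Subtype.ext
  show (transvection hik a : SpecialLinearGroup ι F).1 *
    (transvection hkj 1 : SpecialLinearGroup ι F).1 *
    (transvection hik (-a) : SpecialLinearGroup ι F).1 *
    (transvection hkj (-1) : SpecialLinearGroup ι F).1 =
    (transvection hij a : SpecialLinearGroup ι F).1
  simp only [tv_val]
  simp [mul_add, add_mul, single_mul_single_of_ne, hik.symm, hkj.symm, hij.symm,
    ← single_neg]
  abel

omit [Fintype ι] in
theorem diag_eq_one_add_single {i j : ι} (hij : i ≠ j) (a : F) :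
    (diagonal (fun k ↦ if k = i then a else if k = j then a⁻¹ else 1) : Matrix ι ι F) =
      1 + single i i (a - 1) + single j j (a⁻¹ - 1) := by
  ext r s
  by_cases hrs : r = s
  · subst hrs
    by_cases hri : r = i
    · subst hri
      simp [hij.symm]
    · by_cases hrj : r = j
      · subst hrj
        simp [hri, Ne.symm hri]
      · simp [hri, hrj, Ne.symm hri, Ne.symm hrj]
  · have h1 : ¬ (i = r ∧ i = s) := fun h => hrs (h.1.symm.trans h.2)
    have h2 : ¬ (j = r ∧ j = s) := fun h => hrs (h.1.symm.trans h.2)
    simp [hrs, h1, h2]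

/-- the diagonal matrix `diag(a, a⁻¹)` in positions `i, j` is a product of transvections -/
theorem diag2n_decompose {i j : ι} (hij : i ≠ j) (a : F) (ha : a ≠ 0) :
    (diag2n hij a ha : SpecialLinearGroup ι F) =
      transvection hij a * transvection hij.symm (-a⁻¹) *
      transvection hij a * transvection hij (-1) * transvection hij.symm 1 *
      transvection hij (-1) := by
  apply Subtype.ext
  show (diag2n hij a ha : SpecialLinearGroup ι F).1 =
    (transvection hij a : SpecialLinearGroup ι F).1 *
    (transvection hij.symm (-a⁻¹) : SpecialLinearGroup ι F).1 *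
    (transvection hij a : SpecialLinearGroup ι F).1 *
    (transvection hij (-1) : SpecialLinearGroup ι F).1 *
    (transvection hij.symm 1 : SpecialLinearGroup ι F).1 *
    (transvection hij (-1) : SpecialLinearGroup ι F).1
  rw [diag2n_coe, diag_eq_one_add_single hij]
  simp only [tv_val]
  simp [mul_add, add_mul, single_mul_single_of_ne, hij, hij.symm, ← single_neg,
    mul_inv_cancel₀ ha, inv_mul_cancel₀ ha]
  have e1 : single i i (a - 1) = single i i a - single i i (1 : F) := by
    ext r s; simp [single_apply]; split_ifs <;> simp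
  have e2 : single j j (a⁻¹ - 1) = single j j a⁻¹ - single j j (1 : F) := by
    ext r s; simp [single_apply]; split_ifs <;> simp
  rw [e1, e2]
  abel

/-- `SL_ι(F)` is generated by transvections -/
theorem transvection_induction [Nontrivial ι] (P : SpecialLinearGroup ι F → Prop)
    (htransvec : ∀ (i j : ι) (hij : i ≠ j) (a : F), P (transvection hij a))
    (hmul : ∀ A B, P A → P B → P (A * B)) (M : SpecialLinearGroup ι F) : P M := by
  refine diagonal_transvection_induction' P M (fun i j hij c hc => ?_) htransvec hmul
  rw [diag2n_decompose hij c hc]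
  refine hmul _ _ (hmul _ _ (hmul _ _ (hmul _ _ (hmul _ _ ?_ ?_) ?_) ?_) ?_) ?_
  all_goals exact htransvec _ _ _ _

omit [DecidableEq ι] in
theorem exists_third (h3 : 3 ≤ Fintype.card ι) (i j : ι) : ∃ k : ι, k ≠ i ∧ k ≠ j := by
  classical
  by_contra hcon
  push Not at hcon
  have hsub : (Finset.univ : Finset ι) ⊆ {i, j} := by
    intro k _
    by_cases hk : k = i
    · simp [hk]
    · simp [hcon k hk]
  have := Finset.card_le_card hsub
  have h2 : ({i, j} : Finset ι).card ≤ 2 := Finset.card_le_two
  rw [Finset.card_univ] at this
  omega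

/-- `SL_n(F)` is perfect for `n ≥ 3` -/
theorem SL_commutator_eq_top (h3 : 3 ≤ Fintype.card ι) :
    commutator (SpecialLinearGroup ι F) = ⊤ := by
  haveI : Nontrivial ι := Fintype.one_lt_card_iff_nontrivial.1 (by omega)
  rw [eq_top_iff]
  intro M _
  refine transvection_induction (fun M => M ∈ commutator (SpecialLinearGroup ι F)) ?_
    (fun _ _ => mul_mem) M
  intro i j hij a
  obtain ⟨k, hki, hkj⟩ := exists_third h3 i j
  rw [← commutator_transvection hki.symm hkj hij a]
  exact Subgroup.commutator_mem_commutator (Subgroup.mem_top _) (Subgroup.mem_top _)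

end

end Cfsg.Agent.Lib.Helper1
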