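import Mathlib
import Cfsg.Agent.Lib.Helper1.SLn
import Cfsg.Agent.Lib.Helper1.SLCard

set_option autoImplicit false

namespace Cfsg.Agent.Lib.Helper1

open Matrix Matrix.SpecialLinearGroup
open scoped commutatorElement

section
variable {ι F : Type*} [DecidableEq ι] [Fintype ι] [Field F]

/-- the diagonal matrix with `a` in position `i` as an element of `GL` -/
noncomputable def diagGL (i : ι) (a : F) (ha : a ≠ 0) : GL ι F :=
  ⟨diagonal (fun k => if k = i then a else 1), diagonal (fun k => if k = i then a⁻¹ else 1),
    by
      rw [diagonal_mul_diagonal]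
      ext r s
      by_cases hrs : r = s
      · subst hrs
        by_cases hr : r = i <;> simp [hr, mul_inv_cancel₀ ha]
      · simp [hrs],
    by
      rw [diagonal_mul_diagonal]
      ext r s
      by_cases hrs : r = s
      · subst hrs
        by_cases hr : r = i <;> simp [hr, inv_mul_cancel₀ ha]
      · simp [hrs]⟩

theorem diagGL_conj {i j : ι} (hij : i ≠ j) (a : F) (ha : a ≠ 0) (c : F) :
    diagGL i a ha * toGL (transvection hij c) * (diagGL i a ha)⁻¹ =
      toGL (transvection hij (a * c)) := by
  apply Units.ext
  show diagonal (fun k => if k = i then a else 1) * (1 + single i j c) *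
    diagonal (fun k => if k = i then a⁻¹ else 1) = 1 + single i j (a * c)
  ext r s
  simp only [Matrix.mul_diagonal, Matrix.diagonal_mul, Matrix.add_apply, Matrix.one_apply,
    Matrix.single_apply]
  by_cases hri : r = i
  · subst hri
    by_cases hsj : s = j
    · subst hsj
      simp [hij, hij.symm]
    · by_cases hsr : s = r
      · subst hsr
        simp [Ne.symm hsj, mul_inv_cancel₀ ha]
      · simp [Ne.symm hsj, Ne.symm hsr]
  · by_cases hrs : r = s
    · subst hrs
      simp [hri, Ne.symm hri]
    · simp [Ne.symm hri, hrs]

theorem toGL_transvection_mem_commutator_of_ne_one {i j : ι} (hij : i ≠ j) (a : F) (ha : a ≠ 0)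
    (ha1 : a ≠ 1) (b : F) :
    toGL (transvection hij b) ∈ commutator (GL ι F) := by
  have h1 : a - 1 ≠ 0 := sub_ne_zero.2 ha1
  set c := b / (a - 1) with hc
  have key : ⁅diagGL i a ha, toGL (transvection hij c)⁆ = toGL (transvection hij b) := by
    rw [commutatorElement_def, diagGL_conj hij a ha c, ← map_inv, ← map_mul, transvection_inv,
      ← transvection_add]
    congr 2
    rw [hc]; field_simp; ring
  rw [← key, commutator_def]
  exact Subgroup.commutator_mem_commutator (Subgroup.mem_top _) (Subgroup.mem_top _)

/-- `GL_n(F)' = SL_n(F)` unless `n = 2` and `|F| = 2` -/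
theorem commutator_GL_eq_ker_det (h : Fintype.card ι = 2 → ∃ a : F, a ≠ 0 ∧ a ≠ 1) :
    commutator (GL ι F) = (GeneralLinearGroup.det : GL ι F →* Fˣ).ker := by
  apply le_antisymm
  · exact Abelianization.commutator_subset_ker _
  · rw [← range_toGL_eq_ker_det]
    rintro _ ⟨A, rfl⟩
    rcases Nat.lt_or_ge (Fintype.card ι) 2 with hn | hn
    · haveI : Subsingleton ι := Fintype.card_le_one_iff_subsingleton.1 (by omega)
      rw [Subsingleton.elim A 1, map_one]
      exact one_mem _
    · haveI : Nontrivial ι := Fintype.one_lt_card_iff_nontrivial.1 (by omega)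
      refine transvection_induction (fun A => toGL A ∈ commutator (GL ι F)) ?_
        (fun A B hA hB => by rw [map_mul]; exact mul_mem hA hB) A
      intro i j hij b
      rcases eq_or_lt_of_le hn with h2 | h3
      · obtain ⟨a, ha0, ha1⟩ := h h2.symm
        exact toGL_transvection_mem_commutator_of_ne_one hij a ha0 ha1 b
      · obtain ⟨k, hki, hkj⟩ := exists_third (by omega) i j
        rw [← commutator_transvection hki.symm hkj hij b, map_commutatorElement, commutator_def]
        exact Subgroup.commutator_mem_commutator (Subgroup.mem_top _) (Subgroup.mem_top _)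

end

end Cfsg.Agent.Lib.Helper1
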