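import Mathlib

set_option autoImplicit false

namespace Cfsg.Agent.Lib.Helper1

/-- `∏_{i<n} (q^n - q^i) = q^(n(n-1)/2) * ∏_{i<n} (q^(n-i) - 1)` -/
theorem prod_GL_split (q n : ℕ) :
    ∏ i : Fin n, (q ^ n - q ^ (i : ℕ)) =
      q ^ (n * (n - 1) / 2) * ∏ i : Fin n, (q ^ (n - (i : ℕ)) - 1) := by
  have h1 : ∀ i : Fin n, q ^ n - q ^ (i : ℕ) = q ^ (i : ℕ) * (q ^ (n - (i : ℕ)) - 1) := by
    intro i
    have hi : (i : ℕ) ≤ n := i.2.le
    rw [Nat.mul_sub, mul_one, ← pow_add, Nat.add_sub_cancel' hi]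
  rw [Finset.prod_congr rfl (fun i _ => h1 i), Finset.prod_mul_distrib]
  congr 1
  rw [Finset.prod_pow_eq_pow_sum, Fin.sum_univ_eq_sum_range (fun i => i) n, Finset.sum_range_id]

/-- the order of a Sylow `p`-subgroup from a factorisation of the group order -/
theorem sylow_card_of_card_eq {G : Type*} [Group G] [Finite G] {p : ℕ} [Fact p.Prime]
    (P : Sylow p G) (a m : ℕ) (h : Nat.card G = p ^ a * m) (hm : ¬ p ∣ m) :
    Nat.card P = p ^ a := by
  have hp : p.Prime := Fact.out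
  have hm0 : m ≠ 0 := by
    rintro rfl
    exact hm (dvd_zero p)
  rw [P.card_eq_multiplicity, h, Nat.factorization_mul (pow_ne_zero a hp.ne_zero) hm0,
    hp.factorization_pow, Finsupp.add_apply, Finsupp.single_eq_same,
    Nat.factorization_eq_zero_of_not_dvd hm, add_zero]

theorem not_dvd_prod_sub_one (p f : ℕ) (hp : p.Prime) (hf : 0 < f) (n : ℕ) :
    ¬ p ∣ ∏ i : Fin n, ((p ^ f) ^ (n - (i : ℕ)) - 1) := by
  rw [hp.prime.dvd_finsetProd_iff]
  rintro ⟨i, -, hi⟩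
  have hpos : 0 < n - (i : ℕ) := Nat.sub_pos_of_lt i.2
  have h1 : p ∣ (p ^ f) ^ (n - (i : ℕ)) := by
    rw [← pow_mul]
    exact dvd_pow_self p (Nat.mul_ne_zero hf.ne' hpos.ne')
  have h2 : 1 ≤ (p ^ f) ^ (n - (i : ℕ)) := Nat.one_le_pow _ _ (pow_pos hp.pos f)
  have h3 : p ∣ 1 := by
    have := Nat.dvd_sub h1 hi
    rwa [Nat.sub_sub_self h2] at this
  exact hp.one_lt.ne' (Nat.dvd_one.1 h3)

/-- a Sylow `p`-subgroup of `GL_n(q)` has order `q^(n(n-1)/2)` -/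
theorem card_sylow_GL {F : Type*} [Field F] [Fintype F] (p : ℕ) [Fact p.Prime] [CharP F p]
    (n : ℕ) (P : Sylow p (Matrix.GeneralLinearGroup (Fin n) F)) :
    Nat.card P = Fintype.card F ^ (n * (n - 1) / 2) := by
  obtain ⟨f, hp, hq⟩ := FiniteField.card F p
  have hcard := Matrix.card_GL_field (𝔽 := F) n
  rw [prod_GL_split, hq, ← pow_mul] at hcard
  rw [hq, ← pow_mul]
  exact sylow_card_of_card_eq P _ _ hcard (not_dvd_prod_sub_one p f hp f.pos n)

end Cfsg.Agent.Lib.Helper1
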