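import Mathlib
import Cfsg.Agent.Lib.Helper1.GolayEnum

set_option autoImplicit false

namespace Cfsg.Agent.Lib.Helper1

open Cfsg

/-- puncturing at the extra point -/
def punct (w : GolayPt → ZMod 2) : ZMod 23 → ZMod 2 := fun x => w (some x)

/-- the punctured code -/
def code23 : Set (ZMod 23 → ZMod 2) :=
  {u : ZMod 23 → ZMod 2 | ∃ w ∈ Cfsg.golayCode, ∀ x : ZMod 23, u x = w (some x)}

theorem mem_code23 {u : ZMod 23 → ZMod 2} : u ∈ code23 ↔ ∃ w ∈ golayCode, u = punct w := by
  constructor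
  · rintro ⟨w, hw, h⟩
    exact ⟨w, hw, funext h⟩
  · rintro ⟨w, hw, rfl⟩
    exact ⟨w, hw, fun _ => rfl⟩

/-- embedding of the 23 residues into the 24 indices -/
def emb23 (x : ZMod 23) : Fin 24 := Fin.castSucc (show Fin 23 from x)

theorem gpt_emb23 : ∀ x : ZMod 23, gpt (emb23 x) = some x := by decide

theorem emb23_lt (x : ZMod 23) : (emb23 x).val < 23 := (show Fin 23 from x).isLt

theorem emb23_injective : Function.Injective emb23 := by decide

theorem exists_emb23 : ∀ i : Fin 24, i.val < 23 → ∃ x : ZMod 23, emb23 x = i := by decide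

theorem testBit_mask_mod (w : GolayPt → ZMod 2) (i : Fin 24) :
    (mask w % 2 ^ 23).testBit i = (decide (i.val < 23) && decide (w (gpt i) ≠ 0)) := by
  rw [Nat.testBit_mod_two_pow, mask_testBit]

theorem hammingNorm_punct (w : GolayPt → ZMod 2) :
    hammingNorm (punct w) = popc (mask w % 2 ^ 23) := by
  unfold hammingNorm popc
  apply Finset.card_bij (fun x _ => emb23 x)
  · intro x hx
    rw [Finset.mem_filter] at hx ⊢
    refine ⟨Finset.mem_univ _, ?_⟩
    rw [testBit_mask_mod, gpt_emb23, Bool.and_eq_true, decide_eq_true_iff, decide_eq_true_iff]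
    exact ⟨emb23_lt x, hx.2⟩
  · intro x _ y _ h
    exact emb23_injective h
  · intro i hi
    rw [Finset.mem_filter, testBit_mask_mod, Bool.and_eq_true, decide_eq_true_iff,
      decide_eq_true_iff] at hi
    obtain ⟨x, rfl⟩ := exists_emb23 i hi.2.1
    refine ⟨x, ?_, rfl⟩
    rw [Finset.mem_filter]
    refine ⟨Finset.mem_univ _, ?_⟩
    have := hi.2.2
    rw [gpt_emb23] at this
    exact this

theorem mask_mod_eq_of_punct_eq {w w' : GolayPt → ZMod 2} (h : punct w = punct w') :
    mask w % 2 ^ 23 = mask w' % 2 ^ 23 := by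
  apply Nat.eq_of_testBit_eq
  intro j
  rw [Nat.testBit_mod_two_pow, Nat.testBit_mod_two_pow]
  by_cases hj : j < 23
  · obtain ⟨x, hx⟩ := exists_emb23 ⟨j, by omega⟩ hj
    have e : j = (emb23 x).val := by rw [hx]
    rw [e, mask_testBit, mask_testBit, gpt_emb23]
    have : w (some x) = w' (some x) := congrFun h x
    rw [this]
  · simp [hj]

theorem combo_mod_eq_zero : ∀ a < 64, ∀ b < 64, combo (64 * a + b) % 2 ^ 23 = 0 → 64 * a + b = 0 := by
  decide +kernel

theorem combo_mod_eq_zero' (k : ℕ) (hk : k < 4096) (h : combo k % 2 ^ 23 = 0) : k = 0 := by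
  have := combo_mod_eq_zero (k / 64) (by omega) (k % 64) (by omega)
  rw [Nat.div_add_mod] at this
  exact this h

theorem combo_mod_injOn {m n : ℕ} (hm : m < 4096) (hn : n < 4096)
    (h : combo m % 2 ^ 23 = combo n % 2 ^ 23) : m = n := by
  have h1 : combo (m ^^^ n) % 2 ^ 23 = 0 := by
    rw [combo_xor, Nat.xor_mod_two_pow, h, Nat.xor_self]
  have h2 : m ^^^ n = 0 := combo_mod_eq_zero' _ (Nat.xor_lt_two_pow (n := 12) hm hn) h1
  have : m = (m ^^^ n) ^^^ n := by rw [Nat.xor_assoc, Nat.xor_self, Nat.xor_zero]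
  rw [this, h2, Nat.zero_xor]

/-- the punctured words parametrised by `Fin 4096` -/
noncomputable def word23 (m : Fin 4096) : ZMod 23 → ZMod 2 :=
  punct (codeEquiv m : GolayPt → ZMod 2)

theorem word23_injective : Function.Injective word23 := by
  intro m n h
  have := mask_mod_eq_of_punct_eq h
  rw [mask_codeEquiv, mask_codeEquiv] at this
  exact Fin.ext (combo_mod_injOn m.2 n.2 this)

theorem hammingNorm_word23 (m : Fin 4096) :
    hammingNorm (word23 m) = popc (combo m.val % 2 ^ 23) := by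
  unfold word23
  rw [hammingNorm_punct, mask_codeEquiv]

theorem mem_code23_iff {u : ZMod 23 → ZMod 2} : u ∈ code23 ↔ ∃ m, word23 m = u := by
  rw [mem_code23]
  constructor
  · rintro ⟨w, hw, rfl⟩
    refine ⟨codeEquiv.symm ⟨w, hw⟩, ?_⟩
    unfold word23
    rw [Equiv.apply_symm_apply]
  · rintro ⟨m, rfl⟩
    exact ⟨_, (codeEquiv m).2, rfl⟩

theorem ncard_code23_pred (R : ℕ → Prop) [DecidablePred R] :
    {u : ZMod 23 → ZMod 2 | u ∈ code23 ∧ R (hammingNorm u)}.ncard =
      (Finset.univ.filter (fun m : Fin 4096 => R (popc (combo m.val % 2 ^ 23)))).card := by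
  have hset : {u : ZMod 23 → ZMod 2 | u ∈ code23 ∧ R (hammingNorm u)} =
      word23 '' ((Finset.univ.filter (fun m : Fin 4096 => R (popc (combo m.val % 2 ^ 23))) :
        Finset (Fin 4096)) : Set (Fin 4096)) := by
    ext u
    constructor
    · rintro ⟨hu, hR⟩
      obtain ⟨m, rfl⟩ := mem_code23_iff.1 hu
      refine ⟨m, ?_, rfl⟩
      rw [Finset.mem_coe, Finset.mem_filter]
      refine ⟨Finset.mem_univ _, ?_⟩
      rw [← hammingNorm_word23]
      exact hR
    · rintro ⟨m, hm, rfl⟩
      rw [Finset.mem_coe, Finset.mem_filter] at hm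
      refine ⟨mem_code23_iff.2 ⟨m, rfl⟩, ?_⟩
      show R (hammingNorm (word23 m))
      rw [hammingNorm_word23]
      exact hm.2
  rw [hset, Set.ncard_image_of_injective _ word23_injective, Set.ncard_coe_finset]

theorem ncard_code23 : code23.ncard = 4096 := by
  have h := ncard_code23_pred (fun _ => True)
  have e : {u : ZMod 23 → ZMod 2 | u ∈ code23 ∧ True} = code23 := by
    ext u
    exact ⟨fun h => h.1, fun h => ⟨h, trivial⟩⟩
  rw [e] at h
  rw [h, Finset.filter_true_of_mem (fun _ _ => trivial), Finset.card_univ, Fintype.card_fin]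

theorem min_weight23 : ∀ a < 64, ∀ b < 64, 64 * a + b ≠ 0 →
    7 ≤ popc (combo (64 * a + b) % 2 ^ 23) := by
  decide +kernel

theorem min_weight23' (k : ℕ) (hk : k < 4096) (h : k ≠ 0) : 7 ≤ popc (combo k % 2 ^ 23) := by
  have := min_weight23 (k / 64) (by omega) (k % 64) (by omega)
  rw [Nat.div_add_mod] at this
  exact this h

theorem word23_zero : word23 0 = 0 := by
  have h0 : ((codeEquiv 0 : golayCode) : GolayPt → ZMod 2) = 0 := by
    apply mask_injective
    rw [mask_codeEquiv, mask_zero]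
    exact combo_zero
  unfold word23
  rw [h0]
  rfl

theorem seven_le_of_ne_zero {u : ZMod 23 → ZMod 2} (hu : u ∈ code23) (h0 : u ≠ 0) :
    7 ≤ hammingNorm u := by
  obtain ⟨m, rfl⟩ := mem_code23_iff.1 hu
  rw [hammingNorm_word23]
  apply min_weight23' m.val m.2
  intro hm
  apply h0
  have : m = 0 := Fin.ext hm
  rw [this, word23_zero]

end Cfsg.Agent.Lib.Helper1
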