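import Mathlib
import Cfsg.Agent.Lib.Helper1.GolayEnum
import Cfsg.Agent.S5623
import Cfsg.Agent.S0358
import Cfsg.Agent.S0359
import Cfsg.Agent.S0362

set_option autoImplicit false

namespace Cfsg.Agent.Lib.Helper1

open Cfsg

/-- the indexing of the 24 points -/
noncomputable def gptEquiv : Fin 24 ≃ GolayPt := Equiv.ofBijective gpt gpt_bij

/-- reindexing of binary words -/
noncomputable def reidx : (GolayPt → ZMod 2) ≃ₗ[ZMod 2] (Fin 24 → ZMod 2) :=
  LinearEquiv.funCongrLeft (ZMod 2) (ZMod 2) gptEquiv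

theorem reidx_apply (x : GolayPt → ZMod 2) (i : Fin 24) : reidx x i = x (gptEquiv i) := rfl

theorem hammingNorm_reidx (x : GolayPt → ZMod 2) : hammingNorm (reidx x) = hammingNorm x := by
  unfold hammingNorm
  apply Finset.card_bijective gptEquiv gptEquiv.bijective
  intro i
  rw [Finset.mem_filter, Finset.mem_filter, reidx_apply]
  simp only [Finset.mem_univ, true_and]

/-- the code on `Fin 24` -/
noncomputable def golay24 : Submodule (ZMod 2) (Fin 24 → ZMod 2) :=
  golayCode.map reidx.toLinearMap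

theorem mem_golay24 {u : Fin 24 → ZMod 2} : u ∈ golay24 ↔ ∃ w ∈ golayCode, reidx w = u := by
  unfold golay24
  rw [Submodule.mem_map]
  rfl

theorem reidx_mem_golay24 {w : GolayPt → ZMod 2} : reidx w ∈ golay24 ↔ w ∈ golayCode := by
  rw [mem_golay24]
  constructor
  · rintro ⟨w', hw', h⟩
    rw [← reidx.injective h]
    exact hw'
  · intro h
    exact ⟨w, h, rfl⟩

theorem finrank_golay24 : Module.finrank (ZMod 2) golay24 = 12 := by
  unfold golay24
  rw [LinearEquiv.finrank_map_eq]
  exact Cfsg.Agent.S0358.result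

theorem orth_golay24 : ∀ v ∈ golay24, ∀ w ∈ golay24, ∑ i, v i * w i = 0 := by
  intro v hv w hw
  obtain ⟨v', hv', rfl⟩ := mem_golay24.1 hv
  obtain ⟨w', hw', rfl⟩ := mem_golay24.1 hw
  have := Cfsg.Agent.S0362.result v' w' hv' hw'
  rw [← this]
  exact Equiv.sum_comp gptEquiv (fun p => v' p * w' p)

theorem min_golay24 : ∀ w ∈ golay24, w ≠ 0 → 8 ≤ hammingNorm w := by
  intro w hw h0
  obtain ⟨w', hw', rfl⟩ := mem_golay24.1 hw
  rw [hammingNorm_reidx]
  have hne : w' ≠ 0 := by
    rintro rfl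
    exact h0 (map_zero _)
  have h1 : hammingNorm w' ≠ 0 := by
    rw [Ne, hammingNorm_eq_zero]
    exact hne
  rcases Cfsg.Agent.S0359.result w' hw' with h | h | h | h | h <;> omega

/-- structure of the cosets of the length-24 code -/
theorem golay_coset_structure (w : GolayPt → ZMod 2) :
    ({v : GolayPt → ZMod 2 | hammingNorm v ≤ 4 ∧ w - v ∈ golayCode}.ncard = 1 ∧
      ∃ v : GolayPt → ZMod 2, hammingNorm v ≤ 3 ∧ w - v ∈ golayCode) ∨
    ({v : GolayPt → ZMod 2 | hammingNorm v ≤ 4 ∧ w - v ∈ golayCode}.ncard = 6 ∧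
      (∀ v : GolayPt → ZMod 2, w - v ∈ golayCode → hammingNorm v ≤ 4 → hammingNorm v = 4) ∧
      ∀ v v' : GolayPt → ZMod 2, w - v ∈ golayCode → hammingNorm v ≤ 4 →
        w - v' ∈ golayCode → hammingNorm v' ≤ 4 → v ≠ v' → ∀ p, v p = 0 ∨ v' p = 0) := by
  have himg : reidx '' {v : GolayPt → ZMod 2 | hammingNorm v ≤ 4 ∧ w - v ∈ golayCode} =
      {u : Fin 24 → ZMod 2 | u - reidx w ∈ golay24 ∧ hammingNorm u ≤ 4} := by
    ext u
    constructor
    · rintro ⟨v, ⟨h1, h2⟩, rfl⟩
      refine ⟨?_, by rw [hammingNorm_reidx]; exact h1⟩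
      rw [← map_sub, reidx_mem_golay24]
      have : v - w = -(w - v) := by abel
      rw [this]
      exact Submodule.neg_mem _ h2
    · rintro ⟨h1, h2⟩
      refine ⟨reidx.symm u, ⟨?_, ?_⟩, LinearEquiv.apply_symm_apply _ _⟩
      · rw [← hammingNorm_reidx, LinearEquiv.apply_symm_apply]; exact h2
      · rw [← reidx_mem_golay24, map_sub, LinearEquiv.apply_symm_apply]
        have : reidx w - u = -(u - reidx w) := by abel
        rw [this]
        exact Submodule.neg_mem _ h1
  have hcard : {v : GolayPt → ZMod 2 | hammingNorm v ≤ 4 ∧ w - v ∈ golayCode}.ncard =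
      {u : Fin 24 → ZMod 2 | u - reidx w ∈ golay24 ∧ hammingNorm u ≤ 4}.ncard := by
    rw [← himg, Set.ncard_image_of_injective _ reidx.injective]
  have hmem : ∀ v : GolayPt → ZMod 2, w - v ∈ golayCode → hammingNorm v ≤ 4 →
      reidx v ∈ {u : Fin 24 → ZMod 2 | u - reidx w ∈ golay24 ∧ hammingNorm u ≤ 4} := by
    intro v h1 h2
    rw [← himg]
    exact ⟨v, ⟨h2, h1⟩, rfl⟩
  rcases Cfsg.Agent.S5623.result golay24 finrank_golay24 orth_golay24 min_golay24 (reidx w) with
    ⟨u, hu, hu3⟩ | ⟨h6, hall⟩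
  · left
    refine ⟨?_, reidx.symm u, ?_, ?_⟩
    · rw [hcard, hu, Set.ncard_singleton]
    · rw [← hammingNorm_reidx, LinearEquiv.apply_symm_apply]; exact hu3
    · have hmem : u ∈ {u : Fin 24 → ZMod 2 | u - reidx w ∈ golay24 ∧ hammingNorm u ≤ 4} := by
        rw [hu]; exact Set.mem_singleton u
      rw [← reidx_mem_golay24, map_sub, LinearEquiv.apply_symm_apply]
      have : reidx w - u = -(u - reidx w) := by abel
      rw [this]
      exact Submodule.neg_mem _ hmem.1
  · right
    refine ⟨by rw [hcard]; exact h6, ?_, ?_⟩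
    · intro v h1 h2
      rw [← hammingNorm_reidx]
      exact (hall _ (hmem v h1 h2)).1
    · intro v v' h1 h2 h1' h2' hne p
      have hd := (hall _ (hmem v h1 h2)).2 _ (hmem v' h1' h2') (fun h => hne (reidx.injective h))
      by_contra hcon
      rw [not_or] at hcon
      have e : gptEquiv (gptEquiv.symm p) = p := Equiv.apply_symm_apply _ _
      have m1 : gptEquiv.symm p ∈ Finset.univ.filter (fun i => reidx v i ≠ 0) := by
        rw [Finset.mem_filter, reidx_apply, e]
        exact ⟨Finset.mem_univ _, hcon.1⟩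
      have m2 : gptEquiv.symm p ∈ Finset.univ.filter (fun i => reidx v' i ≠ 0) := by
        rw [Finset.mem_filter, reidx_apply, e]
        exact ⟨Finset.mem_univ _, hcon.2⟩
      exact Finset.disjoint_left.1 hd m1 m2

end Cfsg.Agent.Lib.Helper1
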