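import Mathlib

set_option autoImplicit false

namespace Cfsg.Agent.Lib.Helper1

/-- a normal subgroup whose index is a positive power of two lies in a subgroup of index two -/
theorem exists_index_two_of_normal_index_pow {G : Type*} [Group G] [Finite G]
    (K : Subgroup G) [K.Normal] {a : ℕ} (ha : 0 < a) (hK : K.index = 2 ^ a) :
    ∃ H : Subgroup G, H.index = 2 := by
  haveI : Fact (Nat.Prime 2) := ⟨Nat.prime_two⟩
  have hcard : Nat.card (G ⧸ K) = 2 ^ a := hK
  obtain ⟨b, rfl⟩ : ∃ b, a = b + 1 := ⟨a - 1, by omega⟩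
  have hdvd : 2 ^ b ∣ Nat.card (G ⧸ K) := by
    rw [hcard]; exact pow_dvd_pow 2 (Nat.le_succ b)
  obtain ⟨H', hH'⟩ := Sylow.exists_subgroup_card_pow_prime 2 hdvd
  have hidx : H'.index = 2 := by
    have h1 := H'.card_mul_index
    rw [hH', hcard, pow_succ] at h1
    exact Nat.eq_of_mul_eq_mul_left (by positivity) h1
  refine ⟨H'.comap (QuotientGroup.mk' K), ?_⟩
  rw [Subgroup.index_comap_of_surjective _ (QuotientGroup.mk'_surjective K)]
  exact hidx

/-- a finite group of even order with a cyclic Sylow 2-subgroup has a subgroup of index two -/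
theorem exists_index_two_of_cyclic_sylow {G : Type*} [Group G] [Finite G]
    (heven : Even (Nat.card G)) (T : Sylow 2 G) (hT : IsCyclic (T : Subgroup G)) :
    ∃ H : Subgroup G, H.index = 2 := by
  haveI : Fact (Nat.Prime 2) := ⟨Nat.prime_two⟩
  have hp : (Nat.card G).minFac = 2 := (Nat.minFac_eq_two_iff _).2 (even_iff_two_dvd.1 heven)
  have hcompl := IsCyclic.isComplement' hp hT
  set K := (MonoidHom.transferSylow T (hT.normalizer_le_centralizer hp)).ker with hK
  have hidx : K.index = Nat.card (T : Subgroup G) := by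
    have := hcompl.symm.index_eq_card
    exact this
  obtain ⟨a, ha⟩ := (IsPGroup.iff_card.1 T.isPGroup')
  have ha0 : 0 < a := by
    rcases Nat.eq_zero_or_pos a with h0 | h0
    · exfalso
      rw [h0, pow_zero] at ha
      have h2 : 2 ∣ Nat.card (T : Subgroup G) :=
        T.dvd_card_of_dvd_card (even_iff_two_dvd.1 heven)
      rw [ha] at h2
      exact absurd h2 (by decide)
    · exact h0
  exact exists_index_two_of_normal_index_pow K ha0 (hidx.trans ha)

end Cfsg.Agent.Lib.Helper1
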