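import Mathlib
import Cfsg.Prelude.Def_Transfer

set_option autoImplicit false

namespace Cfsg.Agent.Lib.Helper1

open Cfsg

/-- Burnside's normal `p`-complement theorem in the vocabulary of the statements -/
theorem hasNormalPComplement_of_normalizer_le_centralizer {G : Type*} [Group G] [Finite G]
    {p : ℕ} [Fact p.Prime] (T : Sylow p G)
    (h : Subgroup.normalizer ((T : Subgroup G) : Set G) ≤ Subgroup.centralizer (T : Set G)) :
    HasNormalPComplement p G :=
  ⟨T, (MonoidHom.transferSylow T h).ker, inferInstance,
    MonoidHom.ker_transferSylow_isComplement' T h⟩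

/-- a complement of one Sylow `p`-subgroup is a complement of every Sylow `p`-subgroup -/
theorem isComplement'_sylow_of_isComplement' {G : Type*} [Group G] [Finite G]
    {p : ℕ} [Fact p.Prime] (P₀ P : Sylow p G) (K : Subgroup G)
    (h : K.IsComplement' (P₀ : Subgroup G)) : K.IsComplement' (P : Subgroup G) := by
  have hcard : Nat.card (P : Subgroup G) = Nat.card (P₀ : Subgroup G) := by
    rw [Sylow.card_eq_multiplicity, Sylow.card_eq_multiplicity]
  apply Subgroup.isComplement'_of_coprime
  · rw [hcard]; exact h.card_mul_card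
  · rw [hcard, ← h.index_eq_card]
    obtain ⟨k, hk⟩ := (IsPGroup.iff_card).1 P₀.2
    rw [hk]
    apply Nat.Coprime.pow_right
    rw [Nat.coprime_comm, Nat.Prime.coprime_iff_not_dvd Fact.out]
    exact P₀.not_dvd_index

/-- If no automorphism of prime order `q ≠ p` can act nontrivially on the abelian Sylow
`p`-subgroup `T` (by the fixed point congruence), then `N(T) ≤ C(T)`. -/
theorem normalizer_le_centralizer_of_fixed {G : Type*} [Group G] [Finite G]
    {p : ℕ} [Fact p.Prime] (T : Sylow p G) [IsMulCommutative (T : Subgroup G)]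
    (h : ∀ q : ℕ, q.Prime → q ≠ p → q ∣ Nat.card G → ∀ F : Subgroup (T : Subgroup G),
      Nat.card (T : Subgroup G) ≡ Nat.card F [MOD q] → F = ⊤) :
    Subgroup.normalizer ((T : Subgroup G) : Set G) ≤ Subgroup.centralizer (T : Set G) := by
  set φ := (T : Subgroup G).normalizerMonoidHom with hφ
  have hTN : (T : Subgroup G) ≤ Subgroup.normalizer ((T : Subgroup G) : Set G) :=
    Subgroup.le_normalizer
  have hker : φ.ker = (Subgroup.centralizer ((T : Subgroup G) : Set G)).subgroupOf
      (Subgroup.normalizer ((T : Subgroup G) : Set G)) := Subgroup.normalizerMonoidHom_ker _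
  -- the order of the image divides the index of T
  have hdvd : Nat.card φ.range ∣ (T : Subgroup G).index := by
    rw [← Subgroup.index_ker, hker]
    have h1 : (T : Subgroup G).subgroupOf (Subgroup.normalizer ((T : Subgroup G) : Set G)) ≤
        (Subgroup.centralizer ((T : Subgroup G) : Set G)).subgroupOf
          (Subgroup.normalizer ((T : Subgroup G) : Set G)) := by
      intro x hx
      rw [Subgroup.mem_subgroupOf] at hx ⊢
      exact Subgroup.le_centralizer _ hx
    exact dvd_trans (Subgroup.index_dvd_of_le h1) (Subgroup.relIndex_dvd_index_of_le hTN)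
  have hrange : Nat.card φ.range = 1 := by
    by_contra hne
    obtain ⟨q, hq, hqd⟩ := Nat.exists_prime_and_dvd hne
    haveI := Fact.mk hq
    obtain ⟨α, hα⟩ := exists_prime_orderOf_dvd_card' q hqd
    have hqp : q ≠ p := by
      rintro rfl
      exact T.not_dvd_index (dvd_trans hqd hdvd)
    have hqG : q ∣ Nat.card G :=
      dvd_trans (dvd_trans hqd hdvd) (Subgroup.index_dvd_card _)
    have hα' : orderOf (α : MulAut (T : Subgroup G)) = q := by
      rw [Subgroup.orderOf_coe]; exact hα
    set Z := Subgroup.zpowers (α : MulAut (T : Subgroup G)) with hZ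
    have hZp : IsPGroup q Z := by
      apply IsPGroup.of_card (n := 1)
      rw [Nat.card_zpowers, hα', pow_one]
    have hmod := hZp.card_modEq_card_fixedPoints (T : Subgroup G)
    have hF := h q hq hqp hqG (FixedPoints.subgroup Z (T : Subgroup G)) hmod
    have hα1 : (α : MulAut (T : Subgroup G)) = 1 := by
      ext t
      have ht : t ∈ FixedPoints.subgroup Z (T : Subgroup G) := by rw [hF]; trivial
      have := ht ⟨α, Subgroup.mem_zpowers _⟩
      exact congrArg Subtype.val this
    rw [hα1, orderOf_one] at hα'
    exact hq.one_lt.ne hα'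
  have htop : φ.ker = ⊤ := by
    rw [← Subgroup.index_eq_one, Subgroup.index_ker]; exact hrange
  intro n hn
  have : (⟨n, hn⟩ : Subgroup.normalizer ((T : Subgroup G) : Set G)) ∈ φ.ker := by
    rw [htop]; trivial
  rw [hker, Subgroup.mem_subgroupOf] at this
  exact this

end Cfsg.Agent.Lib.Helper1
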