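import Mathlib
import Cfsg.Prelude.Def_Transfer
import Cfsg.Agent.Lib.Helper1.SylowConj
import Cfsg.Agent.Lib.Helper1.NPC
import Cfsg.Agent.Lib.Helper1.Frob

set_option autoImplicit false

namespace Cfsg.Agent.Lib.Helper1

open Cfsg

section Klein
variable {V : Type*} [Group V] [IsKleinFour V]

/-- every element of a Klein four-group is `1`, `x`, `y` or `x * y` -/
theorem klein_cases {x y : V} (hx : x ≠ 1) (hy : y ≠ 1) (hxy : x ≠ y) (z : V) :
    z = 1 ∨ z = x ∨ z = y ∨ z = x * y := by
  by_cases h1 : z = 1
  · exact Or.inl h1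
  by_cases h2 : z = x
  · exact Or.inr (Or.inl h2)
  by_cases h3 : z = y
  · exact Or.inr (Or.inr (Or.inl h3))
  exact Or.inr (Or.inr (Or.inr (IsKleinFour.eq_mul_of_ne_all hx hy hxy h1 h2 h3)))

theorem klein_exists_pair : ∃ x y : V, x ≠ 1 ∧ y ≠ 1 ∧ x ≠ y := by
  classical
  haveI : Finite V := Nat.finite_of_card_ne_zero (by rw [IsKleinFour.card_four]; norm_num)
  letI : Fintype V := Fintype.ofFinite V
  have hcard : Fintype.card V = 4 := IsKleinFour.card_four'
  haveI : Nontrivial V := Fintype.one_lt_card_iff_nontrivial.1 (by omega)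
  obtain ⟨x, hx⟩ := exists_ne (1 : V)
  have : ({1, x} : Finset V).card < (Finset.univ : Finset V).card := by
    rw [Finset.card_univ, hcard]
    exact lt_of_le_of_lt Finset.card_le_two (by norm_num)
  obtain ⟨y, -, hy⟩ := Finset.exists_mem_notMem_of_card_lt_card this
  simp only [Finset.mem_insert, Finset.mem_singleton, not_or] at hy
  exact ⟨x, y, hx, hy.1, fun h => hy.2 h.symm⟩

/-- an automorphism of odd order of a Klein four-group that fixes a nonidentity element is
trivial -/
theorem klein_aut_eq_one (β : MulAut V) (hodd : Odd (orderOf β)) {x : V} (hx : x ≠ 1)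
    (hfix : β x = x) : β = 1 := by
  obtain ⟨u, v, hu, hv, huv⟩ := klein_exists_pair (V := V)
  -- choose y different from 1 and x
  obtain ⟨y, hy1, hyx⟩ : ∃ y : V, y ≠ 1 ∧ y ≠ x := by
    by_cases h : u = x
    · exact ⟨v, hv, fun h' => huv (h.trans h'.symm)⟩
    · exact ⟨u, hu, h⟩
  have hxy : x ≠ y := fun h => hyx h.symm
  have hall := klein_cases hx hy1 hxy
  have key : ∀ γ : MulAut V, γ x = x → γ y = y → γ = 1 := by
    intro γ h1 h2
    ext z
    rcases hall z with rfl | rfl | rfl | rfl
    · simp
    · simpa using h1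
    · simpa using h2
    · simp [map_mul, h1, h2]
  have hβy : β y = y ∨ β y = x * y := by
    rcases hall (β y) with h | h | h | h
    · exact absurd ((map_eq_one_iff β β.injective).1 h) hy1
    · exfalso
      rw [← hfix] at h
      exact hyx (β.injective h)
    · exact Or.inl h
    · exact Or.inr h
  rcases hβy with h | h
  · exact key β hfix h
  · have h2 : (β ^ 2) y = y := by
      rw [pow_two, MulAut.mul_apply, h, map_mul, hfix, h, ← mul_assoc, IsKleinFour.mul_self,
        one_mul]
    have h1 : (β ^ 2) x = x := by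
      rw [pow_two, MulAut.mul_apply, hfix, hfix]
    have hsq : β ^ 2 = 1 := key _ h1 h2
    have hdvd : orderOf β ∣ 2 := orderOf_dvd_of_pow_eq_one hsq
    have h1' : orderOf β = 1 := by
      rcases (Nat.dvd_prime Nat.prime_two).1 hdvd with h | h
      · exact h
      · exfalso
        rw [h] at hodd
        exact (by decide : ¬ Odd 2) hodd
    exact orderOf_eq_one_iff.1 h1'

end Klein


section Sylow
variable {G : Type*} [Group G] [Finite G]

/-- the order of the image of `N(T) → Aut(T)` divides the index of an abelian Sylow subgroup -/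
theorem card_range_normalizerMonoidHom_dvd {p : ℕ} [Fact p.Prime] (T : Sylow p G)
    [IsMulCommutative (T : Subgroup G)] :
    Nat.card ((T : Subgroup G).normalizerMonoidHom).range ∣ (T : Subgroup G).index := by
  have hTN : (T : Subgroup G) ≤ Subgroup.normalizer ((T : Subgroup G) : Set G) :=
    Subgroup.le_normalizer
  rw [← Subgroup.index_ker, Subgroup.normalizerMonoidHom_ker]
  have h1 : (T : Subgroup G).subgroupOf (Subgroup.normalizer ((T : Subgroup G) : Set G)) ≤
      (Subgroup.centralizer ((T : Subgroup G) : Set G)).subgroupOf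
        (Subgroup.normalizer ((T : Subgroup G) : Set G)) := by
    intro x hx
    rw [Subgroup.mem_subgroupOf] at hx ⊢
    exact Subgroup.le_centralizer _ hx
  exact dvd_trans (Subgroup.index_dvd_of_le h1) (Subgroup.relIndex_dvd_index_of_le hTN)

/-- every involution is conjugate into a Sylow 2-subgroup -/
theorem exists_conj_mem_sylow_of_invol [Fact (Nat.Prime 2)] (P : Sylow 2 G) (t : G)
    (ht : orderOf t = 2) : ∃ g : G, g⁻¹ * t * g ∈ P := by
  have hp : IsPGroup 2 (Subgroup.zpowers t) := by
    apply IsPGroup.of_card (n := 1)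
    rw [Nat.card_zpowers, ht, pow_one]
  obtain ⟨Q, hQ⟩ := hp.exists_le_sylow
  obtain ⟨g, hg⟩ := MulAction.exists_smul_eq G P Q
  refine ⟨g, ?_⟩
  rw [← mem_sylow_smul_iff, hg]
  exact hQ (Subgroup.mem_zpowers t)

/-- with a normal complement, an abelian Sylow subgroup has no fusion -/
theorem eq_of_isConj_of_isComplement' {p : ℕ} [Fact p.Prime] (P : Sylow p G)
    [IsMulCommutative (P : Subgroup G)] (K : Subgroup G) [K.Normal]
    (hK : K.IsComplement' (P : Subgroup G)) {x y : G} (hx : x ∈ P) (hy : y ∈ P)
    (hc : IsConj x y) : x = y := by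
  obtain ⟨g, hg⟩ := isConj_iff.1 hc
  obtain ⟨k, hk, q, hq, rfl⟩ := exists_mul_of_isComplement' hK g
  have hcomm : q * x = x * q := by
    have := mul_comm' (⟨q, hq⟩ : (P : Subgroup G)) ⟨x, hx⟩
    exact congrArg Subtype.val this
  have e1 : y = k * x * k⁻¹ := by
    rw [← hg]
    calc k * q * x * (k * q)⁻¹ = k * (q * x) * q⁻¹ * k⁻¹ := by group
      _ = k * (x * q) * q⁻¹ * k⁻¹ := by rw [hcomm]
      _ = k * x * k⁻¹ := by group
  have h1 : y * x⁻¹ ∈ K := by
    have : y * x⁻¹ = k * (x * k⁻¹ * x⁻¹) := by rw [e1]; group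
    rw [this]
    exact K.mul_mem hk (‹K.Normal›.conj_mem _ (K.inv_mem hk) x)
  have h2 : y * x⁻¹ ∈ (P : Subgroup G) := Subgroup.mul_mem _ hy (Subgroup.inv_mem _ hx)
  have := inf_eq_bot_of_isComplement' hK h1 h2
  exact (mul_inv_eq_one.1 this).symm


/-- the set of classes of involutions -/
def involClasses (G : Type*) [Group G] : Set (ConjClasses G) :=
  {C | ∃ t : G, orderOf t = 2 ∧ ConjClasses.mk t = C}

theorem klein_sylow_dichotomy (P : Sylow 2 G) (hP : IsKleinFour (P : Subgroup G)) :
    ((involClasses G).ncard = 3 ∧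
        ∃ N : Subgroup G, N.Normal ∧ N.IsComplement' (P : Subgroup G)) ∨
      ((involClasses G).ncard = 1 ∧
        ¬ ∃ N : Subgroup G, N.Normal ∧ N.IsComplement' (P : Subgroup G)) := by
  haveI := hP
  haveI : Fact (Nat.Prime 2) := ⟨Nat.prime_two⟩
  haveI : IsMulCommutative (P : Subgroup G) := IsKleinFour.isMulCommutative
  obtain ⟨a', b', ha', hb', hab'⟩ := klein_exists_pair (V := (P : Subgroup G))
  -- nonidentity elements of P are involutions of G
  have hinv : ∀ z : (P : Subgroup G), z ≠ 1 → orderOf (z : G) = 2 := by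
    intro z hz
    rw [Subgroup.orderOf_coe]
    exact orderOf_eq_prime (by rw [pow_two]; exact IsKleinFour.mul_self z) hz
  -- every involution class is represented in P
  have hrep : ∀ t : G, orderOf t = 2 → ∃ z : (P : Subgroup G), z ≠ 1 ∧
      ConjClasses.mk t = ConjClasses.mk (z : G) := by
    intro t ht
    obtain ⟨g, hg⟩ := exists_conj_mem_sylow_of_invol P t ht
    refine ⟨⟨g⁻¹ * t * g, hg⟩, ?_, ?_⟩
    · intro h1
      have h2 : g⁻¹ * t * g = 1 := congrArg Subtype.val h1
      have h3 : t = 1 := by
        have : t = g * (g⁻¹ * t * g) * g⁻¹ := by group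
        rw [this, h2]; group
      rw [h3, orderOf_one] at ht
      omega
    · rw [ConjClasses.mk_eq_mk_iff_isConj, isConj_iff]
      exact ⟨g⁻¹, by simp⟩
  by_cases hN : ∀ n ∈ Subgroup.normalizer ((P : Subgroup G) : Set G), ∀ x ∈ (P : Subgroup G),
      n * x * n⁻¹ = x
  · left
    -- no fusion in P
    have hnofus : ∀ x ∈ (P : Subgroup G), ∀ y ∈ (P : Subgroup G), IsConj x y → x = y := by
      intro x hx y hy hc
      obtain ⟨c, hc⟩ := isConj_iff.1 hc
      have hy' : (c⁻¹)⁻¹ * x * c⁻¹ ∈ P := by rw [inv_inv, hc]; exact hy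
      obtain ⟨n, hn, hnx⟩ := P.conj_eq_normalizer_conj_of_mem x c⁻¹ hx hy'
      rw [inv_inv, hc] at hnx
      have := hN n⁻¹ (Subgroup.inv_mem _ hn) x hx
      rw [inv_inv] at this
      rw [hnx, this]
    have hne : ∀ x y : (P : Subgroup G), x ≠ y →
        ConjClasses.mk (x : G) ≠ ConjClasses.mk (y : G) := by
      intro x y hxy h
      rw [ConjClasses.mk_eq_mk_iff_isConj] at h
      exact hxy (Subtype.ext (hnofus _ x.2 _ y.2 h))
    have hab1 : a' * b' ≠ 1 := by
      intro h
      apply hab'
      have := IsKleinFour.mul_self b'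
      exact mul_right_cancel (h.trans this.symm)
    have haab : a' ≠ a' * b' := by
      intro h
      apply hb'
      have : a' * 1 = a' * b' := by rw [mul_one]; exact h
      exact (mul_left_cancel this).symm
    have hbab : b' ≠ a' * b' := by
      intro h
      apply ha'
      have : 1 * b' = a' * b' := by rw [one_mul]; exact h
      exact (mul_right_cancel this).symm
    constructor
    · rw [Set.ncard_eq_three]
      refine ⟨ConjClasses.mk (a' : G), ConjClasses.mk (b' : G), ConjClasses.mk ((a' * b' : _) : G),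
        hne _ _ hab', hne _ _ haab, hne _ _ hbab, ?_⟩
      ext C
      simp only [involClasses, Set.mem_ofPred_eq, Set.mem_insert_iff, Set.mem_singleton_iff]
      constructor
      · rintro ⟨t, ht, rfl⟩
        obtain ⟨z, hz, hzt⟩ := hrep t ht
        rw [hzt]
        rcases klein_cases ha' hb' hab' z with h | h | h | h
        · exact absurd h hz
        · left; rw [h]
        · right; left; rw [h]
        · right; right; rw [h]
      · rintro (h | h | h)
        · exact ⟨_, hinv a' ha', h.symm⟩
        · exact ⟨_, hinv b' hb', h.symm⟩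
        · exact ⟨_, hinv (a' * b') hab1, h.symm⟩
    · have hNC : Subgroup.normalizer ((P : Subgroup G) : Set G) ≤
          Subgroup.centralizer ((P : Subgroup G) : Set G) := by
        intro n hn
        rw [Subgroup.mem_centralizer_iff]
        intro x hx
        have := hN n hn x hx
        calc x * n = (n * x * n⁻¹) * n := by rw [this]
          _ = n * x := by group
      obtain ⟨P₀, K, hKn, hK⟩ := hasNormalPComplement_of_normalizer_le_centralizer P hNC
      exact ⟨K, hKn, isComplement'_sylow_of_isComplement' P₀ P K hK⟩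
  · right
    push Not at hN
    obtain ⟨n, hn, x, hx, hnx⟩ := hN
    set α : MulAut (P : Subgroup G) := (P : Subgroup G).normalizerMonoidHom ⟨n, hn⟩ with hα
    have hαval : ∀ z : (P : Subgroup G), ((α z : (P : Subgroup G)) : G) = n * z * n⁻¹ := by
      intro z; rfl
    have hα1 : α ≠ 1 := by
      intro h
      apply hnx
      have := hαval ⟨x, hx⟩
      rw [h] at this
      exact this.symm
    have hodd : Odd (orderOf α) := by
      have h1 : orderOf α ∣ Nat.card ((P : Subgroup G).normalizerMonoidHom).range := by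
        have : α ∈ ((P : Subgroup G).normalizerMonoidHom).range := ⟨_, rfl⟩
        have h2 := orderOf_dvd_natCard (⟨α, this⟩ : ((P : Subgroup G).normalizerMonoidHom).range)
        rwa [Subgroup.orderOf_mk] at h2
      have h2 := dvd_trans h1 (card_range_normalizerMonoidHom_dvd P)
      rw [← Nat.not_even_iff_odd]
      intro hev
      exact P.not_dvd_index (dvd_trans hev.two_dvd h2)
    have hα2 : α ^ 2 ≠ 1 := by
      intro h
      have hdvd : orderOf α ∣ 2 := orderOf_dvd_of_pow_eq_one h
      rcases (Nat.dvd_prime Nat.prime_two).1 hdvd with h1 | h1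
      · exact hα1 (orderOf_eq_one_iff.1 h1)
      · rw [h1] at hodd
        exact (by decide : ¬ Odd 2) hodd
    have hodd2 : Odd (orderOf (α ^ 2)) := by
      obtain ⟨k, hk⟩ := orderOf_pow_dvd (x := α) 2
      rw [hk] at hodd
      exact (Nat.odd_mul.1 hodd).1
    have hmove : ∀ z : (P : Subgroup G), z ≠ 1 → α z ≠ z :=
      fun z hz h => hα1 (klein_aut_eq_one α hodd hz h)
    have hmove2 : ∀ z : (P : Subgroup G), z ≠ 1 → (α ^ 2) z ≠ z :=
      fun z hz h => hα2 (klein_aut_eq_one (α ^ 2) hodd2 hz h)
    have hαa1 : α a' ≠ 1 := fun h => ha' ((map_eq_one_iff α α.injective).1 h)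
    have h12 : a' ≠ α a' := fun h => hmove a' ha' h.symm
    have hconj1 : ConjClasses.mk ((α a' : (P : Subgroup G)) : G) = ConjClasses.mk (a' : G) := by
      rw [ConjClasses.mk_eq_mk_iff_isConj, hαval]
      exact (isConj_iff.2 ⟨n, rfl⟩).symm
    have hconj2 : ConjClasses.mk (((a' * α a' : (P : Subgroup G))) : G) =
        ConjClasses.mk (a' : G) := by
      -- the fourth element is α² a'
      have h4 : (α ^ 2) a' = a' * α a' := by
        rcases klein_cases ha' hαa1 h12 ((α ^ 2) a') with h | h | h | h
        · exact absurd ((map_eq_one_iff _ (α ^ 2).injective).1 h) ha'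
        · exact absurd h (hmove2 a' ha')
        · exfalso
          rw [pow_two, MulAut.mul_apply] at h
          exact hmove (α a') hαa1 h
        · exact h
      rw [← h4, pow_two, MulAut.mul_apply, ConjClasses.mk_eq_mk_iff_isConj, hαval, hαval]
      refine (isConj_iff.2 ⟨n * n, ?_⟩).symm
      group
    have hall : ∀ z : (P : Subgroup G), z ≠ 1 →
        ConjClasses.mk (z : G) = ConjClasses.mk (a' : G) := by
      intro z hz
      rcases klein_cases ha' hαa1 h12 z with h | h | h | h
      · exact absurd h hz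
      · rw [h]
      · rw [h]; exact hconj1
      · rw [h]; exact hconj2
    constructor
    · have : involClasses G = {ConjClasses.mk (a' : G)} := by
        ext C
        simp only [involClasses, Set.mem_ofPred_eq, Set.mem_singleton_iff]
        constructor
        · rintro ⟨t, ht, rfl⟩
          obtain ⟨z, hz, hzt⟩ := hrep t ht
          rw [hzt]; exact hall z hz
        · intro h
          exact ⟨_, hinv a' ha', h.symm⟩
      rw [this, Set.ncard_singleton]
    · rintro ⟨K, hKn, hK⟩
      haveI := hKn
      have hc : IsConj (a' : G) ((α a' : (P : Subgroup G)) : G) := by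
        rw [hαval]; exact isConj_iff.2 ⟨n, rfl⟩
      have := eq_of_isConj_of_isComplement' P K hK a'.2 (α a').2 hc
      exact h12 (Subtype.ext this)

end Sylow

end Cfsg.Agent.Lib.Helper1
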