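import Mathlib
import Cfsg.Prelude.Def_Sporadic_a
import Cfsg.Agent.Lib.Helper1.M11Simple
import Cfsg.Agent.S0363

set_option autoImplicit false

namespace Cfsg.Agent.Lib.Helper1

open Cfsg
open scoped Pointwise

/-- words fixing the base dodecad and the points `0, 5, 7, 10` -/
def ws11_3 : List (List ℕ) := [[2, 0, 0, 3, 1, 3, 0, 0, 4, 1, 3, 3, 1, 2, 4],
    [2, 1, 1, 1, 4, 0, 0, 0, 3, 1, 4, 4, 0, 4, 1, 2]]

/-- index condition at level 3 -/
def cond11_3 : Fin 24 → Bool := fun i => decide (i ∈ ([15, 17, 19, 20, 21, 23] : List (Fin 24)))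

theorem lvl11_3 : (∀ w ∈ ws11_3, (∀ i : Fin 24, (combo 1).testBit i = true → (combo 1).testBit (evalT w i) = true) ∧
      ∀ i ∈ ([0, 5, 7, 10] : List (Fin 24)), evalT w i = i) ∧
    ∀ i, cond11_3 i = true → i ∈ bfs (ws11_3.map evalT) 4 [15] := by
  decide +kernel

/-- all the generating words -/
def wsL : List (List ℕ) := ws11_1 ++ ws11_3

/-- the stabilizer of the base dodecad, of the point `0` in it and of the point `5` outside it -/
def L11 : Subgroup (Equiv.Perm GolayPt) := fixL M12 [0, 5]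

theorem mem_L11 {g : Equiv.Perm GolayPt} :
    g ∈ L11 ↔ g ∈ M12 ∧ g (gpt 0) = gpt 0 ∧ g (gpt 5) = gpt 5 := by
  unfold L11
  rw [mem_fixL]
  constructor
  · rintro ⟨h1, h2⟩
    exact ⟨h1, h2 0 (by simp), h2 5 (by simp)⟩
  · rintro ⟨h1, h2, h3⟩
    refine ⟨h1, fun i hi => ?_⟩
    simp only [List.mem_cons, List.not_mem_nil, or_false] at hi
    rcases hi with rfl | rfl
    · exact h2
    · exact h3

theorem card_cond11_0 : (Aset cond11_0).card = 12 := by
  rw [card_Aset]
  decide +kernel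

theorem card_cond11_1 : (Aset cond11_1).card = 11 := by
  rw [card_Aset]
  decide +kernel

theorem card_cond11_2 : (Aset cond11_2).card = 10 := by
  rw [card_Aset]
  decide +kernel

theorem card_cond11_3 : (Aset cond11_3).card = 6 := by
  rw [card_Aset]
  decide +kernel

theorem card_L11_le : 12 * Nat.card L11 ≤ 7920 := by
  have h := lower_step_gen M12 ws11_0 [0] 5 _ cond11_0
    (fun w hw => evalW_mem_M12 w (lvl11_0.1 w hw).1) (fun w hw => (lvl11_0.1 w hw).2) lvl11_0.2
  rw [card_cond11_0] at h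
  have hM : Nat.card (fixL M12 [0]) = 7920 := card_M11
  rw [hM] at h
  exact h

/-- the generated subgroup -/
def KL : Subgroup (Equiv.Perm GolayPt) := Subgroup.closure {g | ∃ w ∈ wsL, g = evalW w}

theorem evalW_mem_KL {w : List ℕ} (hw : w ∈ wsL) : evalW w ∈ KL :=
  Subgroup.subset_closure ⟨w, hw, rfl⟩

theorem ws_subL : (∀ w ∈ ws11_1, w ∈ wsL) ∧ (∀ w ∈ ws11_2, w ∈ wsL) ∧ (∀ w ∈ ws11_3, w ∈ wsL) := by
  decide

theorem wsL_ok : ∀ w ∈ wsL, (∀ i : Fin 24, (combo 1).testBit i = true →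
    (combo 1).testBit (evalT w i) = true) ∧ evalT w 0 = 0 ∧ evalT w 5 = 5 := by
  decide +kernel

theorem KL_le : KL ≤ L11 := by
  unfold KL
  rw [Subgroup.closure_le]
  rintro _ ⟨w, hw, rfl⟩
  rw [SetLike.mem_coe, mem_L11]
  obtain ⟨h1, h2, h3⟩ := wsL_ok w hw
  refine ⟨evalW_mem_M12 w h1, ?_, ?_⟩
  · rw [evalW_table w 0, h2]
  · rw [evalW_table w 5, h3]

theorem card_KL_ge : 660 ≤ Nat.card KL := by
  have h1 := lower_step_gen KL ws11_1 [0, 5] 7 _ cond11_1
    (fun w hw => evalW_mem_KL (ws_subL.1 w hw)) (fun w hw => (lvl11_1.1 w hw).2) lvl11_1.2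
  have h2 := lower_step_gen KL ws11_2 [0, 5, 7] 10 _ cond11_2
    (fun w hw => evalW_mem_KL (ws_subL.2.1 w hw)) (fun w hw => (lvl11_2.1 w hw).2) lvl11_2.2
  have h3 := lower_step_gen KL ws11_3 [0, 5, 7, 10] 15 _ cond11_3
    (fun w hw => evalW_mem_KL (ws_subL.2.2 w hw)) (fun w hw => (lvl11_3.1 w hw).2) lvl11_3.2
  rw [card_cond11_1] at h1
  rw [card_cond11_2] at h2
  rw [card_cond11_3] at h3
  have h7 : 1 ≤ Nat.card (fixL KL ([0, 5, 7, 10] ++ [15])) :=
    Nat.one_le_iff_ne_zero.2 Nat.card_pos.ne'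
  have h0 : Nat.card (fixL KL [0, 5]) ≤ Nat.card KL := by
    apply Subgroup.card_le_of_le
    intro g hg
    exact (mem_fixL.1 hg).1
  simp only [List.nil_append, List.cons_append] at h1 h2 h3 h7
  omega

theorem KL_eq : KL = L11 := by
  apply Subgroup.eq_of_le_of_card_ge KL_le
  have h1 := card_L11_le
  have h2 := card_KL_ge
  omega

theorem card_L11 : Nat.card L11 = 660 := by
  have h1 := card_L11_le
  have h2 := card_KL_ge
  have h3 : Nat.card KL ≤ Nat.card L11 := Subgroup.card_le_of_le KL_le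
  omega

/-- decompositions of the generators into elements of order prime to 40 -/
def certL : List (List ℕ × List (List ℕ × ℕ)) :=
  [([1, 4, 1, 1, 1, 3, 0, 3, 3, 0, 3], [([1, 4, 1, 1, 1, 3, 0, 3, 3, 0, 3], 3)]),
    ([4, 2, 1, 1, 3, 3, 0, 0, 4, 1, 4, 1, 2], [([4, 2, 1, 1, 3, 3, 0, 0, 4, 1, 4, 1, 2], 3)]),
    ([4, 4, 2, 0, 3, 3, 1, 1, 4, 4, 0, 3, 1, 2], [([4, 4, 2, 0, 3, 3, 1, 1, 4, 4, 0, 3, 1, 2], 3)]),
    ([4, 0, 0, 3, 1, 3, 1, 2, 1, 1, 3, 3, 1, 4], [([4, 4, 2, 0, 3, 3, 1, 1, 4, 4, 0, 3, 1, 2], 3), ([2, 0, 4, 1, 3, 3, 0, 0, 4, 4, 1, 2, 3, 3, 4, 0, 0, 3, 1, 3, 1, 2, 1, 1, 3, 3, 1, 4], 3)]),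
    ([2, 0, 0, 3, 1, 3, 0, 0, 4, 1, 3, 3, 1, 2, 4], [([2, 0, 3, 0, 3, 1, 1, 4, 4, 0, 0, 2, 3, 2, 0, 4, 1, 3, 3, 0, 0, 4, 4, 1, 2, 3, 3], 3), ([4, 4, 2, 0, 3, 3, 1, 1, 4, 4, 0, 3, 1, 2, 4, 2, 1, 1, 3, 3, 0, 0, 4, 1, 4, 1, 2, 2, 0, 0, 3, 1, 3, 0, 0, 4, 1, 3, 3, 1, 2, 4], 3)]),
    ([2, 1, 1, 1, 4, 0, 0, 0, 3, 1, 4, 4, 0, 4, 1, 2], [([1, 4, 1, 1, 1, 3, 0, 3, 3, 0, 3], 3), ([4, 1, 4, 4, 1, 4, 0, 0, 0, 3, 0, 2, 1, 1, 1, 4, 0, 0, 0, 3, 1, 4, 4, 0, 4, 1, 2], 11)])]

theorem certL_ok : certOK (fun w => decide ((∀ i : Fin 24, (combo 1).testBit i = true →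
      (combo 1).testBit (evalT w i) = true) ∧ evalT w 0 = 0 ∧ evalT w 5 = 5)) 40 certL ∧
    ∀ w ∈ wsL, ∃ e ∈ certL, e.1 = w := by
  decide +kernel

theorem mem_sL {x : GolayPt} : x ∈ Aset cond11_1 ↔ x ∉ dod0 ∧ x ≠ gpt 5 := by
  rw [mem_Aset]
  constructor
  · rintro ⟨i, hi, rfl⟩
    unfold cond11_1 at hi
    rw [Bool.and_eq_true, Bool.not_eq_true', decide_eq_true_iff] at hi
    refine ⟨?_, ?_⟩
    · rw [gpt_mem_dod0, hi.1]
      simp
    · intro h
      apply hi.2
      rw [gpt_bij.injective h]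
      simp
  · rintro ⟨h1, h2⟩
    obtain ⟨i, rfl⟩ := gpt_bij.surjective x
    refine ⟨i, ?_, rfl⟩
    unfold cond11_1
    rw [Bool.and_eq_true, Bool.not_eq_true', decide_eq_true_iff]
    refine ⟨?_, ?_⟩
    · rw [gpt_mem_dod0] at h1
      simpa using h1
    · intro h
      apply h2
      rw [List.mem_singleton] at h
      rw [h]

/-- octads meeting the base dodecad in the point `0` and one more point -/
def octW : List ℕ := [0, 38, 1044, 1524, 1925, 0, 1286, 0, 941, 285, 0, 0, 1818, 1884, 0, 0, 376, 0, 202, 0, 0, 0, 0, 0]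

theorem octW_ok : ∀ i : Fin 24, (combo 1).testBit i = true → i ≠ 0 →
    popc (combo (octW.getD i.val 0)) = 8 ∧ (combo (octW.getD i.val 0)).testBit i = true ∧
    ∀ j : Fin 24, (combo (octW.getD i.val 0)).testBit j = true → (combo 1).testBit j = true →
      j = 0 ∨ j = i := by
  decide +kernel

theorem L11_faithful (g : Equiv.Perm GolayPt) (hg : g ∈ L11)
    (hfix : ∀ x ∈ Aset cond11_1, g x = x) : g = 1 := by
  classical
  obtain ⟨hg12, hg0, hg5⟩ := mem_L11.1 hg
  have hg24 : g ∈ M24 := (Subgroup.mem_inf.1 hg12).1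
  have hout : ∀ j : Fin 24, (combo 1).testBit j = false → g (gpt j) = gpt j := by
    intro j hj
    by_cases h5 : j = 5
    · rw [h5]
      exact hg5
    · apply hfix
      rw [mem_sL]
      refine ⟨?_, fun h => h5 (gpt_bij.injective h)⟩
      rw [gpt_mem_dod0, hj]
      simp
  have hin : ∀ i : Fin 24, (combo 1).testBit i = true → g (gpt i) = gpt i := by
    intro i hi
    by_cases h0 : i = 0
    · rw [h0]
      exact hg0
    · obtain ⟨h8, hii, hcap⟩ := octW_ok i hi h0
      generalize octW.getD i.val 0 = m at h8 hii hcap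
      have hO : support₂ (wordOf m) ∈ octads :=
        ⟨⟨wordOf m, wordOf_mem m, rfl⟩, by rw [card_support₂, mask_wordOf]; exact h8⟩
      have hgO : g • support₂ (wordOf m) ∈ octads := smul_mem_octads hg24 hO
      have hcard : 5 ≤ (support₂ (wordOf m) \ dod0).card := by
        have h1 : (support₂ (wordOf m) ∩ dod0).card ≤ 2 := by
          have hsub : support₂ (wordOf m) ∩ dod0 ⊆ {gpt 0, gpt i} := by
            intro x hx
            rw [Finset.mem_inter] at hx
            obtain ⟨j, rfl⟩ := gpt_bij.surjective x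
            rcases hcap j ((gpt_mem_support₂_wordOf m j).1 hx.1) ((gpt_mem_dod0 j).1 hx.2) with
              rfl | rfl
            · exact Finset.mem_insert_self _ _
            · exact Finset.mem_insert_of_mem (Finset.mem_singleton_self _)
          exact (Finset.card_le_card hsub).trans Finset.card_le_two
        have h2 : (support₂ (wordOf m) \ dod0).card + (support₂ (wordOf m) ∩ dod0).card =
            (support₂ (wordOf m)).card := Finset.card_sdiff_add_card_inter _ _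
        have h3 : (support₂ (wordOf m)).card = 8 := hO.2
        omega
      obtain ⟨t, ht, htc⟩ := Finset.exists_subset_card_eq hcard
      have htO : t ⊆ support₂ (wordOf m) := fun x hx => (Finset.mem_sdiff.1 (ht hx)).1
      have htgO : t ⊆ g • support₂ (wordOf m) := by
        intro x hx
        have hx' := Finset.mem_sdiff.1 (ht hx)
        obtain ⟨j, rfl⟩ := gpt_bij.surjective x
        have hj : (combo 1).testBit j = false := by
          have h := hx'.2
          rw [gpt_mem_dod0] at h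
          simpa using h
        have h2 : g • gpt j ∈ g • support₂ (wordOf m) := Finset.smul_mem_smul_finset hx'.1
        rw [Equiv.Perm.smul_def, hout j hj] at h2
        exact h2
      have hEq : support₂ (wordOf m) = g • support₂ (wordOf m) :=
        Cfsg.Agent.S0363.octad_unique _ _ hO hgO t htc htO htgO
      have h1 : g (gpt i) ∈ support₂ (wordOf m) := by
        rw [hEq]
        have h2 : g • gpt i ∈ g • support₂ (wordOf m) :=
          Finset.smul_mem_smul_finset ((gpt_mem_support₂_wordOf m i).2 hii)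
        rw [Equiv.Perm.smul_def] at h2
        rw [← hEq]
        rw [← hEq] at h2
        exact h2
      have h2 : g (gpt i) ∈ dod0 := M12_preserves hg12 _ ((gpt_mem_dod0 i).2 hi)
      obtain ⟨j, hj⟩ := gpt_bij.surjective (g (gpt i))
      rw [← hj] at h1 h2
      rcases hcap j ((gpt_mem_support₂_wordOf m j).1 h1) ((gpt_mem_dod0 j).1 h2) with h | h
      · exfalso
        apply h0
        apply gpt_bij.injective
        apply g.injective
        rw [← hj, h, hg0]
      · rw [← hj, h]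
  ext x
  obtain ⟨j, rfl⟩ := gpt_bij.surjective x
  by_cases hj : (combo 1).testBit j = true
  · rw [hin j hj]
    rfl
  · rw [hout j (by simpa using hj)]
    rfl

theorem L11_simple : IsSimpleGroup L11 := by
  haveI : Fact (Nat.Prime 11) := ⟨by norm_num⟩
  apply simple_of_data L11 11 40 484 660 card_L11 (by norm_num) (Aset cond11_1)
  · -- invariance
    intro g hg x hx
    rw [mem_sL] at hx ⊢
    obtain ⟨hg12, hg0, hg5⟩ := mem_L11.1 hg
    refine ⟨?_, ?_⟩
    · intro hcon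
      apply hx.1
      have h := M12_preserves (inv_mem hg12) _ hcon
      rwa [perm_inv_apply_self] at h
    · intro hcon
      apply hx.2
      apply g.injective
      rw [hcon, hg5]
  · exact L11_faithful
  · -- two-transitive
    intro a ha b hb hab c hc d hd hcd
    rw [mem_sL] at ha hb hc hd
    have h5 : gpt 5 ∉ dod0 := by
      rw [gpt_mem_dod0]
      decide +kernel
    obtain ⟨g1, hg1, hx1⟩ := M11_to_base (emb3 (gpt 5) a b (Ne.symm ha.2) (Ne.symm hb.2) hab) (by
      intro j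
      fin_cases j
      · exact h5
      · exact ha.1
      · exact hb.1)
    obtain ⟨g2, hg2, hx2⟩ := M11_to_base (emb3 (gpt 5) c d (Ne.symm hc.2) (Ne.symm hd.2) hcd) (by
      intro j
      fin_cases j
      · exact h5
      · exact hc.1
      · exact hd.1)
    have hm : g2⁻¹ * g1 ∈ M11 := mul_mem (inv_mem hg2) hg1
    refine ⟨g2⁻¹ * g1, mem_L11.2 ⟨(mem_M11.1 hm).1, (mem_M11.1 hm).2, ?_⟩, ?_, ?_⟩
    · have e1 : g1 (gpt 5) = _ := hx1 0
      have e2 : g2 (gpt 5) = _ := hx2 0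
      rw [Equiv.Perm.mul_apply, e1, Equiv.Perm.inv_eq_iff_eq, e2]
    · have e1 : g1 a = _ := hx1 1
      have e2 : g2 c = _ := hx2 1
      rw [Equiv.Perm.mul_apply, e1, Equiv.Perm.inv_eq_iff_eq, e2]
    · have e1 : g1 b = _ := hx1 2
      have e2 : g2 d = _ := hx2 2
      rw [Equiv.Perm.mul_apply, e1, Equiv.Perm.inv_eq_iff_eq, e2]
  · refine ⟨gpt 7, mem_sL.2 ⟨?_, by decide⟩⟩
    rw [gpt_mem_dod0]
    decide +kernel
  · rw [card_cond11_1]
  · intro u hu h11
    rw [card_centralizer_of_order11 u (Subgroup.mem_inf.1 (mem_L11.1 hu).1).1 h11]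
  · norm_num
  · have hsub : KL ≤ Subgroup.closure {g | g ∈ L11 ∧ (orderOf g).Coprime 40} := by
      unfold KL
      rw [Subgroup.closure_le]
      rintro _ ⟨w, hw, rfl⟩
      obtain ⟨e, he, rfl⟩ := certL_ok.2 w hw
      refine gen_of_cert L11 _ 40 ?_ certL certL_ok.1 e he
      intro w hw
      rw [decide_eq_true_iff] at hw
      rw [mem_L11]
      refine ⟨evalW_mem_M12 w hw.1, ?_, ?_⟩
      · rw [evalW_table w 0, hw.2.1]
      · rw [evalW_table w 5, hw.2.2]
    intro g hg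
    rw [← KL_eq] at hg
    exact hsub hg
  · refine ⟨evalW [1, 4, 1, 1, 1, 3, 0, 3, 3, 0, 3], ?_, ?_⟩
    · rw [← KL_eq]
      exact evalW_mem_KL (by decide)
    · intro h1
      have h2 := evalW_table [1, 4, 1, 1, 1, 3, 0, 3, 3, 0, 3] 7
      rw [h1] at h2
      have h3 : (7 : Fin 24) = evalT [1, 4, 1, 1, 1, 3, 0, 3, 3, 0, 3] 7 := gpt_bij.injective h2
      revert h3
      decide +kernel

/-- any dodecad with a point of it and a point outside it is the image of the base configuration -/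
theorem exists_smul_flag2 (d : Finset GolayPt) (hd : d ∈ dodecads) {p q : GolayPt} (hp : p ∈ d)
    (hq : q ∉ d) : ∃ h ∈ M24, h • dod0 = d ∧ h (gpt 0) = p ∧ h (gpt 5) = q := by
  obtain ⟨h, hh, hhd, hhp⟩ := exists_smul_flag d hd hp
  obtain ⟨j, hj⟩ := gpt_bij.surjective (h⁻¹ q)
  have hjD : (combo 1).testBit j = false := by
    by_contra hne
    rw [Bool.not_eq_false] at hne
    apply hq
    rw [← hhd]
    have h1 : gpt j ∈ dod0 := (gpt_mem_dod0 j).2 hne
    rw [hj] at h1
    have h2 : h • (h⁻¹ q) ∈ h • dod0 := Finset.smul_mem_smul_finset h1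
    rwa [Equiv.Perm.smul_def, perm_apply_inv_self] at h2
  have hc : cond11_0 j = true := by
    unfold cond11_0
    rw [hjD]
    simp
  obtain ⟨t, ht, htj⟩ := reach11_0 j hc
  rw [mem_fixL] at ht
  have ht12 := Subgroup.mem_inf.1 ht.1
  have ht0 : t (gpt 0) = gpt 0 := ht.2 0 (by simp)
  refine ⟨h * t, mul_mem hh ht12.1, ?_, ?_, ?_⟩
  · rw [mul_smul, MulAction.mem_stabilizer_iff.1 ht12.2, hhd]
  · rw [Equiv.Perm.mul_apply, ht0, hhp]
  · rw [Equiv.Perm.mul_apply, htj, hj, perm_apply_inv_self]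

/-- transport of the isomorphism type along a conjugation -/
theorem iso_transport (K0 : Subgroup (Equiv.Perm GolayPt)) (S : Subgroup M24)
    (h : Equiv.Perm GolayPt)
    (hS : S.map M24.subtype = K0.map (MulAut.conj h).toMonoidHom) : Nonempty (K0 ≃* S) := by
  have e1 : K0 ≃* K0.map (MulAut.conj h).toMonoidHom := (MulAut.conj h).subgroupMap K0
  have e2 : K0.map (MulAut.conj h).toMonoidHom ≃* S.map M24.subtype :=
    MulEquiv.subgroupCongr hS.symm
  have e3 : S ≃* S.map M24.subtype := S.equivMapOfInjective M24.subtype M24.subtype_injective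
  exact ⟨(e1.trans e2).trans e3.symm⟩

/-- the stabilizer of a dodecad, a point of it and a point outside it, as a conjugate of `L11` -/
theorem stab_eq_conj (d : Finset GolayPt) (p q : GolayPt) (h : Equiv.Perm GolayPt) (hh : h ∈ M24)
    (hhd : h • dod0 = d) (hhp : h (gpt 0) = p) (hhq : h (gpt 5) = q) :
    (MulAction.stabilizer M24 d ⊓ MulAction.stabilizer M24 p ⊓ MulAction.stabilizer M24 q).map
      M24.subtype = L11.map (MulAut.conj h).toMonoidHom := by
  ext g
  rw [mem_map_conj, mem_L11, Subgroup.mem_map]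
  constructor
  · rintro ⟨k, hk, rfl⟩
    rw [Subgroup.mem_inf, Subgroup.mem_inf, MulAction.mem_stabilizer_iff,
      MulAction.mem_stabilizer_iff, MulAction.mem_stabilizer_iff] at hk
    have hkd : (k : Equiv.Perm GolayPt) • d = d := hk.1.1
    have hkp : (k : Equiv.Perm GolayPt) p = p := hk.1.2
    have hkq : (k : Equiv.Perm GolayPt) q = q := hk.2
    show h⁻¹ * (k : Equiv.Perm GolayPt) * h ∈ M12 ∧
      (h⁻¹ * (k : Equiv.Perm GolayPt) * h) (gpt 0) = gpt 0 ∧
      (h⁻¹ * (k : Equiv.Perm GolayPt) * h) (gpt 5) = gpt 5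
    refine ⟨?_, ?_, ?_⟩
    · unfold M12
      rw [Subgroup.mem_inf]
      refine ⟨mul_mem (mul_mem (inv_mem hh) k.2) hh, ?_⟩
      rw [MulAction.mem_stabilizer_iff, mul_smul, mul_smul, hhd, hkd, ← hhd, inv_smul_smul]
    · rw [Equiv.Perm.mul_apply, Equiv.Perm.mul_apply, hhp, hkp, ← hhp, perm_inv_apply_self]
    · rw [Equiv.Perm.mul_apply, Equiv.Perm.mul_apply, hhq, hkq, ← hhq, perm_inv_apply_self]
  · rintro ⟨hgM, hfix0, hfix5⟩
    have hgM24 : g ∈ M24 := by
      have : g = h * (h⁻¹ * g * h) * h⁻¹ := by group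
      rw [this]
      exact mul_mem (mul_mem hh (Subgroup.mem_inf.1 hgM).1) (inv_mem hh)
    refine ⟨⟨g, hgM24⟩, ?_, rfl⟩
    rw [Subgroup.mem_inf, Subgroup.mem_inf, MulAction.mem_stabilizer_iff,
      MulAction.mem_stabilizer_iff, MulAction.mem_stabilizer_iff]
    refine ⟨⟨?_, ?_⟩, ?_⟩
    · show g • d = d
      have h1 : (h⁻¹ * g * h) • dod0 = dod0 :=
        MulAction.mem_stabilizer_iff.1 (Subgroup.mem_inf.1 hgM).2
      rw [mul_smul, mul_smul, hhd, inv_smul_eq_iff, hhd] at h1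
      exact h1
    · show g p = p
      have h1 := hfix0
      rw [Equiv.Perm.mul_apply, Equiv.Perm.mul_apply, hhp, Equiv.Perm.inv_eq_iff_eq, hhp] at h1
      exact h1
    · show g q = q
      have h1 := hfix5
      rw [Equiv.Perm.mul_apply, Equiv.Perm.mul_apply, hhq, Equiv.Perm.inv_eq_iff_eq, hhq] at h1
      exact h1

end Cfsg.Agent.Lib.Helper1
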