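import Mathlib
import Cfsg.Agent.S0394
import Cfsg.Agent.S0361

/-!
# Vectors of sum of squares 48 in the rank-24 lattice

The four families, their membership in the lattice, and the classification.
-/

set_option autoImplicit false

namespace Cfsg.Agent.Lib.Helper1.Leech48

open Cfsg Cfsg.Agent.Lib.Helper1 Cfsg.Agent.Lib.Helper9.LeechTS Cfsg.Agent.S0394

/-- odd vectors: signs from a word `c`, absolute values from `t` -/
def fG (c : GolayPt → ZMod 2) (t : GolayPt → ℤ) : GolayPt → ℤ :=
  fun i => (if c i = 0 then 1 else -1) * t i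

theorem fG_eq (c : GolayPt → ZMod 2) (t : GolayPt → ℤ) (i : GolayPt) :
    fG c t i = t i - 2 * ind (support₂ c) i * t i := by
  unfold fG ind
  have hi : i ∈ support₂ c ↔ c i ≠ 0 := mem_support₂_iff c i
  by_cases h1 : c i = 0
  · have h2 : i ∉ support₂ c := fun h => hi.1 h h1
    rw [if_pos h1, if_neg h2]
    ring
  · have h2 : i ∈ support₂ c := hi.2 h1
    rw [if_neg h1, if_pos h2]
    ring

theorem fG_sq (c : GolayPt → ZMod 2) (t : GolayPt → ℤ) (i : GolayPt) :
    fG c t i ^ 2 = t i ^ 2 := by
  unfold fG
  split_ifs <;> ring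

theorem sqNorm_fG (c : GolayPt → ZMod 2) (t : GolayPt → ℤ) : sqNorm (fG c t) = ∑ i, t i ^ 2 := by
  unfold sqNorm
  exact Finset.sum_congr rfl (fun i _ => fG_sq c t i)

theorem memG {c : GolayPt → ZMod 2} (hc : c ∈ golayCode) {t : GolayPt → ℤ}
    (ht : ∀ i, t i % 4 = 1) (hu : (∑ i, (t i - 1) / 4) % 2 = 1) : fG c t ∈ leechLattice := by
  rw [mem_leechLattice_iff]
  refine ⟨1, fun i => (fG c t i - 1) / 2, ?_, ?_, ?_⟩
  · intro i
    show fG c t i = 1 + 2 * ((fG c t i - 1) / 2)
    have : fG c t i % 2 = 1 := by
      unfold fG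
      have := ht i
      split_ifs <;> omega
    omega
  · have e : ∀ i, fG c t i = 1 + 4 * ((t i - 1) / 4) - 2 * ind (support₂ c) i -
        8 * (ind (support₂ c) i * ((t i - 1) / 4)) := by
      intro i
      rw [fG_eq]
      have h := ht i
      have h2 : t i = 1 + 4 * ((t i - 1) / 4) := by omega
      generalize (t i - 1) / 4 = u at h2 ⊢
      rw [h2]
      ring
    rw [Finset.sum_congr rfl (fun i _ => e i), Finset.sum_sub_distrib, Finset.sum_sub_distrib,
      Finset.sum_add_distrib, ← Finset.mul_sum, ← Finset.mul_sum, ← Finset.mul_sum, sum_ind]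
    simp only [Finset.sum_const, Finset.card_univ, card_golayPt, nsmul_eq_mul, Nat.cast_ofNat,
      mul_one]
    obtain ⟨k, hk⟩ := four_dvd_card_support₂ hc
    rw [hk]
    unfold Int.ModEq
    push_cast
    generalize ∑ i, ind (support₂ c) i * ((t i - 1) / 4) = A
    omega
  · have : wordZ (fun i => (fG c t i - 1) / 2) = c := by
      funext i
      rw [wordZ_apply]
      unfold fG
      have h := ht i
      rcases zmod2_cases (c i) with h1 | h1
      · rw [h1, if_pos rfl, one_mul]
        have : (2 : ℤ) ∣ (t i - 1) / 2 := by omega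
        exact (ZMod.intCast_zmod_eq_zero_iff_dvd _ 2).2 this
      · rw [h1, if_neg (by decide)]
        have h3 : (-1 * t i - 1) / 2 = 1 + 2 * (-(t i + 3) / 4) := by omega
        rw [h3]
        push_cast
        have : (2 : ZMod 2) = 0 := by decide
        rw [this, zero_mul, add_zero]
    rw [this]
    exact hc

/-- the pattern with `-3` on `J` -/
def tJ (J : Finset GolayPt) : GolayPt → ℤ := fun i => if i ∈ J then -3 else 1

/-- the pattern with `5` at `j` -/
def t5 (j : GolayPt) : GolayPt → ℤ := fun i => if i = j then 5 else 1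

theorem tJ_eq (J : Finset GolayPt) (i : GolayPt) : tJ J i = 1 - 4 * ind J i := by
  unfold tJ ind
  split_ifs <;> ring

theorem mem2 {c : GolayPt → ZMod 2} (hc : c ∈ golayCode) {J : Finset GolayPt} (hJ : J.card = 3) :
    fG c (tJ J) ∈ leechLattice ∧ sqNorm (fG c (tJ J)) = 48 := by
  constructor
  · apply memG hc
    · intro i
      unfold tJ
      split_ifs <;> norm_num
    · have : ∀ i, (tJ J i - 1) / 4 = - ind J i := by
        intro i
        rw [tJ_eq]
        omega
      rw [Finset.sum_congr rfl (fun i _ => this i), Finset.sum_neg_distrib, sum_ind, hJ]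
      norm_num
  · rw [sqNorm_fG]
    have : ∀ i, tJ J i ^ 2 = 1 + 8 * ind J i := by
      intro i
      unfold tJ ind
      split_ifs <;> norm_num
    rw [Finset.sum_congr rfl (fun i _ => this i), Finset.sum_add_distrib, ← Finset.mul_sum, sum_ind,
      hJ]
    simp [card_golayPt]

theorem mem4 {c : GolayPt → ZMod 2} (hc : c ∈ golayCode) (j : GolayPt) :
    fG c (t5 j) ∈ leechLattice ∧ sqNorm (fG c (t5 j)) = 48 := by
  constructor
  · apply memG hc
    · intro i
      unfold t5
      split_ifs <;> norm_num
    · have : ∀ i, (t5 j i - 1) / 4 = if i = j then 1 else 0 := by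
        intro i
        unfold t5
        split_ifs <;> norm_num
      rw [Finset.sum_congr rfl (fun i _ => this i), Finset.sum_ite_eq']
      simp
  · rw [sqNorm_fG]
    have : ∀ i, t5 j i ^ 2 = 1 + (if i = j then 24 else 0) := by
      intro i
      unfold t5
      split_ifs <;> norm_num
    rw [Finset.sum_congr rfl (fun i _ => this i), Finset.sum_add_distrib, Finset.sum_ite_eq']
    simp [card_golayPt]

theorem mem1 {D e : Finset GolayPt} (hD : D ∈ dodecads) (he : e ⊆ D) (hev : Even e.card) :
    vecS 2 D e ∈ leechLattice ∧ sqNorm (vecS 2 D e) = 48 := by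
  obtain ⟨⟨w, hw, hwD⟩, h12⟩ := hD
  constructor
  · apply vecS_mem (by norm_num) he
    · have : wordZ (fun i => (2 : ℤ) / 2 * (ind D i - 2 * ind e i)) = w := by
        funext i
        rw [wordZ_apply]
        have hi : i ∈ D ↔ w i ≠ 0 := by
          rw [← hwD]
          exact mem_support₂_iff w i
        unfold ind
        by_cases h1 : i ∈ D
        · have hw1 : w i = 1 := by
            rcases zmod2_cases (w i) with h | h
            · exact absurd h (hi.1 h1)
            · exact h
          rw [if_pos h1, hw1]
          by_cases h2 : i ∈ e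
          · rw [if_pos h2]
            decide
          · rw [if_neg h2]
            decide
        · have hw0 : w i = 0 := by
            by_contra h
            exact h1 (hi.2 h)
          have h2 : i ∉ e := fun h => h1 (he h)
          rw [if_neg h1, if_neg h2, hw0]
          decide
      rw [this]
      exact hw
    · rw [h12]
      obtain ⟨k, hk⟩ := hev
      rw [hk]
      push_cast
      exact ⟨3 - k, by ring⟩
  · rw [sqNorm_vecS he, h12]
    norm_num

end Cfsg.Agent.Lib.Helper1.Leech48
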