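import Mathlib
import Cfsg.Agent.Lib.Helper1.Leech48

/-!
# Vectors of sum of squares 48: the third family and the classification
-/

set_option autoImplicit false

namespace Cfsg.Agent.Lib.Helper1.Leech48

open Cfsg Cfsg.Agent.Lib.Helper1 Cfsg.Agent.Lib.Helper9.LeechTS Cfsg.Agent.S0394

/-- third family: an octad pattern plus one extra coordinate -/
def vec3 (O e : Finset GolayPt) (k : GolayPt) (s : ℤ) : GolayPt → ℤ :=
  fun i => vecS 2 O e i + (if i = k then s else 0)

theorem vecS_vals (T e : Finset GolayPt) (i : GolayPt) :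
    vecS 2 T e i = 0 ∨ vecS 2 T e i = 2 ∨ vecS 2 T e i = -2 := by
  unfold vecS
  split_ifs <;> simp

theorem vecS_zero {T e : Finset GolayPt} (he : e ⊆ T) {k : GolayPt} (hk : k ∉ T) :
    vecS 2 T e k = 0 := by
  unfold vecS
  rw [if_neg (fun h => hk (he h)), if_neg hk]

theorem mem3 {O e : Finset GolayPt} (hO : O ∈ octads) (he : e ⊆ O) (hod : ¬ Even e.card)
    {k : GolayPt} (hk : k ∉ O) {s : ℤ} (hs : s = 4 ∨ s = -4) :
    vec3 O e k s ∈ leechLattice ∧ sqNorm (vec3 O e k s) = 48 := by
  obtain ⟨⟨w, hw, hwO⟩, h8⟩ := hO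
  have hk0 : vecS 2 O e k = 0 := vecS_zero he hk
  constructor
  · rw [mem_leechLattice_iff]
    refine ⟨0, fun i => (ind O i - 2 * ind e i) + (if i = k then s / 2 else 0), ?_, ?_, ?_⟩
    · intro i
      show vecS 2 O e i + (if i = k then s else 0) =
        0 + 2 * ((ind O i - 2 * ind e i) + (if i = k then s / 2 else 0))
      rw [vecS_eq he]
      by_cases hik : i = k
      · rw [if_pos hik, if_pos hik]
        rcases hs with rfl | rfl <;> norm_num <;> ring
      · rw [if_neg hik, if_neg hik]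
        ring
    · have hsum : ∑ i, vec3 O e k s i = 2 * ((O.card : ℤ) - 2 * e.card) + s := by
        unfold vec3
        rw [Finset.sum_add_distrib, sum_vecS he, Finset.sum_ite_eq']
        simp
      rw [hsum, h8]
      unfold Int.ModEq
      have hodd : e.card % 2 = 1 := Nat.odd_iff.1 (Nat.not_even_iff_odd.1 hod)
      rcases hs with rfl | rfl <;> omega
    · have : wordZ (fun i => (ind O i - 2 * ind e i) + (if i = k then s / 2 else 0)) = w := by
        funext i
        rw [wordZ_apply]
        have hi : i ∈ O ↔ w i ≠ 0 := by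
          rw [← hwO]
          exact mem_support₂_iff w i
        unfold ind
        by_cases h1 : i ∈ O
        · have hw1 : w i = 1 := by
            rcases zmod2_cases (w i) with h | h
            · exact absurd h (hi.1 h1)
            · exact h
          have hik : i ≠ k := fun h => hk (h ▸ h1)
          rw [if_pos h1, hw1, if_neg hik]
          by_cases h2 : i ∈ e
          · rw [if_pos h2]
            decide
          · rw [if_neg h2]
            decide
        · have hw0 : w i = 0 := by
            by_contra h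
            exact h1 (hi.2 h)
          have h2 : i ∉ e := fun h => h1 (he h)
          rw [if_neg h1, if_neg h2, hw0]
          by_cases hik : i = k
          · rw [if_pos hik]
            rcases hs with rfl | rfl <;> decide
          · rw [if_neg hik]
            decide
      rw [this]
      exact hw
  · unfold sqNorm
    have h : ∀ i, vec3 O e k s i ^ 2 = vecS 2 O e i ^ 2 + (if i = k then 16 else 0) := by
      intro i
      unfold vec3
      by_cases hik : i = k
      · rw [if_pos hik, if_pos hik, hik, hk0]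
        rcases hs with rfl | rfl <;> norm_num
      · rw [if_neg hik, if_neg hik]
        ring
    rw [Finset.sum_congr rfl (fun i _ => h i), Finset.sum_add_distrib, Finset.sum_ite_eq']
    have h2 := sqNorm_vecS (lam := 2) he
    unfold sqNorm at h2
    rw [h2, h8]
    simp

theorem sq_mod4 (y : ℤ) : y ^ 2 = 4 * (y ^ 2 / 4) + y % 2 := by
  rcases Int.emod_two_eq_zero_or_one y with h | h
  · obtain ⟨k, hk⟩ : ∃ k, y = 2 * k := ⟨y / 2, by omega⟩
    have : y ^ 2 = 4 * k ^ 2 := by rw [hk]; ring
    omega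
  · obtain ⟨k, hk⟩ : ∃ k, y = 2 * k + 1 := ⟨y / 2, by omega⟩
    have : y ^ 2 = 4 * (k ^ 2 + k) + 1 := by rw [hk]; ring
    omega

theorem sq_div4_zero {y : ℤ} (h : y ^ 2 / 4 = 0) : y = 0 ∨ y = 1 ∨ y = -1 := by
  have h0 := sq_nonneg y
  have h1 : y ^ 2 < 4 := by omega
  have h2 : y < 2 := by nlinarith
  have h3 : -2 < y := by nlinarith
  omega

theorem sq_div4_one {y : ℤ} (h : y ^ 2 / 4 = 1) : y = 2 ∨ y = -2 := by
  have h1 : y ^ 2 < 8 := by omega
  have h1' : 4 ≤ y ^ 2 := by omega
  have h2 : y < 3 := by nlinarith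
  have h3 : -3 < y := by nlinarith
  have h4 : y = -2 ∨ y = -1 ∨ y = 0 ∨ y = 1 ∨ y = 2 := by omega
  rcases h4 with rfl | rfl | rfl | rfl | rfl
  · right; rfl
  · norm_num at h1'
  · norm_num at h1'
  · norm_num at h1'
  · left; rfl

theorem sq_ne_17 (y : ℤ) : y ^ 2 ≠ 17 := by
  intro h
  have h1 : y < 5 := by nlinarith
  have h2 : -5 < y := by nlinarith
  have h3 : y = -4 ∨ y = -3 ∨ y = -2 ∨ y = -1 ∨ y = 0 ∨ y = 1 ∨ y = 2 ∨ y = 3 ∨ y = 4 := by omega
  rcases h3 with rfl | rfl | rfl | rfl | rfl | rfl | rfl | rfl | rfl <;> norm_num at h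

theorem sq_eq_25 {y : ℤ} (h : y ^ 2 = 25) : y = 5 ∨ y = -5 := by
  have h2 : (y - 5) * (y + 5) = 0 := by ring_nf; omega
  rcases mul_eq_zero.1 h2 with h3 | h3
  · left; omega
  · right; omega

theorem sum_pm (y : GolayPt → ℤ) (W : Finset GolayPt) (hin : ∀ i ∈ W, y i = 1 ∨ y i = -1) :
    ∑ i ∈ W, y i = (W.card : ℤ) - 2 * ((W.filter (fun i => y i = -1)).card : ℤ) := by
  rw [← Finset.sum_filter_add_sum_filter_not W (fun i => y i = -1)]
  have h2 : ∑ i ∈ W.filter (fun i => y i = -1), y i =
      -((W.filter (fun i => y i = -1)).card : ℤ) := by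
    rw [Finset.sum_congr rfl (fun i hi => (Finset.mem_filter.1 hi).2)]
    simp
  have h3 : ∑ i ∈ W.filter (fun i => ¬ y i = -1), y i =
      ((W.filter (fun i => ¬ y i = -1)).card : ℤ) := by
    rw [Finset.sum_congr rfl (fun i hi => by
      have h := Finset.mem_filter.1 hi
      rcases hin i h.1 with h' | h'
      · exact h'
      · exact absurd h' h.2)]
    simp
  have h4 := Finset.card_filter_add_card_filter_not (s := W) (fun i => y i = -1)
  rw [h2, h3]
  omega

theorem eq_vecS_at (y : GolayPt → ℤ) (W : Finset GolayPt) (i : GolayPt)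
    (hin : i ∈ W → y i = 1 ∨ y i = -1) (hout : i ∉ W → y i = 0) :
    2 * y i = vecS 2 W (W.filter (fun i => y i = -1)) i := by
  unfold vecS
  by_cases hi : i ∈ W
  · rcases hin hi with h | h
    · have hne : i ∉ W.filter (fun i => y i = -1) := by
        intro h'
        have := (Finset.mem_filter.1 h').2
        omega
      rw [if_neg hne, if_pos hi, h]
      rfl
    · have hmem' : i ∈ W.filter (fun i => y i = -1) := Finset.mem_filter.2 ⟨hi, h⟩
      rw [if_pos hmem', h]
      rfl
  · have hne : i ∉ W.filter (fun i => y i = -1) := fun h' => hi (Finset.mem_filter.1 h').1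
    rw [if_neg hne, if_neg hi, hout hi]
    rfl

theorem classify_even48 {x : GolayPt → ℤ} (hx : x ∈ leechLattice) (hn : sqNorm x = 48)
    (h0 : 2 ∣ x none) :
    (∃ D ∈ dodecads, ∃ e ⊆ D, Even e.card ∧ x = vecS 2 D e) ∨
    (∃ O ∈ octads, ∃ e ⊆ O, ¬ Even e.card ∧ ∃ k, k ∉ O ∧ ∃ s : ℤ, (s = 4 ∨ s = -4) ∧
      x = vec3 O e k s) := by
  obtain ⟨hev, hc⟩ := half_word_mem hx h0
  have hxy : ∀ i, x i = 2 * half x i := by
    intro i
    obtain ⟨a, ha⟩ := hev i
    unfold half
    omega
  have hs12 : ∑ i, half x i ^ 2 = 12 := by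
    have := sqNorm_half hev
    omega
  set y := half x with hy
  have hOd : support₂ (wordZ y) = Finset.univ.filter (fun i => y i % 2 = 1) := support₂_wordZ y
  have hmem : ∀ i, i ∈ support₂ (wordZ y) ↔ y i % 2 = 1 := by
    intro i
    rw [hOd, Finset.mem_filter]
    exact ⟨fun h => h.2, fun h => ⟨Finset.mem_univ _, h⟩⟩
  have hw := Cfsg.Agent.S0359.result (wordZ y) hc
  have hw' : hammingNorm (wordZ y) = (support₂ (wordZ y)).card := rfl
  rw [hw'] at hw
  generalize hW : support₂ (wordZ y) = W at hmem hw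
  have hdec : ∑ i, y i ^ 2 = 4 * ∑ i, (y i ^ 2 / 4) + W.card := by
    rw [Finset.mul_sum, ← sum_ind W, ← Finset.sum_add_distrib]
    apply Finset.sum_congr rfl
    intro i _
    have h1 := sq_mod4 (y i)
    have h2 : ind W i = y i % 2 := by
      rcases ind_cases W i with ⟨h3, h4⟩ | ⟨h3, h4⟩
      · rw [h4]
        have := (hmem i).1 h3
        omega
      · rw [h4]
        have := (hmem i).not.1 h3
        omega
    rw [h2]
    exact h1
  have hq0 : ∀ i, 0 ≤ y i ^ 2 / 4 := fun i => Int.ediv_nonneg (sq_nonneg _) (by norm_num)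
  have hQ0 : 0 ≤ ∑ i, y i ^ 2 / 4 := Finset.sum_nonneg (fun i _ => hq0 i)
  have hsx : ∑ i, x i = 2 * ∑ i, y i := by
    rw [Finset.mul_sum]
    exact Finset.sum_congr rfl (fun i _ => hxy i)
  have hx0 : x none = 2 * y none := hxy none
  have hsum := leech_sum hx
  have hcard : W.card = 12 ∨ W.card = 8 ∨ W.card = 0 := by omega
  rcases hcard with h12 | h8 | h00
  · left
    have hQ : ∑ i, y i ^ 2 / 4 = 0 := by omega
    have hq : ∀ i, y i ^ 2 / 4 = 0 := fun i =>
      (Finset.sum_eq_zero_iff_of_nonneg (fun i _ => hq0 i)).1 hQ i (Finset.mem_univ _)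
    have hin : ∀ i ∈ W, y i = 1 ∨ y i = -1 := by
      intro i hi
      have h1 := (hmem i).1 hi
      rcases sq_div4_zero (hq i) with h | h | h
      · omega
      · left; exact h
      · right; exact h
    have hout : ∀ i, i ∉ W → y i = 0 := by
      intro i hi
      have h1 := (hmem i).not.1 hi
      rcases sq_div4_zero (hq i) with h | h | h
      · exact h
      · omega
      · omega
    refine ⟨W, ⟨⟨wordZ y, hc, hW⟩, h12⟩, W.filter (fun i => y i = -1), Finset.filter_subset _ _,
      ?_, ?_⟩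
    · have h1 : ∑ i, y i = ∑ i ∈ W, y i := by
        symm
        apply Finset.sum_subset (Finset.subset_univ _)
        intro i _ hi
        exact hout i hi
      have hsy := sum_pm y W hin
      rw [← Int.even_coe_nat, even_iff_two_dvd]
      omega
    · funext i
      rw [hxy i]
      exact eq_vecS_at y W i (hin i) (hout i)
  · right
    have hQ : ∑ i, y i ^ 2 / 4 = 1 := by omega
    obtain ⟨k, _, hk1, hk0⟩ := sum_one Finset.univ (fun i => y i ^ 2 / 4) (fun i _ => hq0 i) hQ
    have hyk : y k = 2 ∨ y k = -2 := sq_div4_one hk1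
    have hkW : k ∉ W := by
      intro h
      have := (hmem k).1 h
      omega
    have hq : ∀ i, i ≠ k → y i ^ 2 / 4 = 0 := fun i hik => hk0 i (Finset.mem_univ _) hik
    have hin : ∀ i ∈ W, y i = 1 ∨ y i = -1 := by
      intro i hi
      have h1 := (hmem i).1 hi
      have hik : i ≠ k := fun h => hkW (h ▸ hi)
      rcases sq_div4_zero (hq i hik) with h | h | h
      · omega
      · left; exact h
      · right; exact h
    have hout : ∀ i, i ∉ W → i ≠ k → y i = 0 := by
      intro i hi hik
      have h1 := (hmem i).not.1 hi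
      rcases sq_div4_zero (hq i hik) with h | h | h
      · exact h
      · omega
      · omega
    refine ⟨W, ⟨⟨wordZ y, hc, hW⟩, h8⟩, W.filter (fun i => y i = -1), Finset.filter_subset _ _,
      ?_, k, hkW, 2 * y k, ?_, ?_⟩
    · have h1 : ∑ i, y i = ∑ i ∈ W, y i + y k := by
        rw [← Finset.sum_add_sum_compl W y]
        congr 1
        rw [Finset.sum_eq_single k]
        · intro i hi hik
          exact hout i (Finset.mem_compl.1 hi) hik
        · intro h
          exact absurd (Finset.mem_compl.2 hkW) h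
      have hsy := sum_pm y W hin
      rw [← Int.even_coe_nat, even_iff_two_dvd]
      omega
    · omega
    · funext i
      unfold vec3
      by_cases hik : i = k
      · rw [if_pos hik, hik, vecS_zero (Finset.filter_subset _ _) hkW, zero_add]
        exact hxy k
      · rw [if_neg hik, add_zero, hxy i]
        exact eq_vecS_at y W i (hin i) (fun hi => hout i hi hik)
  · exfalso
    have hall : ∀ i, y i % 2 = 0 := by
      intro i
      have : i ∉ W := by
        rw [Finset.card_eq_zero.1 h00]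
        exact Finset.notMem_empty i
      have h2 := (hmem i).not.1 this
      omega
    have h8 : ∀ i, (8 : ℤ) ∣ y i ^ 2 - 2 * y i := by
      intro i
      obtain ⟨z, hz⟩ : ∃ z, y i = 2 * z := ⟨y i / 2, by have := hall i; omega⟩
      have h2 : (2 : ℤ) ∣ (z - 1) * (z - 1 + 1) := (Int.even_mul_succ_self (z - 1)).two_dvd
      obtain ⟨t, ht⟩ := h2
      exact ⟨t, by rw [hz]; linear_combination 4 * ht⟩
    have hd : (8 : ℤ) ∣ ∑ i, (y i ^ 2 - 2 * y i) := Finset.dvd_sum (fun i _ => h8 i)
    rw [Finset.sum_sub_distrib, ← Finset.mul_sum, hs12] at hd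
    omega

theorem cast_vals5 : (((5 - 1 : ℤ) / 2 : ℤ) : ZMod 2) = 0 ∧ (((-5 - 1 : ℤ) / 2 : ℤ) : ZMod 2) ≠ 0 := by
  decide

theorem fG_at (x t : GolayPt → ℤ) (i : GolayPt)
    (h : (x i = t i ∧ (((x i - 1) / 2 : ℤ) : ZMod 2) = 0) ∨
      (x i = - t i ∧ (((x i - 1) / 2 : ℤ) : ZMod 2) ≠ 0)) :
    x i = fG (wordZ (halfO x)) t i := by
  unfold fG
  rw [wordZ_apply]
  unfold halfO
  rcases h with ⟨h1, h2⟩ | ⟨h1, h2⟩
  · rw [if_pos h2, one_mul]
    exact h1
  · rw [if_neg h2, h1]
    ring

theorem classify_odd48 {x : GolayPt → ℤ} (hx : x ∈ leechLattice) (hn : sqNorm x = 48)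
    (h0 : ¬ 2 ∣ x none) :
    (∃ c ∈ golayCode, ∃ J : Finset GolayPt, J.card = 3 ∧ x = fG c (tJ J)) ∨
    (∃ c ∈ golayCode, ∃ j, x = fG c (t5 j)) := by
  obtain ⟨hod, hc⟩ := halfO_word_mem hx h0
  have h8 : ∀ i, (8 : ℤ) ∣ x i ^ 2 - 1 := by
    intro i
    have := hod i
    obtain ⟨k, hk⟩ : ∃ k, x i = 2 * k + 1 := ⟨(x i - 1) / 2, by omega⟩
    rw [hk]
    have h2 : (2 : ℤ) ∣ k * (k + 1) := (Int.even_mul_succ_self k).two_dvd
    obtain ⟨t, ht⟩ := h2
    exact ⟨t, by nlinarith⟩
  obtain ⟨g, hg⟩ : ∃ g : GolayPt → ℤ, ∀ i, x i ^ 2 = 1 + 8 * g i :=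
    ⟨fun i => (x i ^ 2 - 1) / 8, fun i => by
      obtain ⟨t, ht⟩ := h8 i
      show x i ^ 2 = 1 + 8 * ((x i ^ 2 - 1) / 8)
      omega⟩
  have hnn : ∀ i, 0 ≤ g i := by
    intro i
    have : x i ≠ 0 := by
      intro h
      have := hod i
      rw [h] at this
      exact this (dvd_zero _)
    have := one_le_sq this
    have := hg i
    omega
  have hsum : ∑ i, g i = 3 := by
    have h1 : ∑ i, x i ^ 2 = ∑ i, (1 + 8 * g i) := Finset.sum_congr rfl (fun i _ => hg i)
    rw [Finset.sum_add_distrib, ← Finset.mul_sum] at h1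
    unfold sqNorm at hn
    rw [hn] at h1
    simp only [Finset.sum_const, Finset.card_univ, card_golayPt, nsmul_eq_mul, Nat.cast_ofNat,
      mul_one] at h1
    omega
  have hg2 : ∀ i, g i ≠ 2 := by
    intro i h
    have := hg i
    exact sq_ne_17 (x i) (by omega)
  have hSmem : ∀ i, i ∈ Finset.univ.filter (fun i => g i ≠ 0) ↔ g i ≠ 0 := fun i => by
    rw [Finset.mem_filter]
    exact ⟨fun h => h.2, fun h => ⟨Finset.mem_univ _, h⟩⟩
  generalize hS : Finset.univ.filter (fun i => g i ≠ 0) = S at hSmem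
  have hS1 : ∀ i ∈ S, 1 ≤ g i := by
    intro i hi
    have h1 := (hSmem i).1 hi
    have h2 := hnn i
    omega
  have hS0 : ∀ i, i ∉ S → g i = 0 := by
    intro i hi
    by_contra h
    exact hi ((hSmem i).2 h)
  have hsumS : ∑ i ∈ S, g i = 3 := by
    rw [← hsum]
    apply Finset.sum_subset (Finset.subset_univ _)
    intro i _ hi
    exact hS0 i hi
  have hle : (S.card : ℤ) ≤ 3 := by
    have := Finset.card_nsmul_le_sum S g 1 hS1
    rw [hsumS] at this
    simpa using this
  have hcases : S.card = 0 ∨ S.card = 1 ∨ S.card = 2 ∨ S.card = 3 := by omega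
  obtain ⟨c3, cm3, c1, cm1⟩ := cast_vals
  obtain ⟨c5, cm5⟩ := cast_vals5
  have hone : ∀ i, g i = 0 → (x i = 1 ∧ (((x i - 1) / 2 : ℤ) : ZMod 2) = 0) ∨
      (x i = -1 ∧ (((x i - 1) / 2 : ℤ) : ZMod 2) ≠ 0) := by
    intro i hi
    have h1 : x i ^ 2 = 1 := by
      have := hg i
      omega
    rcases sq_eq_one h1 with h | h
    · left
      rw [h]
      exact ⟨rfl, c1⟩
    · right
      rw [h]
      exact ⟨rfl, cm1⟩
  rcases hcases with h | h | h | h
  · exfalso
    rw [Finset.card_eq_zero.1 h] at hsumS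
    simp at hsumS
  · right
    obtain ⟨j, hj⟩ := Finset.card_eq_one.1 h
    rw [hj, Finset.sum_singleton] at hsumS
    have hxj : x j ^ 2 = 25 := by
      have := hg j
      omega
    refine ⟨wordZ (halfO x), hc, j, ?_⟩
    funext i
    apply fG_at
    unfold t5
    by_cases hij : i = j
    · rw [if_pos hij, hij]
      rcases sq_eq_25 hxj with h' | h'
      · left
        rw [h']
        exact ⟨rfl, c5⟩
      · right
        rw [h']
        exact ⟨rfl, cm5⟩
    · rw [if_neg hij]
      apply hone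
      apply hS0
      rw [hj, Finset.mem_singleton]
      exact hij
  · exfalso
    obtain ⟨a, b, hab, hSab⟩ := Finset.card_eq_two.1 h
    have ha : a ∈ S := by rw [hSab]; exact Finset.mem_insert_self _ _
    have hb : b ∈ S := by rw [hSab]; exact Finset.mem_insert_of_mem (Finset.mem_singleton_self _)
    rw [hSab, Finset.sum_pair hab] at hsumS
    have h1 := hS1 a ha
    have h2 := hS1 b hb
    have h3 := hg2 a
    have h4 := hg2 b
    omega
  · left
    have ht := tight_sum g hnn S hS1 (by rw [hsum, h]; rfl)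
    refine ⟨wordZ (halfO x), hc, S, h, ?_⟩
    funext i
    apply fG_at
    unfold tJ
    by_cases hi : i ∈ S
    · rw [if_pos hi]
      have hxi : x i ^ 2 = 9 := by
        have := hg i
        have := ht.1 i hi
        omega
      rcases sq_eq_nine hxi with h' | h'
      · right
        rw [h']
        exact ⟨rfl, c3⟩
      · left
        rw [h']
        exact ⟨rfl, cm3⟩
    · rw [if_neg hi]
      exact hone i (ht.2 i hi)

end Cfsg.Agent.Lib.Helper1.Leech48
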