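import Mathlib
import Cfsg.Agent.Lib.Helper1.Leech48b

/-!
# Vectors of sum of squares 48: the four finite families and their sizes
-/

set_option autoImplicit false

namespace Cfsg.Agent.Lib.Helper1.Leech48

open Cfsg Cfsg.Agent.Lib.Helper1 Cfsg.Agent.Lib.Helper9.LeechTS Cfsg.Agent.S0394

open Classical in
/-- the dodecads as a finite set -/
noncomputable def dodF : Finset (Finset GolayPt) := Finset.univ.filter (fun D => D ∈ dodecads)

open Classical in
theorem mem_dodF (D : Finset GolayPt) : D ∈ dodF ↔ D ∈ dodecads := by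
  unfold dodF
  rw [Finset.mem_filter]
  exact ⟨fun h => h.2, fun h => ⟨Finset.mem_univ _, h⟩⟩

theorem card_dodF : dodF.card = 2576 := by
  rw [← Cfsg.Agent.S0361.result, ← Set.ncard_coe_finset]
  congr 1
  ext D
  exact mem_dodF D

theorem card_even_subsets12 (O : Finset GolayPt) (h : O.card = 12) :
    (O.powerset.filter (fun e => Even e.card)).card = 2048 := by
  have hne : O.Nonempty := by
    rw [← Finset.card_pos, h]
    norm_num
  have h1 := Finset.sum_powerset_neg_one_pow_card_of_nonempty hne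
  rw [← Finset.sum_filter_add_sum_filter_not O.powerset (fun e => Even e.card)] at h1
  have h2 : ∑ m ∈ O.powerset.filter (fun e => Even e.card), (-1 : ℤ) ^ m.card =
      ((O.powerset.filter (fun e => Even e.card)).card : ℤ) := by
    rw [Finset.sum_congr rfl (fun m hm => Even.neg_one_pow (Finset.mem_filter.1 hm).2)]
    simp
  have h3 : ∑ m ∈ O.powerset.filter (fun e => ¬ Even e.card), (-1 : ℤ) ^ m.card =
      -((O.powerset.filter (fun e => ¬ Even e.card)).card : ℤ) := by
    rw [Finset.sum_congr rfl (fun m hm =>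
      Odd.neg_one_pow (Nat.not_even_iff_odd.1 (Finset.mem_filter.1 hm).2))]
    simp
  have h4 := Finset.card_filter_add_card_filter_not (s := O.powerset) (fun e => Even e.card)
  rw [Finset.card_powerset, h] at h4
  rw [h2, h3] at h1
  omega

theorem card_odd_subsets8 (O : Finset GolayPt) (h : O.card = 8) :
    (O.powerset.filter (fun e => ¬ Even e.card)).card = 128 := by
  have h4 := Finset.card_filter_add_card_filter_not (s := O.powerset) (fun e => Even e.card)
  rw [Finset.card_powerset, h, card_even_subsets O h] at h4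
  omega

theorem fG_inj {c c' : GolayPt → ZMod 2} {t : GolayPt → ℤ} (ht : ∀ i, t i ≠ 0)
    (h : fG c t = fG c' t) : c = c' := by
  funext i
  have h1 := congrFun h i
  unfold fG at h1
  have h2 := mul_right_cancel₀ (ht i) h1
  rcases zmod2_cases (c i) with h3 | h3 <;> rcases zmod2_cases (c' i) with h4 | h4
  · rw [h3, h4]
  · rw [h3, h4] at h2
    norm_num at h2
  · rw [h3, h4] at h2
    norm_num at h2
  · rw [h3, h4]

theorem tJ_inj {c c' : GolayPt → ZMod 2} {J J' : Finset GolayPt}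
    (h : fG c (tJ J) = fG c' (tJ J')) : J = J' := by
  ext i
  have h1 : fG c (tJ J) i ^ 2 = fG c' (tJ J') i ^ 2 := by rw [h]
  rw [fG_sq, fG_sq] at h1
  unfold tJ at h1
  by_cases h2 : i ∈ J <;> by_cases h3 : i ∈ J'
  · exact ⟨fun _ => h3, fun _ => h2⟩
  · rw [if_pos h2, if_neg h3] at h1
    norm_num at h1
  · rw [if_neg h2, if_pos h3] at h1
    norm_num at h1
  · exact ⟨fun h => absurd h h2, fun h => absurd h h3⟩

theorem t5_inj {c c' : GolayPt → ZMod 2} {j j' : GolayPt}
    (h : fG c (t5 j) = fG c' (t5 j')) : j = j' := by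
  have h1 : fG c (t5 j) j ^ 2 = fG c' (t5 j') j ^ 2 := by rw [h]
  rw [fG_sq, fG_sq] at h1
  unfold t5 at h1
  rw [if_pos rfl] at h1
  by_contra hne
  rw [if_neg hne] at h1
  norm_num at h1

theorem tJ_ne_zero (J : Finset GolayPt) (i : GolayPt) : tJ J i ≠ 0 := by
  unfold tJ
  split_ifs <;> norm_num

theorem t5_ne_zero (j i : GolayPt) : t5 j i ≠ 0 := by
  unfold t5
  split_ifs <;> norm_num

theorem vec3_inj {O e O' e' : Finset GolayPt} {k k' : GolayPt} {s s' : ℤ} (he : e ⊆ O)
    (he' : e' ⊆ O') (hk : k ∉ O) (hk' : k' ∉ O') (hs : s = 4 ∨ s = -4)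
    (h : vec3 O e k s = vec3 O' e' k' s') : O = O' ∧ e = e' ∧ k = k' ∧ s = s' := by
  have hkk : k = k' := by
    by_contra hne
    have h1 := congrFun h k
    unfold vec3 at h1
    rw [if_pos rfl, if_neg hne, vecS_zero he hk] at h1
    rcases vecS_vals O' e' k with h2 | h2 | h2 <;> rcases hs with rfl | rfl <;> omega
  subst hkk
  have hss : s = s' := by
    have h1 := congrFun h k
    unfold vec3 at h1
    rw [if_pos rfl, vecS_zero he hk, vecS_zero he' hk'] at h1
    omega
  subst hss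
  have hv : vecS 2 O e = vecS 2 O' e' := by
    funext i
    have h1 := congrFun h i
    unfold vec3 at h1
    exact add_right_cancel h1
  obtain ⟨h1, h2⟩ := vecS_inj (by norm_num) he he' hv
  exact ⟨h1, h2, rfl, rfl⟩

/-- the four families -/
noncomputable def F1 : Finset (GolayPt → ℤ) :=
  (dodF.sigma (fun D => D.powerset.filter (fun e => Even e.card))).image
    (fun p => vecS 2 p.1 p.2)

open Classical in
/-- second family -/
noncomputable def F2 : Finset (GolayPt → ℤ) :=
  ((Finset.univ : Finset ↥golayCode) ×ˢ ((Finset.univ : Finset GolayPt).powersetCard 3)).image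
    (fun p => fG (p.1 : GolayPt → ZMod 2) (tJ p.2))

/-- third family -/
noncomputable def F3 : Finset (GolayPt → ℤ) :=
  (octF.sigma (fun O => ((O.powerset.filter (fun e => ¬ Even e.card)) ×ˢ Oᶜ) ×ˢ
    ({4, -4} : Finset ℤ))).image (fun p => vec3 p.1 p.2.1.1 p.2.1.2 p.2.2)

open Classical in
/-- fourth family -/
noncomputable def F4 : Finset (GolayPt → ℤ) :=
  (Finset.univ : Finset (↥golayCode × GolayPt)).image
    (fun p => fG (p.1 : GolayPt → ZMod 2) (t5 p.2))

theorem card_F1 : F1.card = 5275648 := by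
  unfold F1
  rw [Finset.card_image_of_injOn]
  · rw [Finset.card_sigma]
    rw [Finset.sum_congr rfl (fun D hD => card_even_subsets12 D ((mem_dodF D).1 hD).2)]
    rw [Finset.sum_const, card_dodF]
    norm_num
  · intro p hp p' hp' h
    have hp1 := Finset.mem_sigma.1 hp
    have hp1' := Finset.mem_sigma.1 hp'
    have he := Finset.mem_powerset.1 (Finset.mem_filter.1 hp1.2).1
    have he' := Finset.mem_powerset.1 (Finset.mem_filter.1 hp1'.2).1
    obtain ⟨h1, h2⟩ := vecS_inj (by norm_num) he he' h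
    exact Sigma.ext h1 (heq_of_eq h2)

open Classical in
theorem card_F2 : F2.card = 8290304 := by
  unfold F2
  rw [Finset.card_image_of_injective]
  · rw [Finset.card_product, Finset.card_univ, Fintype.card_congr codeEquiv.symm, Fintype.card_fin,
      Finset.card_powersetCard, Finset.card_univ, card_golayPt]
    norm_num [Nat.choose]
  · intro p p' h
    have hJ : p.2 = p'.2 := tJ_inj h
    have h0 : fG (p.1 : GolayPt → ZMod 2) (tJ p.2) = fG (p'.1 : GolayPt → ZMod 2) (tJ p'.2) := h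
    have h' : fG (p.1 : GolayPt → ZMod 2) (tJ p.2) = fG (p'.1 : GolayPt → ZMod 2) (tJ p.2) := by
      rw [← hJ] at h0
      exact h0
    have hc := fG_inj (tJ_ne_zero p.2) h'
    exact Prod.ext (Subtype.ext hc) hJ

theorem card_F3 : F3.card = 3108864 := by
  unfold F3
  rw [Finset.card_image_of_injOn]
  · rw [Finset.card_sigma]
    rw [Finset.sum_congr rfl (fun O hO => by
      rw [Finset.card_product, Finset.card_product, card_odd_subsets8 O ((mem_octF O).1 hO).2,
        Finset.card_compl, ((mem_octF O).1 hO).2, card_golayPt,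
        Finset.card_pair (by norm_num : (4 : ℤ) ≠ -4)])]
    rw [Finset.sum_const, card_octF]
    norm_num
  · intro p hp p' hp' h
    have hp1 := Finset.mem_sigma.1 hp
    have hp1' := Finset.mem_sigma.1 hp'
    have hq := Finset.mem_product.1 hp1.2
    have hq' := Finset.mem_product.1 hp1'.2
    have hr := Finset.mem_product.1 hq.1
    have hr' := Finset.mem_product.1 hq'.1
    have he := Finset.mem_powerset.1 (Finset.mem_filter.1 hr.1).1
    have he' := Finset.mem_powerset.1 (Finset.mem_filter.1 hr'.1).1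
    have hk := Finset.mem_compl.1 hr.2
    have hk' := Finset.mem_compl.1 hr'.2
    have hs : p.2.2 = 4 ∨ p.2.2 = -4 := by
      have := hq.2
      rw [Finset.mem_insert, Finset.mem_singleton] at this
      exact this
    obtain ⟨h1, h2, h3, h4⟩ := vec3_inj he he' hk hk' hs h
    exact Sigma.ext h1 (heq_of_eq (Prod.ext (Prod.ext h2 h3) h4))

open Classical in
theorem card_F4 : F4.card = 98304 := by
  unfold F4
  rw [Finset.card_image_of_injective]
  · rw [Finset.card_univ, Fintype.card_prod, card_golayPt, Fintype.card_congr codeEquiv.symm,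
      Fintype.card_fin]
  · intro p p' h
    have hj : p.2 = p'.2 := t5_inj h
    have h0 : fG (p.1 : GolayPt → ZMod 2) (t5 p.2) = fG (p'.1 : GolayPt → ZMod 2) (t5 p'.2) := h
    have h' : fG (p.1 : GolayPt → ZMod 2) (t5 p.2) = fG (p'.1 : GolayPt → ZMod 2) (t5 p.2) := by
      rw [← hj] at h0
      exact h0
    have hc := fG_inj (t5_ne_zero p.2) h'
    exact Prod.ext (Subtype.ext hc) hj

theorem mem_F1 {x : GolayPt → ℤ} :
    x ∈ F1 ↔ ∃ D ∈ dodecads, ∃ e ⊆ D, Even e.card ∧ x = vecS 2 D e := by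
  unfold F1
  rw [Finset.mem_image]
  constructor
  · rintro ⟨p, hp, rfl⟩
    have hp1 := Finset.mem_sigma.1 hp
    exact ⟨p.1, (mem_dodF _).1 hp1.1, p.2, Finset.mem_powerset.1 (Finset.mem_filter.1 hp1.2).1,
      (Finset.mem_filter.1 hp1.2).2, rfl⟩
  · rintro ⟨D, hD, e, he, hev, rfl⟩
    exact ⟨⟨D, e⟩, Finset.mem_sigma.2 ⟨(mem_dodF _).2 hD,
      Finset.mem_filter.2 ⟨Finset.mem_powerset.2 he, hev⟩⟩, rfl⟩

open Classical in
theorem mem_F2 {x : GolayPt → ℤ} :
    x ∈ F2 ↔ ∃ c ∈ golayCode, ∃ J : Finset GolayPt, J.card = 3 ∧ x = fG c (tJ J) := by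
  unfold F2
  rw [Finset.mem_image]
  constructor
  · rintro ⟨p, hp, rfl⟩
    have hp1 := Finset.mem_product.1 hp
    exact ⟨_, p.1.2, p.2, (Finset.mem_powersetCard.1 hp1.2).2, rfl⟩
  · rintro ⟨c, hc, J, hJ, rfl⟩
    exact ⟨(⟨c, hc⟩, J), Finset.mem_product.2 ⟨Finset.mem_univ _,
      Finset.mem_powersetCard.2 ⟨Finset.subset_univ _, hJ⟩⟩, rfl⟩

theorem mem_F3 {x : GolayPt → ℤ} :
    x ∈ F3 ↔ ∃ O ∈ octads, ∃ e ⊆ O, ¬ Even e.card ∧ ∃ k, k ∉ O ∧ ∃ s : ℤ, (s = 4 ∨ s = -4) ∧
      x = vec3 O e k s := by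
  unfold F3
  rw [Finset.mem_image]
  constructor
  · rintro ⟨p, hp, rfl⟩
    have hp1 := Finset.mem_sigma.1 hp
    have hq := Finset.mem_product.1 hp1.2
    have hr := Finset.mem_product.1 hq.1
    have hs : p.2.2 = 4 ∨ p.2.2 = -4 := by
      have := hq.2
      rw [Finset.mem_insert, Finset.mem_singleton] at this
      exact this
    exact ⟨p.1, (mem_octF _).1 hp1.1, p.2.1.1,
      Finset.mem_powerset.1 (Finset.mem_filter.1 hr.1).1, (Finset.mem_filter.1 hr.1).2,
      p.2.1.2, Finset.mem_compl.1 hr.2, p.2.2, hs, rfl⟩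
  · rintro ⟨O, hO, e, he, hod, k, hk, s, hs, rfl⟩
    refine ⟨⟨O, ((e, k), s)⟩, Finset.mem_sigma.2 ⟨(mem_octF _).2 hO, ?_⟩, rfl⟩
    refine Finset.mem_product.2 ⟨Finset.mem_product.2 ⟨Finset.mem_filter.2
      ⟨Finset.mem_powerset.2 he, hod⟩, Finset.mem_compl.2 hk⟩, ?_⟩
    show s ∈ ({4, -4} : Finset ℤ)
    rw [Finset.mem_insert, Finset.mem_singleton]
    exact hs

open Classical in
theorem mem_F4 {x : GolayPt → ℤ} : x ∈ F4 ↔ ∃ c ∈ golayCode, ∃ j, x = fG c (t5 j) := by
  unfold F4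
  rw [Finset.mem_image]
  constructor
  · rintro ⟨p, _, rfl⟩
    exact ⟨_, p.1.2, p.2, rfl⟩
  · rintro ⟨c, hc, j, rfl⟩
    exact ⟨(⟨c, hc⟩, j), Finset.mem_univ _, rfl⟩

/-- every vector of the right length is in one of the families -/
theorem classify48 {x : GolayPt → ℤ} (hx : x ∈ leechLattice) (hn : sqNorm x = 48) :
    x ∈ F1 ∨ x ∈ F2 ∨ x ∈ F3 ∨ x ∈ F4 := by
  rw [mem_F1, mem_F2, mem_F3, mem_F4]
  by_cases h0 : 2 ∣ x none
  · rcases classify_even48 hx hn h0 with h | h
    · exact Or.inl h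
    · exact Or.inr (Or.inr (Or.inl h))
  · rcases classify_odd48 hx hn h0 with h | h
    · exact Or.inr (Or.inl h)
    · exact Or.inr (Or.inr (Or.inr h))

theorem mem48_F1 {x : GolayPt → ℤ} (h : x ∈ F1) : x ∈ leechLattice ∧ sqNorm x = 48 := by
  obtain ⟨D, hD, e, he, hev, rfl⟩ := mem_F1.1 h
  exact mem1 hD he hev

theorem mem48_F2 {x : GolayPt → ℤ} (h : x ∈ F2) : x ∈ leechLattice ∧ sqNorm x = 48 := by
  obtain ⟨c, hc, J, hJ, rfl⟩ := mem_F2.1 h
  exact mem2 hc hJ

theorem mem48_F3 {x : GolayPt → ℤ} (h : x ∈ F3) : x ∈ leechLattice ∧ sqNorm x = 48 := by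
  obtain ⟨O, hO, e, he, hod, k, hk, s, hs, rfl⟩ := mem_F3.1 h
  exact mem3 hO he hod hk hs

theorem mem48_F4 {x : GolayPt → ℤ} (h : x ∈ F4) : x ∈ leechLattice ∧ sqNorm x = 48 := by
  obtain ⟨c, hc, j, rfl⟩ := mem_F4.1 h
  exact mem4 hc j

/-- coordinate values in the four families -/
theorem val1 {x : GolayPt → ℤ} (h : x ∈ F1) (i : GolayPt) : x i = 0 ∨ x i = 2 ∨ x i = -2 := by
  obtain ⟨D, _, e, _, _, rfl⟩ := mem_F1.1 h
  exact vecS_vals D e i

theorem val2 {x : GolayPt → ℤ} (h : x ∈ F2) (i : GolayPt) :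
    x i = 1 ∨ x i = -1 ∨ x i = 3 ∨ x i = -3 := by
  obtain ⟨c, _, J, _, rfl⟩ := mem_F2.1 h
  unfold fG tJ
  split_ifs <;> simp

theorem val2' {x : GolayPt → ℤ} (h : x ∈ F2) :
    ∃ i j k, i ≠ j ∧ j ≠ k ∧ i ≠ k ∧ |x i| = 3 ∧ |x j| = 3 ∧ |x k| = 3 := by
  obtain ⟨c, _, J, hJ, rfl⟩ := mem_F2.1 h
  obtain ⟨a, b, d, hab, had, hbd, rfl⟩ := Finset.card_eq_three.1 hJ
  have key : ∀ i, i ∈ ({a, b, d} : Finset GolayPt) → |fG c (tJ {a, b, d}) i| = 3 := by
    intro i hi
    rw [abs_eq (by norm_num)]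
    unfold fG tJ
    rw [if_pos hi]
    split_ifs <;> simp
  refine ⟨a, b, d, hab, hbd, had, key a ?_, key b ?_, key d ?_⟩
  · exact Finset.mem_insert_self _ _
  · exact Finset.mem_insert_of_mem (Finset.mem_insert_self _ _)
  · exact Finset.mem_insert_of_mem (Finset.mem_insert_of_mem (Finset.mem_singleton_self _))

theorem val3 {x : GolayPt → ℤ} (h : x ∈ F3) :
    (∀ i, x i % 2 = 0) ∧ ∃ k, x k = 4 ∨ x k = -4 := by
  obtain ⟨O, _, e, he, _, k, hk, s, hs, rfl⟩ := mem_F3.1 h
  constructor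
  · intro i
    unfold vec3
    have h1 := vecS_even (lam := 2) (by norm_num) he i
    split_ifs
    · rcases hs with rfl | rfl <;> omega
    · omega
  · refine ⟨k, ?_⟩
    unfold vec3
    rw [if_pos rfl, vecS_zero he hk, zero_add]
    exact hs

theorem val4 {x : GolayPt → ℤ} (h : x ∈ F4) :
    (∀ i, x i = 1 ∨ x i = -1 ∨ x i = 5 ∨ x i = -5) ∧ ∃ j, x j = 5 ∨ x j = -5 := by
  obtain ⟨c, _, j, rfl⟩ := mem_F4.1 h
  constructor
  · intro i
    unfold fG t5
    split_ifs <;> simp
  · refine ⟨j, ?_⟩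
    unfold fG t5
    rw [if_pos rfl]
    split_ifs <;> simp

theorem disj12 : Disjoint F1 F2 := by
  rw [Finset.disjoint_left]
  intro x h1 h2
  have a := val1 h1 none
  have b := val2 h2 none
  omega

theorem disj13 : Disjoint F1 F3 := by
  rw [Finset.disjoint_left]
  intro x h1 h3
  obtain ⟨_, k, hk⟩ := val3 h3
  have a := val1 h1 k
  omega

theorem disj14 : Disjoint F1 F4 := by
  rw [Finset.disjoint_left]
  intro x h1 h4
  have a := val1 h1 none
  have b := (val4 h4).1 none
  omega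

theorem disj23 : Disjoint F2 F3 := by
  rw [Finset.disjoint_left]
  intro x h2 h3
  have a := val2 h2 none
  have b := (val3 h3).1 none
  omega

theorem disj24 : Disjoint F2 F4 := by
  rw [Finset.disjoint_left]
  intro x h2 h4
  obtain ⟨_, j, hj⟩ := val4 h4
  have a := val2 h2 j
  omega

theorem disj34 : Disjoint F3 F4 := by
  rw [Finset.disjoint_left]
  intro x h3 h4
  have a := (val3 h3).1 none
  have b := (val4 h4).1 none
  omega

end Cfsg.Agent.Lib.Helper1.Leech48
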