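import Mathlib
import Cfsg.Agent.Lib.Helper1.Leech48c

/-!
# Vectors of sum of squares 64 in the rank-24 lattice: the eight families
-/

set_option autoImplicit false

namespace Cfsg.Agent.Lib.Helper1.Leech64

open Cfsg Cfsg.Agent.Lib.Helper1 Cfsg.Agent.Lib.Helper9.LeechTS Cfsg.Agent.S0394
open Cfsg.Agent.Lib.Helper1.Leech48

/-- supports of code words of a given weight -/
abbrev wts (n : ℕ) : Set (Finset GolayPt) := wordsOfWeight (golayCode : Set (GolayPt → ZMod 2)) n

theorem word_ind {w : GolayPt → ZMod 2} {T : Finset GolayPt} (hwT : support₂ w = T)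
    (a : GolayPt → ℤ) : wordZ (fun i => ind T i + 2 * a i) = w := by
  funext i
  rw [wordZ_apply]
  have hi : i ∈ T ↔ w i ≠ 0 := by
    rw [← hwT]
    exact mem_support₂_iff w i
  push_cast
  have h2 : (2 : ZMod 2) = 0 := by decide
  rw [h2, zero_mul, add_zero]
  unfold ind
  by_cases h1 : i ∈ T
  · rw [if_pos h1]
    rcases zmod2_cases (w i) with h | h
    · exact absurd h (hi.1 h1)
    · rw [h]
      simp
  · rw [if_neg h1]
    have hw0 : w i = 0 := by
      by_contra h
      exact h1 (hi.2 h)
    rw [hw0]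
    simp

theorem mem_gen {n : ℕ} {T : Finset GolayPt} (hT : T ∈ wts n) (a : GolayPt → ℤ)
    (x : GolayPt → ℤ) (hx : ∀ i, x i = 2 * (ind T i + 2 * a i)) (hs : (8 : ℤ) ∣ ∑ i, x i) :
    x ∈ leechLattice := by
  obtain ⟨⟨w, hw, hwT⟩, _⟩ := hT
  rw [mem_leechLattice_iff]
  refine ⟨0, fun i => ind T i + 2 * a i, fun i => by rw [hx i]; ring, ?_, ?_⟩
  · unfold Int.ModEq
    obtain ⟨k, hk⟩ := hs
    omega
  · rw [word_ind hwT a]
    exact hw

theorem vecS_out {lam : ℤ} {T e : Finset GolayPt} (he : e ⊆ T) {k : GolayPt} (hk : k ∉ T) :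
    vecS lam T e k = 0 := by
  unfold vecS
  rw [if_neg (fun h => hk (he h)), if_neg hk]

theorem vecS_in {lam : ℤ} {T e : Finset GolayPt} {k : GolayPt} (hk : k ∈ T) :
    vecS lam T e k = lam ∨ vecS lam T e k = -lam := by
  unfold vecS
  by_cases h : k ∈ e
  · right
    rw [if_pos h]
  · left
    rw [if_neg h, if_pos hk]

theorem sum_vec3 {T e : Finset GolayPt} (he : e ⊆ T) (k : GolayPt) (s : ℤ) :
    ∑ i, vec3 T e k s i = 2 * ((T.card : ℤ) - 2 * e.card) + s := by
  unfold vec3
  rw [Finset.sum_add_distrib, sum_vecS he, Finset.sum_ite_eq']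
  simp

theorem sqNorm_vec3 {T e : Finset GolayPt} (he : e ⊆ T) {k : GolayPt} (hk : k ∉ T) (s : ℤ) :
    sqNorm (vec3 T e k s) = 4 * (T.card : ℤ) + s ^ 2 := by
  unfold sqNorm
  have hk0 : vecS 2 T e k = 0 := vecS_out he hk
  have h : ∀ i, vec3 T e k s i ^ 2 = vecS 2 T e i ^ 2 + (if i = k then s ^ 2 else 0) := by
    intro i
    unfold vec3
    by_cases hik : i = k
    · rw [if_pos hik, if_pos hik, hik, hk0]
      ring
    · rw [if_neg hik, if_neg hik]
      ring
  rw [Finset.sum_congr rfl (fun i _ => h i), Finset.sum_add_distrib, Finset.sum_ite_eq']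
  have h2 := sqNorm_vecS (lam := 2) he
  unfold sqNorm at h2
  rw [h2]
  simp

theorem mem_vec3 {n : ℕ} {T e : Finset GolayPt} (hT : T ∈ wts n) (he : e ⊆ T) (k : GolayPt)
    {s : ℤ} (hs : s = 4 ∨ s = -4) (hpar : (8 : ℤ) ∣ 2 * ((n : ℤ) - 2 * e.card) + s) :
    vec3 T e k s ∈ leechLattice := by
  apply mem_gen hT (fun i => - ind e i + (if i = k then s / 4 else 0))
  · intro i
    unfold vec3
    rw [vecS_eq he]
    by_cases hik : i = k
    · rw [if_pos hik, if_pos hik]
      rcases hs with rfl | rfl <;> norm_num <;> ring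
    · rw [if_neg hik, if_neg hik]
      ring
  · rw [sum_vec3 he, hT.2]
    exact hpar

/-- first family: sixteen coordinates `±2` -/
theorem mE1 {H e : Finset GolayPt} (hH : H ∈ wts 16) (he : e ⊆ H) (hev : Even e.card) :
    vecS 2 H e ∈ leechLattice ∧ sqNorm (vecS 2 H e) = 64 := by
  constructor
  · apply mem_gen hH (fun i => - ind e i)
    · intro i
      rw [vecS_eq he]
      ring
    · rw [sum_vecS he, hH.2]
      obtain ⟨k, hk⟩ := hev
      rw [hk]
      push_cast
      exact ⟨4 - k, by ring⟩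
  · rw [sqNorm_vecS he, hH.2]
    norm_num

/-- second family: a dodecad pattern and one more coordinate `±4` -/
theorem mE2 {D e : Finset GolayPt} (hD : D ∈ wts 12) (he : e ⊆ D) (hod : ¬ Even e.card)
    {k : GolayPt} (hk : k ∉ D) {s : ℤ} (hs : s = 4 ∨ s = -4) :
    vec3 D e k s ∈ leechLattice ∧ sqNorm (vec3 D e k s) = 64 := by
  constructor
  · apply mem_vec3 hD he k hs
    have hodd : e.card % 2 = 1 := Nat.odd_iff.1 (Nat.not_even_iff_odd.1 hod)
    rcases hs with rfl | rfl <;> omega
  · rw [sqNorm_vec3 he hk, hD.2]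
    rcases hs with rfl | rfl <;> norm_num

/-- third family: an octad pattern and two more coordinates `±4` -/
def vec42 (O e K f : Finset GolayPt) : GolayPt → ℤ := fun i => vecS 2 O e i + vecS 4 K f i

theorem mE3 {O e K f : Finset GolayPt} (hO : O ∈ octads) (he : e ⊆ O) (hev : Even e.card)
    (hK : K.card = 2) (hKO : Disjoint K O) (hf : f ⊆ K) :
    vec42 O e K f ∈ leechLattice ∧ sqNorm (vec42 O e K f) = 64 := by
  constructor
  · have h : vec42 O e K f = vecS 2 O e + vecS 4 K f := rfl
    rw [h]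
    exact leechLattice.add_mem (memB hO he hev).1 (memC hK hf).1
  · have h1 := (memB hO he hev).2
    have h2 := (memC hK hf).2
    unfold sqNorm at h1 h2 ⊢
    have h : ∀ i, vec42 O e K f i ^ 2 = vecS 2 O e i ^ 2 + vecS 4 K f i ^ 2 := by
      intro i
      unfold vec42
      by_cases hi : i ∈ O
      · have : i ∉ K := fun h => (Finset.disjoint_left.1 hKO h) hi
        rw [vecS_out hf this]
        ring
      · rw [vecS_out he hi]
        ring
    rw [Finset.sum_congr rfl (fun i _ => h i), Finset.sum_add_distrib, h1, h2]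
    norm_num

/-- fourth family: an octad pattern with one coordinate tripled -/
def vec6 (O e : Finset GolayPt) (k : GolayPt) : GolayPt → ℤ :=
  fun i => if i = k then 3 * vecS 2 O e i else vecS 2 O e i

theorem vec6_eq (O e : Finset GolayPt) (k : GolayPt) :
    vec6 O e k = vec3 O e k (2 * vecS 2 O e k) := by
  funext i
  unfold vec6 vec3
  by_cases hik : i = k
  · rw [if_pos hik, if_pos hik, hik]
    ring
  · rw [if_neg hik, if_neg hik, add_zero]

theorem mE4 {O e : Finset GolayPt} (hO : O ∈ octads) (he : e ⊆ O) (hod : ¬ Even e.card)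
    {k : GolayPt} (hk : k ∈ O) :
    vec6 O e k ∈ leechLattice ∧ sqNorm (vec6 O e k) = 64 := by
  have hv : vecS 2 O e k = 2 ∨ vecS 2 O e k = -2 := vecS_in hk
  constructor
  · rw [vec6_eq]
    have hs : 2 * vecS 2 O e k = 4 ∨ 2 * vecS 2 O e k = -4 := by omega
    apply mem_vec3 (n := 8) hO he k hs
    have hodd : e.card % 2 = 1 := Nat.odd_iff.1 (Nat.not_even_iff_odd.1 hod)
    rcases hs with h | h <;> rw [h] <;> omega
  · unfold sqNorm
    have h : ∀ i, vec6 O e k i ^ 2 = vecS 2 O e i ^ 2 + (if i = k then 32 else 0) := by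
      intro i
      unfold vec6
      by_cases hik : i = k
      · rw [if_pos hik, if_pos hik, hik]
        rcases hv with h | h <;> rw [h] <;> norm_num
      · rw [if_neg hik, if_neg hik, add_zero]
    rw [Finset.sum_congr rfl (fun i _ => h i), Finset.sum_add_distrib, Finset.sum_ite_eq']
    have h2 := sqNorm_vecS (lam := 2) he
    unfold sqNorm at h2
    rw [h2, hO.2]
    simp

theorem mem_vecS4 {lam : ℤ} (h4 : 4 ∣ lam) {T e : Finset GolayPt} (he : e ⊆ T)
    (hs : (8 : ℤ) ∣ lam * ((T.card : ℤ) - 2 * e.card)) : vecS lam T e ∈ leechLattice := by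
  obtain ⟨m, rfl⟩ := h4
  apply vecS_mem ⟨2 * m, by ring⟩ he _ hs
  have : wordZ (fun i => (4 * m) / 2 * (ind T i - 2 * ind e i)) = 0 := by
    funext i
    rw [wordZ_apply]
    have h2 : (4 * m) / 2 * (ind T i - 2 * ind e i) = 2 * (m * (ind T i - 2 * ind e i)) := by
      have : (4 * m) / 2 = 2 * m := by omega
      rw [this]
      ring
    rw [h2, Int.cast_mul]
    have : ((2 : ℤ) : ZMod 2) = 0 := by decide
    rw [this, zero_mul]
    rfl
  rw [this]
  exact golayCode.zero_mem

/-- fifth family: four coordinates `±4` -/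
theorem mE5 {P e : Finset GolayPt} (hP : P.card = 4) (he : e ⊆ P) :
    vecS 4 P e ∈ leechLattice ∧ sqNorm (vecS 4 P e) = 64 := by
  constructor
  · apply mem_vecS4 (by norm_num) he
    rw [hP]
    push_cast
    exact ⟨2 - e.card, by ring⟩
  · rw [sqNorm_vecS he, hP]
    norm_num

/-- sixth family: one coordinate `±8` -/
theorem mE6 {P e : Finset GolayPt} (hP : P.card = 1) (he : e ⊆ P) :
    vecS 8 P e ∈ leechLattice ∧ sqNorm (vecS 8 P e) = 64 := by
  constructor
  · apply mem_vecS4 ⟨2, by norm_num⟩ he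
    rw [hP]
    push_cast
    exact ⟨1 - 2 * e.card, by ring⟩
  · rw [sqNorm_vecS he, hP]
    norm_num

/-- seventh family: five coordinates `±3` -/
theorem mO1 {c : GolayPt → ZMod 2} (hc : c ∈ golayCode) {J : Finset GolayPt} (hJ : J.card = 5) :
    fG c (tJ J) ∈ leechLattice ∧ sqNorm (fG c (tJ J)) = 64 := by
  constructor
  · apply memG hc
    · intro i
      unfold tJ
      split_ifs <;> norm_num
    · have : ∀ i, (tJ J i - 1) / 4 = - ind J i := by
        intro i
        rw [tJ_eq]
        omega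
      rw [Finset.sum_congr rfl (fun i _ => this i), Finset.sum_neg_distrib, sum_ind, hJ]
      norm_num
  · rw [sqNorm_fG]
    have : ∀ i, tJ J i ^ 2 = 1 + 8 * ind J i := by
      intro i
      unfold tJ ind
      split_ifs <;> norm_num
    rw [Finset.sum_congr rfl (fun i _ => this i), Finset.sum_add_distrib, ← Finset.mul_sum, sum_ind,
      hJ]
    simp [card_golayPt]

/-- the pattern with `5` at `j` and `-3` on `P` -/
def t53 (j : GolayPt) (P : Finset GolayPt) : GolayPt → ℤ :=
  fun i => if i = j then 5 else if i ∈ P then -3 else 1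

/-- eighth family: one coordinate `±5`, two coordinates `±3` -/
theorem mO2 {c : GolayPt → ZMod 2} (hc : c ∈ golayCode) {j : GolayPt} {P : Finset GolayPt}
    (hj : j ∉ P) (hP : P.card = 2) :
    fG c (t53 j P) ∈ leechLattice ∧ sqNorm (fG c (t53 j P)) = 64 := by
  constructor
  · apply memG hc
    · intro i
      unfold t53
      split_ifs <;> norm_num
    · have : ∀ i, (t53 j P i - 1) / 4 = (if i = j then 1 else 0) - ind P i := by
        intro i
        unfold t53 ind
        by_cases hij : i = j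
        · have : i ∉ P := fun h => hj (hij ▸ h)
          rw [if_pos hij, if_pos hij, if_neg this]
          norm_num
        · rw [if_neg hij, if_neg hij]
          split_ifs <;> norm_num
      rw [Finset.sum_congr rfl (fun i _ => this i), Finset.sum_sub_distrib, Finset.sum_ite_eq',
        sum_ind, hP]
      simp
  · rw [sqNorm_fG]
    have : ∀ i, t53 j P i ^ 2 = 1 + ((if i = j then 24 else 0) + 8 * ind P i) := by
      intro i
      unfold t53 ind
      by_cases hij : i = j
      · have : i ∉ P := fun h => hj (hij ▸ h)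
        rw [if_pos hij, if_pos hij, if_neg this]
        norm_num
      · rw [if_neg hij, if_neg hij]
        split_ifs <;> norm_num
    rw [Finset.sum_congr rfl (fun i _ => this i), Finset.sum_add_distrib, Finset.sum_add_distrib,
      Finset.sum_ite_eq', ← Finset.mul_sum, sum_ind, hP]
    simp [card_golayPt]

end Cfsg.Agent.Lib.Helper1.Leech64
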