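import Mathlib
import Cfsg.Agent.Lib.Helper1.Leech64a

/-!
# Vectors of sum of squares 64 in the rank-24 lattice: the classification
-/

set_option autoImplicit false

namespace Cfsg.Agent.Lib.Helper1.Leech64

open Cfsg Cfsg.Agent.Lib.Helper1 Cfsg.Agent.Lib.Helper9.LeechTS Cfsg.Agent.S0394
open Cfsg.Agent.Lib.Helper1.Leech48

theorem eq_vecS_sign {lam : ℤ} (hl : 0 < lam) (u : GolayPt → ℤ) (T : Finset GolayPt)
    (i : GolayPt) (hin : i ∈ T → u i = lam ∨ u i = -lam) (hout : i ∉ T → u i = 0) :
    u i = vecS lam T (T.filter (fun i => u i < 0)) i := by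
  unfold vecS
  by_cases hi : i ∈ T
  · rcases hin hi with h | h
    · have hne : i ∉ T.filter (fun i => u i < 0) := by
        intro h'
        have := (Finset.mem_filter.1 h').2
        omega
      rw [if_neg hne, if_pos hi, h]
    · have hmem' : i ∈ T.filter (fun i => u i < 0) := Finset.mem_filter.2 ⟨hi, by omega⟩
      rw [if_pos hmem', h]
  · have hne : i ∉ T.filter (fun i => u i < 0) := fun h' => hi (Finset.mem_filter.1 h').1
    rw [if_neg hne, if_neg hi, hout hi]

theorem sq_div4_two {y : ℤ} (h : y ^ 2 / 4 = 2) : y = 3 ∨ y = -3 := by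
  have h1 : y ^ 2 < 12 := by omega
  have h1' : 8 ≤ y ^ 2 := by omega
  have h2 : y < 4 := by nlinarith
  have h3 : -4 < y := by nlinarith
  have h4 : y = -3 ∨ y = -2 ∨ y = -1 ∨ y = 0 ∨ y = 1 ∨ y = 2 ∨ y = 3 := by omega
  rcases h4 with rfl | rfl | rfl | rfl | rfl | rfl | rfl
  · right; rfl
  · norm_num at h1'
  · norm_num at h1'
  · norm_num at h1'
  · norm_num at h1'
  · norm_num at h1'
  · left; rfl

theorem sq_small {z : ℤ} (h : z ^ 2 < 2) : z = 0 ∨ z = 1 ∨ z = -1 := by
  have h2 : z < 2 := by nlinarith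
  have h3 : -2 < z := by nlinarith
  omega

theorem sq_eq_four {z : ℤ} (h : z ^ 2 = 4) : z = 2 ∨ z = -2 := by
  have h2 : (z - 2) * (z + 2) = 0 := by ring_nf; omega
  rcases mul_eq_zero.1 h2 with h3 | h3
  · left; omega
  · right; omega

theorem four_le_sq {z : ℤ} (h : 2 ≤ z ^ 2) : 4 ≤ z ^ 2 := by
  by_contra hc
  have h1 : z ^ 2 < 4 := by omega
  have h2 : z < 2 := by nlinarith
  have h3 : -2 < z := by nlinarith
  have h4 : z = -1 ∨ z = 0 ∨ z = 1 := by omega
  rcases h4 with rfl | rfl | rfl <;> norm_num at h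

theorem classify_even64 {x : GolayPt → ℤ} (hx : x ∈ leechLattice) (hn : sqNorm x = 64)
    (h0 : 2 ∣ x none) :
    (∃ H ∈ wts 16, ∃ e ⊆ H, Even e.card ∧ x = vecS 2 H e) ∨
    (∃ D ∈ wts 12, ∃ e ⊆ D, ¬ Even e.card ∧ ∃ k, k ∉ D ∧ ∃ s : ℤ, (s = 4 ∨ s = -4) ∧
      x = vec3 D e k s) ∨
    (∃ O ∈ octads, ∃ e ⊆ O, Even e.card ∧ ∃ K : Finset GolayPt, K.card = 2 ∧ Disjoint K O ∧
      ∃ f ⊆ K, x = vec42 O e K f) ∨
    (∃ O ∈ octads, ∃ e ⊆ O, ¬ Even e.card ∧ ∃ k ∈ O, x = vec6 O e k) ∨
    (∃ P : Finset GolayPt, P.card = 4 ∧ ∃ e ⊆ P, x = vecS 4 P e) ∨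
    (∃ P : Finset GolayPt, P.card = 1 ∧ ∃ e ⊆ P, x = vecS 8 P e) := by
  obtain ⟨hev, hc⟩ := half_word_mem hx h0
  have hxy : ∀ i, x i = 2 * half x i := by
    intro i
    obtain ⟨a, ha⟩ := hev i
    unfold half
    omega
  have hs16 : ∑ i, half x i ^ 2 = 16 := by
    have := sqNorm_half hev
    omega
  set y := half x with hy
  have hOd : support₂ (wordZ y) = Finset.univ.filter (fun i => y i % 2 = 1) := support₂_wordZ y
  have hmem : ∀ i, i ∈ support₂ (wordZ y) ↔ y i % 2 = 1 := by
    intro i
    rw [hOd, Finset.mem_filter]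
    exact ⟨fun h => h.2, fun h => ⟨Finset.mem_univ _, h⟩⟩
  have hw := Cfsg.Agent.S0359.result (wordZ y) hc
  have hw' : hammingNorm (wordZ y) = (support₂ (wordZ y)).card := rfl
  rw [hw'] at hw
  generalize hW : support₂ (wordZ y) = W at hmem hw
  have hdec : ∑ i, y i ^ 2 = 4 * ∑ i, (y i ^ 2 / 4) + W.card := by
    rw [Finset.mul_sum, ← sum_ind W, ← Finset.sum_add_distrib]
    apply Finset.sum_congr rfl
    intro i _
    have h1 := sq_mod4 (y i)
    have h2 : ind W i = y i % 2 := by
      rcases ind_cases W i with ⟨h3, h4⟩ | ⟨h3, h4⟩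
      · rw [h4]
        have := (hmem i).1 h3
        omega
      · rw [h4]
        have := (hmem i).not.1 h3
        omega
    rw [h2]
    exact h1
  have hq0 : ∀ i, 0 ≤ y i ^ 2 / 4 := fun i => Int.ediv_nonneg (sq_nonneg _) (by norm_num)
  have hQ0 : 0 ≤ ∑ i, y i ^ 2 / 4 := Finset.sum_nonneg (fun i _ => hq0 i)
  have hx0 : x none = 2 * y none := hxy none
  have hsum := leech_sum hx
  obtain ⟨e, he_def⟩ : ∃ e, e = W.filter (fun i => x i < 0) := ⟨_, rfl⟩
  have heW : e ⊆ W := by
    rw [he_def]
    exact Finset.filter_subset _ _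
  have hcard : W.card = 16 ∨ W.card = 12 ∨ W.card = 8 ∨ W.card = 0 := by omega
  -- values from the quotient
  have hval0 : ∀ i, y i ^ 2 / 4 = 0 → (i ∈ W → x i = 2 ∨ x i = -2) ∧ (i ∉ W → x i = 0) := by
    intro i hq
    constructor
    · intro hi
      have h1 := (hmem i).1 hi
      have := hxy i
      rcases sq_div4_zero hq with h | h | h <;> omega
    · intro hi
      have h1 := (hmem i).not.1 hi
      have := hxy i
      rcases sq_div4_zero hq with h | h | h <;> omega
  rcases hcard with h16 | h12 | h8 | h00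
  · -- sixteen odd coordinates
    left
    have hQ : ∑ i, y i ^ 2 / 4 = 0 := by omega
    have hq : ∀ i, y i ^ 2 / 4 = 0 := fun i =>
      (Finset.sum_eq_zero_iff_of_nonneg (fun i _ => hq0 i)).1 hQ i (Finset.mem_univ _)
    have hform : x = vecS 2 W e := by
      funext i
      rw [he_def]
      exact eq_vecS_sign (by norm_num) x W i (hval0 i (hq i)).1 (hval0 i (hq i)).2
    refine ⟨W, ⟨⟨wordZ y, hc, hW⟩, h16⟩, e, heW, ?_, hform⟩
    have hS := sum_vecS (lam := 2) heW
    rw [← hform] at hS
    rw [← Int.even_coe_nat, even_iff_two_dvd]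
    omega
  · -- twelve odd coordinates
    right; left
    have hQ : ∑ i, y i ^ 2 / 4 = 1 := by omega
    obtain ⟨k, _, hk1, hk0⟩ := sum_one Finset.univ (fun i => y i ^ 2 / 4) (fun i _ => hq0 i) hQ
    have hyk : y k = 2 ∨ y k = -2 := sq_div4_one hk1
    have hkW : k ∉ W := by
      intro h
      have := (hmem k).1 h
      omega
    have hq : ∀ i, i ≠ k → y i ^ 2 / 4 = 0 := fun i hik => hk0 i (Finset.mem_univ _) hik
    have hform : x = vec3 W e k (x k) := by
      funext i
      unfold vec3
      by_cases hik : i = k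
      · rw [if_pos hik, hik, vecS_out heW hkW, zero_add]
      · rw [if_neg hik, add_zero, he_def]
        exact eq_vecS_sign (by norm_num) x W i (hval0 i (hq i hik)).1 (hval0 i (hq i hik)).2
    have hxk : x k = 4 ∨ x k = -4 := by
      have := hxy k
      omega
    refine ⟨W, ⟨⟨wordZ y, hc, hW⟩, h12⟩, e, heW, ?_, k, hkW, x k, hxk, hform⟩
    have hS := sum_vec3 heW k (x k)
    rw [← hform] at hS
    rw [← Int.even_coe_nat, even_iff_two_dvd]
    omega
  · -- eight odd coordinates
    right; right
    have hQ : ∑ i, y i ^ 2 / 4 = 2 := by omega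
    have hex : ∃ k, y k ^ 2 / 4 ≠ 0 := by
      by_contra h
      push Not at h
      rw [Finset.sum_eq_zero (fun i _ => h i)] at hQ
      omega
    obtain ⟨k, hk⟩ := hex
    have hk2 : y k ^ 2 / 4 ≤ 2 := by
      rw [← hQ]
      exact Finset.single_le_sum (f := fun i => y i ^ 2 / 4) (fun i _ => hq0 i) (Finset.mem_univ k)
    have hrest : ∑ i ∈ Finset.univ.erase k, y i ^ 2 / 4 = 2 - y k ^ 2 / 4 := by
      have := Finset.add_sum_erase Finset.univ (fun i => y i ^ 2 / 4) (Finset.mem_univ k)
      rw [hQ] at this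
      omega
    have hkq : y k ^ 2 / 4 = 2 ∨ y k ^ 2 / 4 = 1 := by
      have := hq0 k
      omega
    rcases hkq with hk22 | hk1
    · -- one coordinate is ±6
      right; left
      have hyk : y k = 3 ∨ y k = -3 := sq_div4_two hk22
      have hkW : k ∈ W := by
        apply (hmem k).2
        omega
      have hq : ∀ i, i ≠ k → y i ^ 2 / 4 = 0 := by
        intro i hik
        have h0' : ∑ i ∈ Finset.univ.erase k, y i ^ 2 / 4 = 0 := by omega
        exact (Finset.sum_eq_zero_iff_of_nonneg (fun i _ => hq0 i)).1 h0' i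
          (Finset.mem_erase.2 ⟨hik, Finset.mem_univ _⟩)
      have hxk : x k = 6 ∨ x k = -6 := by
        have := hxy k
        omega
      have hform : x = vec6 W e k := by
        funext i
        unfold vec6
        by_cases hik : i = k
        · rw [if_pos hik, hik]
          unfold vecS
          rcases hxk with h | h
          · have hne : k ∉ e := by
              intro h'
              rw [he_def] at h'
              have := (Finset.mem_filter.1 h').2
              omega
            rw [if_neg hne, if_pos hkW, h]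
            norm_num
          · have hm : k ∈ e := by
              rw [he_def]
              exact Finset.mem_filter.2 ⟨hkW, by omega⟩
            rw [if_pos hm, h]
            norm_num
        · rw [if_neg hik, he_def]
          exact eq_vecS_sign (by norm_num) x W i (hval0 i (hq i hik)).1 (hval0 i (hq i hik)).2
      refine ⟨W, ⟨⟨wordZ y, hc, hW⟩, h8⟩, e, heW, ?_, k, hkW, hform⟩
      have hS := sum_vec3 heW k (2 * vecS 2 W e k)
      rw [← vec6_eq, ← hform] at hS
      have hv : vecS 2 W e k = 2 ∨ vecS 2 W e k = -2 := vecS_in hkW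
      rw [← Int.even_coe_nat, even_iff_two_dvd]
      omega
    · -- two coordinates are ±4
      left
      have hyk : y k = 2 ∨ y k = -2 := sq_div4_one hk1
      have hkW : k ∉ W := by
        intro h
        have := (hmem k).1 h
        omega
      have hrest1 : ∑ i ∈ Finset.univ.erase k, y i ^ 2 / 4 = 1 := by omega
      obtain ⟨k2, hk2m, hk21, hk20⟩ := sum_one (Finset.univ.erase k) (fun i => y i ^ 2 / 4)
        (fun i _ => hq0 i) hrest1
      have hk2k : k2 ≠ k := (Finset.mem_erase.1 hk2m).1
      have hyk2 : y k2 = 2 ∨ y k2 = -2 := sq_div4_one hk21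
      have hk2W : k2 ∉ W := by
        intro h
        have := (hmem k2).1 h
        omega
      have hq : ∀ i, i ≠ k → i ≠ k2 → y i ^ 2 / 4 = 0 := fun i hik hik2 =>
        hk20 i (Finset.mem_erase.2 ⟨hik, Finset.mem_univ _⟩) hik2
      have hKcard : ({k, k2} : Finset GolayPt).card = 2 := Finset.card_pair (fun h => hk2k h.symm)
      have hKW : Disjoint ({k, k2} : Finset GolayPt) W := by
        rw [Finset.disjoint_left]
        intro i hi
        rw [Finset.mem_insert, Finset.mem_singleton] at hi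
        rcases hi with rfl | rfl
        · exact hkW
        · exact hk2W
      obtain ⟨f, hf_def⟩ : ∃ f, f = ({k, k2} : Finset GolayPt).filter (fun i => x i < 0) :=
        ⟨_, rfl⟩
      have hfK : f ⊆ {k, k2} := by
        rw [hf_def]
        exact Finset.filter_subset _ _
      have hform : x = vec42 W e {k, k2} f := by
        funext i
        unfold vec42
        by_cases hiK : i ∈ ({k, k2} : Finset GolayPt)
        · have hiW : i ∉ W := Finset.disjoint_left.1 hKW hiK
          rw [vecS_out heW hiW, zero_add, hf_def]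
          apply eq_vecS_sign (by norm_num) x {k, k2} i _ (fun h => absurd hiK h)
          intro _
          rw [Finset.mem_insert, Finset.mem_singleton] at hiK
          have := hxy i
          rcases hiK with rfl | rfl <;> omega
        · have hik : i ≠ k := fun h => hiK (by rw [h]; exact Finset.mem_insert_self _ _)
          have hik2 : i ≠ k2 := fun h => hiK (by
            rw [h]; exact Finset.mem_insert_of_mem (Finset.mem_singleton_self _))
          rw [vecS_out hfK hiK, add_zero, he_def]
          exact eq_vecS_sign (by norm_num) x W i (hval0 i (hq i hik hik2)).1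
            (hval0 i (hq i hik hik2)).2
      refine ⟨W, ⟨⟨wordZ y, hc, hW⟩, h8⟩, e, heW, ?_, {k, k2}, hKcard, hKW, f, hfK, hform⟩
      have hS1 := sum_vecS (lam := 2) heW
      have hS2 := sum_vecS (lam := 4) hfK
      have hS : ∑ i, x i = ∑ i, vecS 2 W e i + ∑ i, vecS 4 {k, k2} f i := by
        rw [← Finset.sum_add_distrib]
        exact Finset.sum_congr rfl (fun i _ => congrFun hform i)
      rw [hKcard] at hS2
      rw [← Int.even_coe_nat, even_iff_two_dvd]
      omega
  · -- all coordinates divisible by four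
    right; right; right; right
    have hall : ∀ i, y i % 2 = 0 := by
      intro i
      have : i ∉ W := by
        rw [Finset.card_eq_zero.1 h00]
        exact Finset.notMem_empty i
      have h2 := (hmem i).not.1 this
      omega
    have hyz : ∀ i, y i = 2 * (y i / 2) := fun i => by have := hall i; omega
    have hs4 : ∑ i, (y i / 2) ^ 2 = 4 := by
      have : ∑ i, y i ^ 2 = 4 * ∑ i, (y i / 2) ^ 2 := by
        rw [Finset.mul_sum]
        apply Finset.sum_congr rfl
        intro i _
        have := hyz i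
        generalize y i / 2 = w at this ⊢
        rw [this]
        ring
      omega
    obtain ⟨z, hz⟩ : ∃ z : GolayPt → ℤ, z = fun i => y i / 2 := ⟨_, rfl⟩
    have hs4' : ∑ i, z i ^ 2 = 4 := by rw [hz]; exact hs4
    have hxz : ∀ i, x i = 4 * z i := by
      intro i
      have h1 := hxy i
      have h2 := hyz i
      have h3 : z i = y i / 2 := by rw [hz]
      omega
    by_cases hbig : ∃ k, 2 ≤ z k ^ 2
    · right
      obtain ⟨k, hk⟩ := hbig
      have hk4 : 4 ≤ z k ^ 2 := four_le_sq hk
      have hk4' : z k ^ 2 ≤ 4 := by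
        rw [← hs4']
        exact Finset.single_le_sum (f := fun i => z i ^ 2) (fun i _ => sq_nonneg _)
          (Finset.mem_univ k)
      have hzk : z k = 2 ∨ z k = -2 := sq_eq_four (by omega)
      have hrest : ∑ i ∈ Finset.univ.erase k, z i ^ 2 = 0 := by
        have := Finset.add_sum_erase Finset.univ (fun i => z i ^ 2) (Finset.mem_univ k)
        rw [hs4'] at this
        omega
      have hz0 : ∀ i, i ≠ k → z i = 0 := by
        intro i hik
        have := (Finset.sum_eq_zero_iff_of_nonneg (fun i _ => sq_nonneg (z i))).1 hrest i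
          (Finset.mem_erase.2 ⟨hik, Finset.mem_univ _⟩)
        exact pow_eq_zero_iff (by norm_num) |>.1 this
      refine ⟨{k}, Finset.card_singleton k, ({k} : Finset GolayPt).filter (fun i => x i < 0),
        Finset.filter_subset _ _, ?_⟩
      funext i
      apply eq_vecS_sign (by norm_num) x {k} i
      · intro hi
        rw [Finset.mem_singleton] at hi
        have := hxz i
        rw [hi] at this ⊢
        omega
      · intro hi
        rw [Finset.mem_singleton] at hi
        have := hxz i
        have := hz0 i hi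
        omega
    · left
      push Not at hbig
      have hz1 : ∀ i, z i = 0 ∨ z i = 1 ∨ z i = -1 := fun i => sq_small (hbig i)
      obtain ⟨P, hP_def⟩ : ∃ P, P = Finset.univ.filter (fun i => z i ≠ 0) := ⟨_, rfl⟩
      have hPmem : ∀ i, i ∈ P ↔ z i ≠ 0 := by
        intro i
        rw [hP_def, Finset.mem_filter]
        exact ⟨fun h => h.2, fun h => ⟨Finset.mem_univ _, h⟩⟩
      have hPcard : P.card = 4 := by
        have h1 : ∑ i, z i ^ 2 = ∑ i, ind P i := by
          apply Finset.sum_congr rfl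
          intro i _
          rcases ind_cases P i with ⟨h3, h4⟩ | ⟨h3, h4⟩
          · rw [h4]
            have := (hPmem i).1 h3
            rcases hz1 i with h | h | h
            · exact absurd h this
            · rw [h]; norm_num
            · rw [h]; norm_num
          · rw [h4]
            have := (hPmem i).not.1 h3
            push Not at this
            rw [this]
            norm_num
        rw [sum_ind, hs4'] at h1
        exact_mod_cast h1.symm
      refine ⟨P, hPcard, P.filter (fun i => x i < 0), Finset.filter_subset _ _, ?_⟩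
      funext i
      apply eq_vecS_sign (by norm_num) x P i
      · intro hi
        have h1 := (hPmem i).1 hi
        have := hxz i
        rcases hz1 i with h | h | h <;> omega
      · intro hi
        have h1 := (hPmem i).not.1 hi
        push Not at h1
        have := hxz i
        omega

theorem sq_ne_33 (y : ℤ) : y ^ 2 ≠ 33 := by
  intro h
  have h1 : y < 6 := by nlinarith
  have h2 : -6 < y := by nlinarith
  have h3 : y = -5 ∨ y = -4 ∨ y = -3 ∨ y = -2 ∨ y = -1 ∨ y = 0 ∨ y = 1 ∨ y = 2 ∨ y = 3 ∨ y = 4 ∨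
      y = 5 := by omega
  rcases h3 with rfl | rfl | rfl | rfl | rfl | rfl | rfl | rfl | rfl | rfl | rfl <;> norm_num at h

theorem sq_ne_41 (y : ℤ) : y ^ 2 ≠ 41 := by
  intro h
  have h1 : y < 7 := by nlinarith
  have h2 : -7 < y := by nlinarith
  have h3 : y = -6 ∨ y = -5 ∨ y = -4 ∨ y = -3 ∨ y = -2 ∨ y = -1 ∨ y = 0 ∨ y = 1 ∨ y = 2 ∨ y = 3 ∨
      y = 4 ∨ y = 5 ∨ y = 6 := by omega
  rcases h3 with rfl | rfl | rfl | rfl | rfl | rfl | rfl | rfl | rfl | rfl | rfl | rfl | rfl <;>
    norm_num at h

theorem classify_odd64 {x : GolayPt → ℤ} (hx : x ∈ leechLattice) (hn : sqNorm x = 64)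
    (h0 : ¬ 2 ∣ x none) :
    (∃ c ∈ golayCode, ∃ J : Finset GolayPt, J.card = 5 ∧ x = fG c (tJ J)) ∨
    (∃ c ∈ golayCode, ∃ j, ∃ P : Finset GolayPt, j ∉ P ∧ P.card = 2 ∧ x = fG c (t53 j P)) := by
  obtain ⟨hod, hc⟩ := halfO_word_mem hx h0
  have h8 : ∀ i, (8 : ℤ) ∣ x i ^ 2 - 1 := by
    intro i
    have := hod i
    obtain ⟨k, hk⟩ : ∃ k, x i = 2 * k + 1 := ⟨(x i - 1) / 2, by omega⟩
    rw [hk]
    have h2 : (2 : ℤ) ∣ k * (k + 1) := (Int.even_mul_succ_self k).two_dvd
    obtain ⟨t, ht⟩ := h2
    exact ⟨t, by nlinarith⟩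
  obtain ⟨g, hg⟩ : ∃ g : GolayPt → ℤ, ∀ i, x i ^ 2 = 1 + 8 * g i :=
    ⟨fun i => (x i ^ 2 - 1) / 8, fun i => by
      obtain ⟨t, ht⟩ := h8 i
      show x i ^ 2 = 1 + 8 * ((x i ^ 2 - 1) / 8)
      omega⟩
  have hnn : ∀ i, 0 ≤ g i := by
    intro i
    have : x i ≠ 0 := by
      intro h
      have := hod i
      rw [h] at this
      exact this (dvd_zero _)
    have := one_le_sq this
    have := hg i
    omega
  have hsum : ∑ i, g i = 5 := by
    have h1 : ∑ i, x i ^ 2 = ∑ i, (1 + 8 * g i) := Finset.sum_congr rfl (fun i _ => hg i)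
    rw [Finset.sum_add_distrib, ← Finset.mul_sum] at h1
    unfold sqNorm at hn
    rw [hn] at h1
    simp only [Finset.sum_const, Finset.card_univ, card_golayPt, nsmul_eq_mul, Nat.cast_ofNat,
      mul_one] at h1
    omega
  have hg5 : ∀ i, g i ≤ 5 := by
    intro i
    rw [← hsum]
    exact Finset.single_le_sum (f := g) (fun i _ => hnn i) (Finset.mem_univ i)
  have hgv : ∀ i, g i = 0 ∨ g i = 1 ∨ g i = 3 := by
    intro i
    have h1 := hg i
    have h2 := hnn i
    have h3 := hg5 i
    have h4 : g i ≠ 2 := fun h => sq_ne_17 (x i) (by omega)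
    have h5 : g i ≠ 4 := fun h => sq_ne_33 (x i) (by omega)
    have h6 : g i ≠ 5 := fun h => sq_ne_41 (x i) (by omega)
    omega
  have hSmem : ∀ i, i ∈ Finset.univ.filter (fun i => g i ≠ 0) ↔ g i ≠ 0 := fun i => by
    rw [Finset.mem_filter]
    exact ⟨fun h => h.2, fun h => ⟨Finset.mem_univ _, h⟩⟩
  generalize hS : Finset.univ.filter (fun i => g i ≠ 0) = S at hSmem
  have hS0 : ∀ i, i ∉ S → g i = 0 := by
    intro i hi
    by_contra h
    exact hi ((hSmem i).2 h)
  have hsumS : ∑ i ∈ S, g i = 5 := by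
    rw [← hsum]
    apply Finset.sum_subset (Finset.subset_univ _)
    intro i _ hi
    exact hS0 i hi
  have hgS : ∀ i ∈ S, g i = 1 + 2 * ((g i - 1) / 2) ∧ 0 ≤ (g i - 1) / 2 ∧ (g i - 1) / 2 ≤ 1 := by
    intro i hi
    have h1 := (hSmem i).1 hi
    rcases hgv i with h | h | h
    · exact absurd h h1
    · rw [h]; norm_num
    · rw [h]; norm_num
  have hsplit : (S.card : ℤ) + 2 * ∑ i ∈ S, (g i - 1) / 2 = 5 := by
    rw [← hsumS, Finset.sum_congr rfl (fun i hi => (hgS i hi).1), Finset.sum_add_distrib,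
      ← Finset.mul_sum]
    simp
  have hH0 : 0 ≤ ∑ i ∈ S, (g i - 1) / 2 := Finset.sum_nonneg (fun i hi => (hgS i hi).2.1)
  have hcases : S.card = 1 ∨ S.card = 3 ∨ S.card = 5 := by omega
  obtain ⟨c3, cm3, c1, cm1⟩ := cast_vals
  obtain ⟨c5, cm5⟩ := cast_vals5
  have hone : ∀ i, g i = 0 → (x i = 1 ∧ (((x i - 1) / 2 : ℤ) : ZMod 2) = 0) ∨
      (x i = -1 ∧ (((x i - 1) / 2 : ℤ) : ZMod 2) ≠ 0) := by
    intro i hi
    have h1 : x i ^ 2 = 1 := by
      have := hg i
      omega
    rcases sq_eq_one h1 with h | h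
    · left
      rw [h]
      exact ⟨rfl, c1⟩
    · right
      rw [h]
      exact ⟨rfl, cm1⟩
  have hthree : ∀ i, g i = 1 → (x i = -3 ∧ (((x i - 1) / 2 : ℤ) : ZMod 2) = 0) ∨
      (x i = - -3 ∧ (((x i - 1) / 2 : ℤ) : ZMod 2) ≠ 0) := by
    intro i hi
    have h1 : x i ^ 2 = 9 := by
      have := hg i
      omega
    rcases sq_eq_nine h1 with h | h
    · right
      rw [h]
      exact ⟨rfl, c3⟩
    · left
      rw [h]
      exact ⟨rfl, cm3⟩
  have hfive : ∀ i, g i = 3 → (x i = 5 ∧ (((x i - 1) / 2 : ℤ) : ZMod 2) = 0) ∨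
      (x i = -5 ∧ (((x i - 1) / 2 : ℤ) : ZMod 2) ≠ 0) := by
    intro i hi
    have h1 : x i ^ 2 = 25 := by
      have := hg i
      omega
    rcases sq_eq_25 h1 with h | h
    · left
      rw [h]
      exact ⟨rfl, c5⟩
    · right
      rw [h]
      exact ⟨rfl, cm5⟩
  rcases hcases with h | h | h
  · exfalso
    obtain ⟨a, ha⟩ := Finset.card_eq_one.1 h
    have := (hgS a (by rw [ha]; exact Finset.mem_singleton_self a)).2.2
    rw [ha, Finset.sum_singleton, Finset.card_singleton] at hsplit
    omega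
  · right
    have hH : ∑ i ∈ S, (g i - 1) / 2 = 1 := by
      rw [h] at hsplit
      omega
    obtain ⟨j, hjS, hj1, hj0⟩ := sum_one S (fun i => (g i - 1) / 2)
      (fun i hi => (hgS i hi).2.1) hH
    have hgj : g j = 3 := by
      have := (hgS j hjS).1
      have hj1' : (g j - 1) / 2 = 1 := hj1
      omega
    have hgi : ∀ i ∈ S, i ≠ j → g i = 1 := by
      intro i hi hij
      have := (hgS i hi).1
      have h' : (g i - 1) / 2 = 0 := hj0 i hi hij
      omega
    refine ⟨wordZ (halfO x), hc, j, S.erase j, Finset.notMem_erase j S, ?_, ?_⟩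
    · rw [Finset.card_erase_of_mem hjS, h]
    · funext i
      apply fG_at
      unfold t53
      by_cases hij : i = j
      · rw [if_pos hij, hij]
        exact hfive j hgj
      · rw [if_neg hij]
        by_cases hi : i ∈ S
        · rw [if_pos (Finset.mem_erase.2 ⟨hij, hi⟩)]
          exact hthree i (hgi i hi hij)
        · rw [if_neg (fun h' => hi (Finset.mem_of_mem_erase h'))]
          exact hone i (hS0 i hi)
  · left
    have hH : ∑ i ∈ S, (g i - 1) / 2 = 0 := by
      rw [h] at hsplit
      omega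
    have hall := (Finset.sum_eq_zero_iff_of_nonneg (fun i hi => (hgS i hi).2.1)).1 hH
    have hgi : ∀ i ∈ S, g i = 1 := by
      intro i hi
      have := (hgS i hi).1
      have h' : (g i - 1) / 2 = 0 := hall i hi
      omega
    refine ⟨wordZ (halfO x), hc, S, h, ?_⟩
    funext i
    apply fG_at
    unfold tJ
    by_cases hi : i ∈ S
    · rw [if_pos hi]
      exact hthree i (hgi i hi)
    · rw [if_neg hi]
      exact hone i (hS0 i hi)

end Cfsg.Agent.Lib.Helper1.Leech64
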