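import Mathlib
import Cfsg.Agent.Lib.Helper1.Leech64b

/-!
# Vectors of sum of squares 64 in the rank-24 lattice: the sizes of the eight families
-/

set_option autoImplicit false

namespace Cfsg.Agent.Lib.Helper1.Leech64

open Cfsg Cfsg.Agent.Lib.Helper1 Cfsg.Agent.Lib.Helper9.LeechTS Cfsg.Agent.S0394
open Cfsg.Agent.Lib.Helper1.Leech48

theorem cnt16 : (Finset.univ.filter (fun m : Fin 4096 => popc (combo m.val) = 16)).card = 759 := by
  decide +kernel

theorem ncard_wts16 : (wts 16).ncard = 759 := by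
  rw [ncard_wordsOfWeight, cnt16]

open Classical in
/-- the supports of the words of weight sixteen as a finite set -/
noncomputable def hexF : Finset (Finset GolayPt) := Finset.univ.filter (fun D => D ∈ wts 16)

open Classical in
theorem mem_hexF (D : Finset GolayPt) : D ∈ hexF ↔ D ∈ wts 16 := by
  unfold hexF
  rw [Finset.mem_filter]
  exact ⟨fun h => h.2, fun h => ⟨Finset.mem_univ _, h⟩⟩

theorem card_hexF : hexF.card = 759 := by
  rw [← ncard_wts16, ← Set.ncard_coe_finset]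
  congr 1
  ext D
  exact mem_hexF D

theorem card_even_subsets16 (O : Finset GolayPt) (h : O.card = 16) :
    (O.powerset.filter (fun e => Even e.card)).card = 32768 := by
  have hne : O.Nonempty := by
    rw [← Finset.card_pos, h]
    norm_num
  have h1 := Finset.sum_powerset_neg_one_pow_card_of_nonempty hne
  rw [← Finset.sum_filter_add_sum_filter_not O.powerset (fun e => Even e.card)] at h1
  have h2 : ∑ m ∈ O.powerset.filter (fun e => Even e.card), (-1 : ℤ) ^ m.card =
      ((O.powerset.filter (fun e => Even e.card)).card : ℤ) := by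
    rw [Finset.sum_congr rfl (fun m hm => Even.neg_one_pow (Finset.mem_filter.1 hm).2)]
    simp
  have h3 : ∑ m ∈ O.powerset.filter (fun e => ¬ Even e.card), (-1 : ℤ) ^ m.card =
      -((O.powerset.filter (fun e => ¬ Even e.card)).card : ℤ) := by
    rw [Finset.sum_congr rfl (fun m hm =>
      Odd.neg_one_pow (Nat.not_even_iff_odd.1 (Finset.mem_filter.1 hm).2))]
    simp
  have h4 := Finset.card_filter_add_card_filter_not (s := O.powerset) (fun e => Even e.card)
  rw [Finset.card_powerset, h] at h4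
  rw [h2, h3] at h1
  omega

theorem card_odd_subsets12 (O : Finset GolayPt) (h : O.card = 12) :
    (O.powerset.filter (fun e => ¬ Even e.card)).card = 2048 := by
  have h4 := Finset.card_filter_add_card_filter_not (s := O.powerset) (fun e => Even e.card)
  rw [Finset.card_powerset, h, card_even_subsets12 O h] at h4
  omega

/-! ### injectivity -/

theorem vec42_mod4 {O e K f : Finset GolayPt} (he : e ⊆ O) (hf : f ⊆ K) (hKO : Disjoint K O)
    (i : GolayPt) : vec42 O e K f i % 4 = 2 ↔ i ∈ O := by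
  unfold vec42
  by_cases hi : i ∈ O
  · have hiK : i ∉ K := fun h => (Finset.disjoint_left.1 hKO h) hi
    rw [vecS_out hf hiK, add_zero]
    have := vecS_in (lam := 2) (e := e) hi
    constructor
    · intro _
      exact hi
    · intro _
      omega
  · rw [vecS_out he hi, zero_add]
    constructor
    · intro h
      exfalso
      by_cases hiK : i ∈ K
      · have := vecS_in (lam := 4) (e := f) hiK
        omega
      · rw [vecS_out hf hiK] at h
        norm_num at h
    · intro h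
      exact absurd h hi

theorem vec42_inj {O e K f O' e' K' f' : Finset GolayPt} (he : e ⊆ O) (hf : f ⊆ K)
    (hKO : Disjoint K O) (he' : e' ⊆ O') (hf' : f' ⊆ K') (hKO' : Disjoint K' O')
    (h : vec42 O e K f = vec42 O' e' K' f') : O = O' ∧ e = e' ∧ K = K' ∧ f = f' := by
  have hO : O = O' := by
    ext i
    rw [← vec42_mod4 he hf hKO i, ← vec42_mod4 he' hf' hKO' i, h]
  subst hO
  have hv : vecS 2 O e = vecS 2 O e' := by
    funext i
    by_cases hi : i ∈ O
    · have hiK : i ∉ K := fun h => (Finset.disjoint_left.1 hKO h) hi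
      have hiK' : i ∉ K' := fun h => (Finset.disjoint_left.1 hKO' h) hi
      have h1 := congrFun h i
      unfold vec42 at h1
      rw [vecS_out hf hiK, vecS_out hf' hiK', add_zero, add_zero] at h1
      exact h1
    · rw [vecS_out he hi, vecS_out he' hi]
  obtain ⟨_, h2⟩ := vecS_inj (by norm_num) he he' hv
  subst h2
  have hv2 : vecS 4 K f = vecS 4 K' f' := by
    funext i
    have h1 := congrFun h i
    unfold vec42 at h1
    exact add_left_cancel h1
  obtain ⟨h3, h4⟩ := vecS_inj (by norm_num) hf hf' hv2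
  exact ⟨rfl, rfl, h3, h4⟩

theorem vec6_inj {O e O' e' : Finset GolayPt} {k k' : GolayPt} (he : e ⊆ O) (he' : e' ⊆ O')
    (hk : k ∈ O) (h : vec6 O e k = vec6 O' e' k') : O = O' ∧ e = e' ∧ k = k' := by
  have hkk : k = k' := by
    by_contra hne
    have h1 := congrFun h k
    unfold vec6 at h1
    rw [if_pos rfl, if_neg hne] at h1
    have h2 := vecS_in (lam := 2) (e := e) hk
    rcases vecS_vals O' e' k with h3 | h3 | h3 <;> omega
  subst hkk
  have hv : vecS 2 O e = vecS 2 O' e' := by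
    funext i
    have h1 := congrFun h i
    unfold vec6 at h1
    by_cases hik : i = k
    · rw [if_pos hik, if_pos hik] at h1
      omega
    · rw [if_neg hik, if_neg hik] at h1
      exact h1
  obtain ⟨h1, h2⟩ := vecS_inj (by norm_num) he he' hv
  exact ⟨h1, h2, rfl⟩

theorem t53_ne_zero (j : GolayPt) (P : Finset GolayPt) (i : GolayPt) : t53 j P i ≠ 0 := by
  unfold t53
  split_ifs <;> norm_num

theorem t53_sq (j : GolayPt) (P : Finset GolayPt) (hj : j ∉ P) (i : GolayPt) :
    (t53 j P i ^ 2 = 25 ↔ i = j) ∧ (t53 j P i ^ 2 = 9 ↔ i ∈ P) := by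
  unfold t53
  by_cases hij : i = j
  · have : i ∉ P := fun h => hj (hij ▸ h)
    rw [if_pos hij]
    exact ⟨⟨fun _ => hij, fun _ => by norm_num⟩, ⟨fun h => by norm_num at h, fun h => absurd h this⟩⟩
  · rw [if_neg hij]
    by_cases hi : i ∈ P
    · rw [if_pos hi]
      exact ⟨⟨fun h => by norm_num at h, fun h => absurd h hij⟩, ⟨fun _ => hi, fun _ => by norm_num⟩⟩
    · rw [if_neg hi]
      exact ⟨⟨fun h => by norm_num at h, fun h => absurd h hij⟩,
        ⟨fun h => by norm_num at h, fun h => absurd h hi⟩⟩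

theorem t53_inj {c c' : GolayPt → ZMod 2} {j j' : GolayPt} {P P' : Finset GolayPt} (hj : j ∉ P)
    (hj' : j' ∉ P') (h : fG c (t53 j P) = fG c' (t53 j' P')) : j = j' ∧ P = P' := by
  have hsq : ∀ i, t53 j P i ^ 2 = t53 j' P' i ^ 2 := by
    intro i
    have h1 : fG c (t53 j P) i ^ 2 = fG c' (t53 j' P') i ^ 2 := by rw [h]
    rw [fG_sq, fG_sq] at h1
    exact h1
  constructor
  · have h1 := (t53_sq j P hj j).1.2 rfl
    rw [hsq j] at h1
    exact (t53_sq j' P' hj' j).1.1 h1
  · ext i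
    rw [← (t53_sq j P hj i).2, ← (t53_sq j' P' hj' i).2, hsq i]

/-! ### the size of the support -/

/-- the number of non-zero coordinates -/
def supp (x : GolayPt → ℤ) : ℕ := (Finset.univ.filter (fun i => x i ≠ 0)).card

theorem supp_vecS {lam : ℤ} (hl : lam ≠ 0) {T e : Finset GolayPt} (he : e ⊆ T) :
    supp (vecS lam T e) = T.card := by
  unfold supp
  congr 1
  ext i
  rw [Finset.mem_filter, vecS_ne_zero_iff hl he]
  exact ⟨fun h => h.2, fun h => ⟨Finset.mem_univ _, h⟩⟩

theorem supp_vec3 {T e : Finset GolayPt} (he : e ⊆ T) {k : GolayPt} (hk : k ∉ T) {s : ℤ}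
    (hs : s ≠ 0) : supp (vec3 T e k s) = T.card + 1 := by
  unfold supp
  rw [← Finset.card_insert_of_notMem hk]
  congr 1
  ext i
  rw [Finset.mem_filter, Finset.mem_insert]
  unfold vec3
  by_cases hik : i = k
  · rw [if_pos hik, hik, vecS_out he hk, zero_add]
    exact ⟨fun _ => Or.inl rfl, fun _ => ⟨Finset.mem_univ _, hs⟩⟩
  · rw [if_neg hik, add_zero, vecS_ne_zero_iff (by norm_num) he]
    exact ⟨fun h => Or.inr h.2, fun h => ⟨Finset.mem_univ _, h.resolve_left hik⟩⟩

theorem supp_vec42 {O e K f : Finset GolayPt} (he : e ⊆ O) (hf : f ⊆ K) (hKO : Disjoint K O) :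
    supp (vec42 O e K f) = O.card + K.card := by
  unfold supp
  rw [← Finset.card_union_of_disjoint hKO.symm]
  congr 1
  ext i
  rw [Finset.mem_filter, Finset.mem_union]
  unfold vec42
  by_cases hi : i ∈ O
  · have hiK : i ∉ K := fun h => (Finset.disjoint_left.1 hKO h) hi
    rw [vecS_out hf hiK, add_zero, vecS_ne_zero_iff (by norm_num) he]
    exact ⟨fun h => Or.inl h.2, fun _ => ⟨Finset.mem_univ _, hi⟩⟩
  · rw [vecS_out he hi, zero_add, vecS_ne_zero_iff (by norm_num) hf]
    exact ⟨fun h => Or.inr h.2, fun h => ⟨Finset.mem_univ _, h.resolve_left hi⟩⟩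

theorem supp_vec6 {O e : Finset GolayPt} (he : e ⊆ O) (k : GolayPt) :
    supp (vec6 O e k) = O.card := by
  unfold supp
  congr 1
  ext i
  rw [Finset.mem_filter, ← vecS_ne_zero_iff (lam := 2) (by norm_num) he i]
  unfold vec6
  by_cases hik : i = k
  · rw [if_pos hik]
    constructor
    · intro h h'
      apply h.2
      rw [h']
      norm_num
    · intro h
      refine ⟨Finset.mem_univ _, ?_⟩
      intro h'
      apply h
      omega
  · rw [if_neg hik]
    exact ⟨fun h => h.2, fun h => ⟨Finset.mem_univ _, h⟩⟩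

theorem supp_fG (c : GolayPt → ZMod 2) {t : GolayPt → ℤ} (ht : ∀ i, t i ≠ 0) :
    supp (fG c t) = 24 := by
  unfold supp
  rw [Finset.filter_true_of_mem, Finset.card_univ, card_golayPt]
  intro i _
  unfold fG
  split_ifs
  · rw [one_mul]
    exact ht i
  · intro h
    apply ht i
    omega

/-- the sets of points of a given size -/
noncomputable def setsOfCard (n : ℕ) : Finset (Finset GolayPt) :=
  @Finset.filter _ (fun P => P.card = n) (fun _ => Classical.propDecidable _) Finset.univ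

theorem mem_setsOfCard (n : ℕ) (P : Finset GolayPt) : P ∈ setsOfCard n ↔ P.card = n := by
  unfold setsOfCard
  constructor
  · intro h
    exact ((@Finset.mem_filter _ (fun P : Finset GolayPt => P.card = n)
      (fun _ => Classical.propDecidable _) Finset.univ P).1 h).2
  · intro h
    exact (@Finset.mem_filter _ (fun P : Finset GolayPt => P.card = n)
      (fun _ => Classical.propDecidable _) Finset.univ P).2 ⟨Finset.mem_univ _, h⟩

theorem card_setsOfCard (n : ℕ) : (setsOfCard n).card = Nat.choose 24 n := by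
  have h : setsOfCard n = (Finset.univ : Finset GolayPt).powersetCard n := by
    ext P
    rw [mem_setsOfCard, Finset.mem_powersetCard]
    exact ⟨fun h => ⟨Finset.subset_univ _, h⟩, fun h => h.2⟩
  rw [h, Finset.card_powersetCard, Finset.card_univ, card_golayPt]

/-! ### the eight families as finite sets -/

/-- first family -/
noncomputable def E1 : Finset (GolayPt → ℤ) :=
  (hexF.sigma (fun D => D.powerset.filter (fun e => Even e.card))).image
    (fun p => vecS 2 p.1 p.2)

/-- second family -/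
noncomputable def E2 : Finset (GolayPt → ℤ) :=
  (dodF.sigma (fun O => ((O.powerset.filter (fun e => ¬ Even e.card)) ×ˢ Oᶜ) ×ˢ
    ({4, -4} : Finset ℤ))).image (fun p => vec3 p.1 p.2.1.1 p.2.1.2 p.2.2)

/-- third family -/
noncomputable def E3 : Finset (GolayPt → ℤ) :=
  (octF.sigma (fun O => (O.powerset.filter (fun e => Even e.card)) ×ˢ
    ((Oᶜ.powersetCard 2).sigma (fun K => K.powerset)))).image
    (fun p => vec42 p.1 p.2.1 p.2.2.1 p.2.2.2)

/-- fourth family -/
noncomputable def E4 : Finset (GolayPt → ℤ) :=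
  (octF.sigma (fun O => (O.powerset.filter (fun e => ¬ Even e.card)) ×ˢ O)).image
    (fun p => vec6 p.1 p.2.1 p.2.2)

/-- fifth family -/
noncomputable def E5 : Finset (GolayPt → ℤ) :=
  ((setsOfCard 4).sigma (fun p => p.powerset)).image
    (fun p => vecS 4 p.1 p.2)

/-- sixth family -/
noncomputable def E6 : Finset (GolayPt → ℤ) :=
  ((setsOfCard 1).sigma (fun p => p.powerset)).image
    (fun p => vecS 8 p.1 p.2)

open Classical in
/-- seventh family -/
noncomputable def O1 : Finset (GolayPt → ℤ) :=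
  ((Finset.univ : Finset ↥golayCode) ×ˢ ((Finset.univ : Finset GolayPt).powersetCard 5)).image
    (fun p => fG (p.1 : GolayPt → ZMod 2) (tJ p.2))

open Classical in
/-- eighth family -/
noncomputable def O2 : Finset (GolayPt → ℤ) :=
  ((Finset.univ : Finset ↥golayCode) ×ˢ ((Finset.univ : Finset GolayPt).sigma
    (fun j => (Finset.univ.erase j).powersetCard 2))).image
    (fun p => fG (p.1 : GolayPt → ZMod 2) (t53 p.2.1 p.2.2))

theorem card_E1 : E1.card = 24870912 := by
  unfold E1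
  rw [Finset.card_image_of_injOn]
  · rw [Finset.card_sigma]
    rw [Finset.sum_congr rfl (fun D hD => card_even_subsets16 D ((mem_hexF D).1 hD).2)]
    rw [Finset.sum_const, card_hexF]
    norm_num
  · intro p hp p' hp' h
    have hp1 := Finset.mem_sigma.1 hp
    have hp1' := Finset.mem_sigma.1 hp'
    have he := Finset.mem_powerset.1 (Finset.mem_filter.1 hp1.2).1
    have he' := Finset.mem_powerset.1 (Finset.mem_filter.1 hp1'.2).1
    obtain ⟨h1, h2⟩ := vecS_inj (by norm_num) he he' h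
    exact Sigma.ext h1 (heq_of_eq h2)

theorem card_E2 : E2.card = 126615552 := by
  unfold E2
  rw [Finset.card_image_of_injOn]
  · rw [Finset.card_sigma]
    rw [Finset.sum_congr rfl (fun O hO => by
      rw [Finset.card_product, Finset.card_product, card_odd_subsets12 O ((mem_dodF O).1 hO).2,
        Finset.card_compl, ((mem_dodF O).1 hO).2, card_golayPt,
        Finset.card_pair (by norm_num : (4 : ℤ) ≠ -4)])]
    rw [Finset.sum_const, card_dodF]
    norm_num
  · intro p hp p' hp' h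
    have hp1 := Finset.mem_sigma.1 hp
    have hp1' := Finset.mem_sigma.1 hp'
    have hq := Finset.mem_product.1 hp1.2
    have hq' := Finset.mem_product.1 hp1'.2
    have hr := Finset.mem_product.1 hq.1
    have hr' := Finset.mem_product.1 hq'.1
    have he := Finset.mem_powerset.1 (Finset.mem_filter.1 hr.1).1
    have he' := Finset.mem_powerset.1 (Finset.mem_filter.1 hr'.1).1
    have hk := Finset.mem_compl.1 hr.2
    have hk' := Finset.mem_compl.1 hr'.2
    have hs : p.2.2 = 4 ∨ p.2.2 = -4 := by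
      have := hq.2
      rw [Finset.mem_insert, Finset.mem_singleton] at this
      exact this
    obtain ⟨h1, h2, h3, h4⟩ := vec3_inj he he' hk hk' hs h
    exact Sigma.ext h1 (heq_of_eq (Prod.ext (Prod.ext h2 h3) h4))

theorem card_E3 : E3.card = 46632960 := by
  unfold E3
  rw [Finset.card_image_of_injOn]
  · rw [Finset.card_sigma]
    rw [Finset.sum_congr rfl (fun O hO => by
      rw [Finset.card_product, card_even_subsets O ((mem_octF O).1 hO).2, Finset.card_sigma,
        Finset.sum_congr rfl (fun K hK => by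
          rw [Finset.card_powerset, (Finset.mem_powersetCard.1 hK).2]),
        Finset.sum_const, Finset.card_powersetCard, Finset.card_compl, ((mem_octF O).1 hO).2,
        card_golayPt])]
    rw [Finset.sum_const, card_octF]
    norm_num [Nat.choose]
  · intro p hp p' hp' h
    have hp1 := Finset.mem_sigma.1 hp
    have hp1' := Finset.mem_sigma.1 hp'
    have hq := Finset.mem_product.1 hp1.2
    have hq' := Finset.mem_product.1 hp1'.2
    have hr := Finset.mem_sigma.1 hq.2
    have hr' := Finset.mem_sigma.1 hq'.2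
    have he := Finset.mem_powerset.1 (Finset.mem_filter.1 hq.1).1
    have he' := Finset.mem_powerset.1 (Finset.mem_filter.1 hq'.1).1
    have hf := Finset.mem_powerset.1 hr.2
    have hf' := Finset.mem_powerset.1 hr'.2
    have hKO : Disjoint p.2.2.1 p.1 := by
      rw [Finset.disjoint_left]
      intro i hi
      exact Finset.mem_compl.1 ((Finset.mem_powersetCard.1 hr.1).1 hi)
    have hKO' : Disjoint p'.2.2.1 p'.1 := by
      rw [Finset.disjoint_left]
      intro i hi
      exact Finset.mem_compl.1 ((Finset.mem_powersetCard.1 hr'.1).1 hi)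
    obtain ⟨h1, h2, h3, h4⟩ := vec42_inj he hf hKO he' hf' hKO' h
    exact Sigma.ext h1 (heq_of_eq (Prod.ext h2 (Sigma.ext h3 (heq_of_eq h4))))

theorem card_E4 : E4.card = 777216 := by
  unfold E4
  rw [Finset.card_image_of_injOn]
  · rw [Finset.card_sigma]
    rw [Finset.sum_congr rfl (fun O hO => by
      rw [Finset.card_product, card_odd_subsets8 O ((mem_octF O).1 hO).2,
        ((mem_octF O).1 hO).2])]
    rw [Finset.sum_const, card_octF]
    norm_num
  · intro p hp p' hp' h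
    have hp1 := Finset.mem_sigma.1 hp
    have hp1' := Finset.mem_sigma.1 hp'
    have hq := Finset.mem_product.1 hp1.2
    have hq' := Finset.mem_product.1 hp1'.2
    have he := Finset.mem_powerset.1 (Finset.mem_filter.1 hq.1).1
    have he' := Finset.mem_powerset.1 (Finset.mem_filter.1 hq'.1).1
    obtain ⟨h1, h2, h3⟩ := vec6_inj he he' hq.2 h
    exact Sigma.ext h1 (heq_of_eq (Prod.ext h2 h3))

theorem card_E5 : E5.card = 170016 := by
  unfold E5
  rw [Finset.card_image_of_injOn]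
  · rw [Finset.card_sigma]
    rw [Finset.sum_congr rfl (fun p hp => by
      rw [Finset.card_powerset, (mem_setsOfCard 4 p).1 hp])]
    rw [Finset.sum_const, card_setsOfCard]
    norm_num [Nat.choose]
  · intro p hp p' hp' h
    have hp1 := Finset.mem_sigma.1 hp
    have hp1' := Finset.mem_sigma.1 hp'
    have he := Finset.mem_powerset.1 hp1.2
    have he' := Finset.mem_powerset.1 hp1'.2
    obtain ⟨h1, h2⟩ := vecS_inj (by norm_num) he he' h
    exact Sigma.ext h1 (heq_of_eq h2)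

theorem card_E6 : E6.card = 48 := by
  unfold E6
  rw [Finset.card_image_of_injOn]
  · rw [Finset.card_sigma]
    rw [Finset.sum_congr rfl (fun p hp => by
      rw [Finset.card_powerset, (mem_setsOfCard 1 p).1 hp])]
    rw [Finset.sum_const, card_setsOfCard]
    norm_num [Nat.choose]
  · intro p hp p' hp' h
    have hp1 := Finset.mem_sigma.1 hp
    have hp1' := Finset.mem_sigma.1 hp'
    have he := Finset.mem_powerset.1 hp1.2
    have he' := Finset.mem_powerset.1 hp1'.2
    obtain ⟨h1, h2⟩ := vecS_inj (by norm_num) he he' h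
    exact Sigma.ext h1 (heq_of_eq h2)

open Classical in
theorem card_O1 : O1.card = 174096384 := by
  unfold O1
  rw [Finset.card_image_of_injective]
  · rw [Finset.card_product, Finset.card_univ, Fintype.card_congr codeEquiv.symm, Fintype.card_fin,
      Finset.card_powersetCard, Finset.card_univ, card_golayPt]
    norm_num [Nat.choose]
  · intro p p' h
    have hJ : p.2 = p'.2 := tJ_inj h
    have h0 : fG (p.1 : GolayPt → ZMod 2) (tJ p.2) = fG (p'.1 : GolayPt → ZMod 2) (tJ p'.2) := h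
    have h' : fG (p.1 : GolayPt → ZMod 2) (tJ p.2) = fG (p'.1 : GolayPt → ZMod 2) (tJ p.2) := by
      rw [← hJ] at h0
      exact h0
    have hc := fG_inj (tJ_ne_zero p.2) h'
    exact Prod.ext (Subtype.ext hc) hJ

open Classical in
theorem card_O2 : O2.card = 24870912 := by
  unfold O2
  rw [Finset.card_image_of_injOn]
  · rw [Finset.card_product, Finset.card_univ, Fintype.card_congr codeEquiv.symm, Fintype.card_fin,
      Finset.card_sigma]
    rw [Finset.sum_congr rfl (fun j _ => by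
      rw [Finset.card_powersetCard, Finset.card_erase_of_mem (Finset.mem_univ j), Finset.card_univ,
        card_golayPt])]
    rw [Finset.sum_const, Finset.card_univ, card_golayPt]
    norm_num [Nat.choose]
  · intro p hp p' hp' h
    have hq := (Finset.mem_product.1 hp).2
    have hq' := (Finset.mem_product.1 hp').2
    have hr := (Finset.mem_sigma.1 hq).2
    have hr' := (Finset.mem_sigma.1 hq').2
    have hj : p.2.1 ∉ p.2.2 := fun hh =>
      (Finset.mem_erase.1 ((Finset.mem_powersetCard.1 hr).1 hh)).1 rfl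
    have hj' : p'.2.1 ∉ p'.2.2 := fun hh =>
      (Finset.mem_erase.1 ((Finset.mem_powersetCard.1 hr').1 hh)).1 rfl
    have h0 : fG (p.1 : GolayPt → ZMod 2) (t53 p.2.1 p.2.2) =
        fG (p'.1 : GolayPt → ZMod 2) (t53 p'.2.1 p'.2.2) := h
    obtain ⟨h1, h2⟩ := t53_inj hj hj' h0
    have h' : fG (p.1 : GolayPt → ZMod 2) (t53 p.2.1 p.2.2) =
        fG (p'.1 : GolayPt → ZMod 2) (t53 p.2.1 p.2.2) := by
      rw [← h1, ← h2] at h0
      exact h0
    have hc := fG_inj (t53_ne_zero p.2.1 p.2.2) h'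
    exact Prod.ext (Subtype.ext hc) (Sigma.ext h1 (heq_of_eq h2))

/-! ### membership -/

theorem mem_E1 {x : GolayPt → ℤ} :
    x ∈ E1 ↔ ∃ H ∈ wts 16, ∃ e ⊆ H, Even e.card ∧ x = vecS 2 H e := by
  unfold E1
  rw [Finset.mem_image]
  constructor
  · rintro ⟨p, hp, rfl⟩
    have hp1 := Finset.mem_sigma.1 hp
    exact ⟨p.1, (mem_hexF _).1 hp1.1, p.2, Finset.mem_powerset.1 (Finset.mem_filter.1 hp1.2).1,
      (Finset.mem_filter.1 hp1.2).2, rfl⟩
  · rintro ⟨D, hD, e, he, hev, rfl⟩
    exact ⟨⟨D, e⟩, Finset.mem_sigma.2 ⟨(mem_hexF _).2 hD,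
      Finset.mem_filter.2 ⟨Finset.mem_powerset.2 he, hev⟩⟩, rfl⟩

theorem mem_E2 {x : GolayPt → ℤ} :
    x ∈ E2 ↔ ∃ D ∈ wts 12, ∃ e ⊆ D, ¬ Even e.card ∧ ∃ k, k ∉ D ∧ ∃ s : ℤ, (s = 4 ∨ s = -4) ∧
      x = vec3 D e k s := by
  unfold E2
  rw [Finset.mem_image]
  constructor
  · rintro ⟨p, hp, rfl⟩
    have hp1 := Finset.mem_sigma.1 hp
    have hq := Finset.mem_product.1 hp1.2
    have hr := Finset.mem_product.1 hq.1
    have hs : p.2.2 = 4 ∨ p.2.2 = -4 := by
      have := hq.2
      rw [Finset.mem_insert, Finset.mem_singleton] at this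
      exact this
    exact ⟨p.1, (mem_dodF _).1 hp1.1, p.2.1.1,
      Finset.mem_powerset.1 (Finset.mem_filter.1 hr.1).1, (Finset.mem_filter.1 hr.1).2,
      p.2.1.2, Finset.mem_compl.1 hr.2, p.2.2, hs, rfl⟩
  · rintro ⟨O, hO, e, he, hod, k, hk, s, hs, rfl⟩
    refine ⟨⟨O, ((e, k), s)⟩, Finset.mem_sigma.2 ⟨(mem_dodF _).2 hO, ?_⟩, rfl⟩
    refine Finset.mem_product.2 ⟨Finset.mem_product.2 ⟨Finset.mem_filter.2
      ⟨Finset.mem_powerset.2 he, hod⟩, Finset.mem_compl.2 hk⟩, ?_⟩
    show s ∈ ({4, -4} : Finset ℤ)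
    rw [Finset.mem_insert, Finset.mem_singleton]
    exact hs

theorem mem_E3 {x : GolayPt → ℤ} :
    x ∈ E3 ↔ ∃ O ∈ octads, ∃ e ⊆ O, Even e.card ∧ ∃ K : Finset GolayPt, K.card = 2 ∧
      Disjoint K O ∧ ∃ f ⊆ K, x = vec42 O e K f := by
  unfold E3
  rw [Finset.mem_image]
  constructor
  · rintro ⟨p, hp, rfl⟩
    have hp1 := Finset.mem_sigma.1 hp
    have hq := Finset.mem_product.1 hp1.2
    have hr := Finset.mem_sigma.1 hq.2
    have hKO : Disjoint p.2.2.1 p.1 := by
      rw [Finset.disjoint_left]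
      intro i hi
      exact Finset.mem_compl.1 ((Finset.mem_powersetCard.1 hr.1).1 hi)
    exact ⟨p.1, (mem_octF _).1 hp1.1, p.2.1, Finset.mem_powerset.1 (Finset.mem_filter.1 hq.1).1,
      (Finset.mem_filter.1 hq.1).2, p.2.2.1, (Finset.mem_powersetCard.1 hr.1).2, hKO, p.2.2.2,
      Finset.mem_powerset.1 hr.2, rfl⟩
  · rintro ⟨O, hO, e, he, hev, K, hK, hKO, f, hf, rfl⟩
    refine ⟨⟨O, (e, ⟨K, f⟩)⟩, Finset.mem_sigma.2 ⟨(mem_octF _).2 hO, ?_⟩, rfl⟩
    refine Finset.mem_product.2 ⟨Finset.mem_filter.2 ⟨Finset.mem_powerset.2 he, hev⟩,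
      Finset.mem_sigma.2 ⟨Finset.mem_powersetCard.2 ⟨?_, hK⟩, Finset.mem_powerset.2 hf⟩⟩
    intro i hi
    exact Finset.mem_compl.2 (Finset.disjoint_left.1 hKO hi)

theorem mem_E4 {x : GolayPt → ℤ} :
    x ∈ E4 ↔ ∃ O ∈ octads, ∃ e ⊆ O, ¬ Even e.card ∧ ∃ k ∈ O, x = vec6 O e k := by
  unfold E4
  rw [Finset.mem_image]
  constructor
  · rintro ⟨p, hp, rfl⟩
    have hp1 := Finset.mem_sigma.1 hp
    have hq := Finset.mem_product.1 hp1.2
    exact ⟨p.1, (mem_octF _).1 hp1.1, p.2.1, Finset.mem_powerset.1 (Finset.mem_filter.1 hq.1).1,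
      (Finset.mem_filter.1 hq.1).2, p.2.2, hq.2, rfl⟩
  · rintro ⟨O, hO, e, he, hod, k, hk, rfl⟩
    exact ⟨⟨O, (e, k)⟩, Finset.mem_sigma.2 ⟨(mem_octF _).2 hO, Finset.mem_product.2
      ⟨Finset.mem_filter.2 ⟨Finset.mem_powerset.2 he, hod⟩, hk⟩⟩, rfl⟩

theorem mem_E5 {x : GolayPt → ℤ} :
    x ∈ E5 ↔ ∃ p : Finset GolayPt, p.card = 4 ∧ ∃ q ⊆ p, x = vecS 4 p q := by
  unfold E5
  rw [Finset.mem_image]
  constructor
  · rintro ⟨p, hp, rfl⟩
    have hp1 := Finset.mem_sigma.1 hp
    exact ⟨p.1, (mem_setsOfCard 4 p.1).1 hp1.1, p.2, Finset.mem_powerset.1 hp1.2, rfl⟩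
  · rintro ⟨p, hp, q, hq, rfl⟩
    exact ⟨⟨p, q⟩, Finset.mem_sigma.2 ⟨(mem_setsOfCard 4 p).2 hp,
      Finset.mem_powerset.2 hq⟩, rfl⟩

theorem mem_E6 {x : GolayPt → ℤ} :
    x ∈ E6 ↔ ∃ p : Finset GolayPt, p.card = 1 ∧ ∃ q ⊆ p, x = vecS 8 p q := by
  unfold E6
  rw [Finset.mem_image]
  constructor
  · rintro ⟨p, hp, rfl⟩
    have hp1 := Finset.mem_sigma.1 hp
    exact ⟨p.1, (mem_setsOfCard 1 p.1).1 hp1.1, p.2, Finset.mem_powerset.1 hp1.2, rfl⟩
  · rintro ⟨p, hp, q, hq, rfl⟩
    exact ⟨⟨p, q⟩, Finset.mem_sigma.2 ⟨(mem_setsOfCard 1 p).2 hp,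
      Finset.mem_powerset.2 hq⟩, rfl⟩

open Classical in
theorem mem_O1 {x : GolayPt → ℤ} :
    x ∈ O1 ↔ ∃ c ∈ golayCode, ∃ J : Finset GolayPt, J.card = 5 ∧ x = fG c (tJ J) := by
  unfold O1
  rw [Finset.mem_image]
  constructor
  · rintro ⟨p, hp, rfl⟩
    have hp1 := Finset.mem_product.1 hp
    exact ⟨_, p.1.2, p.2, (Finset.mem_powersetCard.1 hp1.2).2, rfl⟩
  · rintro ⟨c, hc, J, hJ, rfl⟩
    exact ⟨(⟨c, hc⟩, J), Finset.mem_product.2 ⟨Finset.mem_univ _,
      Finset.mem_powersetCard.2 ⟨Finset.subset_univ _, hJ⟩⟩, rfl⟩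

open Classical in
theorem mem_O2 {x : GolayPt → ℤ} :
    x ∈ O2 ↔ ∃ c ∈ golayCode, ∃ j, ∃ P : Finset GolayPt, j ∉ P ∧ P.card = 2 ∧
      x = fG c (t53 j P) := by
  unfold O2
  rw [Finset.mem_image]
  constructor
  · rintro ⟨p, hp, rfl⟩
    have hq := (Finset.mem_product.1 hp).2
    have hr := (Finset.mem_sigma.1 hq).2
    have hj : p.2.1 ∉ p.2.2 := fun hh =>
      (Finset.mem_erase.1 ((Finset.mem_powersetCard.1 hr).1 hh)).1 rfl
    exact ⟨_, p.1.2, p.2.1, p.2.2, hj, (Finset.mem_powersetCard.1 hr).2, rfl⟩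
  · rintro ⟨c, hc, j, P, hj, hP, rfl⟩
    refine ⟨(⟨c, hc⟩, ⟨j, P⟩), Finset.mem_product.2 ⟨Finset.mem_univ _,
      Finset.mem_sigma.2 ⟨Finset.mem_univ _, Finset.mem_powersetCard.2 ⟨?_, hP⟩⟩⟩, rfl⟩
    intro i hi
    refine Finset.mem_erase.2 ⟨?_, Finset.mem_univ _⟩
    intro h
    apply hj
    have h' : i = j := h
    rw [← h']
    exact hi

/-! ### classification, membership, support sizes -/

theorem classify64 {x : GolayPt → ℤ} (hx : x ∈ leechLattice) (hn : sqNorm x = 64) :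
    x ∈ E1 ∨ x ∈ E2 ∨ x ∈ E3 ∨ x ∈ E4 ∨ x ∈ E5 ∨ x ∈ E6 ∨ x ∈ O1 ∨ x ∈ O2 := by
  rw [mem_E1, mem_E2, mem_E3, mem_E4, mem_E5, mem_E6, mem_O1, mem_O2]
  by_cases h0 : 2 ∣ x none
  · rcases classify_even64 hx hn h0 with h | h | h | h | h | h
    · exact Or.inl h
    · exact Or.inr (Or.inl h)
    · exact Or.inr (Or.inr (Or.inl h))
    · exact Or.inr (Or.inr (Or.inr (Or.inl h)))
    · exact Or.inr (Or.inr (Or.inr (Or.inr (Or.inl h))))
    · exact Or.inr (Or.inr (Or.inr (Or.inr (Or.inr (Or.inl h)))))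
  · rcases classify_odd64 hx hn h0 with h | h
    · exact Or.inr (Or.inr (Or.inr (Or.inr (Or.inr (Or.inr (Or.inl h))))))
    · exact Or.inr (Or.inr (Or.inr (Or.inr (Or.inr (Or.inr (Or.inr h))))))

theorem in_E1 {x : GolayPt → ℤ} (h : x ∈ E1) :
    (x ∈ leechLattice ∧ sqNorm x = 64) ∧ supp x = 16 := by
  obtain ⟨H, hH, e, he, hev, rfl⟩ := mem_E1.1 h
  exact ⟨mE1 hH he hev, by rw [supp_vecS (by norm_num) he, hH.2]⟩

theorem in_E2 {x : GolayPt → ℤ} (h : x ∈ E2) :
    (x ∈ leechLattice ∧ sqNorm x = 64) ∧ supp x = 13 := by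
  obtain ⟨D, hD, e, he, hod, k, hk, s, hs, rfl⟩ := mem_E2.1 h
  refine ⟨mE2 hD he hod hk hs, ?_⟩
  rw [supp_vec3 he hk (by rcases hs with rfl | rfl <;> norm_num), hD.2]

theorem in_E3 {x : GolayPt → ℤ} (h : x ∈ E3) :
    (x ∈ leechLattice ∧ sqNorm x = 64) ∧ supp x = 10 := by
  obtain ⟨O, hO, e, he, hev, K, hK, hKO, f, hf, rfl⟩ := mem_E3.1 h
  refine ⟨mE3 hO he hev hK hKO hf, ?_⟩
  rw [supp_vec42 he hf hKO, hO.2, hK]

theorem in_E4 {x : GolayPt → ℤ} (h : x ∈ E4) :
    (x ∈ leechLattice ∧ sqNorm x = 64) ∧ supp x = 8 := by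
  obtain ⟨O, hO, e, he, hod, k, hk, rfl⟩ := mem_E4.1 h
  refine ⟨mE4 hO he hod hk, ?_⟩
  rw [supp_vec6 he k, hO.2]

theorem in_E5 {x : GolayPt → ℤ} (h : x ∈ E5) :
    (x ∈ leechLattice ∧ sqNorm x = 64) ∧ supp x = 4 := by
  obtain ⟨P, hP, e, he, rfl⟩ := mem_E5.1 h
  exact ⟨mE5 hP he, by rw [supp_vecS (by norm_num) he, hP]⟩

theorem in_E6 {x : GolayPt → ℤ} (h : x ∈ E6) :
    (x ∈ leechLattice ∧ sqNorm x = 64) ∧ supp x = 1 := by
  obtain ⟨P, hP, e, he, rfl⟩ := mem_E6.1 h
  exact ⟨mE6 hP he, by rw [supp_vecS (by norm_num) he, hP]⟩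

theorem in_O1 {x : GolayPt → ℤ} (h : x ∈ O1) :
    (x ∈ leechLattice ∧ sqNorm x = 64) ∧ supp x = 24 := by
  obtain ⟨c, hc, J, hJ, rfl⟩ := mem_O1.1 h
  exact ⟨mO1 hc hJ, supp_fG c (tJ_ne_zero J)⟩

theorem in_O2 {x : GolayPt → ℤ} (h : x ∈ O2) :
    (x ∈ leechLattice ∧ sqNorm x = 64) ∧ supp x = 24 := by
  obtain ⟨c, hc, j, P, hj, hP, rfl⟩ := mem_O2.1 h
  exact ⟨mO2 hc hj hP, supp_fG c (t53_ne_zero j P)⟩

theorem dj {A B : Finset (GolayPt → ℤ)} {a b : ℕ} (hA : ∀ x ∈ A, supp x = a)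
    (hB : ∀ x ∈ B, supp x = b) (h : a ≠ b) : Disjoint A B := by
  rw [Finset.disjoint_left]
  intro x h1 h2
  exact h ((hA x h1).symm.trans (hB x h2))

theorem dj_O : Disjoint O1 O2 := by
  rw [Finset.disjoint_left]
  intro x h1 h2
  obtain ⟨c, _, J, _, rfl⟩ := mem_O1.1 h1
  obtain ⟨c', _, j, P, hj, _, hx⟩ := mem_O2.1 h2
  have h3 : fG c (tJ J) j ^ 2 = fG c' (t53 j P) j ^ 2 := by rw [hx]
  rw [fG_sq, fG_sq, (t53_sq j P hj j).1.2 rfl] at h3
  unfold tJ at h3
  split_ifs at h3 <;> norm_num at h3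

end Cfsg.Agent.Lib.Helper1.Leech64
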