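import Mathlib
import Cfsg.Agent.Lib.Helper9.LeechCong
import Cfsg.Agent.Lib.Helper1.LeechIndex
import Cfsg.Agent.Lib.Helper1.Leech2

/-!
# The rank-24 lattice modulo its double: the quotient has 2^24 elements
-/

set_option autoImplicit false

namespace Cfsg.Agent.Lib.Helper1.LeechCross

open Cfsg Cfsg.Agent.Lib.Helper1

/-- doubling -/
def dbl : (GolayPt → ℤ) →+ (GolayPt → ℤ) where
  toFun x := 2 • x
  map_zero' := nsmul_zero 2
  map_add' := fun x y => nsmul_add x y 2

theorem two_smul_apply (x : GolayPt → ℤ) (i : GolayPt) : (2 • x) i = 2 * x i := by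
  simp

theorem dbl_injective : Function.Injective dbl := by
  intro x y h
  funext i
  have h1 : (2 • x) i = (2 • y) i := congrFun h i
  rw [two_smul_apply, two_smul_apply] at h1
  omega

/-- reduction modulo two -/
def phi : (GolayPt → ℤ) →+ (GolayPt → ZMod 2) where
  toFun x := fun i => (x i : ZMod 2)
  map_zero' := by funext i; simp
  map_add' := by intro x y; funext i; simp

theorem phi_surjective : Function.Surjective phi := by
  intro w
  refine ⟨fun i => ((w i).val : ℤ), ?_⟩
  funext i
  show ((((w i).val : ℕ) : ℤ) : ZMod 2) = w i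
  simp

theorem ker_phi : phi.ker = dbl.range := by
  ext x
  rw [AddMonoidHom.mem_ker, AddMonoidHom.mem_range]
  constructor
  · intro h
    have h2 : ∀ i, (2 : ℤ) ∣ x i := by
      intro i
      have h1 : ((x i : ℤ) : ZMod 2) = 0 := congrFun h i
      exact (ZMod.intCast_zmod_eq_zero_iff_dvd _ 2).1 h1
    refine ⟨fun i => x i / 2, ?_⟩
    funext i
    show (2 • fun i => x i / 2) i = x i
    rw [two_smul_apply]
    have := h2 i
    omega
  · rintro ⟨z, rfl⟩
    funext i
    show (((2 • z) i : ℤ) : ZMod 2) = 0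
    apply (ZMod.intCast_zmod_eq_zero_iff_dvd _ 2).2
    rw [two_smul_apply]
    exact dvd_mul_right 2 _

theorem index_range_dbl : dbl.range.index = 2 ^ 24 := by
  rw [← ker_phi, AddSubgroup.index_ker, AddMonoidHom.range_eq_top.2 phi_surjective,
    AddSubgroup.card_top, Nat.card_eq_fintype_card, Fintype.card_fun, ZMod.card, card_golayPt]

/-- twice the lattice -/
def L2 : AddSubgroup (GolayPt → ℤ) := leechLattice.map dbl

theorem mem_L2 (x : GolayPt → ℤ) : x ∈ L2 ↔ ∃ z ∈ leechLattice, 2 • z = x := by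
  unfold L2
  rw [AddSubgroup.mem_map]
  rfl

theorem L2_le : L2 ≤ leechLattice := by
  intro x hx
  obtain ⟨z, hz, rfl⟩ := (mem_L2 x).1 hx
  exact leechLattice.nsmul_mem hz 2

theorem relIndex_L2 : L2.relIndex leechLattice = 2 ^ 24 := by
  have h1 : L2.index = 2 ^ 36 * 2 ^ 24 := by
    unfold L2
    rw [AddSubgroup.index_map_of_injective _ dbl_injective, index_leechLattice, index_range_dbl]
  have h2 := AddSubgroup.relIndex_mul_index L2_le
  rw [h1, index_leechLattice] at h2
  have h3 : L2.relIndex leechLattice * 2 ^ 36 = 2 ^ 24 * 2 ^ 36 := by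
    rw [h2]
    ring
  exact Nat.eq_of_mul_eq_mul_right (by norm_num) h3

/-- the lattice modulo its double -/
abbrev Q := ↥leechLattice ⧸ (L2.addSubgroupOf leechLattice)

theorem card_Q : Nat.card Q = 2 ^ 24 := relIndex_L2

open Classical in
/-- the class of a vector -/
noncomputable def cls (v : GolayPt → ℤ) : Q :=
  if h : v ∈ leechLattice then QuotientAddGroup.mk ⟨v, h⟩ else 0

theorem cls_eq_iff {v w : GolayPt → ℤ} (hv : v ∈ leechLattice) (hw : w ∈ leechLattice) :
    cls v = cls w ↔ ∃ z ∈ leechLattice, v - w = 2 • z := by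
  unfold cls
  rw [dif_pos hv, dif_pos hw, QuotientAddGroup.eq, AddSubgroup.mem_addSubgroupOf, mem_L2]
  constructor
  · rintro ⟨z, hz, h⟩
    refine ⟨-z, leechLattice.neg_mem hz, ?_⟩
    have h' : 2 • z = -v + w := h
    rw [smul_neg, h']
    abel
  · rintro ⟨z, hz, h⟩
    refine ⟨-z, leechLattice.neg_mem hz, ?_⟩
    show 2 • -z = -v + w
    rw [smul_neg, ← h]
    abel

end Cfsg.Agent.Lib.Helper1.LeechCross
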