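import Mathlib
import Cfsg.Agent.Lib.Helper1.LeechCross
import Cfsg.Agent.S0394
import Cfsg.Agent.S0395
import Cfsg.Agent.S0396

/-!
# Counting the classes of the rank-24 lattice modulo its double by short vectors
-/

set_option autoImplicit false

namespace Cfsg.Agent.Lib.Helper1.LeechCross

open Cfsg Cfsg.Agent.Lib.Helper1 Cfsg.Agent.Lib.Helper9

theorem dotInt_self (w : GolayPt → ℤ) : dotInt w w = sqNorm w := by
  unfold dotInt sqNorm
  exact Finset.sum_congr rfl (fun i _ => by ring)

theorem sqNorm_neg (w : GolayPt → ℤ) : sqNorm (-w) = sqNorm w := by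
  unfold sqNorm
  exact Finset.sum_congr rfl (fun i _ => by rw [Pi.neg_apply]; ring)

theorem sqNorm_zero : sqNorm (0 : GolayPt → ℤ) = 0 := by
  unfold sqNorm
  simp

theorem dotInt_neg_right (a b : GolayPt → ℤ) : dotInt a (-b) = - dotInt a b := by
  unfold dotInt
  rw [← Finset.sum_neg_distrib]
  exact Finset.sum_congr rfl (fun i _ => by rw [Pi.neg_apply]; ring)

/-- pairwise orthogonal vectors of non-zero length: at most 24 -/
theorem orth_card_le {ι : Type*} [Fintype ι] (r : ι → GolayPt → ℤ)
    (hnz : ∀ p, dotInt (r p) (r p) ≠ 0) (horth : ∀ p q, p ≠ q → dotInt (r p) (r q) = 0) :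
    Fintype.card ι ≤ 24 := by
  classical
  have hli : LinearIndependent ℚ (fun p => (fun j => ((r p j : ℤ) : ℚ)) : ι → GolayPt → ℚ) := by
    rw [Fintype.linearIndependent_iff]
    intro g hg q
    have h1 : ∀ j, ∑ p, g p * ((r p j : ℤ) : ℚ) = 0 := by
      intro j
      have := congrFun hg j
      simpa [Finset.sum_apply, Pi.smul_apply, smul_eq_mul] using this
    have h2 : ∑ j, (∑ p, g p * ((r p j : ℤ) : ℚ)) * ((r q j : ℤ) : ℚ) = 0 := by
      apply Finset.sum_eq_zero
      intro j _
      rw [h1 j, zero_mul]
    have h3 : ∑ j, (∑ p, g p * ((r p j : ℤ) : ℚ)) * ((r q j : ℤ) : ℚ) =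
        ∑ p, g p * ((dotInt (r p) (r q) : ℤ) : ℚ) := by
      simp only [Finset.sum_mul]
      rw [Finset.sum_comm]
      apply Finset.sum_congr rfl
      intro p _
      unfold dotInt
      push_cast
      rw [Finset.mul_sum]
      exact Finset.sum_congr rfl (fun j _ => by ring)
    rw [h3, Finset.sum_eq_single q] at h2
    · rcases mul_eq_zero.1 h2 with h | h
      · exact h
      · exfalso
        exact hnz q (by exact_mod_cast h)
    · intro p _ hpq
      rw [horth p q hpq]
      simp
    · intro h
      exact absurd (Finset.mem_univ q) h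
  have := hli.fintype_card_le_finrank
  rw [Module.finrank_fintype_fun_eq_card, card_golayPt] at this
  exact this

/-- a set of vectors of non-zero length, any two distinct ones opposite or orthogonal: at most 48 -/
theorem orth_bound (F : Finset (GolayPt → ℤ)) (hnz : ∀ w ∈ F, dotInt w w ≠ 0)
    (h : ∀ w1 ∈ F, ∀ w2 ∈ F, w1 ≠ w2 → w1 = -w2 ∨ dotInt w1 w2 = 0) : F.card ≤ 48 := by
  classical
  have h1 : F.card ≤ 2 * (F.image (fun w => ({w, -w} : Finset (GolayPt → ℤ)))).card := by
    apply Finset.card_le_mul_card_image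
    intro b hb
    obtain ⟨w, _, rfl⟩ := Finset.mem_image.1 hb
    have hsub : F.filter (fun a => ({a, -a} : Finset (GolayPt → ℤ)) = {w, -w}) ⊆ {w, -w} := by
      intro a ha
      have h2 := (Finset.mem_filter.1 ha).2
      rw [← h2]
      exact Finset.mem_insert_self _ _
    exact (Finset.card_le_card hsub).trans Finset.card_le_two
  have h2 : (F.image (fun w => ({w, -w} : Finset (GolayPt → ℤ)))).card ≤ 24 := by
    rw [← Fintype.card_coe]
    have hex : ∀ p : ↥(F.image (fun w => ({w, -w} : Finset (GolayPt → ℤ)))),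
        ∃ w, w ∈ F ∧ ({w, -w} : Finset (GolayPt → ℤ)) = p.1 := by
      intro p
      obtain ⟨w, hw, hp⟩ := Finset.mem_image.1 p.2
      exact ⟨w, hw, hp⟩
    choose r hr using hex
    apply orth_card_le r
    · intro p
      exact hnz _ (hr p).1
    · intro p q hpq
      have hne : r p ≠ r q := by
        intro he
        apply hpq
        apply Subtype.ext
        rw [← (hr p).2, ← (hr q).2, he]
      have hne2 : r p ≠ -r q := by
        intro he
        apply hpq
        apply Subtype.ext
        rw [← (hr p).2, ← (hr q).2, he, neg_neg, Finset.pair_comm]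
      rcases h _ (hr p).1 _ (hr q).1 hne with h' | h'
      · exact absurd h' hne2
      · exact h'
  omega

end Cfsg.Agent.Lib.Helper1.LeechCross
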