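import Mathlib
import Cfsg.Agent.Lib.Helper1.LeechCross2

/-!
# Every class of the rank-24 lattice modulo its double has a short vector; crosses have 48 members
-/

set_option autoImplicit false

namespace Cfsg.Agent.Lib.Helper1.LeechCross

open Cfsg Cfsg.Agent.Lib.Helper1 Cfsg.Agent.Lib.Helper9

/-- the lattice vectors of a given length -/
def NN (k : ℤ) : Set (GolayPt → ℤ) := {x | x ∈ leechLattice ∧ sqNorm x = k}

theorem ncard_NN32 : (NN 32).ncard = 196560 := Cfsg.Agent.S0394.result

theorem ncard_NN48 : (NN 48).ncard = 16773120 := Cfsg.Agent.S0395.result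

theorem ncard_NN64 : (NN 64).ncard = 398034000 := Cfsg.Agent.S0396.result

theorem fin32 : (NN 32).Finite := Set.finite_of_ncard_ne_zero (by rw [ncard_NN32]; norm_num)

theorem fin48 : (NN 48).Finite := Set.finite_of_ncard_ne_zero (by rw [ncard_NN48]; norm_num)

theorem fin64 : (NN 64).Finite := Set.finite_of_ncard_ne_zero (by rw [ncard_NN64]; norm_num)

theorem mem_toF {k : ℤ} (h : (NN k).Finite) (x : GolayPt → ℤ) :
    x ∈ h.toFinset ↔ x ∈ leechLattice ∧ sqNorm x = k := by
  rw [Set.Finite.mem_toFinset]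
  rfl

theorem card_toF {k : ℤ} (h : (NN k).Finite) : h.toFinset.card = (NN k).ncard :=
  (Set.ncard_eq_toFinset_card (NN k) h).symm

theorem cls_eq_iff' {w x : GolayPt → ℤ} (hw : w ∈ leechLattice) (hx : x ∈ leechLattice) :
    cls w = cls x ↔ ∃ z ∈ leechLattice, x - w = 2 • z := by
  rw [eq_comm, cls_eq_iff hx hw]

theorem core :
    (∀ q : Q, ∃ v, v ∈ leechLattice ∧ sqNorm v ≤ 64 ∧ cls v = q) ∧
    (∀ x, x ∈ leechLattice → sqNorm x = 64 →
      {w | w ∈ leechLattice ∧ sqNorm w = 64 ∧ cls w = cls x}.ncard = 48) := by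
  classical
  haveI : Finite Q := Nat.finite_of_card_ne_zero (by rw [card_Q]; norm_num)
  haveI : Fintype Q := Fintype.ofFinite Q
  have hcardQ : Fintype.card Q = 2 ^ 24 := by rw [← Nat.card_eq_fintype_card, card_Q]
  obtain ⟨A, hA⟩ : ∃ A : Finset (GolayPt → ℤ), A = fin32.toFinset ∪ fin48.toFinset := ⟨_, rfl⟩
  obtain ⟨B, hB⟩ : ∃ B : Finset (GolayPt → ℤ), B = fin64.toFinset := ⟨_, rfl⟩
  have memA : ∀ v, v ∈ A ↔ v ∈ leechLattice ∧ (sqNorm v = 32 ∨ sqNorm v = 48) := by
    intro v
    rw [hA, Finset.mem_union, mem_toF, mem_toF]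
    tauto
  have memB : ∀ v, v ∈ B ↔ v ∈ leechLattice ∧ sqNorm v = 64 := by
    intro v
    rw [hB]
    exact mem_toF fin64 v
  have hdis : Disjoint fin32.toFinset fin48.toFinset := by
    rw [Finset.disjoint_left]
    intro v h1 h2
    have a := (mem_toF fin32 v).1 h1
    have b := (mem_toF fin48 v).1 h2
    omega
  have cardA : A.card = 16969680 := by
    rw [hA, Finset.card_union_of_disjoint hdis, card_toF, card_toF, ncard_NN32, ncard_NN48]
  have cardB : B.card = 398034000 := by
    rw [hB, card_toF, ncard_NN64]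
  have cong : ∀ v w, v ∈ leechLattice → w ∈ leechLattice → sqNorm v ≤ 64 → sqNorm w ≤ 64 →
      v ≠ w → cls v = cls w →
      v = -w ∨ (sqNorm v = 64 ∧ sqNorm w = 64 ∧ dotInt v w = 0) := by
    intro v w hv hw hvn hwn hne hc
    exact leech_cong v w hv hw hne hvn hwn ((cls_eq_iff hv hw).1 hc)
  have fibA : ∀ q ∈ A.image cls, (A.filter (fun w => cls w = q)).card = 2 := by
    intro q hq
    obtain ⟨v, hvA, rfl⟩ := Finset.mem_image.1 hq
    obtain ⟨hv, hvn⟩ := (memA v).1 hvA
    have hnegA : -v ∈ A := (memA (-v)).2 ⟨leechLattice.neg_mem hv, by rw [sqNorm_neg]; exact hvn⟩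
    have hclsneg : cls (-v) = cls v := by
      rw [cls_eq_iff (leechLattice.neg_mem hv) hv]
      exact ⟨-v, leechLattice.neg_mem hv, by rw [two_smul]; abel⟩
    have hvne : v ≠ -v := by
      intro h
      have h0 : v = 0 := by
        funext i
        have := congrFun h i
        rw [Pi.neg_apply] at this
        show v i = 0
        omega
      rw [h0, sqNorm_zero] at hvn
      omega
    have hfib : A.filter (fun w => cls w = cls v) = {v, -v} := by
      ext w
      rw [Finset.mem_filter, Finset.mem_insert, Finset.mem_singleton]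
      constructor
      · rintro ⟨hwA, hc⟩
        obtain ⟨hw, hwn⟩ := (memA w).1 hwA
        by_cases hwv : w = v
        · left; exact hwv
        · right
          rcases cong w v hw hv (by omega) (by omega) hwv hc with h | ⟨h1, _, _⟩
          · exact h
          · omega
      · rintro (h | h)
        · rw [h]
          exact ⟨hvA, rfl⟩
        · rw [h]
          exact ⟨hnegA, hclsneg⟩
    rw [hfib, Finset.card_pair hvne]
  have fibB : ∀ q ∈ B.image cls, (B.filter (fun w => cls w = q)).card ≤ 48 := by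
    intro q _
    apply orth_bound
    · intro w hw
      have := (memB w).1 (Finset.mem_filter.1 hw).1
      rw [dotInt_self, this.2]
      norm_num
    · intro w1 h1 w2 h2 hne
      obtain ⟨hw1, hc1⟩ := Finset.mem_filter.1 h1
      obtain ⟨hw2, hc2⟩ := Finset.mem_filter.1 h2
      obtain ⟨hl1, hn1⟩ := (memB w1).1 hw1
      obtain ⟨hl2, hn2⟩ := (memB w2).1 hw2
      rcases cong w1 w2 hl1 hl2 (by omega) (by omega) hne (hc1.trans hc2.symm) with
        h | ⟨_, _, h⟩
      · left; exact h
      · right; exact h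
  have hA2 : A.card = 2 * (A.image cls).card := by
    rw [Finset.card_eq_sum_card_image cls A, Finset.sum_const_nat fibA, mul_comm]
  have hB48 : B.card ≤ 48 * (B.image cls).card := Finset.card_le_mul_card_image B 48 fibB
  have h0A : cls 0 ∉ A.image cls := by
    intro h
    obtain ⟨v, hvA, hc⟩ := Finset.mem_image.1 h
    obtain ⟨hv, hvn⟩ := (memA v).1 hvA
    have hv0 : v ≠ 0 := by
      intro h0
      rw [h0, sqNorm_zero] at hvn
      omega
    rcases cong v 0 hv leechLattice.zero_mem (by omega) (by rw [sqNorm_zero]; norm_num) hv0 hc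
      with h | ⟨_, h, _⟩
    · rw [neg_zero] at h
      exact hv0 h
    · rw [sqNorm_zero] at h
      norm_num at h
  have h0B : cls 0 ∉ B.image cls := by
    intro h
    obtain ⟨v, hvB, hc⟩ := Finset.mem_image.1 h
    obtain ⟨hv, hvn⟩ := (memB v).1 hvB
    have hv0 : v ≠ 0 := by
      intro h0
      rw [h0, sqNorm_zero] at hvn
      omega
    rcases cong v 0 hv leechLattice.zero_mem (by omega) (by rw [sqNorm_zero]; norm_num) hv0 hc
      with h | ⟨_, h, _⟩
    · rw [neg_zero] at h
      exact hv0 h
    · rw [sqNorm_zero] at h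
      norm_num at h
  have hAB : Disjoint (A.image cls) (B.image cls) := by
    rw [Finset.disjoint_left]
    intro q hqA hqB
    obtain ⟨v, hvA, rfl⟩ := Finset.mem_image.1 hqA
    obtain ⟨w, hwB, hc⟩ := Finset.mem_image.1 hqB
    obtain ⟨hv, hvn⟩ := (memA v).1 hvA
    obtain ⟨hw, hwn⟩ := (memB w).1 hwB
    have hne : v ≠ w := by
      intro h
      rw [h] at hvn
      omega
    rcases cong v w hv hw (by omega) (by omega) hne hc.symm with h | ⟨h, _, _⟩
    · rw [h, sqNorm_neg] at hvn
      omega
    · omega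
  have hnot : cls 0 ∉ A.image cls ∪ B.image cls := by
    rw [Finset.mem_union]
    rintro (h | h)
    · exact h0A h
    · exact h0B h
  have hI : (insert (cls 0) (A.image cls ∪ B.image cls)).card =
      1 + (A.image cls).card + (B.image cls).card := by
    rw [Finset.card_insert_of_notMem hnot, Finset.card_union_of_disjoint hAB]
    ring
  have hle : (insert (cls 0) (A.image cls ∪ B.image cls)).card ≤ 2 ^ 24 := by
    rw [← hcardQ]
    exact Finset.card_le_univ _
  have ha : (A.image cls).card = 8484840 := by omega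
  have hb : (B.image cls).card = 8292375 := by omega
  have huniv : insert (cls 0) (A.image cls ∪ B.image cls) = Finset.univ := by
    apply Finset.eq_univ_of_card
    rw [hI, ha, hb, hcardQ]
    norm_num
  constructor
  · intro q
    have hq : q ∈ insert (cls 0) (A.image cls ∪ B.image cls) := by
      rw [huniv]
      exact Finset.mem_univ q
    rw [Finset.mem_insert, Finset.mem_union] at hq
    rcases hq with rfl | hq | hq
    · exact ⟨0, leechLattice.zero_mem, by rw [sqNorm_zero]; norm_num, rfl⟩
    · obtain ⟨v, hvA, rfl⟩ := Finset.mem_image.1 hq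
      obtain ⟨hv, hvn⟩ := (memA v).1 hvA
      exact ⟨v, hv, by omega, rfl⟩
    · obtain ⟨v, hvB, rfl⟩ := Finset.mem_image.1 hq
      obtain ⟨hv, hvn⟩ := (memB v).1 hvB
      exact ⟨v, hv, by omega, rfl⟩
  · intro x hx hxn
    have hxB : x ∈ B := (memB x).2 ⟨hx, hxn⟩
    have hsum : ∑ q ∈ B.image cls, (B.filter (fun w => cls w = q)).card =
        ∑ _q ∈ B.image cls, 48 := by
      rw [← Finset.card_eq_sum_card_image cls B, Finset.sum_const, smul_eq_mul, cardB, hb]
    have hall := (Finset.sum_eq_sum_iff_of_le fibB).1 hsum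
    have h48 := hall (cls x) (Finset.mem_image_of_mem cls hxB)
    have hset : {w | w ∈ leechLattice ∧ sqNorm w = 64 ∧ cls w = cls x} =
        ↑(B.filter (fun w => cls w = cls x)) := by
      ext w
      rw [Finset.mem_coe, Finset.mem_filter, memB]
      exact ⟨fun h => ⟨⟨h.1, h.2.1⟩, h.2.2⟩, fun h => ⟨h.1.1, h.1.2, h.2⟩⟩
    rw [hset, Set.ncard_coe_finset]
    exact h48

end Cfsg.Agent.Lib.Helper1.LeechCross
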