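import Mathlib
import Cfsg.Prelude.Def_Sporadic_a
import Cfsg.Agent.Lib.Helper1.M11Simple

set_option autoImplicit false

namespace Cfsg.Agent.Lib.Helper1

open Cfsg
open scoped Pointwise

/-- an embedding of `Fin 2` from two distinct points -/
def emb2 (a b : GolayPt) (h : a ≠ b) : Fin 2 ↪ GolayPt :=
  ⟨![a, b], by
    intro i j hij
    fin_cases i <;> fin_cases j <;> simp_all⟩

theorem M12_trans2 {a b a' b' : GolayPt} (ha : a ∈ dod0) (hb : b ∈ dod0)
    (ha' : a' ∈ dod0) (hb' : b' ∈ dod0) (h : a ≠ b) (h' : a' ≠ b') :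
    ∃ g ∈ M12, g a = a' ∧ g b = b' := by
  obtain ⟨g1, hg1, hx1⟩ := M12_to_base_le 2 (by norm_num) (emb2 a b h) (by
    intro j; fin_cases j
    · exact ha
    · exact hb)
  obtain ⟨g2, hg2, hx2⟩ := M12_to_base_le 2 (by norm_num) (emb2 a' b' h') (by
    intro j; fin_cases j
    · exact ha'
    · exact hb')
  refine ⟨g2⁻¹ * g1, mul_mem (inv_mem hg2) hg1, ?_, ?_⟩
  · have e1 : g1 a = _ := hx1 0
    have e2 : g2 a' = _ := hx2 0
    rw [Equiv.Perm.mul_apply, e1, Equiv.Perm.inv_eq_iff_eq, e2]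
  · have e1 : g1 b = _ := hx1 1
    have e2 : g2 b' = _ := hx2 1
    rw [Equiv.Perm.mul_apply, e1, Equiv.Perm.inv_eq_iff_eq, e2]

theorem dodecad_trans2 (d : Finset GolayPt) (hd : d ∈ dodecads) {a b a' b' : GolayPt}
    (ha : a ∈ d) (hb : b ∈ d) (ha' : a' ∈ d) (hb' : b' ∈ d) (h : a ≠ b) (h' : a' ≠ b') :
    ∃ g ∈ M24, g • d = d ∧ g a = a' ∧ g b = b' := by
  obtain ⟨t, ht, rfl⟩ := exists_smul_dod0 hd
  have hpre : ∀ (z : GolayPt), z ∈ t • dod0 → t⁻¹ z ∈ dod0 := by
    intro z hz
    obtain ⟨u, hu, rfl⟩ := Finset.mem_smul_finset.1 hz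
    show t⁻¹ (t u) ∈ dod0
    rw [perm_inv_apply_self]
    exact hu
  obtain ⟨g, hg, h1, h2⟩ := M12_trans2 (hpre a ha) (hpre b hb) (hpre a' ha') (hpre b' hb')
    (fun e => h (t⁻¹.injective e)) (fun e => h' (t⁻¹.injective e))
  refine ⟨t * g * t⁻¹, mul_mem (mul_mem ht hg.1) (inv_mem ht), ?_, ?_, ?_⟩
  · have : g • dod0 = dod0 := MulAction.mem_stabilizer_iff.1 hg.2
    rw [mul_smul, inv_smul_smul, mul_smul, this]
  · rw [Equiv.Perm.mul_apply, Equiv.Perm.mul_apply, h1, perm_apply_inv_self]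
  · rw [Equiv.Perm.mul_apply, Equiv.Perm.mul_apply, h2, perm_apply_inv_self]

/-- the action of the stabilizer of a dodecad on its points -/
def dodAct (d : Finset GolayPt) : SubMulAction (MulAction.stabilizer M24 d) GolayPt where
  carrier := ↑d
  smul_mem' := by
    intro g x hx
    have key : ∀ σ : Equiv.Perm GolayPt, σ • d = d → σ • x ∈ d := by
      intro σ h
      have h2 : σ • x ∈ σ • d := Finset.smul_mem_smul_finset hx
      rw [h] at h2
      exact h2
    exact key _ (MulAction.mem_stabilizer_iff.1 g.2)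

theorem stabilizer_dodecad_simple (d : Finset GolayPt) (hd : d ∈ dodecads) :
    IsSimpleGroup (MulAction.stabilizer M24 d) := by
  classical
  have h2t : MulAction.IsMultiplyPretransitive (MulAction.stabilizer M24 d) (dodAct d) 2 := by
    rw [MulAction.is_two_pretransitive_iff]
    intro a b c e hab hce
    obtain ⟨g, hg, hgd, h1, h2⟩ := dodecad_trans2 d hd a.2 b.2 c.2 e.2
      (fun h => hab (Subtype.ext h)) (fun h => hce (Subtype.ext h))
    exact ⟨⟨⟨g, hg⟩, MulAction.mem_stabilizer_iff.2 hgd⟩, Subtype.ext h1, Subtype.ext h2⟩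
  haveI : MulAction.IsPreprimitive (MulAction.stabilizer M24 d) (dodAct d) :=
    MulAction.isPreprimitive_of_is_two_pretransitive h2t
  -- a 5-embedding into d
  obtain ⟨s, hs, hscard⟩ := Finset.exists_subset_card_eq (s := d) (n := 5) (by rw [hd.2]; norm_num)
  set x : Fin 5 ↪ GolayPt :=
    (Finset.equivFinOfCardEq hscard).symm.toEmbedding.trans (Function.Embedding.subtype _) with hx
  have hxd : ∀ i, x i ∈ d := by
    intro i
    apply hs
    rw [hx]
    simp
  haveI : FaithfulSMul (MulAction.stabilizer M24 d) (dodAct d) := by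
    constructor
    intro g1 g2 h
    have hk : ((g2⁻¹ * g1 : MulAction.stabilizer M24 d) : M24).1 = 1 := by
      apply (dodecad_sharp5 d hd x x hxd hxd).2 _ ((g2⁻¹ * g1 : MulAction.stabilizer M24 d) : M24).2
      · exact MulAction.mem_stabilizer_iff.1 (g2⁻¹ * g1 : MulAction.stabilizer M24 d).2
      · intro i
        have := h ⟨x i, hxd i⟩
        have h3 : ((g1 : M24) : Equiv.Perm GolayPt) (x i) = ((g2 : M24) : Equiv.Perm GolayPt) (x i) :=
          congrArg Subtype.val this
        show (((g2 : M24) : Equiv.Perm GolayPt)⁻¹ * ((g1 : M24) : Equiv.Perm GolayPt)) (x i) = x i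
        rw [Equiv.Perm.mul_apply, h3, perm_inv_apply_self]
    have h4 : g2⁻¹ * g1 = 1 := Subtype.ext (Subtype.ext hk)
    rw [inv_mul_eq_one] at h4
    exact h4.symm
  have hcardS : Nat.card (MulAction.stabilizer M24 d) = 95040 := Cfsg.Agent.S0382.result d hd
  haveI : Nontrivial (MulAction.stabilizer M24 d) := by
    rw [← Finite.one_lt_card_iff_nontrivial, hcardS]
    norm_num
  have hcardX : Nat.card (dodAct d) = 12 := by
    show Nat.card ((d : Set GolayPt) : Type) = 12
    rw [Nat.card_coe_set_eq, Set.ncard_coe_finset, hd.2]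
  -- a point of d
  have hx0 : x 0 ∈ d := hxd 0
  -- the stabilizer of the point is simple
  have hstab : IsSimpleGroup (MulAction.stabilizer (MulAction.stabilizer M24 d)
      (⟨x 0, hx0⟩ : dodAct d)) := by
    haveI := stabilizer_dodecad_point_simple d hd (x 0) hx0
    have heq : MulAction.stabilizer (MulAction.stabilizer M24 d) (⟨x 0, hx0⟩ : dodAct d) =
        (MulAction.stabilizer M24 d ⊓ MulAction.stabilizer M24 (x 0)).subgroupOf
          (MulAction.stabilizer M24 d) := by
      ext g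
      rw [MulAction.mem_stabilizer_iff, Subgroup.mem_subgroupOf, Subgroup.mem_inf,
        MulAction.mem_stabilizer_iff, MulAction.mem_stabilizer_iff]
      constructor
      · intro h
        exact ⟨MulAction.mem_stabilizer_iff.1 g.2, congrArg Subtype.val h⟩
      · intro h
        exact Subtype.ext h.2
    rw [heq]
    exact isSimpleGroup_of_mulEquiv (Subgroup.subgroupOfEquivOfLe inf_le_left).symm
  apply isSimpleGroup_of_stabilizer (X := dodAct d) (⟨x 0, hx0⟩ : dodAct d) hstab
  have hdiv : ∀ N : Subgroup (MulAction.stabilizer M24 d), N.Normal → N ≠ ⊥ →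
      2 ^ 2 * 3 ^ 1 ∣ Nat.card N := by
    intro N hN hbot
    haveI := hN
    haveI : Nonempty (dodAct d) := ⟨⟨x 0, hx0⟩⟩
    have := card_dvd_card_of_normal_of_preprimitive (X := dodAct d) N hbot
    rw [hcardX] at this
    exact this
  have := no_normal_of_card (G := MulAction.stabilizer M24 d) 2 3 2 1 (by norm_num) (by norm_num)
    (by norm_num) (by norm_num) (by norm_num) hdiv
  intro N hN
  rw [hcardX]
  exact this N hN

end Cfsg.Agent.Lib.Helper1
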