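import Mathlib
import Cfsg.Prelude.Def_Sporadic_a
import Cfsg.Agent.Lib.Helper1.M24Pairs
import Cfsg.Agent.Lib.Helper1.M24OctFix
import Cfsg.Agent.S1556
import Cfsg.Agent.S0360

set_option autoImplicit false

namespace Cfsg.Agent.Lib.Helper1.OctPairs

open Cfsg Cfsg.Agent.Lib.Helper1
open scoped Pointwise

theorem cnt0 : (Finset.univ.filter (fun m : Fin 4096 =>
    popc (combo m.val) = 8 ∧ popc (8536111 &&& combo m.val) = 0)).card = 30 := by
  decide +kernel

theorem cnt4 : (Finset.univ.filter (fun m : Fin 4096 =>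
    popc (combo m.val) = 8 ∧ popc (8536111 &&& combo m.val) = 4)).card = 280 := by
  decide +kernel

theorem cnt2 : (Finset.univ.filter (fun m : Fin 4096 =>
    popc (combo m.val) = 8 ∧ popc (8536111 &&& combo m.val) = 2)).card = 448 := by
  decide +kernel

theorem combo_base : combo 2503 = 8536111 := by decide +kernel

theorem count_oct0 (k : ℕ) :
    {b : Finset GolayPt | b ∈ octads ∧ (oct0 ∩ b).card = k}.ncard =
      (Finset.univ.filter (fun m : Fin 4096 =>
        popc (combo m.val) = 8 ∧ popc (8536111 &&& combo m.val) = k)).card := by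
  apply ncard_wow_pred 8 (fun b => (oct0 ∩ b).card = k) (fun v => popc (8536111 &&& v) = k)
  intro w
  unfold oct0
  rw [card_inter_support₂, mask_wordOf, combo_base]

theorem count_transfer {g : Equiv.Perm GolayPt} (hg : g ∈ M24) (k : ℕ) :
    {b : Finset GolayPt | b ∈ octads ∧ (g • oct0 ∩ b).card = k}.ncard =
    {b : Finset GolayPt | b ∈ octads ∧ (oct0 ∩ b).card = k}.ncard :=
  ncard_family_smul octads (fun b hb => smul_mem_octads hg hb)
    (fun b hb => smul_mem_octads (inv_mem hg) hb) (fun a b => (a ∩ b).card = k)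
    (fun a b => by rw [card_inter_smul]) oct0

theorem count_meet (o : Finset GolayPt) (ho : o ∈ octads) (k : ℕ) :
    {b : Finset GolayPt | b ∈ octads ∧ (o ∩ b).card = k}.ncard =
      (Finset.univ.filter (fun m : Fin 4096 =>
        popc (combo m.val) = 8 ∧ popc (8536111 &&& combo m.val) = k)).card := by
  obtain ⟨g, hg, rfl⟩ := exists_smul_oct0 ho
  rw [count_transfer hg, count_oct0]

theorem orbit_M24_octad (o : Finset GolayPt) (ho : o ∈ octads) :
    MulAction.orbit ↥M24 o = octads := by
  ext b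
  constructor
  · rintro ⟨g, rfl⟩
    exact smul_mem_octads g.2 ho
  · intro hb
    obtain ⟨g, hg⟩ := Cfsg.Agent.S0367.result o b ho hb
    exact ⟨g, hg⟩

theorem card_stab_octad (o : Finset GolayPt) (ho : o ∈ octads) :
    Nat.card ↥(MulAction.stabilizer ↥M24 o) = 322560 := by
  have h1 := MulAction.index_stabilizer (G := ↥M24) o
  rw [orbit_M24_octad o ho, Cfsg.Agent.S0360.result] at h1
  have h2 := Subgroup.card_mul_index (MulAction.stabilizer ↥M24 o)
  rw [h1, card_M24] at h2
  omega

theorem orbit_stab_octad (o o' : Finset GolayPt) (ho : o ∈ octads) (ho' : o' ∈ octads) :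
    MulAction.orbit ↥(MulAction.stabilizer ↥M24 o) o' =
      {b : Finset GolayPt | b ∈ octads ∧ (o ∩ b).card = (o ∩ o').card} := by
  ext b
  constructor
  · rintro ⟨g, rfl⟩
    refine ⟨smul_mem_octads g.1.2 ho', ?_⟩
    have hgo : (g.1 : Equiv.Perm GolayPt) • o = o := MulAction.mem_stabilizer_iff.1 g.2
    show (o ∩ (g.1 : Equiv.Perm GolayPt) • o').card = (o ∩ o').card
    have := card_inter_smul (g.1 : Equiv.Perm GolayPt) o o'
    rw [hgo] at this
    exact this
  · rintro ⟨hb, hk⟩
    obtain ⟨g, hg, hgo, hgo'⟩ := Cfsg.Agent.S1556.octad_pair_conj o o' b ho ho' hb hk.symm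
    exact ⟨⟨⟨g, hg⟩, MulAction.mem_stabilizer_iff.2 hgo⟩, hgo'⟩

theorem card_joint (o o' : Finset GolayPt) (ho : o ∈ octads) (ho' : o' ∈ octads) :
    322560 = (Finset.univ.filter (fun m : Fin 4096 =>
        popc (combo m.val) = 8 ∧ popc (8536111 &&& combo m.val) = (o ∩ o').card)).card *
      Nat.card ↥(MulAction.stabilizer ↥M24 o ⊓ MulAction.stabilizer ↥M24 o') := by
  have h := card_eq_ncard_orbit_mul (G := ↥M24) (MulAction.stabilizer ↥M24 o) o'
  rw [card_stab_octad o ho, orbit_stab_octad o o' ho ho', count_meet o ho] at h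
  exact h

end Cfsg.Agent.Lib.Helper1.OctPairs
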