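import Mathlib
import Cfsg.Prelude.Def_Sporadic_a
import Cfsg.Agent.Lib.Helper1.M24Conf
import Cfsg.Agent.Lib.Helper1.M24OctFix

set_option autoImplicit false

namespace Cfsg.Agent.Lib.Helper1

open Cfsg
open scoped Pointwise

namespace FlagO

def ws : List (List ℕ) := [[3, 1, 2, 3, 0, 3, 1, 1, 3], [2, 0, 0, 4, 1, 3, 1, 3]]

def tl : List (Fin 24 → Fin 24) := [![5, 3, 17, 0, 9, 23, 6, 7, 13, 12, 11, 22, 4, 20, 1, 8, 15, 2, 16, 21, 18, 19, 10, 14], ![14, 1, 23, 5, 10, 3, 12, 20, 22, 15, 11, 9, 8, 4, 2, 16, 21, 17, 19, 7, 6, 13, 18, 0]]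

theorem tl_ok : ∀ l < tl.length, ∀ i : Fin 24, tl.getD l id i = evalT (ws.getD l []) i := by
  decide +kernel

theorem tl_fix : ∀ l < tl.length, pullMask (tl.getD l id) (combo 2503) = combo 2503 := by
  decide +kernel

theorem tl_pts : ∀ l < tl.length, ∀ i ∈ ([] : List (Fin 24)), tl.getD l id i = i := by
  decide +kernel

theorem bfs_inn : ∀ i : Fin 24, (combo 2503).testBit i = true → i ∈ bfs tl 3 [23] := by
  decide +kernel

theorem reach_inn (i : Fin 24) (hi : (combo 2503).testBit i = true) : ∃ h ∈ stabKP 2503 [], h (gpt 23) = gpt i :=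
  point_reach 2503 [] ws tl tl_ok tl_fix tl_pts 23 3 i (bfs_inn i hi)

theorem bfs_out : ∀ i : Fin 24, (combo 2503).testBit i = false → i ∈ bfs tl 6 [4] := by
  decide +kernel

theorem reach_out (i : Fin 24) (hi : (combo 2503).testBit i = false) : ∃ h ∈ stabKP 2503 [], h (gpt 4) = gpt i :=
  point_reach 2503 [] ws tl tl_ok tl_fix tl_pts 4 6 i (bfs_out i hi)

end FlagO

namespace FlagOP

def ws : List (List ℕ) := [[1, 2, 0, 0, 4, 0, 3, 3, 3, 3, 1, 4, 2, 1, 3], [1, 1, 2, 3, 0, 3, 0, 3, 0, 2, 1, 1, 4, 1, 3]]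

def tl : List (Fin 24 → Fin 24) := [![17, 3, 0, 2, 18, 14, 22, 9, 4, 7, 12, 16, 15, 11, 1, 19, 6, 5, 10, 13, 8, 20, 21, 23], ![1, 5, 0, 3, 16, 17, 8, 4, 18, 9, 21, 20, 6, 19, 14, 11, 10, 2, 22, 15, 13, 7, 12, 23]]

theorem tl_ok : ∀ l < tl.length, ∀ i : Fin 24, tl.getD l id i = evalT (ws.getD l []) i := by
  decide +kernel

theorem tl_fix : ∀ l < tl.length, pullMask (tl.getD l id) (combo 2503) = combo 2503 := by
  decide +kernel

theorem tl_pts : ∀ l < tl.length, ∀ i ∈ ([23] : List (Fin 24)), tl.getD l id i = i := by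
  decide +kernel

theorem bfs_inn : ∀ i : Fin 24, ((combo 2503).testBit i = true ∧ i ≠ 23) → i ∈ bfs tl 3 [0] := by
  decide +kernel

theorem reach_inn (i : Fin 24) (hi : ((combo 2503).testBit i = true ∧ i ≠ 23)) : ∃ h ∈ stabKP 2503 [23], h (gpt 0) = gpt i :=
  point_reach 2503 [23] ws tl tl_ok tl_fix tl_pts 0 3 i (bfs_inn i hi)

theorem bfs_out : ∀ i : Fin 24, (combo 2503).testBit i = false → i ∈ bfs tl 5 [4] := by
  decide +kernel

theorem reach_out (i : Fin 24) (hi : (combo 2503).testBit i = false) : ∃ h ∈ stabKP 2503 [23], h (gpt 4) = gpt i :=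
  point_reach 2503 [23] ws tl tl_ok tl_fix tl_pts 4 5 i (bfs_out i hi)

end FlagOP

namespace FlagD

def ws : List (List ℕ) := [[1, 3, 3, 0, 0, 0, 4, 0, 4, 2, 0, 4, 1], [2, 1, 1, 3, 3, 1, 3, 1, 1, 4, 4, 2, 1]]

def tl : List (Fin 24 → Fin 24) := [![13, 3, 18, 0, 1, 17, 16, 21, 4, 6, 20, 22, 2, 8, 10, 23, 12, 14, 9, 5, 19, 11, 15, 7], ![3, 0, 8, 6, 2, 19, 13, 5, 12, 1, 7, 10, 18, 9, 22, 11, 4, 20, 16, 15, 14, 17, 23, 21]]

theorem tl_ok : ∀ l < tl.length, ∀ i : Fin 24, tl.getD l id i = evalT (ws.getD l []) i := by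
  decide +kernel

theorem tl_fix : ∀ l < tl.length, pullMask (tl.getD l id) (combo 1) = combo 1 := by
  decide +kernel

theorem tl_pts : ∀ l < tl.length, ∀ i ∈ ([] : List (Fin 24)), tl.getD l id i = i := by
  decide +kernel

theorem bfs_inn : ∀ i : Fin 24, (combo 1).testBit i = true → i ∈ bfs tl 4 [0] := by
  decide +kernel

theorem reach_inn (i : Fin 24) (hi : (combo 1).testBit i = true) : ∃ h ∈ stabKP 1 [], h (gpt 0) = gpt i :=
  point_reach 1 [] ws tl tl_ok tl_fix tl_pts 0 4 i (bfs_inn i hi)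

theorem bfs_out : ∀ i : Fin 24, (combo 1).testBit i = false → i ∈ bfs tl 4 [5] := by
  decide +kernel

theorem reach_out (i : Fin 24) (hi : (combo 1).testBit i = false) : ∃ h ∈ stabKP 1 [], h (gpt 5) = gpt i :=
  point_reach 1 [] ws tl tl_ok tl_fix tl_pts 5 4 i (bfs_out i hi)

end FlagD

theorem flag_step {s : ℕ} {L : List (Fin 24)} {g1 : Equiv.Perm GolayPt} (hg1 : g1 ∈ M24)
    (b : Fin 24) (x : GolayPt) (cond : Fin 24 → Prop)
    (hreach : ∀ i, cond i → ∃ h ∈ stabKP s L, h (gpt b) = gpt i)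
    (hx : ∀ i, g1 (gpt i) = x → cond i) :
    ∃ g0 ∈ M24, g0 • supp s = g1 • supp s ∧ (∀ i ∈ L, g0 (gpt i) = g1 (gpt i)) ∧
      g0 (gpt b) = x := by
  obtain ⟨i, hi⟩ := gpt_bij.surjective (g1⁻¹ x)
  have hi' : g1 (gpt i) = x := by
    rw [hi, Equiv.Perm.inv_def, Equiv.apply_symm_apply]
  obtain ⟨h, hh, hhb⟩ := hreach i (hx i hi')
  rw [mem_stabKP] at hh
  obtain ⟨h1, h2, h3⟩ := hh
  refine ⟨g1 * h, mul_mem hg1 h1, ?_, ?_, ?_⟩
  · rw [mul_smul, h2]
  · intro j hj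
    rw [Equiv.Perm.mul_apply, h3 j hj]
  · rw [Equiv.Perm.mul_apply, hhb, hi']

theorem oct0_eq_supp : oct0 = supp 2503 := rfl

theorem dod0_eq_supp : dod0 = supp 1 := rfl

theorem flag_oct_in (o : Finset GolayPt) (ho : o ∈ octads) (x : GolayPt) (hx : x ∈ o) :
    ∃ g ∈ M24, g • supp 2503 = o ∧ g (gpt 23) = x := by
  obtain ⟨g1, hg1, rfl⟩ := exists_smul_oct0 ho
  obtain ⟨g0, hg0, h1, _, h3⟩ := flag_step (s := 2503) (L := []) hg1 23 x
    (fun i => (combo 2503).testBit i = true) FlagO.reach_inn (by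
      intro i hi
      rw [← hi, oct0_eq_supp, smul_gpt_mem_smul_supp] at hx
      exact hx)
  exact ⟨g0, hg0, h1, h3⟩

theorem flag_oct_out (o : Finset GolayPt) (ho : o ∈ octads) (x : GolayPt) (hx : x ∉ o) :
    ∃ g ∈ M24, g • supp 2503 = o ∧ g (gpt 4) = x := by
  obtain ⟨g1, hg1, rfl⟩ := exists_smul_oct0 ho
  obtain ⟨g0, hg0, h1, _, h3⟩ := flag_step (s := 2503) (L := []) hg1 4 x
    (fun i => (combo 2503).testBit i = false) FlagO.reach_out (by
      intro i hi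
      rw [← hi, oct0_eq_supp, smul_gpt_mem_smul_supp] at hx
      simpa using hx)
  exact ⟨g0, hg0, h1, h3⟩

theorem flag_oct_in_in (o : Finset GolayPt) (ho : o ∈ octads) (p q : GolayPt) (hp : p ∈ o)
    (hq : q ∈ o) (hpq : p ≠ q) :
    ∃ g ∈ M24, g • supp 2503 = o ∧ g (gpt 23) = p ∧ g (gpt 0) = q := by
  obtain ⟨g1, hg1, rfl, hg1p⟩ := flag_oct_in o ho p hp
  obtain ⟨g0, hg0, h1, h2, h3⟩ := flag_step (s := 2503) (L := [23]) hg1 0 q
    (fun i => ((combo 2503).testBit i = true ∧ i ≠ 23)) FlagOP.reach_inn (by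
      intro i hi
      rw [← hi, smul_gpt_mem_smul_supp] at hq
      refine ⟨hq, ?_⟩
      rintro rfl
      exact hpq (hg1p.symm.trans hi))
  exact ⟨g0, hg0, h1, (h2 23 (List.mem_singleton.2 rfl)).trans hg1p, h3⟩

theorem flag_oct_in_out (o : Finset GolayPt) (ho : o ∈ octads) (p q : GolayPt) (hp : p ∈ o)
    (hq : q ∉ o) :
    ∃ g ∈ M24, g • supp 2503 = o ∧ g (gpt 23) = p ∧ g (gpt 4) = q := by
  obtain ⟨g1, hg1, rfl, hg1p⟩ := flag_oct_in o ho p hp
  obtain ⟨g0, hg0, h1, h2, h3⟩ := flag_step (s := 2503) (L := [23]) hg1 4 q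
    (fun i => (combo 2503).testBit i = false) FlagOP.reach_out (by
      intro i hi
      rw [← hi, smul_gpt_mem_smul_supp] at hq
      simpa using hq)
  exact ⟨g0, hg0, h1, (h2 23 (List.mem_singleton.2 rfl)).trans hg1p, h3⟩

theorem flag_dod_in (d : Finset GolayPt) (hd : d ∈ dodecads) (x : GolayPt) (hx : x ∈ d) :
    ∃ g ∈ M24, g • supp 1 = d ∧ g (gpt 0) = x := by
  obtain ⟨g1, hg1, rfl⟩ := exists_smul_dod0 hd
  obtain ⟨g0, hg0, h1, _, h3⟩ := flag_step (s := 1) (L := []) hg1 0 x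
    (fun i => (combo 1).testBit i = true) FlagD.reach_inn (by
      intro i hi
      rw [← hi, dod0_eq_supp, smul_gpt_mem_smul_supp] at hx
      exact hx)
  exact ⟨g0, hg0, h1, h3⟩

theorem flag_dod_out (d : Finset GolayPt) (hd : d ∈ dodecads) (x : GolayPt) (hx : x ∉ d) :
    ∃ g ∈ M24, g • supp 1 = d ∧ g (gpt 5) = x := by
  obtain ⟨g1, hg1, rfl⟩ := exists_smul_dod0 hd
  obtain ⟨g0, hg0, h1, _, h3⟩ := flag_step (s := 1) (L := []) hg1 5 x
    (fun i => (combo 1).testBit i = false) FlagD.reach_out (by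
      intro i hi
      rw [← hi, dod0_eq_supp, smul_gpt_mem_smul_supp] at hx
      simpa using hx)
  exact ⟨g0, hg0, h1, h3⟩

end Cfsg.Agent.Lib.Helper1
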