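import Mathlib
import Cfsg.Prelude.Def_Sporadic_a
import Cfsg.Agent.Lib.Helper1.M24Flags

set_option autoImplicit false

namespace Cfsg.Agent.Lib.Helper1

open Cfsg
open scoped Pointwise

namespace FlagO2

def ws : List (List ℕ) := [[4, 1, 1, 4, 0, 2, 4, 1, 2, 1, 4, 2, 0, 3, 1, 3, 1], [2, 0, 0, 2, 3, 1, 2, 0, 3, 1, 4, 0, 2, 1, 1, 4, 2]]

def tl : List (Fin 24 → Fin 24) := [![0, 17, 3, 14, 19, 1, 4, 15, 13, 21, 11, 20, 22, 8, 2, 18, 7, 5, 9, 10, 6, 16, 12, 23], ![0, 3, 14, 2, 21, 1, 18, 15, 22, 11, 10, 4, 6, 19, 5, 12, 13, 17, 7, 8, 9, 20, 16, 23]]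

theorem tl_ok : ∀ l < tl.length, ∀ i : Fin 24, tl.getD l id i = evalT (ws.getD l []) i := by
  decide +kernel

theorem tl_fix : ∀ l < tl.length, pullMask (tl.getD l id) (combo 2503) = combo 2503 := by
  decide +kernel

theorem tl_pts : ∀ l < tl.length, ∀ i ∈ ([23, 0] : List (Fin 24)), tl.getD l id i = i := by
  decide +kernel

theorem bfs_inn : ∀ i : Fin 24, ((combo 2503).testBit i = true ∧ i ≠ 23 ∧ i ≠ 0) → i ∈ bfs tl 2 [1] := by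
  decide +kernel

theorem reach_inn (i : Fin 24) (hi : ((combo 2503).testBit i = true ∧ i ≠ 23 ∧ i ≠ 0)) : ∃ h ∈ stabKP 2503 [23, 0], h (gpt 1) = gpt i :=
  point_reach 2503 [23, 0] ws tl tl_ok tl_fix tl_pts 1 2 i (bfs_inn i hi)

end FlagO2

namespace FlagO3

def ws : List (List ℕ) := [[2, 4, 1, 1, 1, 1, 1, 2, 0, 3, 0, 4, 1, 4, 1, 2, 0, 0, 2, 0], [1, 2, 3, 1, 4, 1, 1, 2, 1, 1, 4, 2, 1, 1, 1, 4, 1, 3, 1, 2]]

def tl : List (Fin 24 → Fin 24) := [![0, 1, 2, 5, 6, 17, 8, 12, 4, 10, 15, 22, 13, 7, 14, 9, 19, 3, 16, 18, 20, 11, 21, 23], ![0, 1, 3, 17, 18, 2, 10, 8, 11, 21, 22, 19, 4, 7, 5, 12, 16, 14, 20, 13, 15, 6, 9, 23]]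

theorem tl_ok : ∀ l < tl.length, ∀ i : Fin 24, tl.getD l id i = evalT (ws.getD l []) i := by
  decide +kernel

theorem tl_fix : ∀ l < tl.length, pullMask (tl.getD l id) (combo 2503) = combo 2503 := by
  decide +kernel

theorem tl_pts : ∀ l < tl.length, ∀ i ∈ ([23, 0, 1] : List (Fin 24)), tl.getD l id i = i := by
  decide +kernel

theorem bfs_inn : ∀ i : Fin 24, ((combo 2503).testBit i = true ∧ i ≠ 23 ∧ i ≠ 0 ∧ i ≠ 1) → i ∈ bfs tl 3 [2] := by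
  decide +kernel

theorem reach_inn (i : Fin 24) (hi : ((combo 2503).testBit i = true ∧ i ≠ 23 ∧ i ≠ 0 ∧ i ≠ 1)) : ∃ h ∈ stabKP 2503 [23, 0, 1], h (gpt 2) = gpt i :=
  point_reach 2503 [23, 0, 1] ws tl tl_ok tl_fix tl_pts 2 3 i (bfs_inn i hi)

end FlagO3

namespace FlagO4

def ws : List (List ℕ) := [[0, 4, 1, 2, 0, 0, 3, 0, 4, 0, 3, 3, 0, 0, 3, 2, 1, 4, 1, 4, 1, 3, 0], [0, 0, 0, 2, 1, 4, 1, 4, 0, 3, 0, 0, 0, 3, 0, 0, 0, 0, 2, 1, 4, 0]]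

def tl : List (Fin 24 → Fin 24) := [![0, 1, 2, 17, 9, 5, 22, 13, 11, 19, 7, 12, 8, 10, 3, 21, 15, 14, 18, 4, 6, 16, 20, 23], ![0, 1, 2, 17, 10, 14, 8, 18, 21, 13, 16, 7, 6, 20, 5, 4, 15, 3, 19, 11, 22, 12, 9, 23]]

theorem tl_ok : ∀ l < tl.length, ∀ i : Fin 24, tl.getD l id i = evalT (ws.getD l []) i := by
  decide +kernel

theorem tl_fix : ∀ l < tl.length, pullMask (tl.getD l id) (combo 2503) = combo 2503 := by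
  decide +kernel

theorem tl_pts : ∀ l < tl.length, ∀ i ∈ ([23, 0, 1, 2] : List (Fin 24)), tl.getD l id i = i := by
  decide +kernel

theorem bfs_inn : ∀ i : Fin 24, ((combo 2503).testBit i = true ∧ i ≠ 23 ∧ i ≠ 0 ∧ i ≠ 1 ∧ i ≠ 2) → i ∈ bfs tl 3 [3] := by
  decide +kernel

theorem reach_inn (i : Fin 24) (hi : ((combo 2503).testBit i = true ∧ i ≠ 23 ∧ i ≠ 0 ∧ i ≠ 1 ∧ i ≠ 2)) : ∃ h ∈ stabKP 2503 [23, 0, 1, 2], h (gpt 3) = gpt i :=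
  point_reach 2503 [23, 0, 1, 2] ws tl tl_ok tl_fix tl_pts 3 3 i (bfs_inn i hi)

end FlagO4

namespace FlagO5

def ws : List (List ℕ) := [[1, 4, 0, 0, 4, 1, 2, 4, 0, 2, 1, 1, 2, 1, 3, 3, 0, 4, 4, 2, 0, 4, 2, 0, 3], [1, 4, 0, 2, 4, 0, 0, 2, 3, 0, 4, 0, 3, 3, 2, 0, 0, 0, 2, 0, 0, 4, 0], [0, 2, 3, 3, 0, 0, 4, 4, 0, 3, 3, 0, 0, 3, 1, 4, 4, 2, 0, 3, 0, 4, 1, 1, 4]]

def tl : List (Fin 24 → Fin 24) := [![0, 1, 2, 3, 21, 5, 16, 13, 9, 8, 18, 15, 20, 7, 14, 11, 6, 17, 10, 22, 12, 4, 19, 23], ![0, 1, 2, 3, 13, 5, 19, 21, 11, 15, 20, 8, 18, 4, 14, 9, 22, 17, 12, 6, 10, 7, 16, 23], ![0, 1, 2, 3, 11, 14, 21, 6, 15, 13, 22, 20, 9, 12, 17, 16, 8, 5, 10, 19, 4, 7, 18, 23]]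

theorem tl_ok : ∀ l < tl.length, ∀ i : Fin 24, tl.getD l id i = evalT (ws.getD l []) i := by
  decide +kernel

theorem tl_fix : ∀ l < tl.length, pullMask (tl.getD l id) (combo 2503) = combo 2503 := by
  decide +kernel

theorem tl_pts : ∀ l < tl.length, ∀ i ∈ ([23, 0, 1, 2, 3] : List (Fin 24)), tl.getD l id i = i := by
  decide +kernel

theorem bfs_out : ∀ i : Fin 24, (combo 2503).testBit i = false → i ∈ bfs tl 4 [4] := by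
  decide +kernel

theorem reach_out (i : Fin 24) (hi : (combo 2503).testBit i = false) : ∃ h ∈ stabKP 2503 [23, 0, 1, 2, 3], h (gpt 4) = gpt i :=
  point_reach 2503 [23, 0, 1, 2, 3] ws tl tl_ok tl_fix tl_pts 4 4 i (bfs_out i hi)

end FlagO5

theorem flag_oct_in3 (o : Finset GolayPt) (ho : o ∈ octads) (p1 p2 p3 : GolayPt) (h1 : p1 ∈ o)
    (h2 : p2 ∈ o) (h3 : p3 ∈ o) (h12 : p1 ≠ p2) (h13 : p1 ≠ p3) (h23 : p2 ≠ p3) :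
    ∃ g ∈ M24, g • supp 2503 = o ∧ g (gpt 23) = p1 ∧ g (gpt 0) = p2 ∧ g (gpt 1) = p3 := by
  obtain ⟨g1, hg1, rfl, e1, e2⟩ := flag_oct_in_in o ho p1 p2 h1 h2 h12
  obtain ⟨g0, hg0, k1, k2, k3⟩ := flag_step (s := 2503) (L := [23, 0]) hg1 1 p3
    (fun i => ((combo 2503).testBit i = true ∧ i ≠ 23 ∧ i ≠ 0)) FlagO2.reach_inn (by
      intro i hi
      rw [← hi, smul_gpt_mem_smul_supp] at h3
      refine ⟨h3, ?_, ?_⟩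
      · rintro rfl
        exact h13 (e1.symm.trans hi)
      · rintro rfl
        exact h23 (e2.symm.trans hi))
  exact ⟨g0, hg0, k1, (k2 23 (by simp)).trans e1, (k2 0 (by simp)).trans e2, k3⟩

theorem flag_oct_in4 (o : Finset GolayPt) (ho : o ∈ octads) (p1 p2 p3 p4 : GolayPt) (h1 : p1 ∈ o)
    (h2 : p2 ∈ o) (h3 : p3 ∈ o) (h4 : p4 ∈ o) (h12 : p1 ≠ p2) (h13 : p1 ≠ p3) (h14 : p1 ≠ p4)
    (h23 : p2 ≠ p3) (h24 : p2 ≠ p4) (h34 : p3 ≠ p4) :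
    ∃ g ∈ M24, g • supp 2503 = o ∧ g (gpt 23) = p1 ∧ g (gpt 0) = p2 ∧ g (gpt 1) = p3 ∧
      g (gpt 2) = p4 := by
  obtain ⟨g1, hg1, rfl, e1, e2, e3⟩ := flag_oct_in3 o ho p1 p2 p3 h1 h2 h3 h12 h13 h23
  obtain ⟨g0, hg0, k1, k2, k3⟩ := flag_step (s := 2503) (L := [23, 0, 1]) hg1 2 p4
    (fun i => ((combo 2503).testBit i = true ∧ i ≠ 23 ∧ i ≠ 0 ∧ i ≠ 1)) FlagO3.reach_inn (by
      intro i hi
      rw [← hi, smul_gpt_mem_smul_supp] at h4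
      refine ⟨h4, ?_, ?_, ?_⟩
      · rintro rfl
        exact h14 (e1.symm.trans hi)
      · rintro rfl
        exact h24 (e2.symm.trans hi)
      · rintro rfl
        exact h34 (e3.symm.trans hi))
  exact ⟨g0, hg0, k1, (k2 23 (by simp)).trans e1, (k2 0 (by simp)).trans e2,
    (k2 1 (by simp)).trans e3, k3⟩

theorem flag_oct_in5 (o : Finset GolayPt) (ho : o ∈ octads) (p1 p2 p3 p4 p5 : GolayPt)
    (h1 : p1 ∈ o) (h2 : p2 ∈ o) (h3 : p3 ∈ o) (h4 : p4 ∈ o) (h5 : p5 ∈ o)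
    (h12 : p1 ≠ p2) (h13 : p1 ≠ p3) (h14 : p1 ≠ p4) (h15 : p1 ≠ p5)
    (h23 : p2 ≠ p3) (h24 : p2 ≠ p4) (h25 : p2 ≠ p5) (h34 : p3 ≠ p4) (h35 : p3 ≠ p5)
    (h45 : p4 ≠ p5) :
    ∃ g ∈ M24, g • supp 2503 = o ∧ g (gpt 23) = p1 ∧ g (gpt 0) = p2 ∧ g (gpt 1) = p3 ∧
      g (gpt 2) = p4 ∧ g (gpt 3) = p5 := by
  obtain ⟨g1, hg1, rfl, e1, e2, e3, e4⟩ :=
    flag_oct_in4 o ho p1 p2 p3 p4 h1 h2 h3 h4 h12 h13 h14 h23 h24 h34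
  obtain ⟨g0, hg0, k1, k2, k3⟩ := flag_step (s := 2503) (L := [23, 0, 1, 2]) hg1 3 p5
    (fun i => ((combo 2503).testBit i = true ∧ i ≠ 23 ∧ i ≠ 0 ∧ i ≠ 1 ∧ i ≠ 2))
    FlagO4.reach_inn (by
      intro i hi
      rw [← hi, smul_gpt_mem_smul_supp] at h5
      refine ⟨h5, ?_, ?_, ?_, ?_⟩
      · rintro rfl
        exact h15 (e1.symm.trans hi)
      · rintro rfl
        exact h25 (e2.symm.trans hi)
      · rintro rfl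
        exact h35 (e3.symm.trans hi)
      · rintro rfl
        exact h45 (e4.symm.trans hi))
  exact ⟨g0, hg0, k1, (k2 23 (by simp)).trans e1, (k2 0 (by simp)).trans e2,
    (k2 1 (by simp)).trans e3, (k2 2 (by simp)).trans e4, k3⟩

theorem flag_oct_in5_out (o : Finset GolayPt) (ho : o ∈ octads) (p1 p2 p3 p4 p5 x : GolayPt)
    (h1 : p1 ∈ o) (h2 : p2 ∈ o) (h3 : p3 ∈ o) (h4 : p4 ∈ o) (h5 : p5 ∈ o)
    (h12 : p1 ≠ p2) (h13 : p1 ≠ p3) (h14 : p1 ≠ p4) (h15 : p1 ≠ p5)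
    (h23 : p2 ≠ p3) (h24 : p2 ≠ p4) (h25 : p2 ≠ p5) (h34 : p3 ≠ p4) (h35 : p3 ≠ p5)
    (h45 : p4 ≠ p5) (hx : x ∉ o) :
    ∃ g ∈ M24, g • supp 2503 = o ∧ g (gpt 23) = p1 ∧ g (gpt 0) = p2 ∧ g (gpt 1) = p3 ∧
      g (gpt 2) = p4 ∧ g (gpt 3) = p5 ∧ g (gpt 4) = x := by
  obtain ⟨g1, hg1, rfl, e1, e2, e3, e4, e5⟩ :=
    flag_oct_in5 o ho p1 p2 p3 p4 p5 h1 h2 h3 h4 h5 h12 h13 h14 h15 h23 h24 h25 h34 h35 h45
  obtain ⟨g0, hg0, k1, k2, k3⟩ := flag_step (s := 2503) (L := [23, 0, 1, 2, 3]) hg1 4 x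
    (fun i => (combo 2503).testBit i = false) FlagO5.reach_out (by
      intro i hi
      rw [← hi, smul_gpt_mem_smul_supp] at hx
      simpa using hx)
  exact ⟨g0, hg0, k1, (k2 23 (by simp)).trans e1, (k2 0 (by simp)).trans e2,
    (k2 1 (by simp)).trans e3, (k2 2 (by simp)).trans e4, (k2 3 (by simp)).trans e5, k3⟩

end Cfsg.Agent.Lib.Helper1
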