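import Mathlib
import Cfsg.Prelude.Def_Sporadic_a
import Cfsg.Agent.Lib.Helper1.M24FlagsO

set_option autoImplicit false

namespace Cfsg.Agent.Lib.Helper1

open Cfsg
open scoped Pointwise

namespace FlagO5i

def ws : List (List ℕ) := [[1, 4, 0, 0, 4, 1, 2, 4, 0, 2, 1, 1, 2, 1, 3, 3, 0, 4, 4, 2, 0, 4, 2, 0, 3], [1, 4, 0, 2, 4, 0, 0, 2, 3, 0, 4, 0, 3, 3, 2, 0, 0, 0, 2, 0, 0, 4, 0], [0, 2, 3, 3, 0, 0, 4, 4, 0, 3, 3, 0, 0, 3, 1, 4, 4, 2, 0, 3, 0, 4, 1, 1, 4]]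

def tl : List (Fin 24 → Fin 24) := [![0, 1, 2, 3, 21, 5, 16, 13, 9, 8, 18, 15, 20, 7, 14, 11, 6, 17, 10, 22, 12, 4, 19, 23], ![0, 1, 2, 3, 13, 5, 19, 21, 11, 15, 20, 8, 18, 4, 14, 9, 22, 17, 12, 6, 10, 7, 16, 23], ![0, 1, 2, 3, 11, 14, 21, 6, 15, 13, 22, 20, 9, 12, 17, 16, 8, 5, 10, 19, 4, 7, 18, 23]]

theorem tl_ok : ∀ l < tl.length, ∀ i : Fin 24, tl.getD l id i = evalT (ws.getD l []) i := by
  decide +kernel

theorem tl_fix : ∀ l < tl.length, pullMask (tl.getD l id) (combo 2503) = combo 2503 := by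
  decide +kernel

theorem tl_pts : ∀ l < tl.length, ∀ i ∈ ([23, 0, 1, 2, 3] : List (Fin 24)), tl.getD l id i = i := by
  decide +kernel

theorem bfs_inn : ∀ i : Fin 24, ((combo 2503).testBit i = true ∧ i ≠ 23 ∧ i ≠ 0 ∧ i ≠ 1 ∧ i ≠ 2 ∧ i ≠ 3) → i ∈ bfs tl 2 [5] := by
  decide +kernel

theorem reach_inn (i : Fin 24) (hi : ((combo 2503).testBit i = true ∧ i ≠ 23 ∧ i ≠ 0 ∧ i ≠ 1 ∧ i ≠ 2 ∧ i ≠ 3)) : ∃ h ∈ stabKP 2503 [23, 0, 1, 2, 3], h (gpt 5) = gpt i :=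
  point_reach 2503 [23, 0, 1, 2, 3] ws tl tl_ok tl_fix tl_pts 5 2 i (bfs_inn i hi)

end FlagO5i

theorem flag_oct_vec5 (o : Finset GolayPt) (ho : o ∈ octads) (p : Fin 6 → GolayPt)
    (hp : Function.Injective p) (hin : ∀ i : Fin 6, i.val < 5 → p i ∈ o) :
    ∃ g ∈ M24, g • supp 2503 = o ∧ g (gpt 23) = p 0 ∧ g (gpt 0) = p 1 ∧ g (gpt 1) = p 2 ∧
      g (gpt 2) = p 3 ∧ g (gpt 3) = p 4 :=
  flag_oct_in5 o ho (p 0) (p 1) (p 2) (p 3) (p 4) (hin 0 (by decide)) (hin 1 (by decide))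
    (hin 2 (by decide)) (hin 3 (by decide)) (hin 4 (by decide))
    (hp.ne (by decide)) (hp.ne (by decide)) (hp.ne (by decide)) (hp.ne (by decide))
    (hp.ne (by decide)) (hp.ne (by decide)) (hp.ne (by decide)) (hp.ne (by decide))
    (hp.ne (by decide)) (hp.ne (by decide))

theorem flag_oct_vec6 (o : Finset GolayPt) (ho : o ∈ octads) (p : Fin 6 → GolayPt)
    (hp : Function.Injective p) (hin : ∀ i : Fin 6, p i ∈ o) :
    ∃ g ∈ M24, g • supp 2503 = o ∧ g (gpt 23) = p 0 ∧ g (gpt 0) = p 1 ∧ g (gpt 1) = p 2 ∧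
      g (gpt 2) = p 3 ∧ g (gpt 3) = p 4 ∧ g (gpt 5) = p 5 := by
  obtain ⟨g1, hg1, rfl, e1, e2, e3, e4, e5⟩ := flag_oct_vec5 o ho p hp (fun i _ => hin i)
  have h6 := hin 5
  obtain ⟨g0, hg0, k1, k2, k3⟩ := flag_step (s := 2503) (L := [23, 0, 1, 2, 3]) hg1 5 (p 5)
    (fun i => ((combo 2503).testBit i = true ∧ i ≠ 23 ∧ i ≠ 0 ∧ i ≠ 1 ∧ i ≠ 2 ∧ i ≠ 3))
    FlagO5i.reach_inn (by
      intro i hi
      rw [← hi, smul_gpt_mem_smul_supp] at h6
      refine ⟨h6, ?_, ?_, ?_, ?_, ?_⟩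
      · rintro rfl
        exact absurd (hp (e1.symm.trans hi)) (by decide)
      · rintro rfl
        exact absurd (hp (e2.symm.trans hi)) (by decide)
      · rintro rfl
        exact absurd (hp (e3.symm.trans hi)) (by decide)
      · rintro rfl
        exact absurd (hp (e4.symm.trans hi)) (by decide)
      · rintro rfl
        exact absurd (hp (e5.symm.trans hi)) (by decide))
  exact ⟨g0, hg0, k1, (k2 23 (by simp)).trans e1, (k2 0 (by simp)).trans e2,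
    (k2 1 (by simp)).trans e3, (k2 2 (by simp)).trans e4, (k2 3 (by simp)).trans e5, k3⟩

theorem flag_oct_vec5_out (o : Finset GolayPt) (ho : o ∈ octads) (p : Fin 6 → GolayPt)
    (hp : Function.Injective p) (hin : ∀ i : Fin 6, i.val < 5 → p i ∈ o) (hout : p 5 ∉ o) :
    ∃ g ∈ M24, g • supp 2503 = o ∧ g (gpt 23) = p 0 ∧ g (gpt 0) = p 1 ∧ g (gpt 1) = p 2 ∧
      g (gpt 2) = p 3 ∧ g (gpt 3) = p 4 ∧ g (gpt 4) = p 5 :=
  flag_oct_in5_out o ho (p 0) (p 1) (p 2) (p 3) (p 4) (p 5) (hin 0 (by decide)) (hin 1 (by decide))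
    (hin 2 (by decide)) (hin 3 (by decide)) (hin 4 (by decide))
    (hp.ne (by decide)) (hp.ne (by decide)) (hp.ne (by decide)) (hp.ne (by decide))
    (hp.ne (by decide)) (hp.ne (by decide)) (hp.ne (by decide)) (hp.ne (by decide))
    (hp.ne (by decide)) (hp.ne (by decide)) hout

theorem conj_apply' {g0 g0' : Equiv.Perm GolayPt} {a x y : GolayPt} (h : g0 a = x)
    (h' : g0' a = y) : (g0' * g0⁻¹) x = y := by
  rw [← h, Equiv.Perm.mul_apply, Equiv.Perm.inv_def, Equiv.symm_apply_apply, h']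

/-- `M24` is transitive on injective 6-tuples lying in an octad -/
theorem six_trans_special (o o' : Finset GolayPt) (ho : o ∈ octads) (ho' : o' ∈ octads)
    (p p' : Fin 6 → GolayPt) (hp : Function.Injective p) (hp' : Function.Injective p')
    (hin : ∀ i, p i ∈ o) (hin' : ∀ i, p' i ∈ o') :
    ∃ g ∈ M24, ∀ i, g (p i) = p' i := by
  obtain ⟨g0, hg0, _, e0, e1, e2, e3, e4, e5⟩ := flag_oct_vec6 o ho p hp hin
  obtain ⟨g0', hg0', _, f0, f1, f2, f3, f4, f5⟩ := flag_oct_vec6 o' ho' p' hp' hin'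
  refine ⟨g0' * g0⁻¹, mul_mem hg0' (inv_mem hg0), ?_⟩
  intro i
  fin_cases i
  · exact conj_apply' e0 f0
  · exact conj_apply' e1 f1
  · exact conj_apply' e2 f2
  · exact conj_apply' e3 f3
  · exact conj_apply' e4 f4
  · exact conj_apply' e5 f5

/-- `M24` is transitive on injective 6-tuples with the first five points in an octad and the
sixth outside it -/
theorem six_trans_general (o o' : Finset GolayPt) (ho : o ∈ octads) (ho' : o' ∈ octads)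
    (p p' : Fin 6 → GolayPt) (hp : Function.Injective p) (hp' : Function.Injective p')
    (hin : ∀ i : Fin 6, i.val < 5 → p i ∈ o) (hin' : ∀ i : Fin 6, i.val < 5 → p' i ∈ o')
    (hout : p 5 ∉ o) (hout' : p' 5 ∉ o') :
    ∃ g ∈ M24, ∀ i, g (p i) = p' i := by
  obtain ⟨g0, hg0, _, e0, e1, e2, e3, e4, e5⟩ := flag_oct_vec5_out o ho p hp hin hout
  obtain ⟨g0', hg0', _, f0, f1, f2, f3, f4, f5⟩ := flag_oct_vec5_out o' ho' p' hp' hin' hout'
  refine ⟨g0' * g0⁻¹, mul_mem hg0' (inv_mem hg0), ?_⟩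
  intro i
  fin_cases i
  · exact conj_apply' e0 f0
  · exact conj_apply' e1 f1
  · exact conj_apply' e2 f2
  · exact conj_apply' e3 f3
  · exact conj_apply' e4 f4
  · exact conj_apply' e5 f5

end Cfsg.Agent.Lib.Helper1
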