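import Mathlib
import Cfsg.Agent.S0363
import Cfsg.Agent.S0353
import Cfsg.Agent.Lib.Helper1.M24FlagsO2
import Cfsg.Agent.Lib.Helper1.M24Cycle

set_option autoImplicit false

namespace Cfsg.Agent.Lib.Helper1

open Cfsg
open scoped Pointwise

/-- the finite set of octads through a given set of points -/
noncomputable def octThru (Q : Finset GolayPt) : Finset (Finset GolayPt) :=
  (Set.toFinite {o : Finset GolayPt | o ∈ octads ∧ Q ⊆ o}).toFinset

theorem mem_octThru {Q o : Finset GolayPt} : o ∈ octThru Q ↔ o ∈ octads ∧ Q ⊆ o := by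
  unfold octThru
  rw [Set.Finite.mem_toFinset]
  rfl

theorem coe_octThru (Q : Finset GolayPt) :
    ((octThru Q : Finset (Finset GolayPt)) : Set (Finset GolayPt)) =
      {o : Finset GolayPt | o ∈ octads ∧ Q ⊆ o} := by
  ext o
  rw [Finset.mem_coe, mem_octThru]
  rfl

theorem octad_card8 {o : Finset GolayPt} (ho : o ∈ octads) : o.card = 8 := ho.2

/-- two octads through a common 4-set plus a further common point coincide -/
theorem octThru_eq_of_common {Q o o' : Finset GolayPt} (hQ : Q.card = 4)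
    (ho : o ∈ octThru Q) (ho' : o' ∈ octThru Q) {x : GolayPt} (hxQ : x ∉ Q) (hx : x ∈ o)
    (hx' : x ∈ o') : o = o' := by
  obtain ⟨h1, h2⟩ := mem_octThru.1 ho
  obtain ⟨h1', h2'⟩ := mem_octThru.1 ho'
  refine Cfsg.Agent.S0363.octad_unique o o' h1 h1' (insert x Q) ?_ ?_ ?_
  · rw [Finset.card_insert_of_notMem hxQ, hQ]
  · exact Finset.insert_subset hx h2
  · exact Finset.insert_subset hx' h2'

theorem octThru_biUnion {Q : Finset GolayPt} (hQ : Q.card = 4) :
    (octThru Q).biUnion (fun o => o \ Q) = Qᶜ := by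
  ext x
  rw [Finset.mem_biUnion, Finset.mem_compl]
  constructor
  · rintro ⟨o, _, hx⟩
    exact (Finset.mem_sdiff.1 hx).2
  · intro hx
    have hc : (insert x Q).card = 5 := by rw [Finset.card_insert_of_notMem hx, hQ]
    obtain ⟨o, ⟨ho, hsub⟩, _⟩ := Cfsg.Agent.S0363.result.2 _ hc
    refine ⟨o, mem_octThru.2 ⟨ho, (Finset.subset_insert x Q).trans hsub⟩, ?_⟩
    exact Finset.mem_sdiff.2 ⟨hsub (Finset.mem_insert_self x Q), hx⟩

theorem octThru_pairwiseDisjoint {Q : Finset GolayPt} (hQ : Q.card = 4) :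
    ((octThru Q : Finset (Finset GolayPt)) : Set (Finset GolayPt)).PairwiseDisjoint
      (fun o => o \ Q) := by
  intro o ho o' ho' hne
  rw [Function.onFun, Finset.disjoint_left]
  intro x hx hx'
  rw [Finset.mem_sdiff] at hx hx'
  exact hne (octThru_eq_of_common hQ ho ho' hx.2 hx.1 hx'.1)

theorem card_sdiff_octThru {Q o : Finset GolayPt} (hQ : Q.card = 4) (ho : o ∈ octThru Q) :
    (o \ Q).card = 4 := by
  obtain ⟨h1, h2⟩ := mem_octThru.1 ho
  rw [Finset.card_sdiff_of_subset h2, octad_card8 h1, hQ]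

/-- a 4-set lies in exactly five octads -/
theorem card_octThru {Q : Finset GolayPt} (hQ : Q.card = 4) : (octThru Q).card = 5 := by
  have h := Finset.card_biUnion (octThru_pairwiseDisjoint hQ)
  rw [octThru_biUnion hQ, Finset.card_compl, hQ, fintype_card_golayPt,
    Finset.sum_congr rfl (fun o ho => card_sdiff_octThru hQ ho), Finset.sum_const, smul_eq_mul] at h
  omega

/-- two distinct octads through a 4-set meet exactly in it -/
theorem octThru_inter {Q o o' : Finset GolayPt} (hQ : Q.card = 4)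
    (ho : o ∈ octThru Q) (ho' : o' ∈ octThru Q) (hne : o ≠ o') : o ∩ o' = Q := by
  obtain ⟨h1, h2⟩ := mem_octThru.1 ho
  obtain ⟨h1', h2'⟩ := mem_octThru.1 ho'
  symm
  apply Finset.Subset.antisymm (Finset.subset_inter h2 h2')
  intro x hx
  by_contra hxQ
  rw [Finset.mem_inter] at hx
  exact hne (octThru_eq_of_common hQ ho ho' hxQ hx.1 hx.2)

/-- the union of the two residual tetrads of distinct octads through a 4-set is an octad -/
theorem octThru_union_mem {Q o o' : Finset GolayPt} (hQ : Q.card = 4)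
    (ho : o ∈ octThru Q) (ho' : o' ∈ octThru Q) (hne : o ≠ o') :
    (o \ Q) ∪ (o' \ Q) ∈ octads := by
  obtain ⟨h1, h2⟩ := mem_octThru.1 ho
  obtain ⟨h1', h2'⟩ := mem_octThru.1 ho'
  have hI := octThru_inter hQ ho ho' hne
  have h := Cfsg.Agent.S0353.result fintype_card_golayPt Cfsg.Agent.S0363.result h1 h1'
    (by rw [hI, hQ])
  have e : symmDiff o o' = (o \ Q) ∪ (o' \ Q) := by
    ext x
    rw [Finset.mem_symmDiff, Finset.mem_union, Finset.mem_sdiff, Finset.mem_sdiff]
    have hxQ : x ∈ Q ↔ x ∈ o ∧ x ∈ o' := by rw [← hI, Finset.mem_inter]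
    tauto
  rw [← e]
  exact h

/-- `M24` is transitive on injective 6-tuples of a given type (in an octad or not) -/
theorem six_trans (x y : Fin 6 → GolayPt) (hx : Function.Injective x)
    (hy : Function.Injective y)
    (h : (∃ o ∈ octads, ∀ i, x i ∈ o) ↔ (∃ o ∈ octads, ∀ i, y i ∈ o)) :
    ∃ g ∈ M24, ∀ i, g (x i) = y i := by
  have five : ∀ z : Fin 6 → GolayPt, Function.Injective z →
      ∃ o ∈ octads, ∀ i : Fin 6, i.val < 5 → z i ∈ o := by
    intro z hz
    have hc : ((Finset.univ : Finset (Fin 5)).image (z ∘ Fin.castSucc)).card = 5 := by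
      rw [Finset.card_image_of_injective _ (hz.comp (Fin.castSucc_injective 5)), Finset.card_univ,
        Fintype.card_fin]
    obtain ⟨o, ⟨ho, hsub⟩, _⟩ := Cfsg.Agent.S0363.result.2 _ hc
    refine ⟨o, ho, fun i hi => hsub ?_⟩
    rw [Finset.mem_image]
    exact ⟨⟨i.val, hi⟩, Finset.mem_univ _, rfl⟩
  have last : ∀ i : Fin 6, ¬ i.val < 5 → i = 5 := by
    intro i hi
    apply Fin.ext
    have := i.isLt
    show i.val = 5
    omega
  by_cases hs : ∃ o ∈ octads, ∀ i, x i ∈ o
  · obtain ⟨o, ho, hin⟩ := hs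
    obtain ⟨o', ho', hin'⟩ := h.1 ⟨o, ho, hin⟩
    exact six_trans_special o o' ho ho' x y hx hy hin hin'
  · have hs' : ¬ ∃ o ∈ octads, ∀ i, y i ∈ o := fun h' => hs (h.2 h')
    obtain ⟨o, ho, hin⟩ := five x hx
    obtain ⟨o', ho', hin'⟩ := five y hy
    apply six_trans_general o o' ho ho' x y hx hy hin hin'
    · intro h5
      apply hs
      refine ⟨o, ho, fun i => ?_⟩
      by_cases hi : i.val < 5
      · exact hin i hi
      · rw [last i hi]; exact h5
    · intro h5
      apply hs'
      refine ⟨o', ho', fun i => ?_⟩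
      by_cases hi : i.val < 5
      · exact hin' i hi
      · rw [last i hi]; exact h5

end Cfsg.Agent.Lib.Helper1
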