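import Mathlib
import Cfsg.Agent.Lib.Helper1.M24Cert
import Cfsg.Agent.Lib.Helper1.M24OctPairs
import Cfsg.Agent.S1557

set_option autoImplicit false

namespace Cfsg.Agent.Lib.Helper1

open Cfsg
open Cfsg.Agent.S1557
open scoped Pointwise

theorem smul_mem_trios {g : Equiv.Perm GolayPt} (hg : g ∈ M24)
    {T : Finset (Finset GolayPt)} (hT : T ∈ trios) : g • T ∈ trios := by
  obtain ⟨h3, hO, hD⟩ := hT
  refine ⟨by rw [Finset.card_smul_finset]; exact h3, ?_, ?_⟩
  · intro o ho
    obtain ⟨o0, ho0, rfl⟩ := Finset.mem_smul_finset.1 ho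
    exact smul_mem_octads hg (hO o0 ho0)
  · intro o ho o' ho' hne
    obtain ⟨o0, ho0, rfl⟩ := Finset.mem_smul_finset.1 ho
    obtain ⟨o0', ho0', rfl⟩ := Finset.mem_smul_finset.1 ho'
    have hne0 : o0 ≠ o0' := fun h => hne (by rw [h])
    have hd := hD o0 ho0 o0' ho0' hne0
    rw [Finset.disjoint_iff_inter_eq_empty, ← Finset.card_eq_zero, card_inter_smul,
      Finset.card_eq_zero, ← Finset.disjoint_iff_inter_eq_empty]
    exact hd

/-- `M24` is transitive on trios -/
theorem M24_trans_trios {T T' : Finset (Finset GolayPt)} (hT : T ∈ trios) (hT' : T' ∈ trios) :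
    ∃ g ∈ M24, g • T = T' := by
  have two : ∀ U : Finset (Finset GolayPt), U ∈ trios → ∃ o ∈ U, ∃ o' ∈ U, o ≠ o' := by
    intro U hU
    obtain ⟨a, b, c, hab, _, _, rfl⟩ := Finset.card_eq_three.1 hU.1
    exact ⟨a, by simp, b, by simp, hab⟩
  obtain ⟨o1, ho1, o2, ho2, hne⟩ := two T hT
  obtain ⟨p1, hp1, p2, hp2, hne'⟩ := two T' hT'
  have oct1 := hT.2.1 o1 ho1
  have oct2 := hT.2.1 o2 ho2
  have pct1 := hT'.2.1 p1 hp1
  have pct2 := hT'.2.1 p2 hp2
  have hd := hT.2.2 o1 ho1 o2 ho2 hne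
  have hd' := hT'.2.2 p1 hp1 p2 hp2 hne'
  obtain ⟨g1, hg1⟩ := Cfsg.Agent.S0367.result o1 p1 oct1 pct1
  have hg1' : (g1 : Equiv.Perm GolayPt) • o1 = p1 := hg1
  have oct2' : (g1 : Equiv.Perm GolayPt) • o2 ∈ octads := smul_mem_octads g1.2 oct2
  have hd1 : (p1 ∩ (g1 : Equiv.Perm GolayPt) • o2).card = (p1 ∩ p2).card := by
    rw [← hg1', card_inter_smul, Finset.disjoint_iff_inter_eq_empty.1 hd, hg1',
      Finset.disjoint_iff_inter_eq_empty.1 hd']
  have hmem : p2 ∈ MulAction.orbit ↥(MulAction.stabilizer ↥M24 p1)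
      ((g1 : Equiv.Perm GolayPt) • o2) := by
    rw [OctPairs.orbit_stab_octad p1 _ pct1 oct2']
    exact ⟨pct2, hd1.symm⟩
  obtain ⟨g2, hg2⟩ := hmem
  have hg2' : ((g2 : ↥M24) : Equiv.Perm GolayPt) • ((g1 : Equiv.Perm GolayPt) • o2) = p2 := hg2
  have hg2s : ((g2 : ↥M24) : Equiv.Perm GolayPt) • p1 = p1 := MulAction.mem_stabilizer_iff.1 g2.2
  refine ⟨((g2 : ↥M24) : Equiv.Perm GolayPt) * (g1 : Equiv.Perm GolayPt),
    mul_mem (g2 : ↥M24).2 g1.2, ?_⟩
  have hgT := smul_mem_trios (mul_mem (g2 : ↥M24).2 g1.2) hT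
  have m1 : p1 ∈ (((g2 : ↥M24) : Equiv.Perm GolayPt) * (g1 : Equiv.Perm GolayPt)) • T := by
    rw [Finset.mem_smul_finset]
    exact ⟨o1, ho1, by rw [mul_smul, hg1', hg2s]⟩
  have m2 : p2 ∈ (((g2 : ↥M24) : Equiv.Perm GolayPt) * (g1 : Equiv.Perm GolayPt)) • T := by
    rw [Finset.mem_smul_finset]
    exact ⟨o2, ho2, by rw [mul_smul, hg2']⟩
  rw [← trio_eq _ hgT p1 p2 m1 m2 hne', trio_eq T' hT' p1 p2 hp1 hp2 hne']

/-- the trio coded by a pair of codeword indices -/
def objT (n : ℕ) : Finset (Finset GolayPt) :=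
  {supp (n / 4096), supp (n % 4096), supp ((n / 4096) ^^^ (n % 4096) ^^^ 2048)}

theorem image_supp_triple (x y z : ℕ) :
    ({x, y, z} : Finset ℕ).image supp = {supp x, supp y, supp z} := by
  rw [Finset.image_insert, Finset.image_insert, Finset.image_singleton]

/-- step check for trios -/
def chkT (T : Fin 24 → Fin 24) (pn n w : ℕ) : Bool :=
  decide (pullMask T (combo (pn / 4096)) = combo (w / 4096) ∧
    pullMask T (combo (pn % 4096)) = combo (w % 4096) ∧
    pullMask T (combo ((pn / 4096) ^^^ (pn % 4096) ^^^ 2048)) =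
      combo ((w / 4096) ^^^ (w % 4096) ^^^ 2048) ∧
    ({w / 4096, w % 4096, (w / 4096) ^^^ (w % 4096) ^^^ 2048} : Finset ℕ) =
      {n / 4096, n % 4096, (n / 4096) ^^^ (n % 4096) ^^^ 2048})

theorem soundT : SoundChk objT chkT := by
  intro g hg T hT pn n w h
  unfold chkT at h
  rw [decide_eq_true_iff] at h
  obtain ⟨h1, h2, h3, h4⟩ := h
  unfold objT
  rw [Finset.smul_finset_insert, Finset.smul_finset_insert, Finset.smul_finset_singleton,
    smul_supp_of_table hT h1, smul_supp_of_table hT h2, smul_supp_of_table hT h3,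
    ← image_supp_triple, h4, image_supp_triple]

theorem wordOf_xor (m n : ℕ) : wordOf (m ^^^ n) = wordOf m + wordOf n := by
  apply mask_injective
  rw [mask_add, mask_wordOf, mask_wordOf, mask_wordOf, combo_xor]

theorem combo_2048 : combo 2048 = 16777215 := by decide +kernel

theorem wordOf_2048 : wordOf 2048 = 1 := by
  apply mask_injective
  rw [mask_wordOf, mask_one, combo_2048]

theorem disjoint_supp {a b : ℕ} (h : combo a &&& combo b = 0) : Disjoint (supp a) (supp b) := by
  rw [Finset.disjoint_iff_inter_eq_empty, ← Finset.card_eq_zero, card_inter_supp', h]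
  decide

theorem supp_mem_octads {a : ℕ} (h : popc (combo a) = 8) : supp a ∈ octads := by
  refine ⟨⟨wordOf a, wordOf_mem a, rfl⟩, ?_⟩
  show (support₂ (wordOf a)).card = 8
  rw [card_support₂, mask_wordOf]
  exact h

theorem objT_eq_trioOf {n : ℕ} (hd : combo (n / 4096) &&& combo (n % 4096) = 0) :
    objT n = trioOf ⟨supp (n / 4096), supp (n % 4096)⟩ := by
  unfold objT trioOf
  have : supp ((n / 4096) ^^^ (n % 4096) ^^^ 2048) = (supp (n / 4096) ∪ supp (n % 4096))ᶜ := by
    unfold supp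
    rw [wordOf_xor, wordOf_xor, wordOf_2048]
    exact support₂_add_add_one _ _ (disjoint_supp hd)
  rw [this]

theorem objT_mem {n : ℕ} (h1 : popc (combo (n / 4096)) = 8) (h2 : popc (combo (n % 4096)) = 8)
    (hd : combo (n / 4096) &&& combo (n % 4096) = 0) : objT n ∈ trios := by
  rw [objT_eq_trioOf hd]
  exact trioOf_mem _ _ (supp_mem_octads h1) (supp_mem_octads h2) (disjoint_supp hd)

theorem supp_injOn {a b : ℕ} (ha : a < 4096) (hb : b < 4096) (h : supp a = supp b) : a = b := by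
  have h1 : wordOf a = wordOf b := support₂_injective h
  have h2 : combo a = combo b := by rw [← mask_wordOf, ← mask_wordOf, h1]
  exact combo_injOn ha hb h2

theorem xor_lt_4096 {a b : ℕ} (ha : a < 4096) (hb : b < 4096) : a ^^^ b ^^^ 2048 < 4096 :=
  Nat.xor_lt_two_pow (n := 12) (Nat.xor_lt_two_pow (n := 12) ha hb) (by norm_num)

/-- canonical codes: the three indices are increasing -/
def canonT (n : ℕ) : Prop :=
  n / 4096 < n % 4096 ∧ n % 4096 < (n / 4096) ^^^ (n % 4096) ^^^ 2048 ∧ n / 4096 < 4096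

instance : DecidablePred canonT := fun n => by unfold canonT; infer_instance

theorem objT_injOn {n n' : ℕ} (hn : canonT n) (hn' : canonT n') (h : objT n = objT n') :
    n = n' := by
  obtain ⟨h1, h2, h3⟩ := hn
  obtain ⟨h1', h2', h3'⟩ := hn'
  have hb : n % 4096 < 4096 := Nat.mod_lt _ (by norm_num)
  have hb' : n' % 4096 < 4096 := Nat.mod_lt _ (by norm_num)
  have he := xor_lt_4096 h3 hb
  have he' := xor_lt_4096 h3' hb'
  set a := n / 4096 with ha
  set b := n % 4096 with hbdef
  set e := a ^^^ b ^^^ 2048 with hedef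
  set a' := n' / 4096 with ha'
  set b' := n' % 4096 with hbdef'
  set e' := a' ^^^ b' ^^^ 2048 with hedef'
  have hobj : ({supp a, supp b, supp e} : Finset (Finset GolayPt)) = {supp a', supp b', supp e'} := h
  have key : ∀ x, x < 4096 → supp x ∈ ({supp a', supp b', supp e'} : Finset (Finset GolayPt)) →
      x = a' ∨ x = b' ∨ x = e' := by
    intro x hx hmem
    simp only [Finset.mem_insert, Finset.mem_singleton] at hmem
    rcases hmem with h | h | h
    · exact Or.inl (supp_injOn hx h3' h)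
    · exact Or.inr (Or.inl (supp_injOn hx hb' h))
    · exact Or.inr (Or.inr (supp_injOn hx he' h))
  have key' : ∀ x, x < 4096 → supp x ∈ ({supp a, supp b, supp e} : Finset (Finset GolayPt)) →
      x = a ∨ x = b ∨ x = e := by
    intro x hx hmem
    simp only [Finset.mem_insert, Finset.mem_singleton] at hmem
    rcases hmem with h | h | h
    · exact Or.inl (supp_injOn hx h3 h)
    · exact Or.inr (Or.inl (supp_injOn hx hb h))
    · exact Or.inr (Or.inr (supp_injOn hx he h))
  have ka := key a h3 (by rw [← hobj]; simp)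
  have kb := key b hb (by rw [← hobj]; simp)
  have ke := key e he (by rw [← hobj]; simp)
  have ka' := key' a' h3' (by rw [hobj]; simp)
  have kb' := key' b' hb' (by rw [hobj]; simp)
  have ke' := key' e' he' (by rw [hobj]; simp)
  have hab : a = a' ∧ b = b' := by omega
  have e1 := Nat.div_add_mod n 4096
  have e2 := Nat.div_add_mod n' 4096
  rw [← ha, ← hbdef] at e1
  rw [← ha', ← hbdef'] at e2
  omega

end Cfsg.Agent.Lib.Helper1
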