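import Mathlib
import Cfsg.Agent.Lib.Helper1.M24Trios
import Cfsg.Agent.Lib.Helper1.M24Order
import Cfsg.Agent.S1566
import Cfsg.Agent.S0361

set_option autoImplicit false

namespace Cfsg.Agent.Lib.Helper1

open Cfsg
open scoped Pointwise

/-- the complementary pair of codeword supports coded by a codeword index -/
def objD (k : ℕ) : Finset (Finset GolayPt) := {supp k, supp (k ^^^ 2048)}

theorem image_supp_pair (x y : ℕ) :
    ({x, y} : Finset ℕ).image supp = {supp x, supp y} := by
  rw [Finset.image_insert, Finset.image_singleton]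

/-- step check for complementary pairs -/
def chkD (T : Fin 24 → Fin 24) (pm m w : ℕ) : Bool :=
  decide (pullMask T (combo pm) = combo w ∧
    pullMask T (combo (pm ^^^ 2048)) = combo (w ^^^ 2048) ∧
    ({w, w ^^^ 2048} : Finset ℕ) = {m, m ^^^ 2048})

theorem soundD : SoundChk objD chkD := by
  intro g hg T hT pn n w h
  unfold chkD at h
  rw [decide_eq_true_iff] at h
  obtain ⟨h1, h2, h3⟩ := h
  unfold objD
  rw [Finset.smul_finset_insert, Finset.smul_finset_singleton,
    smul_supp_of_table hT h1, smul_supp_of_table hT h2,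
    ← image_supp_pair, h3, image_supp_pair]

theorem support₂_add_one' (u : GolayPt → ZMod 2) : support₂ (u + 1) = (support₂ u)ᶜ := by
  ext i
  rw [mem_support₂_iff, Finset.mem_compl, mem_support₂_iff, Pi.add_apply, Pi.one_apply]
  generalize u i = a
  revert a
  decide

theorem supp_xor_2048 (k : ℕ) : supp (k ^^^ 2048) = (supp k)ᶜ := by
  unfold supp
  rw [wordOf_xor, wordOf_2048]
  exact support₂_add_one' _

theorem objD_eq_Phi (k : ℕ) : objD k = Cfsg.Agent.S1566.Phi (supp k) := by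
  unfold objD Cfsg.Agent.S1566.Phi
  rw [supp_xor_2048]

theorem supp_mem_dodecads {a : ℕ} (h : popc (combo a) = 12) : supp a ∈ dodecads := by
  refine ⟨⟨wordOf a, wordOf_mem a, rfl⟩, ?_⟩
  show (support₂ (wordOf a)).card = 12
  rw [card_support₂, mask_wordOf]
  exact h

theorem ncard_dodecads_mem (x : GolayPt) :
    {e : Finset GolayPt | e ∈ dodecads ∧ x ∈ e}.ncard = 1288 := by
  have hfin : (dodecads : Set (Finset GolayPt)).Finite := Set.toFinite _
  have hsplit : dodecads = {e : Finset GolayPt | e ∈ dodecads ∧ x ∈ e} ∪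
      {e : Finset GolayPt | e ∈ dodecads ∧ x ∉ e} := by
    ext e
    constructor
    · intro he
      by_cases hx : x ∈ e
      · exact Or.inl ⟨he, hx⟩
      · exact Or.inr ⟨he, hx⟩
    · rintro (⟨he, _⟩ | ⟨he, _⟩) <;> exact he
  have hdisj : Disjoint {e : Finset GolayPt | e ∈ dodecads ∧ x ∈ e}
      {e : Finset GolayPt | e ∈ dodecads ∧ x ∉ e} := by
    rw [Set.disjoint_left]
    rintro e ⟨_, h1⟩ ⟨_, h2⟩
    exact h2 h1
  have himg : {e : Finset GolayPt | e ∈ dodecads ∧ x ∉ e} =
      (fun e : Finset GolayPt => eᶜ) '' {e : Finset GolayPt | e ∈ dodecads ∧ x ∈ e} := by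
    ext e
    constructor
    · rintro ⟨he, hx⟩
      exact ⟨eᶜ, ⟨Cfsg.Agent.S1566.compl_mem_dodecads he, Finset.mem_compl.2 hx⟩, compl_compl e⟩
    · rintro ⟨f, ⟨hf, hxf⟩, rfl⟩
      exact ⟨Cfsg.Agent.S1566.compl_mem_dodecads hf, fun h => (Finset.mem_compl.1 h) hxf⟩
  have hcard : ({e : Finset GolayPt | e ∈ dodecads ∧ x ∉ e}).ncard =
      ({e : Finset GolayPt | e ∈ dodecads ∧ x ∈ e}).ncard := by
    rw [himg]
    apply Set.InjOn.ncard_image
    intro a _ b _ h
    exact compl_injective h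
  have h := Cfsg.Agent.S0361.result
  rw [hsplit, Set.ncard_union_eq hdisj (Set.toFinite _) (Set.toFinite _), hcard] at h
  omega

theorem ncard_Phi_dodecads : (Cfsg.Agent.S1566.Phi '' dodecads).ncard = 1288 := by
  obtain ⟨d, hd⟩ : ∃ d, d ∈ dodecads := by
    have : dodecads.ncard ≠ 0 := by rw [Cfsg.Agent.S0361.result]; norm_num
    obtain ⟨d, hd⟩ := Set.nonempty_of_ncard_ne_zero this
    exact ⟨d, hd⟩
  obtain ⟨x, hx⟩ : ∃ x, x ∈ d := by
    apply Finset.card_pos.1; rw [hd.2]; norm_num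
  have h := Cfsg.Agent.S1566.count_class d hd x hx (fun _ => True)
  simp only [and_true] at h
  rw [show {P : Finset (Finset GolayPt) | P ∈ Cfsg.Agent.S1566.Phi '' dodecads} =
    Cfsg.Agent.S1566.Phi '' dodecads from rfl] at h
  rw [h]
  exact ncard_dodecads_mem x

theorem card_stab_Phi (d : Finset GolayPt) (hd : d ∈ dodecads) :
    Nat.card ↥(MulAction.stabilizer ↥M24 (Cfsg.Agent.S1566.Phi d)) = 190080 := by
  have h1 := Subgroup.card_mul_index (MulAction.stabilizer ↥M24 (Cfsg.Agent.S1566.Phi d))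
  rw [MulAction.index_stabilizer, Cfsg.Agent.S1566.orbit_eq d hd, ncard_Phi_dodecads, card_M24] at h1
  have h2 : Nat.card ↥(MulAction.stabilizer ↥M24 (Cfsg.Agent.S1566.Phi d)) * 1288 =
      190080 * 1288 := by
    rw [h1]
  exact Nat.eq_of_mul_eq_mul_right (by norm_num) h2

theorem Phi_eq_pair (d : Finset GolayPt) :
    Cfsg.Agent.S1566.Phi d = ({d, Finset.univ \ d} : Finset (Finset GolayPt)) := by
  unfold Cfsg.Agent.S1566.Phi
  rw [Finset.compl_eq_univ_sdiff]

end Cfsg.Agent.Lib.Helper1
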