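import Mathlib
import Cfsg.Prelude.Def_Sporadic_a
import Cfsg.Agent.Lib.Helper1.M24Flags

set_option autoImplicit false

namespace Cfsg.Agent.Lib.Helper1

open Cfsg
open scoped Pointwise

namespace FlagD1

def ws : List (List ℕ) := [[1, 2, 3, 3, 1, 3, 0, 4, 2, 0, 3, 0, 0, 4, 0, 3, 0], [1, 2, 3, 0, 4, 4, 0, 0, 3, 2, 0, 3, 1, 4, 1, 1, 2]]

def tl : List (Fin 24 → Fin 24) := [![0, 2, 12, 18, 13, 14, 9, 7, 4, 3, 19, 17, 16, 1, 20, 21, 6, 10, 8, 22, 11, 23, 15, 5], ![0, 12, 13, 1, 16, 7, 6, 11, 4, 2, 17, 5, 3, 9, 14, 21, 8, 20, 18, 19, 10, 22, 15, 23]]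

theorem tl_ok : ∀ l < tl.length, ∀ i : Fin 24, tl.getD l id i = evalT (ws.getD l []) i := by
  decide +kernel

theorem tl_fix : ∀ l < tl.length, pullMask (tl.getD l id) (combo 1) = combo 1 := by
  decide +kernel

theorem tl_pts : ∀ l < tl.length, ∀ i ∈ ([0] : List (Fin 24)), tl.getD l id i = i := by
  decide +kernel

theorem bfs_inn : ∀ i : Fin 24, ((combo 1).testBit i = true ∧ i ≠ 0) → i ∈ bfs tl 4 [1] := by
  decide +kernel

theorem reach_inn (i : Fin 24) (hi : ((combo 1).testBit i = true ∧ i ≠ 0)) : ∃ h ∈ stabKP 1 [0], h (gpt 1) = gpt i :=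
  point_reach 1 [0] ws tl tl_ok tl_fix tl_pts 1 4 i (bfs_inn i hi)

end FlagD1

namespace FlagD2

def ws : List (List ℕ) := [[3, 0, 0, 2, 1, 3, 3, 1, 1, 4, 0, 0, 4, 1, 1, 2, 0, 4, 1, 2], [2, 4, 1, 2, 4, 1, 1, 1, 2, 0, 3, 3, 0, 3, 0, 2, 1, 3, 1, 2]]

def tl : List (Fin 24 → Fin 24) := [![0, 1, 13, 6, 16, 17, 2, 19, 4, 12, 20, 15, 9, 8, 22, 7, 18, 21, 3, 11, 23, 10, 5, 14], ![0, 1, 6, 18, 3, 23, 9, 14, 2, 8, 19, 15, 12, 4, 22, 17, 16, 20, 13, 10, 11, 7, 21, 5]]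

theorem tl_ok : ∀ l < tl.length, ∀ i : Fin 24, tl.getD l id i = evalT (ws.getD l []) i := by
  decide +kernel

theorem tl_fix : ∀ l < tl.length, pullMask (tl.getD l id) (combo 1) = combo 1 := by
  decide +kernel

theorem tl_pts : ∀ l < tl.length, ∀ i ∈ ([0, 1] : List (Fin 24)), tl.getD l id i = i := by
  decide +kernel

theorem bfs_inn : ∀ i : Fin 24, ((combo 1).testBit i = true ∧ i ≠ 0 ∧ i ≠ 1) → i ∈ bfs tl 4 [2] := by
  decide +kernel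

theorem reach_inn (i : Fin 24) (hi : ((combo 1).testBit i = true ∧ i ≠ 0 ∧ i ≠ 1)) : ∃ h ∈ stabKP 1 [0, 1], h (gpt 2) = gpt i :=
  point_reach 1 [0, 1] ws tl tl_ok tl_fix tl_pts 2 4 i (bfs_inn i hi)

end FlagD2

namespace FlagD3

def ws : List (List ℕ) := [[4, 4, 1, 1, 1, 3, 1, 1, 4, 1, 2, 4, 1, 3, 0, 0, 4, 4, 1, 4, 2, 1, 1, 3], [0, 3, 0, 3, 0, 0, 4, 0, 4, 1, 3, 2, 0, 4, 4, 0, 3, 0, 4, 4, 0, 3, 0, 0]]

def tl : List (Fin 24 → Fin 24) := [![0, 1, 2, 3, 9, 14, 4, 11, 18, 12, 22, 10, 6, 8, 5, 20, 13, 23, 16, 21, 19, 15, 7, 17], ![0, 1, 2, 13, 18, 11, 6, 21, 16, 12, 20, 15, 3, 9, 10, 22, 4, 14, 8, 23, 17, 7, 5, 19]]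

theorem tl_ok : ∀ l < tl.length, ∀ i : Fin 24, tl.getD l id i = evalT (ws.getD l []) i := by
  decide +kernel

theorem tl_fix : ∀ l < tl.length, pullMask (tl.getD l id) (combo 1) = combo 1 := by
  decide +kernel

theorem tl_pts : ∀ l < tl.length, ∀ i ∈ ([0, 1, 2] : List (Fin 24)), tl.getD l id i = i := by
  decide +kernel

theorem bfs_out : ∀ i : Fin 24, (combo 1).testBit i = false → i ∈ bfs tl 5 [5] := by
  decide +kernel

theorem reach_out (i : Fin 24) (hi : (combo 1).testBit i = false) : ∃ h ∈ stabKP 1 [0, 1, 2], h (gpt 5) = gpt i :=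
  point_reach 1 [0, 1, 2] ws tl tl_ok tl_fix tl_pts 5 5 i (bfs_out i hi)

end FlagD3

theorem flag_dod_in2 (d : Finset GolayPt) (hd : d ∈ dodecads) (p q : GolayPt) (hp : p ∈ d)
    (hq : q ∈ d) (hpq : p ≠ q) :
    ∃ g ∈ M24, g • supp 1 = d ∧ g (gpt 0) = p ∧ g (gpt 1) = q := by
  obtain ⟨g1, hg1, rfl, hg1p⟩ := flag_dod_in d hd p hp
  obtain ⟨g0, hg0, h1, h2, h3⟩ := flag_step (s := 1) (L := [0]) hg1 1 q
    (fun i => ((combo 1).testBit i = true ∧ i ≠ 0)) FlagD1.reach_inn (by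
      intro i hi
      rw [← hi, smul_gpt_mem_smul_supp] at hq
      refine ⟨hq, ?_⟩
      rintro rfl
      exact hpq (hg1p.symm.trans hi))
  exact ⟨g0, hg0, h1, (h2 0 (List.mem_singleton.2 rfl)).trans hg1p, h3⟩

theorem flag_dod_in3 (d : Finset GolayPt) (hd : d ∈ dodecads) (p q r : GolayPt) (hp : p ∈ d)
    (hq : q ∈ d) (hr : r ∈ d) (hpq : p ≠ q) (hpr : p ≠ r) (hqr : q ≠ r) :
    ∃ g ∈ M24, g • supp 1 = d ∧ g (gpt 0) = p ∧ g (gpt 1) = q ∧ g (gpt 2) = r := by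
  obtain ⟨g1, hg1, rfl, hg1p, hg1q⟩ := flag_dod_in2 d hd p q hp hq hpq
  obtain ⟨g0, hg0, h1, h2, h3⟩ := flag_step (s := 1) (L := [0, 1]) hg1 2 r
    (fun i => ((combo 1).testBit i = true ∧ i ≠ 0 ∧ i ≠ 1)) FlagD2.reach_inn (by
      intro i hi
      rw [← hi, smul_gpt_mem_smul_supp] at hr
      refine ⟨hr, ?_, ?_⟩
      · rintro rfl
        exact hpr (hg1p.symm.trans hi)
      · rintro rfl
        exact hqr (hg1q.symm.trans hi))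
  exact ⟨g0, hg0, h1, (h2 0 (by simp)).trans hg1p, (h2 1 (by simp)).trans hg1q, h3⟩

theorem flag_dod_in3_out (d : Finset GolayPt) (hd : d ∈ dodecads) (p q r x : GolayPt) (hp : p ∈ d)
    (hq : q ∈ d) (hr : r ∈ d) (hpq : p ≠ q) (hpr : p ≠ r) (hqr : q ≠ r) (hx : x ∉ d) :
    ∃ g ∈ M24, g • supp 1 = d ∧ g (gpt 0) = p ∧ g (gpt 1) = q ∧ g (gpt 2) = r ∧ g (gpt 5) = x := by
  obtain ⟨g1, hg1, rfl, hg1p, hg1q, hg1r⟩ := flag_dod_in3 d hd p q r hp hq hr hpq hpr hqr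
  obtain ⟨g0, hg0, h1, h2, h3⟩ := flag_step (s := 1) (L := [0, 1, 2]) hg1 5 x
    (fun i => (combo 1).testBit i = false) FlagD3.reach_out (by
      intro i hi
      rw [← hi, smul_gpt_mem_smul_supp] at hx
      simpa using hx)
  exact ⟨g0, hg0, h1, (h2 0 (by simp)).trans hg1p, (h2 1 (by simp)).trans hg1q,
    (h2 2 (by simp)).trans hg1r, h3⟩

end Cfsg.Agent.Lib.Helper1
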