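import Mathlib
import Cfsg.Agent.Lib.Helper1.M24Trios

set_option autoImplicit false

namespace Cfsg.Agent.Lib.Helper1

open Cfsg
open scoped Pointwise

/-- the codeword support coded by an index -/
def objO (k : ℕ) : Finset GolayPt := supp k

/-- step check for codeword supports -/
def chkO (T : Fin 24 → Fin 24) (pm m _w : ℕ) : Bool :=
  decide (pullMask T (combo pm) = combo m)

theorem soundO : SoundChk objO chkO := by
  intro g _ T hT pm m w h
  unfold chkO at h
  rw [decide_eq_true_iff] at h
  exact smul_supp_of_table hT h

theorem objO_mem_octads {k : ℕ} (h : popc (combo k) = 8) : objO k ∈ octads := supp_mem_octads h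

theorem objO_injOn {a b : ℕ} (ha : a < 4096) (hb : b < 4096) (h : objO a = objO b) : a = b :=
  supp_injOn ha hb h

theorem smul_mem_octads' : ∀ g ∈ M24, ∀ y ∈ octads, g • y ∈ octads :=
  fun _ hg _ hy => smul_mem_octads hg hy

end Cfsg.Agent.Lib.Helper1
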