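import Mathlib
import Cfsg.Prelude.Def_Sporadic_a
import Cfsg.Agent.Lib.Helper1.M24Pairs
import Cfsg.Agent.Lib.Helper1.M24OctFix
import Cfsg.Agent.Lib.Helper1.M24Cycle2
import Cfsg.Agent.S0360

set_option autoImplicit false

namespace Cfsg.Agent.Lib.Helper1

open Cfsg
open scoped Pointwise

/-- the stabilizer of a set of points in `M24`, as a subgroup of the symmetric group -/
def stabO (o : Finset GolayPt) : Subgroup (Equiv.Perm GolayPt) :=
  M24 ⊓ MulAction.stabilizer (Equiv.Perm GolayPt) o

theorem mem_stabO {o : Finset GolayPt} {g : Equiv.Perm GolayPt} :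
    g ∈ stabO o ↔ g ∈ M24 ∧ g • o = o := by
  unfold stabO
  rw [Subgroup.mem_inf]
  constructor
  · rintro ⟨h1, h2⟩
    exact ⟨h1, MulAction.mem_stabilizer_iff.1 h2⟩
  · rintro ⟨h1, h2⟩
    exact ⟨h1, MulAction.mem_stabilizer_iff.2 h2⟩

theorem orbit_M24_octad' (o : Finset GolayPt) (ho : o ∈ octads) :
    MulAction.orbit ↥M24 o = octads := by
  ext b
  constructor
  · rintro ⟨g, rfl⟩
    exact smul_mem_octads g.2 ho
  · intro hb
    obtain ⟨g, hg⟩ := Cfsg.Agent.S0367.result o b ho hb
    exact ⟨g, hg⟩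

theorem card_stabO (o : Finset GolayPt) (ho : o ∈ octads) : Nat.card (stabO o) = 322560 := by
  have h := card_eq_ncard_orbit_mul (G := Equiv.Perm GolayPt) M24 o
  rw [orbit_M24_octad' o ho, Cfsg.Agent.S0360.result, card_M24] at h
  unfold stabO
  omega

theorem smul_eq_iff_mem {o : Finset GolayPt} {g : Equiv.Perm GolayPt} :
    g • o = o ↔ ∀ x, g x ∈ o ↔ x ∈ o := by
  constructor
  · intro h x
    conv_lhs => rw [← h]
    exact Finset.smul_mem_smul_finset_iff g
  · intro h
    apply Finset.eq_of_subset_of_card_le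
    · intro y hy
      obtain ⟨x, hx, rfl⟩ := Finset.mem_smul_finset.1 hy
      exact (h x).2 hx
    · rw [Finset.card_smul_finset]

/-- the action of the octad stabilizer on the octad -/
def octRho (o : Finset GolayPt) : ↥(stabO o) →* Equiv.Perm ↥o where
  toFun g := (g.1).subtypePerm (smul_eq_iff_mem.1 (mem_stabO.1 g.2).2)
  map_one' := by
    apply Equiv.ext
    intro x
    rfl
  map_mul' g h := by
    apply Equiv.ext
    intro x
    rfl

theorem octRho_apply (o : Finset GolayPt) (g : ↥(stabO o)) (x : ↥o) :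
    ((octRho o g x : ↥o) : GolayPt) = g.1 x := rfl

theorem card_ker_octRho (o : Finset GolayPt) (ho : o ∈ octads) :
    Nat.card (octRho o).ker = 16 := by
  rw [← (octFix_main o ho).1]
  apply Nat.card_congr
  refine ⟨fun g => ⟨g.1.1, ?_⟩, fun k => ⟨⟨k.1, ?_⟩, ?_⟩, ?_, ?_⟩
  · rw [mem_octFix]
    refine ⟨(mem_stabO.1 g.1.2).1, fun x hx => ?_⟩
    have h1 : octRho o g.1 = 1 := g.2
    have h2 := congrArg (fun e : Equiv.Perm ↥o => ((e ⟨x, hx⟩ : ↥o) : GolayPt)) h1
    exact h2
  · have hk := mem_octFix.1 k.2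
    rw [mem_stabO]
    refine ⟨hk.1, ?_⟩
    rw [smul_eq_iff_mem]
    intro x
    constructor
    · intro hx
      have := hk.2 _ hx
      have h3 : k.1 x = x := k.1.injective this
      rw [← h3]; exact hx
    · intro hx
      rw [hk.2 x hx]; exact hx
  · have hk := mem_octFix.1 k.2
    show octRho o _ = 1
    apply Equiv.ext
    intro x
    apply Subtype.ext
    exact hk.2 x.1 x.2
  · intro g
    rfl
  · intro k
    rfl

theorem card_range_octRho (o : Finset GolayPt) (ho : o ∈ octads) :
    Nat.card (octRho o).range = 20160 := by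
  have h1 := Subgroup.card_eq_card_quotient_mul_card_subgroup (octRho o).ker
  rw [card_stabO o ho, card_ker_octRho o ho,
    Nat.card_congr (QuotientGroup.quotientKerEquivRange (octRho o)).toEquiv] at h1
  omega

theorem range_octRho (o : Finset GolayPt) (ho : o ∈ octads) :
    (octRho o).range = alternatingGroup ↥o := by
  apply Equiv.Perm.eq_alternatingGroup_of_index_eq_two
  have h1 := Subgroup.card_mul_index (octRho o).range
  rw [card_range_octRho o ho, Nat.card_perm] at h1
  have h8 : Nat.card ↥o = 8 := by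
    rw [Nat.card_eq_fintype_card, Fintype.card_coe]
    exact ho.2
  rw [h8] at h1
  have : Nat.factorial 8 = 40320 := by decide
  omega

end Cfsg.Agent.Lib.Helper1
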