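import Mathlib
import Cfsg.Agent.Lib.Helper1.M24Cert
import Cfsg.Agent.Lib.Helper1.M24Simple3
import Cfsg.Agent.S1550
import Cfsg.Agent.S0359

set_option autoImplicit false

namespace Cfsg.Agent.Lib.Helper1

open Cfsg
open Cfsg.Agent.S1550
open scoped Pointwise

theorem smul_mem_sextets {g : Equiv.Perm GolayPt} (hg : g ∈ M24)
    {S : Finset (Finset GolayPt)} (hS : S ∈ sextets) : g • S ∈ sextets := by
  obtain ⟨h6, h4, hU⟩ := hS
  refine ⟨by rw [Finset.card_smul_finset]; exact h6, ?_, ?_⟩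
  · intro t ht
    obtain ⟨t0, ht0, rfl⟩ := Finset.mem_smul_finset.1 ht
    rw [Finset.card_smul_finset]
    exact h4 t0 ht0
  · intro t ht u hu htu
    obtain ⟨t0, ht0, rfl⟩ := Finset.mem_smul_finset.1 ht
    obtain ⟨u0, hu0, rfl⟩ := Finset.mem_smul_finset.1 hu
    have hne : t0 ≠ u0 := fun h => htu (by rw [h])
    rw [← Finset.smul_finset_union]
    exact smul_mem_wow hg (hU t0 ht0 u0 hu0 hne)

theorem smul_sextetOf {g : Equiv.Perm GolayPt} (hg : g ∈ M24) (t : Finset GolayPt)
    (ht : t.card = 4) : g • sextetOf t = sextetOf (g • t) := by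
  apply eq_sextetOf _ (smul_mem_sextets hg (sextetOf_mem t ht))
  exact Finset.smul_mem_smul_finset (self_mem_sextetOf t)

theorem sextet_disjoint {S : Finset (Finset GolayPt)} (hS : S ∈ sextets) {t u : Finset GolayPt}
    (ht : t ∈ S) (hu : u ∈ S) (hne : t ≠ u) : Disjoint t u := by
  obtain ⟨_, h4, hU⟩ := hS
  rw [← Finset.card_union_eq_card_add_card, octad_card8 (hU t ht u hu hne), h4 t ht, h4 u hu]

theorem card_support₂_mem {w : GolayPt → ZMod 2} (hw : w ∈ golayCode) :
    (support₂ w).card = 0 ∨ (support₂ w).card = 8 ∨ (support₂ w).card = 12 ∨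
      (support₂ w).card = 16 ∨ (support₂ w).card = 24 := by
  rw [card_support₂, ← hammingNorm_eq_popc]
  exact Cfsg.Agent.S0359.result w hw

/-- two 4-sets in the same coset of the code determine the same sextet -/
theorem sextetOf_eq_of_symmDiff {t u : Finset GolayPt} (ht : t.card = 4) (hu : u.card = 4)
    {w : GolayPt → ZMod 2} (hw : w ∈ golayCode) (h : symmDiff t u = support₂ w) :
    sextetOf t = sextetOf u := by
  have hsd : symmDiff t u = (t \ u) ∪ (u \ t) := rfl
  have hdisj : Disjoint (t \ u) (u \ t) := disjoint_sdiff_sdiff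
  have hc : (symmDiff t u).card + 2 * (t ∩ u).card = 8 := by
    rw [hsd, Finset.card_union_of_disjoint hdisj]
    have h1 := Finset.card_sdiff_add_card_inter t u
    have h2 := Finset.card_sdiff_add_card_inter u t
    rw [Finset.inter_comm] at h2
    omega
  rcases card_support₂_mem hw with h0 | h8 | h12 | h16 | h24
  · rw [← h, Finset.card_eq_zero] at h0
    have : t = u := symmDiff_eq_bot.1 h0
    rw [this]
  · rw [← h] at h8
    have hI : (t ∩ u).card = 0 := by omega
    have hd : Disjoint t u := by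
      rw [Finset.disjoint_iff_inter_eq_empty, ← Finset.card_eq_zero]
      exact hI
    have hsd' : symmDiff t u = t ∪ u := by
      rw [hsd, Finset.sdiff_eq_self_of_disjoint hd, Finset.sdiff_eq_self_of_disjoint hd.symm]
    have hoct : t ∪ u ∈ octads := by
      rw [← hsd', h]
      refine ⟨⟨w, hw, rfl⟩, ?_⟩
      rw [← h]
      exact h8
    have humem : u ∈ sextetOf t := by
      unfold sextetOf
      rw [Finset.mem_insert]
      right
      rw [Finset.mem_image]
      refine ⟨t ∪ u, mem_octThru.2 ⟨hoct, Finset.subset_union_left⟩, ?_⟩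
      show (t ∪ u) \ t = u
      rw [Finset.union_sdiff_left, Finset.sdiff_eq_self_iff_disjoint]
      exact hd.symm
    exact eq_sextetOf _ (sextetOf_mem t ht) u humem
  · rw [← h] at h12; omega
  · rw [← h] at h16; omega
  · rw [← h] at h24; omega

/-- the sextet coded by a 4-point mask -/
noncomputable def objS (m : ℕ) : Finset (Finset GolayPt) := sextetOf (mset m)

/-- step check for sextets -/
def chkS (T : Fin 24 → Fin 24) (pm m w : ℕ) : Bool :=
  decide (popc pm = 4 ∧ popc m = 4 ∧ pullMask T pm ^^^ m = combo w)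

theorem soundS : SoundChk objS chkS := by
  intro g hg T hT pm m w h
  unfold chkS at h
  rw [decide_eq_true_iff] at h
  obtain ⟨h1, h2, h3⟩ := h
  unfold objS
  have c1 : (mset pm).card = 4 := by rw [card_mset]; exact h1
  have c2 : (mset m).card = 4 := by rw [card_mset]; exact h2
  rw [smul_sextetOf hg _ c1, smul_mset hT]
  have c3 : (mset (pullMask T pm)).card = 4 := by
    rw [← smul_mset hT, Finset.card_smul_finset]; exact c1
  apply sextetOf_eq_of_symmDiff c3 c2 (wordOf_mem w)
  rw [← mset_xor, h3, ← supp_eq_mset]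
  rfl

theorem objS_mem {m : ℕ} (h : popc m = 4) : objS m ∈ sextets :=
  sextetOf_mem _ (by rw [card_mset]; exact h)

theorem objS_injOn {m m' : ℕ} (hm : m < 2 ^ 24) (hm' : m' < 2 ^ 24) (h4 : popc m = 4)
    (h4' : popc m' = 4) (h0 : m.testBit 0 = true) (h0' : m'.testBit 0 = true)
    (h : objS m = objS m') : m = m' := by
  apply mset_injOn hm hm'
  by_contra hne
  have hS := objS_mem h4
  have m1 : mset m ∈ objS m := self_mem_sextetOf _
  have m2 : mset m' ∈ objS m := by rw [h]; exact self_mem_sextetOf _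
  have hd := sextet_disjoint hS m1 m2 hne
  have p1 : gpt 0 ∈ mset m := (gpt_mem_mset m 0).2 h0
  have p2 : gpt 0 ∈ mset m' := (gpt_mem_mset m' 0).2 h0'
  exact Finset.disjoint_left.1 hd p1 p2

theorem exists_four {t : Finset GolayPt} (ht : t.card = 4) :
    ∃ a b c d : GolayPt, a ≠ b ∧ a ≠ c ∧ a ≠ d ∧ b ≠ c ∧ b ≠ d ∧ c ≠ d ∧ t = {a, b, c, d} := by
  obtain ⟨a, t3, ha, rfl, h3⟩ := Finset.card_eq_succ.1 ht
  obtain ⟨b, c, d, hbc, hbd, hcd, rfl⟩ := Finset.card_eq_three.1 h3
  simp only [Finset.mem_insert, Finset.mem_singleton, not_or] at ha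
  exact ⟨a, b, c, d, ha.1, ha.2.1, ha.2.2, hbc, hbd, hcd, rfl⟩

theorem smul_four (g : Equiv.Perm GolayPt) (a b c d : GolayPt) :
    g • ({a, b, c, d} : Finset GolayPt) = {g a, g b, g c, g d} := by
  rw [Finset.smul_finset_insert, Finset.smul_finset_insert, Finset.smul_finset_insert,
    Finset.smul_finset_singleton]
  rfl

/-- `M24` is transitive on 4-sets -/
theorem M24_trans_tetrads {t t' : Finset GolayPt} (ht : t.card = 4) (ht' : t'.card = 4) :
    ∃ g ∈ M24, g • t = t' := by
  obtain ⟨a, b, c, d, h1, h2, h3, h4, h5, h6, rfl⟩ := exists_four ht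
  obtain ⟨a', b', c', d', h1', h2', h3', h4', h5', h6', rfl⟩ := exists_four ht'
  obtain ⟨g, hg, e1, e2, e3, e4⟩ := M24_trans4 h1 h2 h3 h4 h5 h6 h1' h2' h3' h4' h5' h6'
  exact ⟨g, hg, by rw [smul_four, e1, e2, e3, e4]⟩

/-- `M24` is transitive on sextets -/
theorem M24_trans_sextets {S S' : Finset (Finset GolayPt)} (hS : S ∈ sextets)
    (hS' : S' ∈ sextets) : ∃ g ∈ M24, g • S = S' := by
  have hne : S.Nonempty := by rw [← Finset.card_pos, hS.1]; norm_num
  have hne' : S'.Nonempty := by rw [← Finset.card_pos, hS'.1]; norm_num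
  obtain ⟨t, ht⟩ := hne
  obtain ⟨t', ht'⟩ := hne'
  have h4 := hS.2.1 t ht
  have h4' := hS'.2.1 t' ht'
  obtain ⟨g, hg, hgt⟩ := M24_trans_tetrads h4 h4'
  refine ⟨g, hg, ?_⟩
  rw [eq_sextetOf S hS t ht, smul_sextetOf hg t h4, hgt, ← eq_sextetOf S' hS' t' ht']

end Cfsg.Agent.Lib.Helper1
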