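import Mathlib
import Cfsg.Agent.Lib.Helper1.M24Sextets
import Cfsg.Agent.Lib.Helper1.M24Trios

set_option autoImplicit false

namespace Cfsg.Agent.Lib.Helper1

open Cfsg
open Cfsg.Agent.S1550
open scoped Pointwise

theorem mset_zero : mset 0 = ∅ := by
  apply Finset.card_eq_zero.1
  rw [card_mset]
  decide

/-- `mset u` belongs to the sextet of `mset t` when `t ||| u` is the mask of an octad -/
theorem mset_mem_sextetOf {t u k : ℕ} (hk : popc (combo k) = 8) (hd : t &&& u = 0)
    (hor : combo k = t ||| u) : mset u ∈ sextetOf (mset t) := by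
  have hdisj : Disjoint (mset u) (mset t) := by
    rw [Finset.disjoint_iff_inter_eq_empty, Finset.inter_comm, ← mset_and, hd, mset_zero]
  unfold sextetOf
  apply Finset.mem_insert_of_mem
  rw [Finset.mem_image]
  refine ⟨supp k, mem_octThru.2 ⟨supp_mem_octads hk, ?_⟩, ?_⟩
  · rw [supp_eq_mset, hor, mset_or]
    exact Finset.subset_union_left
  · rw [supp_eq_mset, hor, mset_or, Finset.union_sdiff_left]
    exact Finset.sdiff_eq_self_of_disjoint hdisj

/-- an explicit list of the six tetrads of a sextet -/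
theorem objS_eq_of_list (t : ℕ) (ps : List (ℕ × ℕ)) (h4 : popc t = 4)
    (hps : ∀ p ∈ ps, popc (combo p.2) = 8 ∧ t &&& p.1 = 0 ∧ combo p.2 = t ||| p.1)
    (hlt : ∀ u ∈ t :: ps.map Prod.fst, u < 2 ^ 24) (hnd : (t :: ps.map Prod.fst).Nodup)
    (hlen : ps.length = 5) :
    objS t = ((t :: ps.map Prod.fst).map mset).toFinset := by
  have hinj : ∀ a ∈ t :: ps.map Prod.fst, ∀ b ∈ t :: ps.map Prod.fst, mset a = mset b → a = b :=
    fun a ha b hb h => mset_injOn (hlt a ha) (hlt b hb) h
  symm
  apply Finset.eq_of_subset_of_card_le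
  · intro x hx
    rw [List.mem_toFinset, List.mem_map] at hx
    obtain ⟨u, hu, rfl⟩ := hx
    rw [List.mem_cons] at hu
    rcases hu with rfl | hu
    · exact self_mem_sextetOf _
    · rw [List.mem_map] at hu
      obtain ⟨p, hp, rfl⟩ := hu
      obtain ⟨h1, h2, h3⟩ := hps p hp
      exact mset_mem_sextetOf h1 h2 h3
  · unfold objS
    rw [card_sextetOf _ (by rw [card_mset, h4]), List.toFinset_card_of_nodup
      (List.Nodup.map_on hinj hnd), List.length_map, List.length_cons, List.length_map, hlen]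

/-- counting the members of an explicit family that meet a given set -/
theorem card_filter_meets (L : List ℕ) (y : ℕ) (hlt : ∀ u ∈ L, u < 2 ^ 24) (hnd : L.Nodup) :
    (((L.map mset).toFinset).filter (fun t => (t ∩ mset y).Nonempty)).card =
      (L.filter (fun u => decide (popc (u &&& y) ≠ 0))).length := by
  have hinj : ∀ a ∈ L, ∀ b ∈ L, mset a = mset b → a = b :=
    fun a ha b hb h => mset_injOn (hlt a ha) (hlt b hb) h
  have hq : ∀ u : ℕ, (mset u ∩ mset y).Nonempty ↔ popc (u &&& y) ≠ 0 := by
    intro u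
    rw [← mset_and, ← Finset.card_pos, card_mset, Nat.pos_iff_ne_zero]
  have hset : ((L.map mset).toFinset).filter (fun t => (t ∩ mset y).Nonempty) =
      ((L.filter (fun u => decide (popc (u &&& y) ≠ 0))).map mset).toFinset := by
    ext x
    rw [Finset.mem_filter, List.mem_toFinset, List.mem_toFinset, List.mem_map, List.mem_map]
    constructor
    · rintro ⟨⟨u, hu, rfl⟩, hne⟩
      exact ⟨u, List.mem_filter.2 ⟨hu, decide_eq_true ((hq u).1 hne)⟩, rfl⟩
    · rintro ⟨u, hu, rfl⟩
      rw [List.mem_filter] at hu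
      exact ⟨⟨u, hu.1, rfl⟩, (hq u).2 (of_decide_eq_true hu.2)⟩
  rw [hset, List.toFinset_card_of_nodup, List.length_map]
  apply List.Nodup.map_on
  · intro a ha b hb h
    exact hinj a (List.mem_filter.1 ha).1 b (List.mem_filter.1 hb).1 h
  · exact hnd.filter _

theorem exists_notMem_three (a b c : GolayPt) : ∃ x : GolayPt, x ∉ ({a, b, c} : Finset GolayPt) := by
  by_contra hcon
  simp only [not_exists, not_not] at hcon
  have hsub : (Finset.univ : Finset GolayPt) ⊆ {a, b, c} := fun z _ => hcon z
  have h1 := Finset.card_le_card hsub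
  rw [Finset.card_univ, fintype_card_golayPt] at h1
  have h2 : ({a, b, c} : Finset GolayPt).card ≤ 3 := Finset.card_le_three
  omega

/-- `M24` is transitive on 3-sets -/
theorem M24_trans_triples {Y Y' : Finset GolayPt} (h : Y.card = 3) (h' : Y'.card = 3) :
    ∃ g ∈ M24, g • Y = Y' := by
  obtain ⟨a, b, c, hab, hac, hbc, rfl⟩ := Finset.card_eq_three.1 h
  obtain ⟨a', b', c', hab', hac', hbc', rfl⟩ := Finset.card_eq_three.1 h'
  obtain ⟨x, hx⟩ := exists_notMem_three a b c
  obtain ⟨x', hx'⟩ := exists_notMem_three a' b' c'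
  simp only [Finset.mem_insert, Finset.mem_singleton, not_or] at hx hx'
  obtain ⟨g, hg, e1, e2, e3, _⟩ := M24_trans4 hab hac (Ne.symm hx.1) hbc (Ne.symm hx.2.1)
    (Ne.symm hx.2.2) hab' hac' (Ne.symm hx'.1) hbc' (Ne.symm hx'.2.1) (Ne.symm hx'.2.2)
  refine ⟨g, hg, ?_⟩
  rw [Finset.smul_finset_insert, Finset.smul_finset_insert, Finset.smul_finset_singleton]
  show ({g a, g b, g c} : Finset GolayPt) = _
  rw [e1, e2, e3]

/-- the number of members of a family meeting a set is invariant under permutations -/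
theorem card_filter_meets_smul (g : Equiv.Perm GolayPt) (S : Finset (Finset GolayPt))
    (Y : Finset GolayPt) :
    ((g • S).filter (fun t => (t ∩ g • Y).Nonempty)).card =
      (S.filter (fun t => (t ∩ Y).Nonempty)).card := by
  have : (g • S).filter (fun t => (t ∩ g • Y).Nonempty) =
      g • (S.filter (fun t => (t ∩ Y).Nonempty)) := by
    ext x
    rw [Finset.mem_filter, Finset.mem_smul_finset, Finset.mem_smul_finset]
    constructor
    · rintro ⟨⟨t, ht, rfl⟩, hne⟩
      refine ⟨t, Finset.mem_filter.2 ⟨ht, ?_⟩, rfl⟩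
      rw [← Finset.smul_finset_inter] at hne
      exact Finset.smul_finset_nonempty.1 hne
    · rintro ⟨t, ht, rfl⟩
      rw [Finset.mem_filter] at ht
      refine ⟨⟨t, ht.1, rfl⟩, ?_⟩
      rw [← Finset.smul_finset_inter]
      exact Finset.smul_finset_nonempty.2 ht.2
  rw [this, Finset.card_smul_finset]

end Cfsg.Agent.Lib.Helper1
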