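import Mathlib
import Cfsg.Prelude.Def_SporadicCombinatorics
import Cfsg.Agent.Lib.Helper1.M24Cert
import Cfsg.Agent.Lib.Helper1.M24Trios
import Cfsg.Agent.Lib.Helper1.M24DodPairs
import Cfsg.Agent.Lib.Helper1.M24SextetSix
import Cfsg.Agent.Lib.Helper1.M24Orbit

set_option autoImplicit false

namespace Cfsg.Agent.Lib.Helper1

open Cfsg
open scoped Pointwise

/-- the mask of a set of points -/
def maskOf (t : Finset GolayPt) : ℕ := Nat.ofBits (fun i : Fin 24 => decide (gpt i ∈ t))

theorem maskOf_lt (t : Finset GolayPt) : maskOf t < 2 ^ 24 := Nat.ofBits_lt_two_pow _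

theorem mset_maskOf (t : Finset GolayPt) : mset (maskOf t) = t := by
  apply mset_ext
  intro i
  rw [gpt_mem_mset]
  unfold maskOf
  rw [Nat.testBit_ofBits_lt _ _ i.2]
  simp

theorem mset_subset_of_and {a b : ℕ} (h : a &&& b = a) : mset a ⊆ mset b := by
  rw [← h, mset_and]
  exact Finset.inter_subset_right

theorem and_eq_of_mset_subset {a b : ℕ} (ha : a < 2 ^ 24) (h : mset a ⊆ mset b) :
    a &&& b = a := by
  apply mset_injOn (lt_of_le_of_lt Nat.and_le_left ha) ha
  rw [mset_and]
  exact Finset.inter_eq_left.2 h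

theorem eq_zero_of_mset_eq_empty {a : ℕ} (ha : a < 2 ^ 24) (h : mset a = ∅) : a = 0 :=
  mset_injOn ha (by norm_num) (by rw [h, mset_zero])

theorem combo_lt (k : ℕ) : combo k < 2 ^ 24 := by
  rw [← mask_wordOf]
  exact mask_lt _

/-- every octad is a codeword support -/
theorem exists_supp_of_mem_octads {o : Finset GolayPt} (ho : o ∈ octads) :
    ∃ k < 4096, popc (combo k) = 8 ∧ supp k = o := by
  obtain ⟨⟨w, hw, rfl⟩, h8⟩ := ho
  obtain ⟨k, hk, hmk⟩ := exists_combo_of_mem hw
  have hwk : w = wordOf k := mask_injective (by rw [hmk, mask_wordOf])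
  refine ⟨k, hk, ?_, by rw [hwk]; rfl⟩
  have h8' : (support₂ w).card = 8 := h8
  rw [card_support₂, hmk] at h8'
  exact h8'

/-- the mask of the base dodecad -/
def dmask : ℕ := 340831

theorem combo_one_eq : combo 1 = dmask := by decide +kernel

theorem dod0_eq : dod0 = mset dmask := by
  show supp 1 = mset dmask
  rw [supp_eq_mset, combo_one_eq]

def posL : List ℕ := [0, 1, 2, 3, 4, 6, 8, 9, 12, 13, 16, 18]

def rankL : List ℕ := [0, 1, 2, 3, 4, 0, 5, 0, 6, 7, 0, 0, 8, 9, 0, 0, 10, 0, 11, 0, 0, 0, 0, 0]

/-- spread twelve bits over the positions of the base dodecad -/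
def rebuild (y : ℕ) : ℕ :=
  Nat.ofBits (fun i : Fin 24 => dmask.testBit i && y.testBit (rankL.getD i 0))

/-- collect the bits at the positions of the base dodecad -/
def compress (x : ℕ) : ℕ := Nat.ofBits (fun j : Fin 12 => x.testBit (posL.getD j 0))

theorem pos_rank : ∀ i : Fin 24, dmask.testBit i = true →
    rankL.getD i 0 < 12 ∧ posL.getD (rankL.getD i 0) 0 = i := by
  decide +kernel

theorem rebuild_compress {x : ℕ} (hx : x < 2 ^ 24) (h : x &&& dmask = x) :
    rebuild (compress x) = x := by
  apply Nat.eq_of_testBit_eq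
  intro i
  by_cases hi : i < 24
  · unfold rebuild
    rw [Nat.testBit_ofBits_lt _ _ hi]
    show (dmask.testBit i && (compress x).testBit (rankL.getD i 0)) = x.testBit i
    cases hd : dmask.testBit i
    · rw [Bool.false_and, ← h, Nat.testBit_and, hd, Bool.and_false]
    · obtain ⟨h1, h2⟩ := pos_rank ⟨i, hi⟩ hd
      rw [Bool.true_and]
      unfold compress
      rw [Nat.testBit_ofBits_lt _ _ h1]
      show x.testBit (posL.getD (rankL.getD i 0) 0) = x.testBit i
      rw [h2]
  · have h1 : x < 2 ^ i := lt_of_lt_of_le hx (Nat.pow_le_pow_right (by norm_num) (by omega))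
    have h2 : rebuild (compress x) < 2 ^ i :=
      lt_of_lt_of_le (Nat.ofBits_lt_two_pow _) (Nat.pow_le_pow_right (by norm_num) (by omega))
    rw [Nat.testBit_lt_two_pow h1, Nat.testBit_lt_two_pow h2]

/-- the 220 triples of points of the base dodecad -/
def triples : List ℕ :=
  [7, 11, 13, 14, 19, 21, 22, 25, 26, 28, 67, 69,
    70, 73, 74, 76, 81, 82, 84, 88, 259, 261, 262, 265,
    266, 268, 273, 274, 276, 280, 321, 322, 324, 328, 336, 515,
    517, 518, 521, 522, 524, 529, 530, 532, 536, 577, 578, 580,
    584, 592, 769, 770, 772, 776, 784, 832, 4099, 4101, 4102, 4105,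
    4106, 4108, 4113, 4114, 4116, 4120, 4161, 4162, 4164, 4168, 4176, 4353,
    4354, 4356, 4360, 4368, 4416, 4609, 4610, 4612, 4616, 4624, 4672, 4864,
    8195, 8197, 8198, 8201, 8202, 8204, 8209, 8210, 8212, 8216, 8257, 8258,
    8260, 8264, 8272, 8449, 8450, 8452, 8456, 8464, 8512, 8705, 8706, 8708,
    8712, 8720, 8768, 8960, 12289, 12290, 12292, 12296, 12304, 12352, 12544, 12800,
    65539, 65541, 65542, 65545, 65546, 65548, 65553, 65554, 65556, 65560, 65601, 65602,
    65604, 65608, 65616, 65793, 65794, 65796, 65800, 65808, 65856, 66049, 66050, 66052,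
    66056, 66064, 66112, 66304, 69633, 69634, 69636, 69640, 69648, 69696, 69888, 70144,
    73729, 73730, 73732, 73736, 73744, 73792, 73984, 74240, 77824, 262147, 262149, 262150,
    262153, 262154, 262156, 262161, 262162, 262164, 262168, 262209, 262210, 262212, 262216, 262224,
    262401, 262402, 262404, 262408, 262416, 262464, 262657, 262658, 262660, 262664, 262672, 262720,
    262912, 266241, 266242, 266244, 266248, 266256, 266304, 266496, 266752, 270337, 270338, 270340,
    270344, 270352, 270400, 270592, 270848, 274432, 327681, 327682, 327684, 327688, 327696, 327744,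
    327936, 328192, 331776, 335872]

theorem rebuild_triples' : ∀ a < 64, ∀ b < 64, popc (rebuild (64 * a + b)) = 3 →
    rebuild (64 * a + b) ∈ triples := by
  decide +kernel

theorem mem_triples {x : ℕ} (hx : x < 2 ^ 24) (h3 : popc x = 3) (h : x &&& dmask = x) :
    x ∈ triples := by
  have hc : compress x < 2 ^ 12 := Nat.ofBits_lt_two_pow _
  have h1 := rebuild_triples' (compress x / 64) (by omega) (compress x % 64) (by omega)
  rw [Nat.div_add_mod, rebuild_compress hx h] at h1
  exact h1 h3

/-- the 132 hexads of the base dodecad, each with an octad cutting it out -/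
def hexData : List (ℕ × ℕ) :=
  [(343, 1308), (591, 1501), (797, 3284), (858, 1505), (4127, 345), (4430, 119), (4441, 960), (4691, 3235),
    (4700, 1380), (4875, 120), (4886, 1565), (4933, 1208), (8285, 1087), (8478, 690), (8523, 3108), (8731, 1046),
    (8790, 240), (8967, 478), (9036, 266), (9041, 1903), (12359, 370), (12378, 1815), (12557, 523), (12563, 1096),
    (12628, 3453), (12814, 2204), (12821, 714), (12873, 425), (13080, 135), (13122, 2006), (65627, 1577), (65807, 787),
    (65884, 438), (66078, 1574), (66133, 1778), (66323, 1131), (66374, 2813), (66377, 826), (69709, 2693), (69718, 211),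
    (69909, 1630), (69914, 3993), (69955, 239), (70151, 845), (70169, 1294), (70218, 1963), (70412, 1330), (70480, 1617),
    (73751, 3474), (73806, 740), (74009, 2040), (74053, 1179), (74066, 1836), (74253, 1753), (74307, 537), (74328, 2127),
    (74506, 326), (74516, 1797), (77835, 1260), (77852, 1883), (77905, 957), (78086, 1697), (78152, 609), (78354, 1920),
    (78404, 305), (78593, 2959), (262238, 2958), (262427, 304), (262477, 1921), (262679, 608), (262745, 1696), (262926, 956),
    (262979, 1882), (262996, 1261), (266315, 1796), (266325, 327), (266503, 2126), (266524, 536), (266578, 1752), (266765, 1837),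
    (266778, 1178), (266822, 2041), (267025, 741), (267080, 3475), (270351, 1616), (270419, 1331), (270613, 1962), (270662, 1295),
    (270680, 844), (270876, 238), (270917, 3992), (270922, 1631), (271113, 210), (271122, 2692), (274454, 827), (274457, 2812),
    (274508, 1130), (274698, 1779), (274753, 1575), (274947, 439), (275024, 786), (275204, 1576), (327709, 2007), (327751, 134),
    (327958, 424), (328010, 715), (328017, 2205), (328203, 3452), (328268, 1097), (328274, 522), (328453, 1814), (328472, 371),
    (331790, 1902), (331795, 267), (331864, 479), (332041, 241), (332100, 1047), (332308, 3109), (332353, 691), (332546, 1086),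
    (335898, 1209), (335945, 1564), (335956, 121), (336131, 1381), (336140, 3234), (336390, 961), (336401, 118), (336704, 344),
    (339973, 1504), (340034, 3285), (340240, 1500), (340488, 1309)]

def hexMasks : List ℕ := hexData.map Prod.fst

theorem hex_ok : ∀ p ∈ hexData, popc (combo p.2) = 8 ∧ combo p.2 &&& dmask = p.1 ∧
    popc p.1 = 6 := by
  decide +kernel

instance hexMasks_dec (x : ℕ) : Decidable (x ∈ hexMasks) := List.instDecidableMemOfLawfulBEq x hexMasks

theorem hex_complete' : ∀ a < 64, ∀ b < 64, popc (combo (64 * a + b)) = 8 →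
    popc (combo (64 * a + b) &&& dmask) = 6 → (combo (64 * a + b) &&& dmask) ∈ hexMasks := by
  decide +kernel

theorem hex_complete (k : ℕ) (hk : k < 4096) (h8 : popc (combo k) = 8)
    (h6 : popc (combo k &&& dmask) = 6) : (combo k &&& dmask) ∈ hexMasks := by
  have h1 := hex_complete' (k / 64) (by omega) (k % 64) (by omega)
  rw [Nat.div_add_mod] at h1
  exact h1 h8 h6

theorem mem_hexadsOn_of {x : ℕ} (hx : x ∈ hexMasks) : mset x ∈ hexadsOn dod0 := by
  unfold hexMasks at hx
  rw [List.mem_map] at hx
  obtain ⟨p, hp, rfl⟩ := hx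
  obtain ⟨h8, hand, h6⟩ := hex_ok p hp
  refine ⟨by rw [card_mset]; exact h6, supp p.2, supp_mem_octads h8, ?_⟩
  rw [supp_eq_mset, dod0_eq, ← mset_and, hand]

theorem mem_hexMasks_of {x : ℕ} (hx : x < 2 ^ 24) (h : mset x ∈ hexadsOn dod0) :
    x ∈ hexMasks := by
  obtain ⟨h6, o, ho, hod⟩ := h
  obtain ⟨k, hk, hk8, rfl⟩ := exists_supp_of_mem_octads ho
  have hxk : x = combo k &&& dmask := by
    apply mset_injOn hx (lt_of_le_of_lt Nat.and_le_left (combo_lt k))
    rw [mset_and, ← supp_eq_mset, ← dod0_eq]
    exact hod.symm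
  rw [hxk]
  apply hex_complete k hk hk8
  rw [← hxk, ← card_mset]
  exact h6

end Cfsg.Agent.Lib.Helper1
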