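import Mathlib
import Cfsg.Agent.Lib.Helper1.M24QuartetsA

set_option autoImplicit false

namespace Cfsg.Agent.Lib.Helper1

open Cfsg
open scoped Pointwise

/-- the four masks of a quartet code -/
def tql (n : ℕ) : List ℕ :=
  [n % 16777216, n / 16777216 % 16777216, n / 16777216 / 16777216 % 16777216,
    n / 16777216 / 16777216 / 16777216 % 16777216]

/-- the code of a list of four masks -/
def pack4L (l : List ℕ) : ℕ :=
  l.getD 0 0 + 16777216 * (l.getD 1 0 + 16777216 * (l.getD 2 0 + 16777216 * l.getD 3 0))

theorem split_step {a : ℕ} (r : ℕ) (ha : a < 2 ^ 24) :
    (a + 16777216 * r) % 16777216 = a ∧ (a + 16777216 * r) / 16777216 = r := by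
  norm_num at ha
  omega

theorem tql_pack4L {l : List ℕ} (hlen : l.length = 4) (hlt : ∀ x ∈ l, x < 2 ^ 24) :
    tql (pack4L l) = l := by
  match l, hlen with
  | [a, b, c, d], _ =>
    have ha : a < 2 ^ 24 := hlt a (by simp)
    have hb : b < 2 ^ 24 := hlt b (by simp)
    have hc : c < 2 ^ 24 := hlt c (by simp)
    have hd : d < 2 ^ 24 := hlt d (by simp)
    have e1 : pack4L [a, b, c, d] = a + 16777216 * (b + 16777216 * (c + 16777216 * d)) := rfl
    have hd' : d % 16777216 = d := by norm_num at hd; omega
    unfold tql
    rw [e1, (split_step _ ha).1, (split_step _ ha).2, (split_step _ hb).1, (split_step _ hb).2,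
      (split_step _ hc).1, (split_step _ hc).2, hd']

/-- the quartet coded by a number -/
def objQ (n : ℕ) : Finset (Finset GolayPt) := ((tql n).map mset).toFinset

/-- step check for quartets -/
def chkQ (T : Fin 24 → Fin 24) (pn n _w : ℕ) : Bool :=
  decide (((tql pn).map (pullMask T)).insertionSort (· ≤ ·) = tql n)

theorem smul_toFinset_map_mset {g : Equiv.Perm GolayPt} {T : Fin 24 → Fin 24}
    (hT : HasTable g⁻¹ T) (l : List ℕ) :
    g • ((l.map mset).toFinset) = ((l.map (pullMask T)).map mset).toFinset := by
  ext x
  rw [Finset.mem_smul_finset]
  simp only [List.mem_toFinset, List.mem_map]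
  constructor
  · rintro ⟨y, ⟨a, ha, rfl⟩, rfl⟩
    exact ⟨pullMask T a, ⟨a, ha, rfl⟩, (smul_mset hT a).symm⟩
  · rintro ⟨b, ⟨a, ha, rfl⟩, rfl⟩
    exact ⟨mset a, ⟨a, ha, rfl⟩, smul_mset hT a⟩

theorem soundQ : SoundChk objQ chkQ := by
  intro g _ T hT pn n w h
  unfold chkQ at h
  rw [decide_eq_true_iff] at h
  unfold objQ
  rw [smul_toFinset_map_mset hT, ← h]
  apply List.toFinset_eq_of_perm
  exact ((List.perm_insertionSort _ _).map mset).symm

/-- the 220 quartets of the base dodecad -/
def qList : List ℕ :=
  [1237954224850713470709006616, 1237954224977940084214993156, 1237954225988998199418815296,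
    1237954227209473630723375636, 1237963669571294243378434306, 1237963669583116187300008456,
    1237963669780711616555257936, 1237963673023303219547210056, 1237968391949317646393017096,
    1237968392007582897735209536, 1237968393086195013708153361, 1237968394380979836800729176,
    1237982559036099825273671746, 1237982559175148519871742276, 1237982560255449411599991376,
    1237982561354327660515295506, 1237987281487025175131066896, 1237987281541349918566776916,
    1237987282551000596677132561, 1237987283707299723711873796, 1237996726134704066187494146,
    1237996726292048508425867536, 1237996727283403385208832321, 1237996728507819464929050706,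
    1238020337965710970844091136, 1238020338052405331417367046, 1238020339115817728938607176,
    1238020340412291399727186186, 1238025060401999634696770056, 1238025060490945795033399561,
    1238025061482019132129935436, 1238025062636910885338087941, 1238034505064315222495331136,
    1238034505134402431667408961, 1238034506358818575946350666, 1238034507385639222384787971,
    1238053394529120737785025026, 1238053394743886208382795846, 1238053395698649269306130691,
    1238053396834119252342473281, 1238247011555199935861228056, 1238247011630072215308865546,
    1238247012850547705971212556, 1238247013861605753629967106, 1238251733921401266239443216,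
    1238251733994303276768563716, 1238251734068612674697039881, 1238251737378758271914999836,
    1238261178653804115705987856, 1238261178799326614140227601, 1238261179877938729173647386,
    1238261180963306170667237641, 1238280068191511713280950801, 1238280068264132193049120771,
    1238280069276316213360722181, 1238280070425015528858845206, 1238317847123093203988774926,
    1238317847195432200123191301, 1238317848205927362135589636, 1238317849357722902394307081,
    1239153705940739991728558086, 1239153706063463142643466266, 1239153707073395289623626306,
    1239153708224627884173557836, 1239158428290334422900671041, 1239158428304971061694304261,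
    1239158429581741548336316441, 1239158430590829271325868556, 1239167873022737220693393481,
    1239167873162067257963057176, 1239167874188606497204732426, 1239167875325765334161424976,
    1239186762502179429453664276, 1239186762632220928840302661, 1239186763636805053309780486,
    1239186764790570922448781331, 1239224541417153880613982721, 1239224541433760911655440396,
    1239224541561832017519185986, 1239224544874229415658127371, 1239451215009457591019373076,
    1239451215011427847220761096, 1239451216160690177432355331, 1239451217456600901388075021,
    1240362631740651364950216976, 1240362631811020176740057176, 1240362632908772521587769366,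
    1240362634048183154365169986, 1240367354106852763041271876, 1240367354126837550560575756,
    1240367355329298583540203541, 1240367356411288324491182401, 1240376798857551494315507731,
    1240376798909624292395192386, 1240376799994710328302633226, 1240376801143691113576530256,
    1240395688304061126824431936, 1240395688322357004286824466, 1240395688379777896331350021,
    1240395691761981082335969361, 1240433467253657007384695041, 1240433467309389122365292551,
    1240433468389127067562672201, 1240433469541204074359161156, 1240660140829635170399158531,
    1240660140831323951355400456, 1240660141979460381442048276, 1240660143204157936323526681,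
    1241566835192375748757295176, 1241566835197723841799389251, 1241566836344452828283011156,
    1241566837514825712860659726, 1257287593217507977437643276, 1257287593286750824963244116,
    1257287593374571009476133126, 1257287595519410207323062346, 1257292315582302000460595536,
    1257292315583709371166622276, 1257292315795097074582683721, 1257292317902781571410166021,
    1257301760314704794075791441, 1257301760401962024273183241, 1257301760460508820334969091,
    1257301762618014387872465176, 1257320649779510360150115136, 1257320649800339512470012421,
    1257320649850160580160127506, 1257320652227779574485745731, 1257358428710528901760155916,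
    1257358428729950665590178561, 1257358428854925555300041026, 1257358431087584941736722501,
    1257585102307617613889405446, 1257585102374045712939745291, 1257585102445258873390498066,
    1257585104607268044883886101, 1258491796668106465465073746, 1258491796684713480601731601,
    1258491796810251321137430556, 1258491798975919663217639431, 1259700722490817310776885576,
    1259700722503483689040609306, 1259700722557808356525867021, 1259700724793282487360946246,
    1276630406346541627510620436, 1276630406398895964957966916, 1276630406474894213635899406,
    1276630407480322769377296466, 1276635128699513698256945476, 1276635128765097359559361096,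
    1276635128837999382621061201, 1276635129863694137759367181, 1276644573448242040521359371,
    1276644573500033423653208641, 1276644573570402168736842001, 1276644574578926949356273986,
    1276663462896722058802103041, 1276663462909951385895174676, 1276663462964839002310443586,
    1276663464188692137680830471, 1276701241826333224672952581, 1276701241842658763809489666,
    1276701241967915128395399496, 1276701243048497503958728771, 1276927915417229491861192966,
    1276927915420325712058384906, 1276927915630868990527537171, 1276927916568180602727039256,
    1277834609780251613680631896, 1277834609782784880904503826, 1277834609941536766846566421,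
    1277834610936832224349126726, 1279043535600710660470604041, 1279043535603806888234319946,
    1279043535689093801865904156, 1279043536754195049566175301, 1295968497075033933810237706,
    1295968497092203910409486361, 1295968497150187751300137036, 1295968497219993542269599766,
    1547429773799317489827447556, 1547429773851671844857315356, 1547429773927670083334701126,
    1547429774933098635754209616, 1547434496152289573173461061, 1547434496217873230063469136,
    1547434496290775249115414856, 1547434497316470003985285396, 1547443940901017898442556161,
    1547443940952809302847914051, 1547443941023178043535917081, 1547443942031702820799906066,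
    1547462830349497932611322436, 1547462830362727252305642256, 1547462830417614874005733891,
    1547462831641468008084275221, 1547500609279109094304645441, 1547500609295434634347152136,
    1547500609420691000141021446, 1547500610501273375503024141, 1547727282870005358003225106,
    1547727282873101586991677706, 1547727283083644861367189511, 1547727284020956473482805521,
    1548633977233027476802765336, 1548633977235560759075799121, 1548633977394312637468114966,
    1548633978389608094920343626, 1549842903053486530857271576, 1549842903056582758839091276,
    1549842903141869672789442571, 1549842904206970919986397266, 1566767864527809807434907736,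
    1566767864544979777021280521, 1566767864602963622978650126, 1566767864672769412958257171,
    1586110676488722370663546906, 1586110676505892339159400716, 1586110676563876184177246281,
    1586110676633681974056190036]

theorem q_ok : ∀ n ∈ qList, pack4L (tql n) = n ∧ (tql n).Pairwise (· < ·) ∧
    (∀ x ∈ tql n, x < 2 ^ 24 ∧ popc x = 3 ∧ x &&& dmask = x) ∧
    (tql n).Pairwise (fun x y => (x ||| y) ∈ hexMasks) := by
  decide +kernel

theorem qList_length : qList.length = 220 := by decide +kernel

theorem qList_nodup : qList.Nodup := by decide +kernel

theorem objQ_mem {n : ℕ} (hn : n ∈ qList) : objQ n ∈ quartets dod0 := by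
  obtain ⟨_, hsorted, hall, hhex⟩ := q_ok n hn
  have hnd : (tql n).Nodup := hsorted.imp (fun h => ne_of_lt h)
  have hinj : ∀ a ∈ tql n, ∀ b ∈ tql n, mset a = mset b → a = b :=
    fun a ha b hb h => mset_injOn (hall a ha).1 (hall b hb).1 h
  refine ⟨?_, ?_, ?_⟩
  · unfold objQ
    rw [List.toFinset_card_of_nodup (List.Nodup.map_on hinj hnd), List.length_map]
    rfl
  · intro t ht
    unfold objQ at ht
    rw [List.mem_toFinset, List.mem_map] at ht
    obtain ⟨x, hx, rfl⟩ := ht
    obtain ⟨_, h3, hsub⟩ := hall x hx
    exact ⟨by rw [card_mset]; exact h3, by rw [dod0_eq]; exact mset_subset_of_and hsub⟩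
  · intro t ht u hu hne
    unfold objQ at ht hu
    rw [List.mem_toFinset, List.mem_map] at ht hu
    obtain ⟨x, hx, rfl⟩ := ht
    obtain ⟨y, hy, rfl⟩ := hu
    have hxy : x ≠ y := fun h => hne (by rw [h])
    haveI : Std.Symm (fun x y : ℕ => (x ||| y) ∈ hexMasks) :=
      ⟨fun a b h => by rw [Nat.or_comm]; exact h⟩
    have h1 := hhex.forall hx hy hxy
    rw [← mset_or]
    exact mem_hexadsOn_of h1

theorem objQ_injOn {n n' : ℕ} (hn : n ∈ qList) (hn' : n' ∈ qList) (h : objQ n = objQ n') :
    n = n' := by
  obtain ⟨hp, hs, hall, _⟩ := q_ok n hn
  obtain ⟨hp', hs', hall', _⟩ := q_ok n' hn'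
  have hsub : ∀ m m' : ℕ, (∀ x ∈ tql m, x < 2 ^ 24) → (∀ x ∈ tql m', x < 2 ^ 24) →
      objQ m = objQ m' → ∀ x ∈ tql m, x ∈ tql m' := by
    intro m m' hm hm' hobj x hx
    have h1 : mset x ∈ objQ m' := by
      rw [← hobj]
      unfold objQ
      rw [List.mem_toFinset]
      exact List.mem_map_of_mem hx
    unfold objQ at h1
    rw [List.mem_toFinset, List.mem_map] at h1
    obtain ⟨y, hy, hyx⟩ := h1
    rw [← mset_injOn (hm' y hy) (hm x hx) hyx]
    exact hy
  have hnd : (tql n).Nodup := hs.imp (fun h => ne_of_lt h)
  have hnd' : (tql n').Nodup := hs'.imp (fun h => ne_of_lt h)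
  have hperm : (tql n).Perm (tql n') := by
    rw [List.perm_ext_iff_of_nodup hnd hnd']
    intro a
    exact ⟨hsub n n' (fun x hx => (hall x hx).1) (fun x hx => (hall' x hx).1) h a,
      hsub n' n (fun x hx => (hall' x hx).1) (fun x hx => (hall x hx).1) h.symm a⟩
  have heq : tql n = tql n' :=
    List.Perm.eq_of_pairwise' (r := (· ≤ ·)) (hs.imp le_of_lt) (hs'.imp le_of_lt) hperm
  rw [← hp, ← hp', heq]

/-- a chunk of the list of triples -/
def triplesC (j : ℕ) : List ℕ := (triples.drop (10 * j)).take 10

theorem triples_eq_flatMap : triples = (List.range 22).flatMap triplesC := by decide +kernel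

/-- the completeness property for one first triple -/
def QComplete (x1 : ℕ) : Prop :=
  ∀ x2 ∈ triples, x2 &&& x1 = 0 → (x1 ||| x2) ∈ hexMasks →
    ∀ x3 ∈ triples, x3 &&& (x1 ||| x2) = 0 → (x1 ||| x3) ∈ hexMasks → (x2 ||| x3) ∈ hexMasks →
    ∀ x4 ∈ triples, x4 &&& (x1 ||| x2 ||| x3) = 0 →
    pack4L (([x1, x2, x3, x4] : List ℕ).insertionSort (· ≤ ·)) ∈ qList

instance QComplete_dec (x1 : ℕ) : Decidable (QComplete x1) := by
  unfold QComplete
  infer_instance

theorem q_complete_0 : ∀ x1 ∈ triplesC 0, QComplete x1 := by decide +kernel

theorem q_complete_1 : ∀ x1 ∈ triplesC 1, QComplete x1 := by decide +kernel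

theorem q_complete_2 : ∀ x1 ∈ triplesC 2, QComplete x1 := by decide +kernel

theorem q_complete_3 : ∀ x1 ∈ triplesC 3, QComplete x1 := by decide +kernel

theorem q_complete_4 : ∀ x1 ∈ triplesC 4, QComplete x1 := by decide +kernel

theorem q_complete_5 : ∀ x1 ∈ triplesC 5, QComplete x1 := by decide +kernel

theorem q_complete_6 : ∀ x1 ∈ triplesC 6, QComplete x1 := by decide +kernel

theorem q_complete_7 : ∀ x1 ∈ triplesC 7, QComplete x1 := by decide +kernel

theorem q_complete_8 : ∀ x1 ∈ triplesC 8, QComplete x1 := by decide +kernel

theorem q_complete_9 : ∀ x1 ∈ triplesC 9, QComplete x1 := by decide +kernel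

theorem q_complete_10 : ∀ x1 ∈ triplesC 10, QComplete x1 := by decide +kernel

theorem q_complete_11 : ∀ x1 ∈ triplesC 11, QComplete x1 := by decide +kernel

theorem q_complete_12 : ∀ x1 ∈ triplesC 12, QComplete x1 := by decide +kernel

theorem q_complete_13 : ∀ x1 ∈ triplesC 13, QComplete x1 := by decide +kernel

theorem q_complete_14 : ∀ x1 ∈ triplesC 14, QComplete x1 := by decide +kernel

theorem q_complete_15 : ∀ x1 ∈ triplesC 15, QComplete x1 := by decide +kernel

theorem q_complete_16 : ∀ x1 ∈ triplesC 16, QComplete x1 := by decide +kernel

theorem q_complete_17 : ∀ x1 ∈ triplesC 17, QComplete x1 := by decide +kernel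

theorem q_complete_18 : ∀ x1 ∈ triplesC 18, QComplete x1 := by decide +kernel

theorem q_complete_19 : ∀ x1 ∈ triplesC 19, QComplete x1 := by decide +kernel

theorem q_complete_20 : ∀ x1 ∈ triplesC 20, QComplete x1 := by decide +kernel

theorem q_complete_21 : ∀ x1 ∈ triplesC 21, QComplete x1 := by decide +kernel


theorem q_complete : ∀ x1 ∈ triples, QComplete x1 := by
  intro x1 h1
  rw [triples_eq_flatMap, List.mem_flatMap] at h1
  obtain ⟨j, hj, hx⟩ := h1
  rw [List.mem_range] at hj
  interval_cases j
  · exact q_complete_0 x1 hx
  · exact q_complete_1 x1 hx
  · exact q_complete_2 x1 hx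
  · exact q_complete_3 x1 hx
  · exact q_complete_4 x1 hx
  · exact q_complete_5 x1 hx
  · exact q_complete_6 x1 hx
  · exact q_complete_7 x1 hx
  · exact q_complete_8 x1 hx
  · exact q_complete_9 x1 hx
  · exact q_complete_10 x1 hx
  · exact q_complete_11 x1 hx
  · exact q_complete_12 x1 hx
  · exact q_complete_13 x1 hx
  · exact q_complete_14 x1 hx
  · exact q_complete_15 x1 hx
  · exact q_complete_16 x1 hx
  · exact q_complete_17 x1 hx
  · exact q_complete_18 x1 hx
  · exact q_complete_19 x1 hx
  · exact q_complete_20 x1 hx
  · exact q_complete_21 x1 hx

theorem exists_four_gen {α : Type*} [DecidableEq α] {t : Finset α} (ht : t.card = 4) :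
    ∃ a b c d : α, a ≠ b ∧ a ≠ c ∧ a ≠ d ∧ b ≠ c ∧ b ≠ d ∧ c ≠ d ∧ t = {a, b, c, d} := by
  obtain ⟨a, t3, ha, rfl, h3⟩ := Finset.card_eq_succ.1 ht
  obtain ⟨b, c, d, hbc, hbd, hcd, rfl⟩ := Finset.card_eq_three.1 h3
  simp only [Finset.mem_insert, Finset.mem_singleton, not_or] at ha
  exact ⟨a, b, c, d, ha.1, ha.2.1, ha.2.2, hbc, hbd, hcd, rfl⟩

/-- data of a triple inside the base dodecad -/
theorem triple_data {t : Finset GolayPt} (h3 : t.card = 3) (hsub : t ⊆ dod0) :
    maskOf t ∈ triples := by
  apply mem_triples (maskOf_lt t)
  · rw [← card_mset, mset_maskOf]
    exact h3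
  · apply and_eq_of_mset_subset (maskOf_lt t)
    rw [mset_maskOf, ← dod0_eq]
    exact hsub

theorem pair_data {t u : Finset GolayPt} (ht : t.card = 3) (hu : u.card = 3)
    (h : t ∪ u ∈ hexadsOn dod0) :
    (maskOf t ||| maskOf u) ∈ hexMasks ∧ maskOf t &&& maskOf u = 0 := by
  constructor
  · apply mem_hexMasks_of (Nat.or_lt_two_pow (maskOf_lt t) (maskOf_lt u))
    rw [mset_or, mset_maskOf, mset_maskOf]
    exact h
  · apply eq_zero_of_mset_eq_empty (Nat.and_lt_two_pow _ (maskOf_lt u))
    rw [mset_and, mset_maskOf, mset_maskOf, ← Finset.disjoint_iff_inter_eq_empty,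
      ← Finset.card_union_eq_card_add_card, h.1, ht, hu]

theorem exists_code_of_mem_quartets {Q : Finset (Finset GolayPt)} (hQ : Q ∈ quartets dod0) :
    ∃ n ∈ qList, objQ n = Q := by
  obtain ⟨h4, htri, hhex⟩ := hQ
  obtain ⟨a, b, c, e, hab, hac, hae, hbc, hbe, hce, rfl⟩ := exists_four_gen h4
  have ma : a ∈ ({a, b, c, e} : Finset (Finset GolayPt)) := by simp
  have mb : b ∈ ({a, b, c, e} : Finset (Finset GolayPt)) := by simp
  have mc : c ∈ ({a, b, c, e} : Finset (Finset GolayPt)) := by simp
  have me : e ∈ ({a, b, c, e} : Finset (Finset GolayPt)) := by simp
  have ta := triple_data (htri a ma).1 (htri a ma).2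
  have tb := triple_data (htri b mb).1 (htri b mb).2
  have tc := triple_data (htri c mc).1 (htri c mc).2
  have te := triple_data (htri e me).1 (htri e me).2
  have pab := pair_data (htri a ma).1 (htri b mb).1 (hhex a ma b mb hab)
  have pac := pair_data (htri a ma).1 (htri c mc).1 (hhex a ma c mc hac)
  have pbc := pair_data (htri b mb).1 (htri c mc).1 (hhex b mb c mc hbc)
  have pae := pair_data (htri a ma).1 (htri e me).1 (hhex a ma e me hae)
  have pbe := pair_data (htri b mb).1 (htri e me).1 (hhex b mb e me hbe)
  have pce := pair_data (htri c mc).1 (htri e me).1 (hhex c mc e me hce)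
  have d3 : maskOf c &&& (maskOf a ||| maskOf b) = 0 := by
    rw [Nat.and_or_distrib_left, Nat.and_comm (maskOf c) (maskOf a), pac.2,
      Nat.and_comm (maskOf c) (maskOf b), pbc.2]
    rfl
  have d4 : maskOf e &&& (maskOf a ||| maskOf b ||| maskOf c) = 0 := by
    rw [Nat.and_or_distrib_left, Nat.and_or_distrib_left, Nat.and_comm (maskOf e) (maskOf a),
      pae.2, Nat.and_comm (maskOf e) (maskOf b), pbe.2, Nat.and_comm (maskOf e) (maskOf c), pce.2]
    rfl
  have hmem := q_complete _ ta _ tb (by rw [Nat.and_comm]; exact pab.2) pab.1 _ tc d3 pac.1 pbc.1 _ te d4
  refine ⟨_, hmem, ?_⟩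
  unfold objQ
  rw [tql_pack4L (by rw [List.length_insertionSort]; rfl)]
  · rw [List.toFinset_eq_of_perm _ _ ((List.perm_insertionSort _ _).map mset)]
    simp [mset_maskOf]
  · intro x hx
    rw [(List.perm_insertionSort _ _).mem_iff] at hx
    simp only [List.mem_cons, List.not_mem_nil, or_false] at hx
    rcases hx with rfl | rfl | rfl | rfl <;> exact maskOf_lt _

end Cfsg.Agent.Lib.Helper1
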