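import Mathlib

set_option autoImplicit false

namespace Cfsg.Agent.Lib.Helper1.Mat2Tables

open Matrix

/-- code of a `2 × 2` matrix by four natural numbers -/
abbrev M4 := ℕ × ℕ × ℕ × ℕ

/-- code of the identity -/
def idC : M4 := (1, 0, 0, 1)

/-- the matrix of a code -/
def toMat (q : ℕ) (x : M4) : Matrix (Fin 2) (Fin 2) (ZMod q) :=
  !![(x.1 : ZMod q), (x.2.1 : ZMod q); (x.2.2.1 : ZMod q), (x.2.2.2 : ZMod q)]

/-- multiplication of codes -/
def mulC (q : ℕ) (x y : M4) : M4 :=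
  ((x.1 * y.1 + x.2.1 * y.2.2.1) % q, (x.1 * y.2.1 + x.2.1 * y.2.2.2) % q,
   (x.2.2.1 * y.1 + x.2.2.2 * y.2.2.1) % q, (x.2.2.1 * y.2.1 + x.2.2.2 * y.2.2.2) % q)

theorem toMat_mulC (q : ℕ) (x y : M4) : toMat q (mulC q x y) = toMat q x * toMat q y := by
  unfold toMat mulC
  rw [Matrix.mul_fin_two]
  simp only [ZMod.natCast_mod, Nat.cast_add, Nat.cast_mul]

theorem toMat_idC (q : ℕ) : toMat q idC = 1 := by
  unfold toMat idC
  rw [Matrix.one_fin_two]
  simp

/-- the code has no eigenvalue one -/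
def semiOK (q : ℕ) (x : M4) : Prop :=
  ((x.1 + (q - 1)) * (x.2.2.2 + (q - 1))) % q ≠ (x.2.1 * x.2.2.1) % q

instance (q : ℕ) (x : M4) : Decidable (semiOK q x) := by unfold semiOK; infer_instance

theorem det_sub_one_ne_zero {q : ℕ} [Fact q.Prime] (x : M4) (h : semiOK q x) :
    (toMat q x - 1).det ≠ 0 := by
  unfold semiOK at h
  intro hdet
  apply h
  rw [← ZMod.natCast_eq_natCast_iff']
  have h1 : toMat q x - 1 = !![(x.1 : ZMod q) - 1, (x.2.1 : ZMod q); (x.2.2.1 : ZMod q),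
      (x.2.2.2 : ZMod q) - 1] := by
    unfold toMat
    rw [Matrix.one_fin_two]
    ext i j
    fin_cases i <;> fin_cases j <;> simp
  rw [h1, Matrix.det_fin_two_of] at hdet
  have hq : ((q - 1 : ℕ) : ZMod q) = -1 := by
    have hq1 : 1 ≤ q := (Fact.out : q.Prime).pos
    rw [Nat.cast_sub hq1]
    simp
  push_cast
  rw [hq]
  linear_combination hdet

/-- tables describing a finite matrix group -/
structure Tables where
  /-- number of elements -/
  n : ℕ
  /-- the elements -/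
  L : List M4
  /-- the generators -/
  gens : List M4
  /-- right multiplication by generators -/
  nxt : List (List ℕ)
  /-- parent pointers -/
  par : List (ℕ × ℕ)
  /-- witnesses for transitivity -/
  wit : List ℕ

namespace Tables

variable (T : Tables)

/-- element number `i` -/
def el (i : ℕ) : M4 := T.L.getD i idC
/-- generator number `k` -/
def gen (k : ℕ) : M4 := T.gens.getD k idC
/-- index of `el i * gen k` -/
def nx (k i : ℕ) : ℕ := (T.nxt.getD k []).getD i 0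
/-- parent of element `i` -/
def pr (i : ℕ) : ℕ × ℕ := T.par.getD i (0, 0)
/-- index of an element with first column `(x, y)` -/
def wt (q x y : ℕ) : ℕ := T.wit.getD (x + q * y) 0

/-- closure under right multiplication by generators -/
def V1 (q : ℕ) : Prop :=
  ∀ k < T.gens.length, ∀ i < T.n,
    T.nx k i < T.n ∧ mulC q (T.el i) (T.gen k) = T.el (T.nx k i)

instance (q : ℕ) : Decidable (T.V1 q) := by unfold V1; infer_instance

/-- parent pointers -/
def V2 (q : ℕ) : Prop :=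
  ∀ i < T.n, i = 0 ∨ ((T.pr i).1 < i ∧ (T.pr i).2 < T.gens.length ∧
    T.el i = mulC q (T.el (T.pr i).1) (T.gen (T.pr i).2))

instance (q : ℕ) : Decidable (T.V2 q) := by unfold V2; infer_instance

/-- semiregularity -/
def V3 (q : ℕ) : Prop :=
  ∀ i < T.n, T.el i = idC ∨ semiOK q (T.el i)

instance (q : ℕ) : Decidable (T.V3 q) := by unfold V3; infer_instance

/-- transitivity witnesses -/
def V4 (q : ℕ) : Prop :=
  ∀ x < q, ∀ y < q, (x = 0 ∧ y = 0) ∨ (T.wt q x y < T.n ∧ (T.el (T.wt q x y)).1 % q = x ∧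
    (T.el (T.wt q x y)).2.2.1 % q = y)

instance (q : ℕ) : Decidable (T.V4 q) := by unfold V4; infer_instance

/-- validity of the tables -/
def Valid (q : ℕ) : Prop :=
  T.el 0 = idC ∧ 0 < T.n ∧ T.V1 q ∧ T.V2 q ∧ T.V3 q ∧ T.V4 q

instance (q : ℕ) : Decidable (T.Valid q) := by unfold Valid; infer_instance

end Tables

theorem main (q : ℕ) [hq : Fact q.Prime] (T : Tables) (hT : T.Valid q)
    (S : Set (GL (Fin 2) (ZMod q)))
    (hS1 : ∀ g ∈ S, ∃ k < T.gens.length,
      (g : Matrix (Fin 2) (Fin 2) (ZMod q)) = toMat q (T.gen k))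
    (hS2 : ∀ k < T.gens.length, ∃ g ∈ S,
      (g : Matrix (Fin 2) (Fin 2) (ZMod q)) = toMat q (T.gen k)) :
    Nat.card (Subgroup.closure S) = q ^ 2 - 1 ∧
    ∀ v w : Fin 2 → ZMod q, v ≠ 0 → w ≠ 0 →
      ∃! h : Subgroup.closure S, Matrix.mulVec
        ((h : GL (Fin 2) (ZMod q)) : Matrix (Fin 2) (Fin 2) (ZMod q)) v = w := by
  classical
  obtain ⟨h0, hn0, hcl, hpar, hsemi, hwit⟩ := hT
  have hLm0 : toMat q (T.el 0) = 1 := by rw [h0, toMat_idC]
  -- (A)
  have hA : ∀ g ∈ Subgroup.closure S, ∀ i < T.n, ∃ j < T.n,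
      toMat q (T.el i) * (g : Matrix (Fin 2) (Fin 2) (ZMod q)) = toMat q (T.el j) := by
    intro g hg
    induction hg using Subgroup.closure_induction with
    | mem x hx =>
      intro i hi
      obtain ⟨k, hk, hxk⟩ := hS1 x hx
      obtain ⟨h1, h2⟩ := hcl k hk i hi
      refine ⟨T.nx k i, h1, ?_⟩
      rw [hxk, ← toMat_mulC, h2]
    | one =>
      intro i hi
      exact ⟨i, hi, by simp⟩
    | mul x y hx hy ihx ihy =>
      intro i hi
      obtain ⟨j, hj, e1⟩ := ihx i hi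
      obtain ⟨j', hj', e2⟩ := ihy j hj
      refine ⟨j', hj', ?_⟩
      rw [Units.val_mul, ← Matrix.mul_assoc, e1, e2]
    | inv x hx ih =>
      have hpow : ∀ m : ℕ, ∀ i < T.n, ∃ j < T.n,
          toMat q (T.el i) * ((x ^ m : GL (Fin 2) (ZMod q)) : Matrix (Fin 2) (Fin 2) (ZMod q)) =
            toMat q (T.el j) := by
        intro m
        induction m with
        | zero =>
          intro i hi
          exact ⟨i, hi, by simp⟩
        | succ m ihm =>
          intro i hi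
          obtain ⟨j, hj, e1⟩ := ihm i hi
          obtain ⟨j', hj', e2⟩ := ih j hj
          refine ⟨j', hj', ?_⟩
          rw [pow_succ, Units.val_mul, ← Matrix.mul_assoc, e1, e2]
      have hinv : x⁻¹ = x ^ (orderOf x - 1) := by
        have hpos : 0 < orderOf x := orderOf_pos x
        symm
        apply eq_inv_of_mul_eq_one_left
        rw [← pow_succ, Nat.sub_add_cancel hpos, pow_orderOf_eq_one]
      rw [hinv]
      exact hpow _
  -- (B)
  have hB : ∀ g ∈ Subgroup.closure S, ∃ j < T.n,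
      (g : Matrix (Fin 2) (Fin 2) (ZMod q)) = toMat q (T.el j) := by
    intro g hg
    obtain ⟨j, hj, e⟩ := hA g hg 0 hn0
    refine ⟨j, hj, ?_⟩
    rw [← e, hLm0, Matrix.one_mul]
  -- (C)
  have hC : ∀ i, i < T.n → ∃ g ∈ Subgroup.closure S,
      (g : Matrix (Fin 2) (Fin 2) (ZMod q)) = toMat q (T.el i) := by
    intro i
    induction i using Nat.strong_induction_on with
    | _ i ih =>
      intro hi
      rcases hpar i hi with rfl | ⟨h1, h2, h3⟩
      · exact ⟨1, Subgroup.one_mem _, by rw [hLm0]; rfl⟩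
      · obtain ⟨g1, hg1, e1⟩ := ih _ h1 (lt_trans h1 hi)
        obtain ⟨g2, hg2, e2⟩ := hS2 _ h2
        refine ⟨g1 * g2, Subgroup.mul_mem _ hg1 (Subgroup.subset_closure hg2), ?_⟩
        rw [Units.val_mul, e1, e2, h3, toMat_mulC]
  -- (D)
  have hD : ∀ g ∈ Subgroup.closure S, ∀ v : Fin 2 → ZMod q, v ≠ 0 →
      (g : Matrix (Fin 2) (Fin 2) (ZMod q)) *ᵥ v = v → g = 1 := by
    intro g hg v hv hgv
    obtain ⟨j, hj, e⟩ := hB g hg
    rcases hsemi j hj with h | h
    · apply Units.ext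
      rw [e, h, toMat_idC]
      rfl
    · exfalso
      apply det_sub_one_ne_zero _ h
      rw [← Matrix.exists_mulVec_eq_zero_iff]
      refine ⟨v, hv, ?_⟩
      rw [Matrix.sub_mulVec, Matrix.one_mulVec, ← e, hgv, sub_self]
  -- (E)
  have hE : ∀ w : Fin 2 → ZMod q, w ≠ 0 → ∃ g ∈ Subgroup.closure S,
      (g : Matrix (Fin 2) (Fin 2) (ZMod q)) *ᵥ ![1, 0] = w := by
    intro w hw
    haveI : NeZero q := ⟨(Fact.out : q.Prime).ne_zero⟩
    have hx := ZMod.val_lt (w 0)
    have hy := ZMod.val_lt (w 1)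
    rcases hwit _ hx _ hy with ⟨h1, h2⟩ | ⟨h1, h2, h3⟩
    · exfalso
      apply hw
      ext i
      fin_cases i
      · exact (ZMod.val_eq_zero _).1 h1
      · exact (ZMod.val_eq_zero _).1 h2
    · obtain ⟨g, hg, e⟩ := hC _ h1
      refine ⟨g, hg, ?_⟩
      rw [e]
      ext i
      fin_cases i
      · have : (toMat q (T.el (T.wt q (w 0).val (w 1).val)) *ᵥ ![1, 0]) 0 =
            ((T.el (T.wt q (w 0).val (w 1).val)).1 : ZMod q) := by
          simp [toMat, Matrix.mulVec, dotProduct, Fin.sum_univ_two]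
        show (toMat q (T.el (T.wt q (w 0).val (w 1).val)) *ᵥ ![1, 0]) 0 = w 0
        rw [this, ← ZMod.natCast_mod, h2, ZMod.natCast_zmod_val]
      · have : (toMat q (T.el (T.wt q (w 0).val (w 1).val)) *ᵥ ![1, 0]) 1 =
            ((T.el (T.wt q (w 0).val (w 1).val)).2.2.1 : ZMod q) := by
          simp [toMat, Matrix.mulVec, dotProduct, Fin.sum_univ_two]
        show (toMat q (T.el (T.wt q (w 0).val (w 1).val)) *ᵥ ![1, 0]) 1 = w 1
        rw [this, ← ZMod.natCast_mod, h3, ZMod.natCast_zmod_val]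
  have hinvmul : ∀ (g : GL (Fin 2) (ZMod q)) (v : Fin 2 → ZMod q),
      ((g⁻¹ : GL (Fin 2) (ZMod q)) : Matrix (Fin 2) (Fin 2) (ZMod q)) *ᵥ
        ((g : Matrix (Fin 2) (Fin 2) (ZMod q)) *ᵥ v) = v := by
    intro g v
    rw [Matrix.mulVec_mulVec, ← Units.val_mul, inv_mul_cancel, Units.val_one, Matrix.one_mulVec]
  have he1 : (![1, 0] : Fin 2 → ZMod q) ≠ 0 := by
    intro h
    have := congrFun h 0
    simp at this
  have huniq : ∀ (h h' : Subgroup.closure S) (v : Fin 2 → ZMod q), v ≠ 0 →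
      ((h : GL (Fin 2) (ZMod q)) : Matrix (Fin 2) (Fin 2) (ZMod q)) *ᵥ v =
        ((h' : GL (Fin 2) (ZMod q)) : Matrix (Fin 2) (Fin 2) (ZMod q)) *ᵥ v → h = h' := by
    intro h h' v hv hh
    have h1 : (((h' : GL (Fin 2) (ZMod q))⁻¹ * (h : GL (Fin 2) (ZMod q)) :
        GL (Fin 2) (ZMod q)) : Matrix (Fin 2) (Fin 2) (ZMod q)) *ᵥ v = v := by
      rw [Units.val_mul, ← Matrix.mulVec_mulVec, hh, hinvmul]
    have h2 := hD _ (Subgroup.mul_mem _ (Subgroup.inv_mem _ h'.2) h.2) v hv h1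
    apply Subtype.ext
    have : (h : GL (Fin 2) (ZMod q)) = (h' : GL (Fin 2) (ZMod q)) := by
      rw [← mul_one (h' : GL (Fin 2) (ZMod q)), ← h2, mul_inv_cancel_left]
    exact this
  constructor
  · -- cardinality
    have hne : ∀ h : Subgroup.closure S,
        ((h : GL (Fin 2) (ZMod q)) : Matrix (Fin 2) (Fin 2) (ZMod q)) *ᵥ ![1, 0] ≠ 0 := by
      intro h hh
      apply he1
      have := hinvmul (h : GL (Fin 2) (ZMod q)) ![1, 0]
      rw [hh, Matrix.mulVec_zero] at this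
      exact this.symm
    let f : Subgroup.closure S → {w : Fin 2 → ZMod q // w ≠ 0} := fun h =>
      ⟨((h : GL (Fin 2) (ZMod q)) : Matrix (Fin 2) (Fin 2) (ZMod q)) *ᵥ ![1, 0], hne h⟩
    have hbij : Function.Bijective f := by
      constructor
      · intro h h' hh
        exact huniq h h' _ he1 (congrArg Subtype.val hh)
      · rintro ⟨w, hw⟩
        obtain ⟨g, hg, e⟩ := hE w hw
        exact ⟨⟨g, hg⟩, Subtype.ext e⟩
    rw [Nat.card_congr (Equiv.ofBijective f hbij), Nat.card_eq_fintype_card,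
      Fintype.card_subtype_compl, Fintype.card_subtype_eq]
    simp [ZMod.card]
  · intro v w hv hw
    obtain ⟨g1, hg1, e1⟩ := hE v hv
    obtain ⟨g2, hg2, e2⟩ := hE w hw
    refine ⟨⟨g2 * g1⁻¹, Subgroup.mul_mem _ hg2 (Subgroup.inv_mem _ hg1)⟩, ?_, ?_⟩
    · show ((g2 * g1⁻¹ : GL (Fin 2) (ZMod q)) : Matrix (Fin 2) (Fin 2) (ZMod q)) *ᵥ v = w
      rw [Units.val_mul, ← Matrix.mulVec_mulVec, ← e1, hinvmul, e2]
    · intro h' hh'
      apply huniq h' _ v hv
      rw [hh']
      show w = ((g2 * g1⁻¹ : GL (Fin 2) (ZMod q)) : Matrix (Fin 2) (Fin 2) (ZMod q)) *ᵥ v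
      rw [Units.val_mul, ← Matrix.mulVec_mulVec, ← e1, hinvmul, e2]

end Cfsg.Agent.Lib.Helper1.Mat2Tables
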