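import Mathlib
import Cfsg.Agent.Lib.Helper1.Mat2Tables

set_option autoImplicit false

namespace Cfsg.Agent.Lib.Helper1.Mat2Tables2

open Matrix Cfsg.Agent.Lib.Helper1.Mat2Tables

/-- access functions describing a finite matrix group -/
structure Acc where
  /-- number of elements -/
  n : ℕ
  /-- number of generators -/
  glen : ℕ
  /-- the elements -/
  el : ℕ → M4
  /-- the generators -/
  gen : ℕ → M4
  /-- right multiplication by generators -/
  nx : ℕ → ℕ → ℕ
  /-- parent pointers -/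
  pr : ℕ → ℕ × ℕ
  /-- witnesses for transitivity -/
  wt : ℕ → ℕ → ℕ

namespace Acc

variable (T : Acc)

/-- closure under right multiplication by generators -/
def V1 (q : ℕ) : Prop :=
  ∀ k < T.glen, ∀ i < T.n,
    T.nx k i < T.n ∧ mulC q (T.el i) (T.gen k) = T.el (T.nx k i)

instance (q : ℕ) : Decidable (T.V1 q) := by unfold V1; infer_instance

/-- parent pointers -/
def V2 (q : ℕ) : Prop :=
  ∀ i < T.n, i = 0 ∨ ((T.pr i).1 < i ∧ (T.pr i).2 < T.glen ∧
    T.el i = mulC q (T.el (T.pr i).1) (T.gen (T.pr i).2))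

instance (q : ℕ) : Decidable (T.V2 q) := by unfold V2; infer_instance

/-- semiregularity -/
def V3 (q : ℕ) : Prop :=
  ∀ i < T.n, T.el i = idC ∨ semiOK q (T.el i)

instance (q : ℕ) : Decidable (T.V3 q) := by unfold V3; infer_instance

/-- transitivity witnesses -/
def V4 (q : ℕ) : Prop :=
  ∀ x < q, ∀ y < q, (x = 0 ∧ y = 0) ∨ (T.wt x y < T.n ∧ (T.el (T.wt x y)).1 % q = x ∧
    (T.el (T.wt x y)).2.2.1 % q = y)

instance (q : ℕ) : Decidable (T.V4 q) := by unfold V4; infer_instance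

/-- validity of the tables -/
def Valid (q : ℕ) : Prop :=
  T.el 0 = idC ∧ 0 < T.n ∧ T.V1 q ∧ T.V2 q ∧ T.V3 q ∧ T.V4 q

instance (q : ℕ) : Decidable (T.Valid q) := by unfold Valid; infer_instance

end Acc

theorem main (q : ℕ) [hq : Fact q.Prime] (T : Acc) (hT : T.Valid q)
    (S : Set (GL (Fin 2) (ZMod q)))
    (hS1 : ∀ g ∈ S, ∃ k < T.glen,
      (g : Matrix (Fin 2) (Fin 2) (ZMod q)) = toMat q (T.gen k))
    (hS2 : ∀ k < T.glen, ∃ g ∈ S,
      (g : Matrix (Fin 2) (Fin 2) (ZMod q)) = toMat q (T.gen k)) :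
    Nat.card (Subgroup.closure S) = q ^ 2 - 1 ∧
    ∀ v w : Fin 2 → ZMod q, v ≠ 0 → w ≠ 0 →
      ∃! h : Subgroup.closure S, Matrix.mulVec
        ((h : GL (Fin 2) (ZMod q)) : Matrix (Fin 2) (Fin 2) (ZMod q)) v = w := by
  classical
  obtain ⟨h0, hn0, hcl, hpar, hsemi, hwit⟩ := hT
  have hLm0 : toMat q (T.el 0) = 1 := by rw [h0, toMat_idC]
  -- (A)
  have hA : ∀ g ∈ Subgroup.closure S, ∀ i < T.n, ∃ j < T.n,
      toMat q (T.el i) * (g : Matrix (Fin 2) (Fin 2) (ZMod q)) = toMat q (T.el j) := by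
    intro g hg
    induction hg using Subgroup.closure_induction with
    | mem x hx =>
      intro i hi
      obtain ⟨k, hk, hxk⟩ := hS1 x hx
      obtain ⟨h1, h2⟩ := hcl k hk i hi
      refine ⟨T.nx k i, h1, ?_⟩
      rw [hxk, ← toMat_mulC, h2]
    | one =>
      intro i hi
      exact ⟨i, hi, by simp⟩
    | mul x y hx hy ihx ihy =>
      intro i hi
      obtain ⟨j, hj, e1⟩ := ihx i hi
      obtain ⟨j', hj', e2⟩ := ihy j hj
      refine ⟨j', hj', ?_⟩
      rw [Units.val_mul, ← Matrix.mul_assoc, e1, e2]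
    | inv x hx ih =>
      have hpow : ∀ m : ℕ, ∀ i < T.n, ∃ j < T.n,
          toMat q (T.el i) * ((x ^ m : GL (Fin 2) (ZMod q)) : Matrix (Fin 2) (Fin 2) (ZMod q)) =
            toMat q (T.el j) := by
        intro m
        induction m with
        | zero =>
          intro i hi
          exact ⟨i, hi, by simp⟩
        | succ m ihm =>
          intro i hi
          obtain ⟨j, hj, e1⟩ := ihm i hi
          obtain ⟨j', hj', e2⟩ := ih j hj
          refine ⟨j', hj', ?_⟩
          rw [pow_succ, Units.val_mul, ← Matrix.mul_assoc, e1, e2]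
      have hinv : x⁻¹ = x ^ (orderOf x - 1) := by
        have hpos : 0 < orderOf x := orderOf_pos x
        symm
        apply eq_inv_of_mul_eq_one_left
        rw [← pow_succ, Nat.sub_add_cancel hpos, pow_orderOf_eq_one]
      rw [hinv]
      exact hpow _
  -- (B)
  have hB : ∀ g ∈ Subgroup.closure S, ∃ j < T.n,
      (g : Matrix (Fin 2) (Fin 2) (ZMod q)) = toMat q (T.el j) := by
    intro g hg
    obtain ⟨j, hj, e⟩ := hA g hg 0 hn0
    refine ⟨j, hj, ?_⟩
    rw [← e, hLm0, Matrix.one_mul]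
  -- (C)
  have hC : ∀ i, i < T.n → ∃ g ∈ Subgroup.closure S,
      (g : Matrix (Fin 2) (Fin 2) (ZMod q)) = toMat q (T.el i) := by
    intro i
    induction i using Nat.strong_induction_on with
    | _ i ih =>
      intro hi
      rcases hpar i hi with rfl | ⟨h1, h2, h3⟩
      · exact ⟨1, Subgroup.one_mem _, by rw [hLm0]; rfl⟩
      · obtain ⟨g1, hg1, e1⟩ := ih _ h1 (lt_trans h1 hi)
        obtain ⟨g2, hg2, e2⟩ := hS2 _ h2
        refine ⟨g1 * g2, Subgroup.mul_mem _ hg1 (Subgroup.subset_closure hg2), ?_⟩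
        rw [Units.val_mul, e1, e2, h3, toMat_mulC]
  -- (D)
  have hD : ∀ g ∈ Subgroup.closure S, ∀ v : Fin 2 → ZMod q, v ≠ 0 →
      (g : Matrix (Fin 2) (Fin 2) (ZMod q)) *ᵥ v = v → g = 1 := by
    intro g hg v hv hgv
    obtain ⟨j, hj, e⟩ := hB g hg
    rcases hsemi j hj with h | h
    · apply Units.ext
      rw [e, h, toMat_idC]
      rfl
    · exfalso
      apply det_sub_one_ne_zero _ h
      rw [← Matrix.exists_mulVec_eq_zero_iff]
      refine ⟨v, hv, ?_⟩
      rw [Matrix.sub_mulVec, Matrix.one_mulVec, ← e, hgv, sub_self]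
  -- (E)
  have hE : ∀ w : Fin 2 → ZMod q, w ≠ 0 → ∃ g ∈ Subgroup.closure S,
      (g : Matrix (Fin 2) (Fin 2) (ZMod q)) *ᵥ ![1, 0] = w := by
    intro w hw
    haveI : NeZero q := ⟨(Fact.out : q.Prime).ne_zero⟩
    have hx := ZMod.val_lt (w 0)
    have hy := ZMod.val_lt (w 1)
    rcases hwit _ hx _ hy with ⟨h1, h2⟩ | ⟨h1, h2, h3⟩
    · exfalso
      apply hw
      ext i
      fin_cases i
      · exact (ZMod.val_eq_zero _).1 h1
      · exact (ZMod.val_eq_zero _).1 h2
    · obtain ⟨g, hg, e⟩ := hC _ h1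
      refine ⟨g, hg, ?_⟩
      rw [e]
      ext i
      fin_cases i
      · have : (toMat q (T.el (T.wt (w 0).val (w 1).val)) *ᵥ ![1, 0]) 0 =
            ((T.el (T.wt (w 0).val (w 1).val)).1 : ZMod q) := by
          simp [toMat, Matrix.mulVec, dotProduct, Fin.sum_univ_two]
        show (toMat q (T.el (T.wt (w 0).val (w 1).val)) *ᵥ ![1, 0]) 0 = w 0
        rw [this, ← ZMod.natCast_mod, h2, ZMod.natCast_zmod_val]
      · have : (toMat q (T.el (T.wt (w 0).val (w 1).val)) *ᵥ ![1, 0]) 1 =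
            ((T.el (T.wt (w 0).val (w 1).val)).2.2.1 : ZMod q) := by
          simp [toMat, Matrix.mulVec, dotProduct, Fin.sum_univ_two]
        show (toMat q (T.el (T.wt (w 0).val (w 1).val)) *ᵥ ![1, 0]) 1 = w 1
        rw [this, ← ZMod.natCast_mod, h3, ZMod.natCast_zmod_val]
  have hinvmul : ∀ (g : GL (Fin 2) (ZMod q)) (v : Fin 2 → ZMod q),
      ((g⁻¹ : GL (Fin 2) (ZMod q)) : Matrix (Fin 2) (Fin 2) (ZMod q)) *ᵥ
        ((g : Matrix (Fin 2) (Fin 2) (ZMod q)) *ᵥ v) = v := by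
    intro g v
    rw [Matrix.mulVec_mulVec, ← Units.val_mul, inv_mul_cancel, Units.val_one, Matrix.one_mulVec]
  have he1 : (![1, 0] : Fin 2 → ZMod q) ≠ 0 := by
    intro h
    have := congrFun h 0
    simp at this
  have huniq : ∀ (h h' : Subgroup.closure S) (v : Fin 2 → ZMod q), v ≠ 0 →
      ((h : GL (Fin 2) (ZMod q)) : Matrix (Fin 2) (Fin 2) (ZMod q)) *ᵥ v =
        ((h' : GL (Fin 2) (ZMod q)) : Matrix (Fin 2) (Fin 2) (ZMod q)) *ᵥ v → h = h' := by
    intro h h' v hv hh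
    have h1 : (((h' : GL (Fin 2) (ZMod q))⁻¹ * (h : GL (Fin 2) (ZMod q)) :
        GL (Fin 2) (ZMod q)) : Matrix (Fin 2) (Fin 2) (ZMod q)) *ᵥ v = v := by
      rw [Units.val_mul, ← Matrix.mulVec_mulVec, hh, hinvmul]
    have h2 := hD _ (Subgroup.mul_mem _ (Subgroup.inv_mem _ h'.2) h.2) v hv h1
    apply Subtype.ext
    have : (h : GL (Fin 2) (ZMod q)) = (h' : GL (Fin 2) (ZMod q)) := by
      rw [← mul_one (h' : GL (Fin 2) (ZMod q)), ← h2, mul_inv_cancel_left]
    exact this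
  constructor
  · -- cardinality
    have hne : ∀ h : Subgroup.closure S,
        ((h : GL (Fin 2) (ZMod q)) : Matrix (Fin 2) (Fin 2) (ZMod q)) *ᵥ ![1, 0] ≠ 0 := by
      intro h hh
      apply he1
      have := hinvmul (h : GL (Fin 2) (ZMod q)) ![1, 0]
      rw [hh, Matrix.mulVec_zero] at this
      exact this.symm
    let f : Subgroup.closure S → {w : Fin 2 → ZMod q // w ≠ 0} := fun h =>
      ⟨((h : GL (Fin 2) (ZMod q)) : Matrix (Fin 2) (Fin 2) (ZMod q)) *ᵥ ![1, 0], hne h⟩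
    have hbij : Function.Bijective f := by
      constructor
      · intro h h' hh
        exact huniq h h' _ he1 (congrArg Subtype.val hh)
      · rintro ⟨w, hw⟩
        obtain ⟨g, hg, e⟩ := hE w hw
        exact ⟨⟨g, hg⟩, Subtype.ext e⟩
    rw [Nat.card_congr (Equiv.ofBijective f hbij), Nat.card_eq_fintype_card,
      Fintype.card_subtype_compl, Fintype.card_subtype_eq]
    simp [ZMod.card]
  · intro v w hv hw
    obtain ⟨g1, hg1, e1⟩ := hE v hv
    obtain ⟨g2, hg2, e2⟩ := hE w hw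
    refine ⟨⟨g2 * g1⁻¹, Subgroup.mul_mem _ hg2 (Subgroup.inv_mem _ hg1)⟩, ?_, ?_⟩
    · show ((g2 * g1⁻¹ : GL (Fin 2) (ZMod q)) : Matrix (Fin 2) (Fin 2) (ZMod q)) *ᵥ v = w
      rw [Units.val_mul, ← Matrix.mulVec_mulVec, ← e1, hinvmul, e2]
    · intro h' hh'
      apply huniq h' _ v hv
      rw [hh']
      show w = ((g2 * g1⁻¹ : GL (Fin 2) (ZMod q)) : Matrix (Fin 2) (Fin 2) (ZMod q)) *ᵥ v
      rw [Units.val_mul, ← Matrix.mulVec_mulVec, ← e1, hinvmul, e2]


/-- decode a matrix code -/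
def dec4 (q c : ℕ) : M4 := (c % q, (c / q) % q, (c / q ^ 2) % q, (c / q ^ 3) % q)

/-- access functions from tables packed into natural numbers -/
def natAcc (q n w glen Lc parc witc : ℕ) (gens : List M4) (nxtc : List ℕ) : Acc where
  n := n
  glen := glen
  el := fun i => dec4 q ((Lc / (q ^ 4) ^ i) % q ^ 4)
  gen := fun k => gens.getD k idC
  nx := fun k i => ((nxtc.getD k 0) / w ^ i) % w
  pr := fun i => (((parc / (w * 16) ^ i) % (w * 16)) % w, ((parc / (w * 16) ^ i) % (w * 16)) / w)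
  wt := fun x y => (witc / w ^ (x + q * y)) % w



/-- entry `i` of a table packed in chunks of `cs` entries of base `b` -/
def chunkGet (cs b : ℕ) (t : List ℕ) (i : ℕ) : ℕ := (t.getD (i / cs) 0 / b ^ (i % cs)) % b

/-- access functions from tables packed into lists of natural numbers -/
def chunkAcc (q n w cs glen : ℕ) (Lc parc witc : List ℕ) (gens : List M4) (nxtc : List (List ℕ)) :
    Acc where
  n := n
  glen := glen
  el := fun i => dec4 q (chunkGet cs (q ^ 4) Lc i)
  gen := fun k => gens.getD k idC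
  nx := fun k i => chunkGet cs w (nxtc.getD k []) i
  pr := fun i => ((chunkGet cs (w * 16) parc i) % w, (chunkGet cs (w * 16) parc i) / w)
  wt := fun x y => chunkGet cs w witc (x + q * y)

/-- bounded universal quantifier, kernel friendly -/
def allLt (n : ℕ) (f : ℕ → Bool) : Bool := Nat.rec true (fun i ih => ih && f i) n

theorem allLt_succ (n : ℕ) (f : ℕ → Bool) : allLt (n + 1) f = (allLt n f && f n) := rfl

theorem allLt_spec (n : ℕ) (f : ℕ → Bool) (h : allLt n f = true) : ∀ i < n, f i = true := by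
  induction n with
  | zero => intro i hi; omega
  | succ n ih =>
    rw [allLt_succ, Bool.and_eq_true] at h
    intro i hi
    rcases Nat.lt_succ_iff_lt_or_eq.1 hi with h1 | h1
    · exact ih h.1 i h1
    · rw [h1]; exact h.2

namespace Acc

variable (T : Acc)

/-- boolean validity check -/
def ValidB (q : ℕ) : Bool :=
  decide (T.el 0 = idC) && decide (0 < T.n) &&
  allLt T.glen (fun k => allLt T.n (fun i =>
    decide (T.nx k i < T.n ∧ mulC q (T.el i) (T.gen k) = T.el (T.nx k i)))) &&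
  allLt T.n (fun i => decide (i = 0 ∨ ((T.pr i).1 < i ∧ (T.pr i).2 < T.glen ∧
    T.el i = mulC q (T.el (T.pr i).1) (T.gen (T.pr i).2)))) &&
  allLt T.n (fun i => decide (T.el i = idC ∨ semiOK q (T.el i))) &&
  allLt q (fun x => allLt q (fun y => decide ((x = 0 ∧ y = 0) ∨ (T.wt x y < T.n ∧
    (T.el (T.wt x y)).1 % q = x ∧ (T.el (T.wt x y)).2.2.1 % q = y))))

theorem valid_of_validB (q : ℕ) (h : T.ValidB q = true) : T.Valid q := by
  unfold ValidB at h
  simp only [Bool.and_eq_true, decide_eq_true_eq] at h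
  obtain ⟨⟨⟨⟨⟨h0, h1⟩, h2⟩, h3⟩, h4⟩, h5⟩ := h
  refine ⟨h0, h1, ?_, ?_, ?_, ?_⟩
  · intro k hk i hi
    have := allLt_spec _ _ (allLt_spec _ _ h2 k hk) i hi
    exact of_decide_eq_true this
  · intro i hi
    exact of_decide_eq_true (allLt_spec _ _ h3 i hi)
  · intro i hi
    exact of_decide_eq_true (allLt_spec _ _ h4 i hi)
  · intro x hx y hy
    exact of_decide_eq_true (allLt_spec _ _ (allLt_spec _ _ h5 x hx) y hy)

end Acc

end Cfsg.Agent.Lib.Helper1.Mat2Tables2
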