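import Mathlib
import Cfsg.Prelude.Def_Perm

set_option autoImplicit false

namespace Cfsg.Agent.Lib.Helper1.NearFieldBasic

open Cfsg

variable {F : Type*} [Cfsg.NearField F]

theorem nf_zero_mul (a : F) : (0 : F) * a = 0 := by
  have h := NearField.right_distrib (0 : F) 0 a
  rw [add_zero] at h
  have h2 : (0 : F) * a + 0 = 0 * a + 0 * a := by rw [add_zero]; exact h
  exact (add_left_cancel h2).symm

theorem nf_neg_mul (a b : F) : (-a) * b = -(a * b) := by
  have h := NearField.right_distrib a (-a) b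
  rw [add_neg_cancel, nf_zero_mul] at h
  exact (neg_eq_of_add_eq_zero_right h.symm).symm

theorem nf_sub_mul (a b c : F) : (a - b) * c = a * c - b * c := by
  rw [sub_eq_add_neg, NearField.right_distrib, nf_neg_mul, ← sub_eq_add_neg]

theorem nf_exists_inv {a : F} (ha : a ≠ 0) : ∃ b : F, b ≠ 0 ∧ a * b = 1 ∧ b * a = 1 := by
  obtain ⟨b, h1, h2⟩ := NearField.exists_inv a ha
  refine ⟨b, ?_, h1, h2⟩
  intro hb
  rw [hb, NearField.mul_zero] at h1
  exact NearField.zero_ne_one h1

theorem nf_mul_ne_zero {a b : F} (ha : a ≠ 0) (hb : b ≠ 0) : a * b ≠ 0 := by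
  intro h
  obtain ⟨c, hc, h1, h2⟩ := nf_exists_inv hb
  have : a = 0 := by
    calc a = a * (b * c) := by rw [h1, mul_one]
      _ = (a * b) * c := by rw [mul_assoc]
      _ = 0 := by rw [h, nf_zero_mul]
  exact ha this

theorem nf_mul_right_cancel {a b c : F} (hc : c ≠ 0) (h : a * c = b * c) : a = b := by
  obtain ⟨d, hd, h1, h2⟩ := nf_exists_inv hc
  calc a = a * (c * d) := by rw [h1, mul_one]
    _ = (a * c) * d := by rw [mul_assoc]
    _ = (b * c) * d := by rw [h]
    _ = b * (c * d) := by rw [mul_assoc]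
    _ = b := by rw [h1, mul_one]

theorem nf_nsmul_mul (n : ℕ) (a c : F) : (n • a) * c = n • (a * c) := by
  induction n with
  | zero => rw [zero_smul, zero_smul, nf_zero_mul]
  | succ k ih => rw [succ_nsmul, succ_nsmul, NearField.right_distrib, ih]

end Cfsg.Agent.Lib.Helper1.NearFieldBasic
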