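import Mathlib

set_option autoImplicit false

namespace Cfsg.Agent.Lib.Helper1

open scoped commutatorElement

/-- a nontrivial normal subgroup of a nilpotent group contains a nontrivial central element -/
theorem exists_mem_center_of_isNilpotent {G : Type*} [Group G] [Group.IsNilpotent G]
    (N : Subgroup G) [hn : N.Normal] (hN : N ≠ ⊥) :
    ∃ x ∈ N, x ∈ Subgroup.center G ∧ x ≠ 1 := by
  classical
  have hex : ∃ n : ℕ, ∃ x ∈ N, x ∈ Subgroup.upperCentralSeries G n ∧ x ≠ 1 := by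
    obtain ⟨x, hx1⟩ := (Subgroup.ne_bot_iff_exists_ne_one (H := N)).1 hN
    refine ⟨Group.nilpotencyClass G, x.1, x.2, ?_, fun h => hx1 (Subtype.ext h)⟩
    rw [Subgroup.upperCentralSeries_nilpotencyClass]
    exact Subgroup.mem_top _
  have hspec := Nat.find_spec hex
  have hmin := fun m => Nat.find_min hex (m := m)
  obtain ⟨x, hxN, hxZ, hx1⟩ := hspec
  refine ⟨x, hxN, ?_, hx1⟩
  rcases Nat.eq_zero_or_pos (Nat.find hex) with h0 | hpos
  · exfalso
    rw [h0, Subgroup.upperCentralSeries_zero, Subgroup.mem_bot] at hxZ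
    exact hx1 hxZ
  · obtain ⟨m, hm⟩ : ∃ m, Nat.find hex = m + 1 := ⟨Nat.find hex - 1, by omega⟩
    rw [hm, Subgroup.mem_upperCentralSeries_succ_iff] at hxZ
    rw [Subgroup.mem_center_iff]
    intro y
    have hcomm : ⁅x, y⁆ ∈ N := by
      rw [commutatorElement_def]
      have : x * y * x⁻¹ * y⁻¹ = x * (y * x⁻¹ * y⁻¹) := by group
      rw [this]
      exact N.mul_mem hxN (hn.conj_mem _ (N.inv_mem hxN) y)
    have h1 : ⁅x, y⁆ = 1 := by
      by_contra hne
      exact hmin m (by omega) ⟨_, hcomm, hxZ y, hne⟩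
    rw [commutatorElement_def] at h1
    have : y * x = (x * y * x⁻¹ * y⁻¹)⁻¹ * (x * y) := by group
    rw [this, h1, inv_one, one_mul]

theorem inf_center_ne_bot_of_isNilpotent {G : Type*} [Group G] [Group.IsNilpotent G]
    (N : Subgroup G) [N.Normal] (hN : N ≠ ⊥) : N ⊓ Subgroup.center G ≠ ⊥ := by
  obtain ⟨x, hxN, hxZ, hx1⟩ := exists_mem_center_of_isNilpotent N hN
  intro h
  have : x ∈ N ⊓ Subgroup.center G := Subgroup.mem_inf.2 ⟨hxN, hxZ⟩
  rw [h, Subgroup.mem_bot] at this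
  exact hx1 this

end Cfsg.Agent.Lib.Helper1
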