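import Mathlib

set_option autoImplicit false

namespace Cfsg.Agent.Lib.Helper1

/-- if all point stabilizers equal `S`, the set is orbits × cosets of `S` -/
noncomputable def selfEquivOrbitsProdQuotient {K X : Type*} [Group K] [MulAction K X]
    (S : Subgroup K) (h : ∀ x : X, MulAction.stabilizer K x = S) :
    X ≃ Quotient (MulAction.orbitRel K X) × (K ⧸ S) :=
  (MulAction.selfEquivSigmaOrbitsQuotientStabilizer K X).trans <|
    (Equiv.sigmaCongrRight fun _ => Subgroup.quotientEquivOfEq (h _)).trans <|
      Equiv.sigmaEquivProd _ _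

theorem index_dvd_card_of_stabilizer_eq {K X : Type*} [Group K] [MulAction K X]
    (S : Subgroup K) (h : ∀ x : X, MulAction.stabilizer K x = S) :
    S.index ∣ Nat.card X := by
  rw [Nat.card_congr (selfEquivOrbitsProdQuotient S h), Nat.card_prod]
  exact Dvd.intro_left _ rfl

end Cfsg.Agent.Lib.Helper1
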