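import Mathlib

set_option autoImplicit false

namespace Cfsg.Agent.Lib.Helper1

section
variable {G : Type*} [Group G] [Finite G] {p : ℕ} [Fact p.Prime]

/-- maximal subgroups of finite `p`-groups are normal -/
theorem coatom_normal_of_isPGroup (hG : IsPGroup p G) {M : Subgroup G} (hM : IsCoatom M) :
    M.Normal := by
  haveI := hG.isNilpotent
  exact Subgroup.NormalizerCondition.normal_of_coatom M Group.normalizerCondition_of_isNilpotent hM

/-- maximal subgroups of finite `p`-groups have index `p` -/
theorem card_quotient_coatom_of_isPGroup (hG : IsPGroup p G) {M : Subgroup G} [M.Normal]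
    (hM : IsCoatom M) : Nat.card (G ⧸ M) = p := by
  have hp : p.Prime := Fact.out
  have hQ : IsPGroup p (G ⧸ M) := hG.to_quotient M
  obtain ⟨k, hk⟩ := IsPGroup.iff_card.1 hQ
  have hk0 : k ≠ 0 := by
    rintro rfl
    rw [pow_zero] at hk
    have : M.index = 1 := hk
    exact hM.1 (Subgroup.index_eq_one.1 this)
  have hdvd : p ^ 1 ∣ Nat.card (G ⧸ M) := by
    rw [hk]; exact pow_dvd_pow p (Nat.one_le_iff_ne_zero.2 hk0)
  obtain ⟨K, hK⟩ := Sylow.exists_subgroup_card_pow_prime p hdvd
  rw [pow_one] at hK
  have hsurj := QuotientGroup.mk'_surjective M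
  have hle : M ≤ K.comap (QuotientGroup.mk' M) := by
    intro x hx
    rw [Subgroup.mem_comap]
    have : (QuotientGroup.mk' M) x = 1 := (QuotientGroup.eq_one_iff x).2 hx
    rw [this]; exact K.one_mem
  have hne : K.comap (QuotientGroup.mk' M) ≠ M := by
    intro h
    have h1 : K = (K.comap (QuotientGroup.mk' M)).map (QuotientGroup.mk' M) :=
      (Subgroup.map_comap_eq_self_of_surjective hsurj K).symm
    rw [h] at h1
    have h2 : M.map (QuotientGroup.mk' M) = ⊥ := by
      rw [Subgroup.map_eq_bot_iff, QuotientGroup.ker_mk']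
    rw [h2] at h1
    rw [h1, Subgroup.card_bot] at hK
    exact hp.one_lt.ne hK
  have htop : K.comap (QuotientGroup.mk' M) = ⊤ := hM.2 _ (lt_of_le_of_ne hle hne.symm)
  have hKtop : K = ⊤ := by
    rw [← Subgroup.map_comap_eq_self_of_surjective hsurj K, htop]
    exact Subgroup.map_top_of_surjective _ hsurj
  rw [← hK, hKtop, Subgroup.card_top]

/-- in a finite `p`-group, commutators lie in every maximal subgroup -/
theorem commutator_le_coatom_of_isPGroup (hG : IsPGroup p G) {M : Subgroup G} (hM : IsCoatom M) :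
    commutator G ≤ M := by
  haveI := coatom_normal_of_isPGroup hG hM
  have hcard := card_quotient_coatom_of_isPGroup hG hM
  haveI : IsCyclic (G ⧸ M) := isCyclic_of_prime_card hcard
  rw [← Subgroup.Normal.quotient_commutative_iff_commutator_le]
  exact ⟨⟨fun a b => IsCyclic.commGroup.mul_comm a b⟩⟩

/-- in a finite `p`-group, `p`-th powers lie in every maximal subgroup -/
theorem pow_mem_coatom_of_isPGroup (hG : IsPGroup p G) {M : Subgroup G} (hM : IsCoatom M)
    (x : G) : x ^ p ∈ M := by
  haveI := coatom_normal_of_isPGroup hG hM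
  have hcard := card_quotient_coatom_of_isPGroup hG hM
  rw [← QuotientGroup.eq_one_iff, QuotientGroup.mk_pow]
  have := pow_card_eq_one' (G := G ⧸ M) (x := (x : G ⧸ M))
  rwa [hcard] at this

end

end Cfsg.Agent.Lib.Helper1
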