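import Mathlib
import Cfsg.Agent.Lib.Helper1.SLCard

set_option autoImplicit false

namespace Cfsg.Agent.Lib.Helper1

open Matrix Projectivization
open scoped LinearAlgebra.Projectivization

theorem card_proj_two (F : Type*) [Field F] [Fintype F] :
    Nat.card (ℙ F (Fin 2 → F)) = Fintype.card F + 1 := by
  rw [Projectivization.card_of_finrank_two F (Fin 2 → F) (by simp), Nat.card_eq_fintype_card]

theorem card_SL2 (F : Type*) [Field F] [Fintype F] :
    (Fintype.card F - 1) * Nat.card (SpecialLinearGroup (Fin 2) F) =
      (Fintype.card F ^ 2 - 1) * (Fintype.card F ^ 2 - Fintype.card F) := by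
  rw [card_SL_field 2 (by norm_num), Fin.prod_univ_two]
  simp

theorem card_PSL2 (F : Type*) [Field F] [Fintype F] :
    Nat.gcd 2 (Fintype.card F - 1) * ((Fintype.card F - 1) *
      Nat.card (ProjectiveSpecialLinearGroup (Fin 2) F)) =
      (Fintype.card F ^ 2 - 1) * (Fintype.card F ^ 2 - Fintype.card F) := by
  rw [card_PSL_field 2 (by norm_num), Fin.prod_univ_two]
  simp

end Cfsg.Agent.Lib.Helper1
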