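import Mathlib

set_option autoImplicit false

namespace Cfsg.Agent.Lib.Helper1

open MulAction

variable {G X : Type*} [Group G] [MulAction G X] (N : Subgroup G)

theorem regular_unique (hreg : ∀ x : X, stabilizer N x = ⊥) {n n' : G} (hn : n ∈ N)
    (hn' : n' ∈ N) {x : X} (h : n • x = n' • x) : n = n' := by
  have hmem : (⟨n'⁻¹ * n, N.mul_mem (N.inv_mem hn') hn⟩ : N) ∈ stabilizer N x := by
    rw [mem_stabilizer_iff]
    show (n'⁻¹ * n) • x = x
    rw [mul_smul, h, inv_smul_smul]
  rw [hreg x, Subgroup.mem_bot] at hmem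
  have h2 : n'⁻¹ * n = 1 := congrArg Subtype.val hmem
  exact (inv_mul_eq_one.1 h2).symm

/-- the element of the regular subgroup moving `x0` to `y` -/
noncomputable def nu (htrans : IsPretransitive N X) (x0 y : X) : G :=
  ((Classical.choose (htrans.exists_smul_eq x0 y) : N) : G)

theorem nu_mem (htrans : IsPretransitive N X) (x0 y : X) : nu N htrans x0 y ∈ N :=
  (Classical.choose (htrans.exists_smul_eq x0 y)).2

theorem nu_smul (htrans : IsPretransitive N X) (x0 y : X) : nu N htrans x0 y • x0 = y :=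
  Classical.choose_spec (htrans.exists_smul_eq x0 y)

theorem nu_eq (htrans : IsPretransitive N X) (hreg : ∀ x : X, stabilizer N x = ⊥) {x0 y : X}
    {n : G} (hn : n ∈ N) (h : n • x0 = y) : nu N htrans x0 y = n :=
  regular_unique N hreg (nu_mem N htrans x0 y) hn ((nu_smul N htrans x0 y).trans h.symm)

theorem nu_conj [hN : N.Normal] (htrans : IsPretransitive N X)
    (hreg : ∀ x : X, stabilizer N x = ⊥) {x0 : X} {k : G} (hk : k • x0 = x0) (y : X) :
    nu N htrans x0 (k • y) = k * nu N htrans x0 y * k⁻¹ := by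
  apply nu_eq N htrans hreg (hN.conj_mem _ (nu_mem N htrans x0 y) k)
  have hk' : k⁻¹ • x0 = x0 := by rw [inv_smul_eq_iff, hk]
  rw [mul_smul, mul_smul, hk', nu_smul]

theorem nu_self (htrans : IsPretransitive N X) (hreg : ∀ x : X, stabilizer N x = ⊥) (x0 : X) :
    nu N htrans x0 x0 = 1 :=
  nu_eq N htrans hreg N.one_mem (one_smul _ _)

/-- the regular subgroup is in bijection with the set acted on -/
theorem card_regular (htrans : IsPretransitive N X) (hreg : ∀ x : X, stabilizer N x = ⊥)
    (x0 : X) : Nat.card N = Nat.card X := by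
  apply Nat.card_congr
  refine Equiv.ofBijective (fun n : N => (n : G) • x0) ⟨?_, ?_⟩
  · intro n n' h
    apply Subtype.ext
    exact regular_unique N hreg n.2 n'.2 h
  · intro y
    exact ⟨⟨nu N htrans x0 y, nu_mem N htrans x0 y⟩, nu_smul N htrans x0 y⟩

end Cfsg.Agent.Lib.Helper1
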