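import Mathlib

set_option autoImplicit false

namespace Cfsg.Agent.Lib.Helper1.SL25Rep

/-- table of a faithful representation of `SL(2,5)` in `GL(2,11)` -/
def fTab (a b c d : Fin 5) : Matrix (Fin 2) (Fin 2) (ZMod 11) :=
  match a, b, c, d with
  | 0, 1, 4, 0 => !![1, 10; 2, 10]
  | 0, 1, 4, 1 => !![4, 8; 8, 8]
  | 0, 1, 4, 2 => !![5, 2; 10, 2]
  | 0, 1, 4, 3 => !![9, 6; 7, 6]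
  | 0, 1, 4, 4 => !![3, 7; 6, 7]
  | 0, 2, 2, 0 => !![8, 7; 8, 3]
  | 0, 2, 2, 1 => !![7, 8; 7, 5]
  | 0, 2, 2, 2 => !![2, 6; 2, 1]
  | 0, 2, 2, 3 => !![10, 10; 10, 9]
  | 0, 2, 2, 4 => !![6, 2; 6, 4]
  | 0, 3, 3, 0 => !![3, 4; 3, 8]
  | 0, 3, 3, 1 => !![5, 9; 5, 7]
  | 0, 3, 3, 2 => !![1, 1; 1, 2]
  | 0, 3, 3, 3 => !![9, 5; 9, 10]
  | 0, 3, 3, 4 => !![4, 3; 4, 6]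
  | 0, 4, 1, 0 => !![10, 1; 9, 1]
  | 0, 4, 1, 1 => !![8, 4; 5, 4]
  | 0, 4, 1, 2 => !![2, 5; 4, 5]
  | 0, 4, 1, 3 => !![6, 9; 1, 9]
  | 0, 4, 1, 4 => !![7, 3; 3, 3]
  | 1, 0, 0, 1 => !![1, 0; 0, 1]
  | 1, 0, 1, 1 => !![2, 1; 9, 5]
  | 1, 0, 2, 1 => !![2, 7; 8, 1]
  | 1, 0, 3, 1 => !![1, 4; 3, 2]
  | 1, 0, 4, 1 => !![5, 10; 2, 2]
  | 1, 1, 0, 1 => !![3, 0; 0, 4]
  | 1, 1, 1, 2 => !![6, 4; 5, 9]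
  | 1, 1, 2, 3 => !![6, 6; 2, 4]
  | 1, 1, 3, 4 => !![3, 5; 9, 8]
  | 1, 1, 4, 0 => !![4, 7; 6, 8]
  | 1, 2, 0, 1 => !![9, 0; 0, 5]
  | 1, 2, 1, 3 => !![7, 5; 4, 3]
  | 1, 2, 2, 0 => !![7, 2; 6, 5]
  | 1, 2, 3, 2 => !![9, 9; 5, 10]
  | 1, 2, 4, 4 => !![1, 6; 7, 10]
  | 1, 3, 0, 1 => !![5, 0; 0, 9]
  | 1, 3, 1, 4 => !![10, 9; 1, 1]
  | 1, 3, 2, 2 => !![10, 8; 7, 9]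
  | 1, 3, 3, 0 => !![5, 3; 4, 7]
  | 1, 3, 4, 3 => !![3, 2; 10, 7]
  | 1, 4, 0, 1 => !![4, 0; 0, 3]
  | 1, 4, 1, 0 => !![8, 3; 3, 4]
  | 1, 4, 2, 4 => !![8, 10; 10, 3]
  | 1, 4, 3, 3 => !![4, 1; 1, 6]
  | 1, 4, 4, 2 => !![9, 8; 8, 6]
  | 2, 0, 0, 3 => !![0, 4; 8, 0]
  | 2, 0, 1, 3 => !![10, 4; 5, 1]
  | 2, 0, 2, 3 => !![8, 8; 7, 3]
  | 2, 0, 3, 3 => !![3, 9; 5, 8]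
  | 2, 0, 4, 3 => !![1, 8; 8, 10]
  | 2, 1, 0, 3 => !![0, 3; 7, 0]
  | 2, 1, 1, 1 => !![6, 3; 3, 9]
  | 2, 1, 2, 4 => !![7, 6; 2, 5]
  | 2, 1, 3, 2 => !![4, 4; 3, 6]
  | 2, 1, 4, 0 => !![5, 6; 7, 2]
  | 2, 2, 0, 3 => !![0, 5; 2, 0]
  | 2, 2, 1, 4 => !![8, 5; 4, 4]
  | 2, 2, 2, 0 => !![2, 10; 10, 1]
  | 2, 2, 3, 1 => !![9, 3; 4, 10]
  | 2, 2, 4, 2 => !![3, 10; 2, 7]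
  | 2, 3, 0, 3 => !![0, 1; 10, 0]
  | 2, 3, 1, 2 => !![7, 1; 9, 3]
  | 2, 3, 2, 1 => !![10, 2; 6, 9]
  | 2, 3, 3, 0 => !![1, 5; 9, 2]
  | 2, 3, 4, 4 => !![4, 2; 10, 8]
  | 2, 4, 0, 3 => !![0, 9; 6, 0]
  | 2, 4, 1, 0 => !![2, 9; 1, 5]
  | 2, 4, 2, 2 => !![6, 7; 8, 4]
  | 2, 4, 3, 4 => !![5, 1; 1, 7]
  | 2, 4, 4, 1 => !![9, 7; 6, 6]
  | 3, 0, 0, 2 => !![0, 7; 3, 0]
  | 3, 0, 1, 2 => !![10, 3; 3, 1]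
  | 3, 0, 2, 2 => !![8, 2; 6, 3]
  | 3, 0, 3, 2 => !![3, 3; 4, 8]
  | 3, 0, 4, 2 => !![1, 7; 6, 10]
  | 3, 1, 0, 2 => !![0, 2; 5, 0]
  | 3, 1, 1, 4 => !![2, 4; 5, 5]
  | 3, 1, 2, 1 => !![6, 10; 10, 4]
  | 3, 1, 3, 3 => !![5, 4; 3, 7]
  | 3, 1, 4, 0 => !![9, 2; 10, 6]
  | 3, 2, 0, 2 => !![0, 10; 1, 0]
  | 3, 2, 1, 1 => !![7, 9; 1, 3]
  | 3, 2, 2, 0 => !![10, 6; 2, 9]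
  | 3, 2, 3, 4 => !![1, 9; 5, 2]
  | 3, 2, 4, 3 => !![4, 10; 2, 8]
  | 3, 3, 0, 2 => !![0, 6; 9, 0]
  | 3, 3, 1, 3 => !![8, 1; 9, 4]
  | 3, 3, 2, 4 => !![2, 8; 7, 1]
  | 3, 3, 3, 0 => !![9, 1; 1, 10]
  | 3, 3, 4, 1 => !![3, 6; 7, 7]
  | 3, 4, 0, 2 => !![0, 8; 4, 0]
  | 3, 4, 1, 0 => !![6, 5; 4, 9]
  | 3, 4, 2, 3 => !![7, 7; 8, 5]
  | 3, 4, 3, 1 => !![4, 5; 9, 6]
  | 3, 4, 4, 4 => !![5, 8; 8, 2]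
  | 4, 0, 0, 4 => !![10, 0; 0, 10]
  | 4, 0, 1, 4 => !![6, 1; 9, 9]
  | 4, 0, 2, 4 => !![10, 7; 8, 9]
  | 4, 0, 3, 4 => !![9, 4; 3, 10]
  | 4, 0, 4, 4 => !![9, 10; 2, 6]
  | 4, 1, 0, 4 => !![7, 0; 0, 8]
  | 4, 1, 1, 3 => !![2, 3; 3, 5]
  | 4, 1, 2, 2 => !![7, 10; 10, 5]
  | 4, 1, 3, 1 => !![3, 1; 1, 8]
  | 4, 1, 4, 0 => !![3, 8; 8, 7]
  | 4, 2, 0, 4 => !![6, 0; 0, 2]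
  | 4, 2, 1, 2 => !![8, 9; 1, 4]
  | 4, 2, 2, 0 => !![6, 8; 7, 4]
  | 4, 2, 3, 3 => !![1, 3; 4, 2]
  | 4, 2, 4, 1 => !![1, 2; 10, 10]
  | 4, 3, 0, 4 => !![2, 0; 0, 6]
  | 4, 3, 1, 1 => !![10, 5; 4, 1]
  | 4, 3, 2, 3 => !![2, 2; 6, 1]
  | 4, 3, 3, 0 => !![4, 9; 5, 6]
  | 4, 3, 4, 2 => !![4, 6; 7, 8]
  | 4, 4, 0, 4 => !![8, 0; 0, 7]
  | 4, 4, 1, 0 => !![7, 4; 5, 3]
  | 4, 4, 2, 1 => !![8, 6; 2, 3]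
  | 4, 4, 3, 2 => !![5, 5; 9, 7]
  | 4, 4, 4, 3 => !![5, 7; 6, 2]
  | _, _, _, _ => 1

/-- the same table on `ZMod 5` -/
def fTabZ (a b c d : ZMod 5) : Matrix (Fin 2) (Fin 2) (ZMod 11) := fTab a b c d

set_option maxRecDepth 10000000 in
set_option maxHeartbeats 4000000 in
theorem fTab_mul : ∀ a b c d : ZMod 5, a * d - b * c = 1 → ∀ a' b' c' d' : ZMod 5,
    a' * d' - b' * c' = 1 →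
    fTabZ (a * a' + b * c') (a * b' + b * d') (c * a' + d * c') (c * b' + d * d') =
      fTabZ a b c d * fTabZ a' b' c' d' := by
  decide

set_option maxRecDepth 10000000 in
set_option maxHeartbeats 4000000 in
theorem fTab_fpf : ∀ a b c d : ZMod 5, a * d - b * c = 1 → ¬ (a = 1 ∧ b = 0 ∧ c = 0 ∧ d = 1) →
    ∀ x y : ZMod 11, (fTabZ a b c d).mulVec ![x, y] = ![x, y] → x = 0 ∧ y = 0 := by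
  decide


end Cfsg.Agent.Lib.Helper1.SL25Rep
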