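import Mathlib
import Cfsg.Agent.Lib.Helper1.PermCrit

set_option autoImplicit false

namespace Cfsg.Agent.Lib.Helper1

section sharp

/-- order of a sharply `n`-transitive group -/
theorem card_of_sharp {G α : Type*} [Group G] [MulAction G α] [Finite α] (n : ℕ)
    (hn : n ≤ Nat.card α) [MulAction.IsMultiplyPretransitive G α n]
    (hsharp : ∀ x : Fin n ↪ α, MulAction.stabilizer G x = ⊥) :
    Nat.card G = Nat.card (Fin n ↪ α) := by
  haveI : Fintype α := Fintype.ofFinite α
  have hne : Nonempty (Fin n ↪ α) := by
    apply Function.Embedding.nonempty_of_card_le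
    rw [Fintype.card_fin, ← Nat.card_eq_fintype_card]
    exact hn
  obtain ⟨x⟩ := hne
  have h1 := MulAction.index_stabilizer_of_transitive G x
  rw [hsharp x, Subgroup.index_bot] at h1
  exact h1

variable {G : Type*} [Group G]

/-- Frattini argument for a Sylow subgroup of prime order: index bound -/
theorem index_dvd_of_sylow_frattini [Finite G] (p M0 : ℕ) [hp : Fact p.Prime]
    (h2 : ¬ p ^ 2 ∣ Nat.card G)
    (h4 : ∀ Q : Subgroup G, Nat.card Q = p →
      Nat.card (Subgroup.normalizer (Q : Set G)) ∣ p * M0)
    (N : Subgroup G) [hN : N.Normal] (hpN : p ∣ Nat.card N) : N.index ∣ M0 := by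
  have Q : Sylow p N := default
  have hfac : (Nat.card N).factorization p = 1 := by
    have h1 : 1 ≤ (Nat.card N).factorization p :=
      (hp.out.dvd_iff_one_le_factorization Nat.card_pos.ne').1 hpN
    have h2' : ¬ 2 ≤ (Nat.card N).factorization p := by
      intro h
      apply h2
      have : p ^ 2 ∣ Nat.card N :=
        (hp.out.pow_dvd_iff_le_factorization Nat.card_pos.ne').2 h
      exact this.trans (Subgroup.card_subgroup_dvd_card N)
    omega
  have hQcard : Nat.card Q = p := by
    rw [Sylow.card_eq_multiplicity, hfac, pow_one]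
  set Q' : Subgroup G := (Q : Subgroup N).map N.subtype with hQ'
  have hQ'card : Nat.card Q' = p := by
    rw [hQ', Subgroup.card_map_of_injective N.subtype_injective]
    exact hQcard
  have hfr : Subgroup.normalizer (Q' : Set G) ⊔ N = ⊤ := Sylow.normalizer_sup_eq_top Q
  set Hn : Subgroup G := Subgroup.normalizer (Q' : Set G) with hHn
  have hidx : N.index = N.relIndex Hn := by
    rw [← Subgroup.relIndex_top_right, ← hfr, Subgroup.relIndex_sup_right]
  have hQ'le : Q' ≤ N ⊓ Hn := by
    refine le_inf ?_ Subgroup.le_normalizer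
    rw [hQ']
    exact Subgroup.map_subtype_le _
  have hmul : Nat.card ↥(N ⊓ Hn) * N.relIndex Hn = Nat.card Hn := by
    have := Subgroup.relIndex_mul_relIndex (H := (⊥ : Subgroup G)) (K := N ⊓ Hn) (L := Hn)
      bot_le inf_le_right
    rw [Subgroup.relIndex_bot_left, Subgroup.relIndex_bot_left, Subgroup.inf_relIndex_right] at this
    exact this
  have h4' := h4 Q' hQ'card
  obtain ⟨t, ht⟩ := Subgroup.card_dvd_of_le hQ'le
  rw [hQ'card] at ht
  rw [← hmul, ht, mul_assoc] at h4'
  rw [hidx]
  exact Dvd.dvd.trans (Dvd.intro_left t rfl) (Nat.dvd_of_mul_dvd_mul_left hp.out.pos h4')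

/-- Sylow congruence for a subgroup of order `p` when `p²` does not divide the order -/
theorem index_normalizer_modEq_one [Finite G] (p : ℕ) [hp : Fact p.Prime]
    (h2 : ¬ p ^ 2 ∣ Nat.card G) (Q : Subgroup G) (hQ : Nat.card Q = p) :
    (Subgroup.normalizer (Q : Set G)).index ≡ 1 [MOD p] := by
  have hpG : p ∣ Nat.card G := hQ ▸ Subgroup.card_subgroup_dvd_card Q
  have hfac : (Nat.card G).factorization p = 1 := by
    have h1 : 1 ≤ (Nat.card G).factorization p :=
      (hp.out.dvd_iff_one_le_factorization Nat.card_pos.ne').1 hpG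
    have h2' : ¬ 2 ≤ (Nat.card G).factorization p := by
      intro h
      apply h2
      exact (hp.out.pow_dvd_iff_le_factorization Nat.card_pos.ne').2 h
    omega
  have hcard : Nat.card Q = p ^ (Nat.card G).factorization p := by
    rw [hfac, pow_one, hQ]
  set P : Sylow p G := Sylow.ofCard Q hcard with hP
  have hPQ : (P : Subgroup G) = Q := Sylow.coe_ofCard Q hcard
  have h1 := card_sylow_modEq_one p G
  rw [P.card_eq_index_normalizer] at h1
  have h1' : (Subgroup.normalizer ((P : Subgroup G) : Set G)).index ≡ 1 [MOD p] := h1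
  rw [hPQ] at h1'
  exact h1'

/-- Burnside's transfer theorem for a self-normalizing Sylow subgroup of prime order -/
theorem exists_normal_complement_of_self_normalizing [Finite G] (p : ℕ) [hp : Fact p.Prime]
    (h2 : ¬ p ^ 2 ∣ Nat.card G) (Q : Subgroup G) (hQ : Nat.card Q = p)
    (hN : Nat.card (Subgroup.normalizer (Q : Set G)) = p) :
    ∃ K : Subgroup G, K.Normal ∧ Nat.card K * p = Nat.card G := by
  have hpG : p ∣ Nat.card G := hQ ▸ Subgroup.card_subgroup_dvd_card Q
  have hfac : (Nat.card G).factorization p = 1 := by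
    have h1 : 1 ≤ (Nat.card G).factorization p :=
      (hp.out.dvd_iff_one_le_factorization Nat.card_pos.ne').1 hpG
    have h2' : ¬ 2 ≤ (Nat.card G).factorization p := by
      intro h
      apply h2
      exact (hp.out.pow_dvd_iff_le_factorization Nat.card_pos.ne').2 h
    omega
  have hcard : Nat.card Q = p ^ (Nat.card G).factorization p := by
    rw [hfac, pow_one, hQ]
  set P : Sylow p G := Sylow.ofCard Q hcard with hP
  have hPQ : (P : Subgroup G) = Q := Sylow.coe_ofCard Q hcard
  have hnorm : Subgroup.normalizer (Q : Set G) = Q := by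
    symm
    apply Subgroup.eq_of_le_of_card_ge Subgroup.le_normalizer
    rw [hN, hQ]
  haveI : IsCyclic Q := isCyclic_of_prime_card hQ
  have hcomm : ∀ a ∈ Q, ∀ b ∈ Q, a * b = b * a := by
    intro a ha b hb
    have := IsCyclic.commGroup.mul_comm (⟨a, ha⟩ : Q) ⟨b, hb⟩
    exact congrArg Subtype.val this
  have hle : Subgroup.normalizer ((P : Subgroup G) : Set G) ≤
      Subgroup.centralizer ((P : Subgroup G) : Set G) := by
    rw [hPQ, hnorm]
    intro g hg
    rw [Subgroup.mem_centralizer_iff]
    intro h hh
    exact hcomm h hh g hg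
  refine ⟨(MonoidHom.transferSylow P hle).ker, inferInstance, ?_⟩
  have h3 := MonoidHom.ker_transferSylow_isComplement' P hle
  have h4 : Nat.card (MonoidHom.transferSylow P hle).ker * Nat.card (P : Subgroup G) =
      Nat.card G := h3.card_mul_card
  have h5 : Nat.card (P : Subgroup G) = p := by rw [hPQ, hQ]
  rw [h5] at h4
  exact h4

end sharp

section m11

variable {α : Type*} [Fintype α] [DecidableEq α]

theorem card_centralizer_of_order11_deg11 (hα : Fintype.card α = 11) (u : Equiv.Perm α)
    (hu : orderOf u = 11) :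
    Nat.card (Subgroup.centralizer ({u} : Set (Equiv.Perm α))) = 11 := by
  obtain ⟨n, hn⟩ := Equiv.Perm.cycleType_prime_order (hu ▸ (by norm_num : Nat.Prime 11))
  rw [hu] at hn
  have hsum : u.cycleType.sum ≤ 11 := by
    rw [Equiv.Perm.sum_cycleType, ← hα]
    exact Finset.card_le_univ _
  rw [hn, Multiset.sum_replicate, smul_eq_mul] at hsum
  have hn0 : n = 0 := by omega
  subst hn0
  rw [Equiv.Perm.nat_card_centralizer, hn, hα]
  decide

/-- a transitive group of degree 11 and order 7920 is simple -/
theorem simple_of_card_7920 (hα : Fintype.card α = 11) (G : Subgroup (Equiv.Perm α))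
    [MulAction.IsPretransitive G α] (hcard : Nat.card G = 7920) : IsSimpleGroup G := by
  haveI : Fact (Nat.Prime 11) := ⟨by norm_num⟩
  have hα' : Nat.card α = 11 := by rw [Nat.card_eq_fintype_card, hα]
  haveI : MulAction.IsPreprimitive G α :=
    MulAction.IsPreprimitive.of_prime_card (by rw [hα']; norm_num)
  haveI : Nontrivial G := by
    rw [← Finite.one_lt_card_iff_nontrivial, hcard]; norm_num
  haveI : Nonempty α := by
    rw [← Fintype.card_pos_iff, hα]; norm_num
  have h2 : ¬ 11 ^ 2 ∣ Nat.card G := by rw [hcard]; norm_num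
  have h3 : ∀ N : Subgroup G, N.Normal → N ≠ ⊥ → 11 ∣ Nat.card N := by
    intro N hN hne
    haveI := hN
    have := card_dvd_card_of_normal_of_preprimitive (X := α) N hne
    rwa [hα'] at this
  have h4 : ∀ Q : Subgroup G, Nat.card Q = 11 →
      Nat.card (Subgroup.normalizer (Q : Set G)) = 55 := by
    intro Q hQ
    have h5 := card_normalizer_dvd_perm G Q 11 hQ 11
      (fun u _ hu => by rw [card_centralizer_of_order11_deg11 hα u hu])
    rw [hcard] at h5
    have h6 := index_normalizer_modEq_one 11 h2 Q hQ
    have h7 := Subgroup.card_mul_index (Subgroup.normalizer (Q : Set G))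
    rw [hcard] at h7
    have h8 : 11 ∣ Nat.card (Subgroup.normalizer (Q : Set G)) :=
      hQ ▸ Subgroup.card_dvd_of_le Subgroup.le_normalizer
    obtain ⟨k, hk⟩ := h8
    have h9 : Nat.gcd 11 7920 * (11 - 1) = 110 := by norm_num
    rw [h9, hk] at h5
    have hk10 : k ∣ 10 := Nat.dvd_of_mul_dvd_mul_left (by norm_num : 0 < 11) h5
    have hkle : k ≤ 10 := Nat.le_of_dvd (by norm_num) hk10
    rw [hk] at h7 ⊢
    unfold Nat.ModEq at h6
    generalize (Subgroup.normalizer (Q : Set G)).index = idx at h6 h7
    interval_cases k <;> omega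
  refine ⟨fun N hN => ?_⟩
  haveI := hN
  by_contra hcon
  push Not at hcon
  obtain ⟨hbot, htop⟩ := hcon
  have hpN := h3 N hN hbot
  have hidx : N.index ∣ 5 :=
    index_dvd_of_sylow_frattini 11 5 h2 (fun Q hQ => by rw [h4 Q hQ]) N hpN
  have hidx5 : N.index = 5 := by
    rcases (Nat.dvd_prime (by norm_num : Nat.Prime 5)).1 hidx with h | h
    · exact absurd (Subgroup.index_eq_one.1 h) htop
    · exact h
  have hNcard : Nat.card N = 1584 := by
    have := Subgroup.card_mul_index N
    rw [hidx5, hcard] at this
    omega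
  haveI : MulAction.IsPretransitive N α :=
    isPretransitive_of_normal_of_preprimitive (X := α) N hbot
  haveI : MulAction.IsPreprimitive N α :=
    MulAction.IsPreprimitive.of_prime_card (by rw [hα']; norm_num)
  have h2N : ¬ 11 ^ 2 ∣ Nat.card N := by rw [hNcard]; norm_num
  obtain ⟨g, hg⟩ := exists_prime_orderOf_dvd_card' (G := N) 11 (hNcard ▸ by norm_num)
  set Q : Subgroup N := Subgroup.zpowers g with hQdef
  have hQcard : Nat.card Q = 11 := by rw [Nat.card_zpowers, hg]
  have hnN : Nat.card (Subgroup.normalizer (Q : Set N)) = 11 := by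
    have h5 : Nat.card (Subgroup.normalizer (Q : Set N)) ∣ 55 := by
      have hle : (Subgroup.normalizer (Q : Set N)).map N.subtype ≤
          Subgroup.normalizer ((Q.map N.subtype : Subgroup G) : Set G) :=
        Subgroup.le_normalizer_map _
      have := Subgroup.card_dvd_of_le hle
      rw [Subgroup.card_map_of_injective N.subtype_injective,
        h4 _ (by rw [Subgroup.card_map_of_injective N.subtype_injective]; exact hQcard)] at this
      exact this
    have h6 : Nat.card (Subgroup.normalizer (Q : Set N)) ∣ 1584 :=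
      hNcard ▸ Subgroup.card_subgroup_dvd_card _
    have h7 : 11 ∣ Nat.card (Subgroup.normalizer (Q : Set N)) :=
      hQcard ▸ Subgroup.card_dvd_of_le Subgroup.le_normalizer
    have h8 : Nat.card (Subgroup.normalizer (Q : Set N)) ∣ Nat.gcd 55 1584 := Nat.dvd_gcd h5 h6
    have h9 : Nat.gcd 55 1584 = 11 := by norm_num
    rw [h9] at h8
    exact Nat.dvd_antisymm h8 h7
  obtain ⟨K, hKn, hKcard⟩ := exists_normal_complement_of_self_normalizing 11 h2N Q hQcard hnN
  haveI := hKn
  have hK144 : Nat.card K = 144 := by rw [hNcard] at hKcard; omega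
  have hKne : K ≠ ⊥ := by
    intro h
    rw [h, Subgroup.card_bot] at hK144
    omega
  have := card_dvd_card_of_normal_of_preprimitive (X := α) K hKne
  rw [hα', hK144] at this
  omega

end m11

end Cfsg.Agent.Lib.Helper1
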