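import Mathlib
import Cfsg.Agent.Lib.Helper1.Sharp

set_option autoImplicit false

namespace Cfsg.Agent.Lib.Helper1

section sharp2

theorem isSimpleGroup_of_mulEquiv' {G H : Type*} [Group G] [Group H] (e : G ≃* H)
    [IsSimpleGroup G] : IsSimpleGroup H := by
  haveI : Nontrivial H := e.symm.toEquiv.nontrivial
  exact IsSimpleGroup.isSimpleGroup_of_surjective e.toMonoidHom e.surjective

/-- abstract version: a group of order 7920 acting faithfully and transitively on 11 points is
simple -/
theorem simple_of_card_7920' {H X : Type*} [Group H] [MulAction H X] [FaithfulSMul H X]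
    [Finite X] (hX : Nat.card X = 11) [MulAction.IsPretransitive H X]
    (hcard : Nat.card H = 7920) : IsSimpleGroup H := by
  classical
  haveI : Fintype X := Fintype.ofFinite X
  have hX' : Fintype.card X = 11 := by rw [← Nat.card_eq_fintype_card, hX]
  have hinj : Function.Injective (MulAction.toPermHom H X) := MulAction.toPerm_injective
  set G' : Subgroup (Equiv.Perm X) := (MulAction.toPermHom H X).range with hG'
  have e : H ≃* G' := MonoidHom.ofInjective hinj
  haveI : MulAction.IsPretransitive G' X := by
    refine ⟨fun a b => ?_⟩
    obtain ⟨h, hh⟩ := MulAction.exists_smul_eq H a b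
    exact ⟨⟨MulAction.toPermHom H X h, ⟨h, rfl⟩⟩, hh⟩
  have hc : Nat.card G' = 7920 := by
    rw [← Nat.card_congr e.toEquiv, hcard]
  haveI := simple_of_card_7920 hX' G' hc
  exact isSimpleGroup_of_mulEquiv' e.symm

variable {α : Type*} [Fintype α] [DecidableEq α]

/-- a 2-transitive group of degree 12 and order 95040 is simple -/
theorem simple_of_card_95040 (hα : Fintype.card α = 12) (G : Subgroup (Equiv.Perm α))
    [h2t : MulAction.IsMultiplyPretransitive G α 2] (hcard : Nat.card G = 95040) :
    IsSimpleGroup G := by
  have hα' : Nat.card α = 12 := by rw [Nat.card_eq_fintype_card, hα]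
  haveI : MulAction.IsPretransitive G α :=
    MulAction.is_one_pretransitive_iff.1
      (MulAction.isMultiplyPretransitive_of_le (G := G) (α := α) (m := 1) (n := 2) (by norm_num)
        (by rw [hα']; norm_num))
  haveI : MulAction.IsPreprimitive G α := MulAction.isPreprimitive_of_is_two_pretransitive h2t
  haveI : Nontrivial G := by
    rw [← Finite.one_lt_card_iff_nontrivial, hcard]; norm_num
  haveI : Nonempty α := by
    rw [← Fintype.card_pos_iff, hα]; norm_num
  obtain ⟨x⟩ := ‹Nonempty α›
  have hScard : Nat.card (MulAction.stabilizer G x) = 7920 := by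
    have h1 := MulAction.index_stabilizer_of_transitive G x
    have h2 := Subgroup.card_mul_index (MulAction.stabilizer G x)
    rw [h1, hα', hcard] at h2
    omega
  have hXcard : Nat.card (SubMulAction.ofStabilizer G x) = 11 := by
    rw [SubMulAction.nat_card_ofStabilizer_eq, hα']
  haveI : MulAction.IsPretransitive (MulAction.stabilizer G x) (SubMulAction.ofStabilizer G x) :=
    MulAction.is_one_pretransitive_iff.1
      ((SubMulAction.ofStabilizer.isMultiplyPretransitive (G := G) (α := α) (n := 1) (a := x)).1 h2t)
  haveI : FaithfulSMul (MulAction.stabilizer G x) (SubMulAction.ofStabilizer G x) := by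
    refine ⟨fun {s t} h => ?_⟩
    apply Subtype.ext
    apply Subtype.ext
    apply Equiv.ext
    intro y
    by_cases hy : y = x
    · subst hy
      have hs := MulAction.mem_stabilizer_iff.1 s.2
      have ht := MulAction.mem_stabilizer_iff.1 t.2
      exact hs.trans ht.symm
    · have := h ⟨y, (SubMulAction.mem_ofStabilizer_iff G x).2 hy⟩
      exact congrArg Subtype.val this
  have hS : IsSimpleGroup (MulAction.stabilizer G x) :=
    simple_of_card_7920' (X := SubMulAction.ofStabilizer G x) hXcard hScard
  have hdiv : ∀ N : Subgroup G, N.Normal → N ≠ ⊥ → 2 ^ 2 * 3 ^ 1 ∣ Nat.card N := by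
    intro N hN hne
    haveI := hN
    have := card_dvd_card_of_normal_of_preprimitive (X := α) N hne
    rw [hα'] at this
    exact this
  have hreg := no_normal_of_card (G := G) 2 3 2 1 (by norm_num) (by norm_num) (by norm_num)
    (by norm_num) le_rfl hdiv
  refine isSimpleGroup_of_stabilizer (X := α) x hS (fun N hN => ?_)
  rw [hα']
  exact hreg N hN

end sharp2

end Cfsg.Agent.Lib.Helper1
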