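import Mathlib
import Cfsg.Agent.Lib.Helper1.FrobKernelCount
import Cfsg.Agent.Lib.Helper1.Sharp

set_option autoImplicit false

namespace Cfsg.Agent.Lib.Helper1.SharpTwoNF

open Cfsg.Agent.Lib.Helper1

variable {α : Type*} [Fintype α] [DecidableEq α]

/-- sharp 2-transitivity in elementary form -/
structure S2T (H : Subgroup (Equiv.Perm α)) : Prop where
  trans : ∀ a b c d : α, a ≠ b → c ≠ d → ∃ g ∈ H, g a = c ∧ g b = d
  sharp : ∀ g ∈ H, ∀ a b : α, a ≠ b → g a = a → g b = b → g = 1

theorem s2t_of (H : Subgroup (Equiv.Perm α)) [MulAction.IsMultiplyPretransitive H α 2]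
    (hsharp : ∀ x : Fin 2 ↪ α, MulAction.stabilizer H x = ⊥) : S2T H := by
  constructor
  · intro a b c d hab hcd
    obtain ⟨g, h1, h2⟩ :=
      (MulAction.is_two_pretransitive_iff (G := H) (α := α)).1 inferInstance hab hcd
    exact ⟨g.1, g.2, h1, h2⟩
  · intro g hg a b hab ha hb
    have hmem : (⟨g, hg⟩ : H) ∈ MulAction.stabilizer H (Function.Embedding.embFinTwo hab) := by
      rw [MulAction.mem_stabilizer_iff]
      ext i
      fin_cases i
      · exact ha
      · exact hb
    rw [hsharp, Subgroup.mem_bot] at hmem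
    exact congrArg Subtype.val hmem

theorem exists_regular_normal (H : Subgroup (Equiv.Perm α))
    [MulAction.IsMultiplyPretransitive H α 2]
    (hsharp : ∀ x : Fin 2 ↪ α, MulAction.stabilizer H x = ⊥) (h2 : 2 ≤ Fintype.card α) :
    ∃ K : Subgroup (Equiv.Perm α), K ≤ H ∧ (∀ h ∈ H, ∀ g ∈ K, h * g * h⁻¹ ∈ K) ∧
      (∀ g ∈ K, ∀ b : α, g b = b → g = 1) ∧ (∀ a b : α, ∃ g ∈ K, g a = b) := by
  classical
  have hS := s2t_of H hsharp
  obtain ⟨o, e, hoe⟩ := Fintype.exists_pair_of_one_lt_card (by omega : 1 < Fintype.card α)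
  haveI : Nonempty α := ⟨o⟩
  haveI : MulAction.IsPretransitive H α := by
    refine ⟨fun a b => ?_⟩
    by_cases hab : a = b
    · exact ⟨1, by rw [one_smul, hab]⟩
    · obtain ⟨g, hg, h1, _⟩ := hS.trans a b b a hab (Ne.symm hab)
      exact ⟨⟨g, hg⟩, h1⟩
  have hsharp' : ∀ x : H, x ≠ 1 → ∀ b c : α, x • b = b → x • c = c → b = c := by
    intro x hx b c hb hc
    by_contra hbc
    apply hx
    apply Subtype.ext
    exact hS.sharp x.1 x.2 b c hbc hb hc
  have hcount := card_fixedPointFree_of_transitive (K := H) (X := α) hsharp'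
  have hHcard : Nat.card H = Fintype.card α * (Fintype.card α - 1) := by
    have := card_of_sharp (G := H) (α := α) 2 (by rw [Nat.card_eq_fintype_card]; exact h2) hsharp
    rw [this, Nat.card_eq_fintype_card, Fintype.card_embedding_eq, Fintype.card_fin]
    simp [Nat.descFactorial]
    ring
  set n := Fintype.card α with hn
  haveI : Fintype H := Fintype.ofFinite H
  -- the set A of trivial-or-fpf elements
  set A : Finset H := Finset.univ.filter (fun x : H => x = 1 ∨ ∀ b : α, x • b ≠ b) with hA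
  have hAcard : A.card = n := by
    rw [hA, ← Fintype.card_subtype, ← Nat.card_eq_fintype_card, hcount, Nat.card_eq_fintype_card]
  -- a fixed point free element
  have hx0 : ∃ x0 : H, x0 ≠ 1 ∧ ∀ b : α, x0 • b ≠ b := by
    have h1 : 1 < A.card := by rw [hAcard]; omega
    obtain ⟨x, hx, y, hy, hxy⟩ := Finset.one_lt_card.1 h1
    rw [hA, Finset.mem_filter] at hx hy
    by_cases hx1 : x = 1
    · have hy1 : y ≠ 1 := fun h => hxy (hx1.trans h.symm)
      rcases hy.2 with h | h
      · exact absurd h hy1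
      · exact ⟨y, hy1, h⟩
    · rcases hx.2 with h | h
      · exact absurd h hx1
      · exact ⟨x, hx1, h⟩
  obtain ⟨x0, hx01, hx0f⟩ := hx0
  set C : Subgroup H := Subgroup.centralizer {x0} with hC
  have hCmem : ∀ c : H, c ∈ C ↔ x0 * c = c * x0 := by
    intro c
    rw [hC, Subgroup.mem_centralizer_iff]
    constructor
    · intro h; exact h x0 rfl
    · intro h y hy
      rw [Set.mem_singleton_iff] at hy
      rw [hy]; exact h
  -- semiregular
  have hsemi : ∀ c : H, c ∈ C → ∀ b : α, c • b = b → c = 1 := by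
    intro c hc b hb
    by_contra hc1
    have h1 : c • (x0 • b) = x0 • b := by
      rw [← mul_smul, ← (hCmem c).1 hc, mul_smul, hb]
    exact hx0f b (hsharp' c hc1 _ _ h1 hb)
  -- |C| ≤ n
  have hCle : Nat.card C ≤ n := by
    rw [hn, ← Nat.card_eq_fintype_card]
    apply Nat.card_le_card_of_injective (fun c : C => (c : H) • o)
    intro c1 c2 h
    have h' : (c1 : H) • o = (c2 : H) • o := h
    have : ((c2 : H)⁻¹ * (c1 : H)) • o = o := by
      rw [mul_smul, h', ← mul_smul, inv_mul_cancel, one_smul]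
    have h3 := hsemi _ (C.mul_mem (C.inv_mem c2.2) c1.2) o this
    apply Subtype.ext
    have : (c1 : H) = (c2 : H) := by
      rw [← mul_one (c2 : H), ← h3, mul_inv_cancel_left]
    exact this
  -- |H| ≤ |C| * (n - 1)
  set CF : Finset H := Finset.univ.filter (fun x : H => x ∈ C) with hCF
  have hCFcard : CF.card = Nat.card C := by
    rw [hCF, ← Fintype.card_subtype, Nat.card_eq_fintype_card]
  set f : H → H := fun h => h * x0 * h⁻¹ with hf
  have himg : Finset.univ.image f ⊆ A.erase 1 := by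
    intro y hy
    rw [Finset.mem_image] at hy
    obtain ⟨h, -, rfl⟩ := hy
    rw [Finset.mem_erase, hA, Finset.mem_filter]
    refine ⟨?_, Finset.mem_univ _, Or.inr ?_⟩
    · intro h1
      apply hx01
      have : h * x0 * h⁻¹ = 1 := h1
      calc x0 = h⁻¹ * (h * x0 * h⁻¹) * h := by group
        _ = 1 := by rw [this]; group
    · intro b hb
      apply hx0f (h⁻¹ • b)
      have : (h * x0 * h⁻¹) • b = b := hb
      calc x0 • h⁻¹ • b = h⁻¹ • ((h * x0 * h⁻¹) • b) := by
            rw [← mul_smul, ← mul_smul]; congr 1; group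
        _ = h⁻¹ • b := by rw [this]
  have h1A : (1 : H) ∈ A := by
    rw [hA, Finset.mem_filter]; exact ⟨Finset.mem_univ _, Or.inl rfl⟩
  have himgcard : (Finset.univ.image f).card ≤ n - 1 := by
    have := Finset.card_le_card himg
    rw [Finset.card_erase_of_mem h1A, hAcard] at this
    exact this
  have hHle : Fintype.card H ≤ Nat.card C * (Finset.univ.image f).card := by
    rw [← Finset.card_univ]
    apply Finset.card_le_mul_card_image
    intro y hy
    rw [Finset.mem_image] at hy
    obtain ⟨h1, -, hh1⟩ := hy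
    rw [← hCFcard]
    apply Finset.card_le_card_of_injOn (fun h => h1⁻¹ * h)
    · intro h hh
      simp only [Finset.coe_filter, Finset.mem_univ, true_and, Set.mem_ofPred_eq] at hh
      rw [hCF]
      simp only [Finset.coe_filter, Finset.mem_univ, true_and, Set.mem_ofPred_eq]
      rw [hCmem]
      have e1 : h * x0 * h⁻¹ = y := hh
      have e2 : h1 * x0 * h1⁻¹ = y := hh1
      have e3 : h * x0 * h⁻¹ = h1 * x0 * h1⁻¹ := e1.trans e2.symm
      calc x0 * (h1⁻¹ * h) = h1⁻¹ * (h1 * x0 * h1⁻¹) * h := by group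
        _ = h1⁻¹ * (h * x0 * h⁻¹) * h := by rw [e3]
        _ = h1⁻¹ * h * x0 := by group
    · intro a _ b _ hab
      exact mul_left_cancel hab
  have hCge : n ≤ Nat.card C := by
    rw [← Nat.card_eq_fintype_card, hHcard] at hHle
    have h3 : n * (n - 1) ≤ Nat.card C * (n - 1) :=
      hHle.trans (Nat.mul_le_mul_left _ himgcard)
    exact Nat.le_of_mul_le_mul_right h3 (by omega)
  have hCcard : Nat.card C = n := le_antisymm hCle hCge
  -- CF = A
  have hCFA : CF = A := by
    apply Finset.eq_of_subset_of_card_le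
    · intro c hc
      rw [hCF, Finset.mem_filter] at hc
      rw [hA, Finset.mem_filter]
      refine ⟨Finset.mem_univ _, ?_⟩
      by_cases hc1 : c = 1
      · exact Or.inl hc1
      · right
        intro b hb
        exact hc1 (hsemi c hc.2 b hb)
    · rw [hAcard, hCFcard, hCcard]
  have hAC : ∀ x : H, (x = 1 ∨ ∀ b : α, x • b ≠ b) → x ∈ C := by
    intro x hx
    have : x ∈ A := by rw [hA, Finset.mem_filter]; exact ⟨Finset.mem_univ _, hx⟩
    rw [← hCFA, hCF, Finset.mem_filter] at this
    exact this.2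
  -- transitivity of C
  have hbij : Function.Bijective (fun c : C => (c : H) • o) := by
    apply Function.Injective.bijective_of_nat_card_le
    · intro c1 c2 h
      have h' : (c1 : H) • o = (c2 : H) • o := h
      have : ((c2 : H)⁻¹ * (c1 : H)) • o = o := by
        rw [mul_smul, h', ← mul_smul, inv_mul_cancel, one_smul]
      have h3 := hsemi _ (C.mul_mem (C.inv_mem c2.2) c1.2) o this
      apply Subtype.ext
      have : (c1 : H) = (c2 : H) := by
        rw [← mul_one (c2 : H), ← h3, mul_inv_cancel_left]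
      exact this
    · rw [hCcard, hn, Nat.card_eq_fintype_card]
  refine ⟨C.map H.subtype, ?_, ?_, ?_, ?_⟩
  · intro g hg
    rw [Subgroup.mem_map] at hg
    obtain ⟨c, -, rfl⟩ := hg
    exact c.2
  · intro h hh g hg
    rw [Subgroup.mem_map] at hg ⊢
    obtain ⟨c, hc, rfl⟩ := hg
    refine ⟨⟨h, hh⟩ * c * ⟨h, hh⟩⁻¹, ?_, rfl⟩
    apply hAC
    by_cases hc1 : c = 1
    · left; rw [hc1]; group
    · right
      intro b hb
      have hb' : (⟨h, hh⟩ * c * (⟨h, hh⟩ : H)⁻¹) • b = b := hb
      have : c • ((⟨h, hh⟩ : H)⁻¹ • b) = (⟨h, hh⟩ : H)⁻¹ • b := by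
        calc c • ((⟨h, hh⟩ : H)⁻¹ • b)
            = (⟨h, hh⟩ : H)⁻¹ • ((⟨h, hh⟩ * c * (⟨h, hh⟩ : H)⁻¹) • b) := by
              rw [← mul_smul, ← mul_smul]; congr 1; group
          _ = (⟨h, hh⟩ : H)⁻¹ • b := by rw [hb']
      exact hc1 (hsemi c hc _ this)
  · intro g hg b hb
    rw [Subgroup.mem_map] at hg
    obtain ⟨c, hc, rfl⟩ := hg
    have := hsemi c hc b hb
    rw [this]; rfl
  · intro a b
    obtain ⟨c1, hc1⟩ := hbij.2 a
    obtain ⟨c2, hc2⟩ := hbij.2 b
    refine ⟨((c2 : H) * (c1 : H)⁻¹ : H), ?_, ?_⟩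
    · rw [Subgroup.mem_map]
      exact ⟨(c2 : H) * (c1 : H)⁻¹, C.mul_mem c2.2 (C.inv_mem c1.2), rfl⟩
    · have h1 : (c1 : H) • o = a := hc1
      have h2 : (c2 : H) • o = b := hc2
      show ((c2 : H) * (c1 : H)⁻¹) • a = b
      rw [mul_smul, ← h1, inv_smul_smul, h2]

end Cfsg.Agent.Lib.Helper1.SharpTwoNF
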