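import Mathlib

set_option autoImplicit false

namespace Cfsg.Agent.Lib.Helper1

/-- a simple group acts faithfully on the cosets of any proper subgroup -/
theorem toPermHom_injective_of_simple {G : Type*} [Group G] [IsSimpleGroup G] (H : Subgroup G)
    (hH : H ≠ ⊤) : Function.Injective (MulAction.toPermHom G (G ⧸ H)) := by
  rw [← MonoidHom.ker_eq_bot_iff]
  rcases Subgroup.Normal.eq_bot_or_eq_top
    (inferInstance : (MulAction.toPermHom G (G ⧸ H)).ker.Normal) with h | h
  · exact h
  · exfalso
    apply hH
    rw [eq_top_iff, ← h, ← Subgroup.normalCore_eq_ker]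
    exact Subgroup.normalCore_le H

/-- the order of a simple group divides `k!` for `k` the index of any proper subgroup -/
theorem card_dvd_factorial_index_of_simple {G : Type*} [Group G] [Finite G] [IsSimpleGroup G]
    (H : Subgroup G) (hH : H ≠ ⊤) : Nat.card G ∣ (H.index).factorial := by
  have hinj := toPermHom_injective_of_simple H hH
  have h1 : Nat.card G = Nat.card (MulAction.toPermHom G (G ⧸ H)).range :=
    Nat.card_congr (MonoidHom.ofInjective hinj).toEquiv
  have h2 : (H.index).factorial = Nat.card (Equiv.Perm (G ⧸ H)) := by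
    rw [Nat.card_perm]; rfl
  rw [h1, h2]
  exact Subgroup.card_subgroup_dvd_card _

/-- a simple group of order `n!/2` with a subgroup of index `n` is alternating -/
theorem nonempty_mulEquiv_alternatingGroup_of_index {G : Type*} [Group G] [Finite G]
    [IsSimpleGroup G] (H : Subgroup G) (n : ℕ) (hn : H.index = n) (hH : H ≠ ⊤)
    (hcard : 2 * Nat.card G = n.factorial) :
    Nonempty (G ≃* alternatingGroup (Fin n)) := by
  classical
  letI : Fintype (G ⧸ H) := Fintype.ofFinite _
  have hinj := toPermHom_injective_of_simple H hH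
  set ψ := MulAction.toPermHom G (G ⧸ H) with hψ
  have hP : Nat.card (G ⧸ H) = n := hn
  have hrange : Nat.card ψ.range = Nat.card G :=
    (Nat.card_congr (MonoidHom.ofInjective hinj).toEquiv).symm
  have hidx : ψ.range.index = 2 := by
    have h1 := Subgroup.card_mul_index ψ.range
    rw [hrange, Nat.card_perm, hP, ← hcard, mul_comm] at h1
    have hpos : 0 < Nat.card G := Nat.card_pos
    exact Nat.eq_of_mul_eq_mul_right hpos h1
  have halt := Equiv.Perm.eq_alternatingGroup_of_index_eq_two hidx
  let e : G ⧸ H ≃ Fin n := Finite.equivFinOfCardEq hP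
  exact ⟨((MonoidHom.ofInjective hinj).trans (MulEquiv.subgroupCongr halt)).trans
    (Equiv.altCongrHom e)⟩

end Cfsg.Agent.Lib.Helper1
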