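import Mathlib
import Cfsg.Agent.Lib.Helper1.GLSylow
import Cfsg.Agent.Lib.Helper1.SimpleAct

set_option autoImplicit false

namespace Cfsg.Agent.Lib.Helper1

variable {G : Type*} [Group G]

/-- `|N(P) : C(P)|` divides `p - 1` for a Sylow subgroup of prime order -/
theorem relIndex_centralizer_normalizer_dvd [Finite G] {p : ℕ} [hp : Fact p.Prime] (P : Sylow p G)
    (hP : Nat.card (P : Subgroup G) = p) :
    (Subgroup.centralizer ((P : Subgroup G) : Set G)).relIndex
      (Subgroup.normalizer ((P : Subgroup G) : Set G)) ∣ p - 1 := by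
  have hker := Subgroup.normalizerMonoidHom_ker (P : Subgroup G)
  unfold Subgroup.relIndex
  rw [← hker, Subgroup.index_ker]
  haveI : IsCyclic (P : Subgroup G) := isCyclic_of_prime_card hP
  have h1 : Nat.card (MulAut (P : Subgroup G)) = p - 1 := by
    rw [IsCyclic.card_mulAut, hP, Nat.totient_prime hp.out]
  rw [← h1]
  exact Subgroup.card_subgroup_dvd_card _

/-- in a simple group, a nontrivial Sylow subgroup central in its normalizer is the whole group -/
theorem sylow_eq_top_of_normalizer_le_centralizer [Finite G] [IsSimpleGroup G] {p : ℕ}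
    [Fact p.Prime] (P : Sylow p G)
    (h : Subgroup.normalizer ((P : Subgroup G) : Set G) ≤
      Subgroup.centralizer ((P : Subgroup G) : Set G))
    (hP : (P : Subgroup G) ≠ ⊥) : (P : Subgroup G) = ⊤ := by
  have hc := MonoidHom.ker_transferSylow_isComplement' P h
  rcases Subgroup.Normal.eq_bot_or_eq_top
    (inferInstance : (MonoidHom.transferSylow P h).ker.Normal) with h0 | h0
  · rw [h0] at hc
    exact Subgroup.isComplement'_bot_left.1 hc
  · rw [h0] at hc
    exact absurd (Subgroup.isComplement'_top_left.1 hc) hP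

/-- a Sylow subgroup of a simple group, proper and nontrivial, is not normal: its number of
conjugates is not one -/
theorem card_sylow_ne_one_of_simple [Finite G] [IsSimpleGroup G] {p : ℕ} [Fact p.Prime]
    (P : Sylow p G) (h1 : (P : Subgroup G) ≠ ⊥) (h2 : (P : Subgroup G) ≠ ⊤) :
    Nat.card (Sylow p G) ≠ 1 := by
  intro h
  rw [P.card_eq_index_normalizer, Subgroup.index_eq_one] at h
  have h' : Subgroup.normalizer ((P : Subgroup G) : Set G) = ⊤ := h
  rw [Subgroup.normalizer_eq_top_iff] at h'
  rcases Subgroup.Normal.eq_bot_or_eq_top h' with h0 | h0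
  · exact h1 h0
  · exact h2 h0

/-- the order of the normalizer of a Sylow subgroup -/
theorem card_normalizer_mul_card_sylow [Finite G] {p : ℕ} [Fact p.Prime] (P : Sylow p G) :
    Nat.card (Subgroup.normalizer ((P : Subgroup G) : Set G)) * Nat.card (Sylow p G) =
      Nat.card G := by
  rw [P.card_eq_index_normalizer]
  exact Subgroup.card_mul_index _

theorem subgroup_ne_bot_of_card [Finite G] (H : Subgroup G) (h : Nat.card H ≠ 1) : H ≠ ⊥ := by
  rintro rfl
  exact h Subgroup.card_bot

theorem subgroup_ne_top_of_card [Finite G] (H : Subgroup G) (h : Nat.card H ≠ Nat.card G) :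
    H ≠ ⊤ := by
  rintro rfl
  exact h Subgroup.card_top

end Cfsg.Agent.Lib.Helper1
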