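import Mathlib

set_option autoImplicit false

namespace Cfsg.Agent.Lib.Helper1

/-- a simple group of order greater than 2 acts by even permutations -/
theorem sign_toPerm_eq_one_of_simple {G : Type*} [Group G] [Finite G] [IsSimpleGroup G]
    (hG : 2 < Nat.card G) {X : Type*} [Fintype X] [DecidableEq X] [MulAction G X] (g : G) :
    Equiv.Perm.sign (MulAction.toPerm g : Equiv.Perm X) = 1 := by
  set φ : G →* ℤˣ := Equiv.Perm.sign.comp (MulAction.toPermHom G X) with hφ
  rcases Subgroup.Normal.eq_bot_or_eq_top (inferInstance : φ.ker.Normal) with h0 | h0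
  · exfalso
    have hinj : Function.Injective φ := (MonoidHom.ker_eq_bot_iff φ).1 h0
    have := Nat.card_le_card_of_injective φ hinj
    have h2 : Nat.card ℤˣ = 2 := by
      rw [Nat.card_eq_fintype_card]
      rfl
    omega
  · have : g ∈ φ.ker := by
      rw [h0]
      exact Subgroup.mem_top g
    exact this

/-- orbit counting for a group of prime order all of whose nonidentity elements have exactly
one fixed point -/
theorem card_orbits_mul_of_unique_fixed {P : Type*} [Group P] [Finite P] {X : Type*} [Finite X]
    [Nonempty X] [MulAction P X] (h1 : ∀ g : P, g ≠ 1 → Nat.card (MulAction.fixedBy X g) = 1) :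
    Nat.card (MulAction.orbitRel.Quotient P X) * Nat.card P = Nat.card X + (Nat.card P - 1) := by
  classical
  haveI := Fintype.ofFinite P
  haveI := Fintype.ofFinite X
  haveI : Fintype (MulAction.orbitRel.Quotient P X) := Fintype.ofFinite _
  have hB := MulAction.sum_card_fixedBy_eq_card_orbits_mul_card_group P X
  rw [Nat.card_eq_fintype_card, Nat.card_eq_fintype_card, Nat.card_eq_fintype_card]
  have hB' : Fintype.card (MulAction.orbitRel.Quotient P X) * Fintype.card P =
      ∑ g : P, Fintype.card (MulAction.fixedBy X g) := hB.symm
  rw [hB']
  have hf : ∀ g : P, Fintype.card (MulAction.fixedBy X g) =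
      1 + (if g = 1 then (Fintype.card X - 1) else 0) := by
    intro g
    by_cases hg : g = 1
    · subst hg
      rw [if_pos rfl]
      have : Fintype.card (MulAction.fixedBy X (1 : P)) = Fintype.card X := by
        apply Fintype.card_of_subtype Finset.univ
        intro x
        simp [MulAction.mem_fixedBy]
      rw [this]
      have : 0 < Fintype.card X := Fintype.card_pos
      omega
    · rw [if_neg hg, add_zero, ← Nat.card_eq_fintype_card]
      exact h1 g hg
  rw [Finset.sum_congr rfl (fun g _ => hf g), Finset.sum_add_distrib, Finset.sum_ite_eq']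
  simp only [Finset.sum_const, Finset.card_univ, smul_eq_mul, mul_one, Finset.mem_univ, if_true]
  have hP : 0 < Fintype.card P := Fintype.card_pos
  have hX : 0 < Fintype.card X := Fintype.card_pos
  omega

end Cfsg.Agent.Lib.Helper1
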