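import Mathlib
import Cfsg.Agent.Lib.Helper1.SylowConj

set_option autoImplicit false

namespace Cfsg.Agent.Lib.Helper1

section
variable {G : Type*} [Group G]

theorem exists_invol_of_even_card [Finite G] (K : Subgroup G) (h : Even (Nat.card K)) :
    ∃ t ∈ K, orderOf t = 2 := by
  haveI : Fact (Nat.Prime 2) := ⟨Nat.prime_two⟩
  obtain ⟨x, hx⟩ := exists_prime_orderOf_dvd_card' (G := K) 2 (even_iff_two_dvd.1 h)
  refine ⟨x.1, x.2, ?_⟩
  rw [Subgroup.orderOf_coe]
  exact hx

theorem not_odd_card_of_invol_mem [Finite G] {K : Subgroup G} {t : G} (ht : t ∈ K)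
    (h2 : orderOf t = 2) : ¬ Odd (Nat.card K) := by
  intro hodd
  have := Subgroup.orderOf_dvd_natCard K ht
  rw [h2] at this
  exact absurd (hodd.of_dvd_nat this) (by decide)

/-- in a subgroup of odd order there is no involution -/
theorem even_card_of_invol_mem [Finite G] {K : Subgroup G} {t : G} (ht : t ∈ K)
    (h2 : orderOf t = 2) : Even (Nat.card K) :=
  Nat.not_odd_iff_even.1 (not_odd_card_of_invol_mem ht h2)

theorem orderOf_conj (g t : G) : orderOf (g * t * g⁻¹) = orderOf t := by
  have : g * t * g⁻¹ = MulAut.conj g t := by simp [MulAut.conj_apply]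
  rw [this, MulEquiv.orderOf_eq]

end

end Cfsg.Agent.Lib.Helper1
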