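import Mathlib
import Cfsg.Agent.Lib.Helper1.SylowConj
import Cfsg.Agent.Lib.Helper1.Frob

set_option autoImplicit false

namespace Cfsg.Agent.Lib.Helper1

open scoped Pointwise

section
variable {G : Type*} [Group G]

/-- conjugating a normalizing element -/
theorem conj_mem_normalizer_conj_smul {Y : Subgroup G} {n a : G}
    (hn : n ∈ Subgroup.normalizer (Y : Set G)) :
    a * n * a⁻¹ ∈ Subgroup.normalizer ((MulAut.conj a • Y : Subgroup G) : Set G) := by
  rw [Subgroup.mem_normalizer_iff]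
  intro z
  rw [mem_conj_smul_iff, mem_conj_smul_iff]
  have e : a⁻¹ * (a * n * a⁻¹ * z * (a * n * a⁻¹)⁻¹) * a = n * (a⁻¹ * z * a) * n⁻¹ := by group
  rw [e]
  exact Subgroup.mem_normalizer_iff.1 hn _

theorem conj_smul_le_of_mem {H Y : Subgroup G} {a : G} (ha : a ∈ H) (hY : Y ≤ H) :
    MulAut.conj a • Y ≤ H := by
  intro z hz
  rw [mem_conj_smul_iff] at hz
  have h1 := hY hz
  have : z = a * (a⁻¹ * z * a) * a⁻¹ := by group
  rw [this]
  exact H.mul_mem (H.mul_mem ha h1) (H.inv_mem ha)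

variable [Finite G] {p : ℕ} [Fact p.Prime]

/-- Sylow's theorem in a subgroup `H`, stated in `G`. -/
theorem exists_conj_le_sylow_of_subgroup (H : Subgroup G) (P : Sylow p H) (Y : Subgroup G)
    (hY : Y ≤ H) (hp : IsPGroup p Y) :
    ∃ h ∈ H, ∀ y ∈ Y, h⁻¹ * y * h ∈ (P : Subgroup H).map H.subtype := by
  have hY' : IsPGroup p (Y.subgroupOf H) := hp.comap_subtype
  obtain ⟨Q, hQ⟩ := hY'.exists_le_sylow
  obtain ⟨n, hn⟩ := MulAction.exists_smul_eq H P Q
  refine ⟨n, n.2, ?_⟩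
  intro y hy
  have h1 : (⟨y, hY hy⟩ : H) ∈ Y.subgroupOf H := by
    rw [Subgroup.mem_subgroupOf]; exact hy
  have h2 : (⟨y, hY hy⟩ : H) ∈ (n • P : Sylow p H) := by
    rw [hn]; exact hQ h1
  rw [mem_sylow_smul_iff] at h2
  exact ⟨n⁻¹ * (⟨y, hY hy⟩ : H) * n, h2, by simp⟩

/-- If `D` is a Sylow `p`-subgroup of `I` and `N_G(D) ≤ I`, then `D` is a maximal
`p`-subgroup of `G`. -/
theorem sylow_of_normalizer_le (I : Subgroup G) (D : Sylow p I)
    (hN : Subgroup.normalizer (((D : Subgroup I).map I.subtype : Subgroup G) : Set G) ≤ I)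
    (S : Subgroup G) (hS : IsPGroup p S) (hDS : (D : Subgroup I).map I.subtype ≤ S) :
    S = (D : Subgroup I).map I.subtype := by
  classical
  set DG : Subgroup G := (D : Subgroup I).map I.subtype with hDG
  by_contra hne
  have hlt : DG < S := lt_of_le_of_ne hDS (Ne.symm hne)
  haveI : Group.IsNilpotent S := hS.isNilpotent
  have hnc : NormalizerCondition S := Group.normalizerCondition_of_isNilpotent
  have hlt' : DG.subgroupOf S < ⊤ := by
    rw [lt_top_iff_ne_top, Ne, Subgroup.subgroupOf_eq_top]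
    exact fun h => hne (le_antisymm h hDS)
  have h2 := hnc _ hlt'
  rw [← Subgroup.subgroupOf_normalizer_eq hDS] at h2
  obtain ⟨y, hyN, hyD⟩ := SetLike.exists_of_lt h2
  rw [Subgroup.mem_subgroupOf] at hyN hyD
  have hyI : (y : G) ∈ I := hN hyN
  have hDI : DG ≤ I := by
    rintro _ ⟨d, -, rfl⟩
    exact d.2
  set T : Subgroup G := DG ⊔ Subgroup.zpowers (y : G) with hT
  have hTS : T ≤ S := sup_le hDS (by rw [Subgroup.zpowers_le]; exact y.2)
  have hTI : T ≤ I := sup_le hDI (by rw [Subgroup.zpowers_le]; exact hyI)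
  have hTp : IsPGroup p (T.subgroupOf I) := (hS.to_le hTS).comap_subtype
  have hDT : (D : Subgroup I) ≤ T.subgroupOf I := by
    intro d hd
    rw [Subgroup.mem_subgroupOf]
    exact (le_sup_left : DG ≤ T) ⟨d, hd, rfl⟩
  have hmax := D.is_maximal' hTp hDT
  have hyT : (⟨(y : G), hyI⟩ : I) ∈ T.subgroupOf I := by
    rw [Subgroup.mem_subgroupOf]
    exact (le_sup_right : Subgroup.zpowers (y : G) ≤ T) (Subgroup.mem_zpowers _)
  rw [hmax] at hyT
  exact hyD ⟨⟨(y : G), hyI⟩, hyT, rfl⟩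

end

end Cfsg.Agent.Lib.Helper1
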