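import Mathlib
import Cfsg.Agent.Lib.Helper1.SylowConj

set_option autoImplicit false

namespace Cfsg.Agent.Lib.Helper1

section
variable {G : Type*} [Group G]

/-- two commuting involutions generate a 2-group -/
theorem isPGroup_closure_pair {a c : G} (ha : a * a = 1) (hc : c * c = 1)
    (hcomm : a * c = c * a) : IsPGroup 2 (Subgroup.closure ({a, c} : Set G)) := by
  have hk : ∀ x ∈ ({a, c} : Set G), ∀ y ∈ ({a, c} : Set G), x * y = y * x := by
    rintro x (rfl | rfl) y (rfl | rfl)
    · rfl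
    · exact hcomm
    · exact hcomm.symm
    · rfl
  haveI := Subgroup.isMulCommutative_closure hk
  have hcm : ∀ x ∈ Subgroup.closure ({a, c} : Set G), ∀ y ∈ Subgroup.closure ({a, c} : Set G),
      x * y = y * x := by
    intro x hx y hy
    exact congrArg Subtype.val (mul_comm' (⟨x, hx⟩ : Subgroup.closure ({a, c} : Set G)) ⟨y, hy⟩)
  have hsq : ∀ g ∈ Subgroup.closure ({a, c} : Set G), g * g = 1 := by
    intro g hg
    induction hg using Subgroup.closure_induction with
    | mem x hx =>
      rcases hx with rfl | rfl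
      · exact ha
      · exact hc
    | one => exact one_mul 1
    | mul x y hx hy ihx ihy =>
      calc x * y * (x * y) = x * (y * x) * y := by group
        _ = x * (x * y) * y := by rw [hcm y hy x hx]
        _ = (x * x) * (y * y) := by group
        _ = 1 := by rw [ihx, ihy, one_mul]
    | inv x hx ihx =>
      have : x⁻¹ = x := inv_eq_of_mul_eq_one_left ihx
      rw [this]; exact ihx
  intro g
  refine ⟨1, ?_⟩
  apply Subtype.ext
  rw [pow_one, pow_two]
  exact hsq g.1 g.2

theorem exists_sylow_of_commuting_invol {a c : G} (ha : a * a = 1) (hc : c * c = 1)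
    (hcomm : a * c = c * a) : ∃ Q : Sylow 2 G, a ∈ Q ∧ c ∈ Q := by
  obtain ⟨Q, hQ⟩ := (isPGroup_closure_pair ha hc hcomm).exists_le_sylow
  exact ⟨Q, hQ (Subgroup.subset_closure (by simp)), hQ (Subgroup.subset_closure (by simp))⟩

/-- an element isolated in one Sylow subgroup is isolated in every Sylow subgroup containing it -/
theorem isolated_of_mem_sylow [Finite G] {p : ℕ} [Fact p.Prime] (P Q : Sylow p G) (u : G)
    (hiso : ∀ g : G, g * u * g⁻¹ ∈ P → g * u * g⁻¹ = u) (huQ : u ∈ Q) :
    ∀ g : G, g * u * g⁻¹ ∈ Q → g * u * g⁻¹ = u := by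
  obtain ⟨h, rfl⟩ := MulAction.exists_smul_eq G P Q
  rw [mem_sylow_smul_iff] at huQ
  have h1 : h⁻¹ * u * h = u := by
    have := hiso h⁻¹ (by rw [inv_inv]; exact huQ)
    rw [inv_inv] at this
    exact this
  intro g hg
  rw [mem_sylow_smul_iff] at hg
  have e : h⁻¹ * (g * u * g⁻¹) * h = (h⁻¹ * g) * u * (h⁻¹ * g)⁻¹ := by group
  rw [e] at hg
  have h2 := hiso _ hg
  have e2 : g * u * g⁻¹ = h * ((h⁻¹ * g) * u * (h⁻¹ * g)⁻¹) * h⁻¹ := by group
  rw [e2, h2]
  nth_rewrite 1 [← h1]
  group

end

end Cfsg.Agent.Lib.Helper1
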