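import Mathlib
import Cfsg.Prelude.Def_ClassicalGeometry
import Cfsg.Agent.Lib.Helper2.SympForm
import Cfsg.Agent.S0764

set_option autoImplicit false

namespace Cfsg.Agent.Lib.Helper1

open Matrix Cfsg Cfsg.Agent.Lib.Helper2

variable {F : Type*} [Field F] (m : ℕ)

/-- nondegeneracy of the symplectic form -/
theorem exists_sympForm_ne_zero (v : Fin m ⊕ Fin m → F) (hv : v ≠ 0) :
    ∃ z : Fin m ⊕ Fin m → F, sympForm m F v z ≠ 0 := by
  classical
  have : ∃ i, v i ≠ 0 := by
    by_contra h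
    push Not at h
    exact hv (funext h)
  obtain ⟨i, hi⟩ := this
  refine ⟨-(Matrix.J (Fin m) F *ᵥ Pi.single i 1), ?_⟩
  unfold sympForm
  rw [Matrix.mulVec_neg, J_mulVec_J_mulVec, neg_neg, dotProduct_single, mul_one]
  exact hi

/-- a transvection moving `v` to `w` when the form does not vanish on them -/
theorem exists_symp_move_of_ne (v w : Fin m ⊕ Fin m → F) (h : sympForm m F v w ≠ 0) :
    ∃ g : Matrix.symplecticGroup (Fin m) F,
      (g : Matrix (Fin m ⊕ Fin m) (Fin m ⊕ Fin m) F) *ᵥ v = w := by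
  refine ⟨⟨sympTransvection m (w - v) (sympForm m F v w)⁻¹, Cfsg.Agent.S0764.result m _ _⟩, ?_⟩
  show sympTransvection m (w - v) (sympForm m F v w)⁻¹ *ᵥ v = w
  rw [sympTransvection_mulVec, sympForm_sub_right, sympForm_self, sub_zero, inv_mul_cancel₀ h,
    one_smul]
  abel

theorem sympForm_ne_zero_swap {v w : Fin m ⊕ Fin m → F} (h : sympForm m F v w ≠ 0) :
    sympForm m F w v ≠ 0 := by
  rw [sympForm_swap]
  exact neg_ne_zero.2 h

/-- the symplectic group is transitive on nonzero vectors -/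
theorem symp_transitive (v w : Fin m ⊕ Fin m → F) (hv : v ≠ 0) (hw : w ≠ 0) :
    ∃ g : Matrix.symplecticGroup (Fin m) F,
      (g : Matrix (Fin m ⊕ Fin m) (Fin m ⊕ Fin m) F) *ᵥ v = w := by
  by_cases h : sympForm m F v w = 0
  · -- find an intermediate vector
    have hz : ∃ z, sympForm m F v z ≠ 0 ∧ sympForm m F z w ≠ 0 := by
      obtain ⟨z1, hz1⟩ := exists_sympForm_ne_zero m v hv
      obtain ⟨z2, hz2⟩ := exists_sympForm_ne_zero m w hw
      by_cases h1 : sympForm m F w z1 = 0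
      · by_cases h2 : sympForm m F v z2 = 0
        · refine ⟨z1 + z2, ?_, ?_⟩
          · rw [sympForm_add_right, h2, add_zero]
            exact hz1
          · apply sympForm_ne_zero_swap
            rw [sympForm_add_right, h1, zero_add]
            exact hz2
        · exact ⟨z2, h2, sympForm_ne_zero_swap m hz2⟩
      · exact ⟨z1, hz1, sympForm_ne_zero_swap m h1⟩
    obtain ⟨z, hz1, hz2⟩ := hz
    obtain ⟨g1, hg1⟩ := exists_symp_move_of_ne m v z hz1
    obtain ⟨g2, hg2⟩ := exists_symp_move_of_ne m z w hz2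
    refine ⟨g2 * g1, ?_⟩
    show ((g2 : Matrix (Fin m ⊕ Fin m) (Fin m ⊕ Fin m) F) *
      (g1 : Matrix (Fin m ⊕ Fin m) (Fin m ⊕ Fin m) F)) *ᵥ v = w
    rw [← Matrix.mulVec_mulVec, hg1, hg2]
  · exact exists_symp_move_of_ne m v w h

end Cfsg.Agent.Lib.Helper1
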