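import Mathlib
import Cfsg.Prelude.Def_SporadicCombinatorics

set_option autoImplicit false

namespace Cfsg.Agent.Lib.Helper1.TG

open Cfsg

/-- generator matrix of the length-12 ternary code, in systematic form -/
def Mat : Fin 6 → Fin 4 → Fin 3 → ZMod 3 :=
  ![![![1,0,0], ![0,0,1], ![0,0,1], ![1,1,2]],
    ![![0,1,0], ![0,0,1], ![0,2,2], ![2,0,2]],
    ![![0,0,1], ![0,0,1], ![0,1,0], ![2,1,1]],
    ![![0,0,0], ![1,0,2], ![0,2,1], ![2,1,0]],
    ![![0,0,0], ![0,1,2], ![0,1,2], ![0,1,2]],
    ![![0,0,0], ![0,0,0], ![1,1,1], ![2,2,2]]]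

/-- the codeword with coefficient vector `c`, computably -/
def genC (c : Fin 6 → ZMod 3) (p : ArrayPt) : ZMod 3 := ∑ k, c k * Mat k p.1 p.2

/-- first tetracode generator -/
def tv1 : Fin 4 → ZMod 3 := ![0, 1, 1, 1]
/-- second tetracode generator -/
def tv2 : Fin 4 → ZMod 3 := ![1, 0, 1, 2]

theorem mem_tetracode (t : Fin 4 → ZMod 3) :
    t ∈ tetracode ↔ ∃ a b : ZMod 3, a • tv1 + b • tv2 = t := by
  unfold tetracode
  exact Submodule.mem_span_pair

/-- decidable form of the defining conditions -/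
def IsTGW (x : ArrayPt → ZMod 3) : Prop :=
  ∃ s : ZMod 3, (∀ i : Fin 4, ∑ r : ZMod 3, x (i, r) = -s) ∧
    ∀ a b : ZMod 3, ∑ i : Fin 4, x (i, (a • tv1 + b • tv2) i) = s

instance : DecidablePred IsTGW := fun x => by unfold IsTGW; infer_instance

theorem isTGW_iff (x : ArrayPt → ZMod 3) : IsTernaryGolayWord x ↔ IsTGW x := by
  unfold IsTernaryGolayWord IsTGW
  constructor
  · rintro ⟨s, h1, h2⟩
    exact ⟨s, h1, fun a b => h2 _ ((mem_tetracode _).2 ⟨a, b, rfl⟩)⟩
  · rintro ⟨s, h1, h2⟩
    refine ⟨s, h1, fun t ht => ?_⟩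
    obtain ⟨a, b, rfl⟩ := (mem_tetracode t).1 ht
    exact h2 a b

theorem mem_code_iff (x : ArrayPt → ZMod 3) : x ∈ ternaryGolayCode ↔ IsTGW x :=
  isTGW_iff x

theorem genC_mem_aux : ∀ c : Fin 6 → ZMod 3, IsTGW (genC c) := by
  decide +kernel

theorem genC_mem (c : Fin 6 → ZMod 3) : genC c ∈ ternaryGolayCode :=
  (mem_code_iff _).2 (genC_mem_aux c)

/-- the information positions -/
def posI : Fin 6 → ArrayPt := ![(0, 0), (0, 1), (0, 2), (1, 0), (1, 1), (2, 0)]

/-- the check positions -/
def posJ : Fin 6 → ArrayPt := ![(1, 2), (2, 1), (2, 2), (3, 0), (3, 1), (3, 2)]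

theorem genC_posI : ∀ (c : Fin 6 → ZMod 3) (l : Fin 6), genC c (posI l) = c l := by
  decide +kernel

/-- the word vanishing at the information positions with prescribed check positions -/
def fill (z : Fin 6 → ZMod 3) : ArrayPt → ZMod 3 := fun p =>
  (![![0, 0, 0], ![0, 0, z 0], ![0, z 1, z 2], ![z 3, z 4, z 5]] : Fin 4 → Fin 3 → ZMod 3) p.1 p.2

theorem fill_zero_of_mem : ∀ z : Fin 6 → ZMod 3, IsTGW (fill z) → z = 0 := by
  decide +kernel

theorem eq_fill (y : ArrayPt → ZMod 3) (h : ∀ l, y (posI l) = 0) :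
    y = fill (fun j => y (posJ j)) := by
  funext p
  obtain ⟨i, r⟩ := p
  have h0 := h 0
  have h1 := h 1
  have h2 := h 2
  have h3 := h 3
  have h4 := h 4
  have h5 := h 5
  fin_cases i <;> fin_cases r <;> first | rfl | assumption

theorem genC_add (c c' : Fin 6 → ZMod 3) : genC (c + c') = genC c + genC c' := by
  funext p
  unfold genC
  rw [Pi.add_apply, ← Finset.sum_add_distrib]
  apply Finset.sum_congr rfl
  intro k _
  rw [Pi.add_apply, add_mul]

theorem genC_neg (c : Fin 6 → ZMod 3) : genC (-c) = -genC c := by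
  funext p
  unfold genC
  rw [Pi.neg_apply, ← Finset.sum_neg_distrib]
  apply Finset.sum_congr rfl
  intro k _
  rw [Pi.neg_apply, neg_mul]

theorem genC_zero : genC 0 = 0 := by
  funext p
  unfold genC
  simp

/-- every codeword is generated -/
theorem exists_genC {x : ArrayPt → ZMod 3} (hx : x ∈ ternaryGolayCode) :
    x = genC (fun l => x (posI l)) := by
  set c : Fin 6 → ZMod 3 := fun l => x (posI l) with hc
  have hy : x - genC c ∈ ternaryGolayCode := Submodule.sub_mem _ hx (genC_mem c)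
  have hI : ∀ l, (x - genC c) (posI l) = 0 := by
    intro l
    rw [Pi.sub_apply, genC_posI, hc, sub_self]
  have e := eq_fill _ hI
  have hz := fill_zero_of_mem _ ((mem_code_iff _).1 (e ▸ hy))
  rw [hz] at e
  have e0 : fill 0 = 0 := by
    funext p
    obtain ⟨i, r⟩ := p
    fin_cases i <;> fin_cases r <;> rfl
  rw [e0] at e
  exact sub_eq_zero.1 e

theorem genC_injective : Function.Injective genC := by
  intro c c' h
  funext l
  rw [← genC_posI c l, ← genC_posI c' l, h]

/-- the parametrisation of the code -/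
noncomputable def codeEquivT : (Fin 6 → ZMod 3) ≃ ternaryGolayCode :=
  Equiv.ofBijective (fun c => ⟨genC c, genC_mem c⟩) (by
    constructor
    · intro c c' h
      exact genC_injective (congrArg Subtype.val h)
    · rintro ⟨x, hx⟩
      exact ⟨fun l => x (posI l), Subtype.ext (exists_genC hx).symm⟩)

theorem card_code : Nat.card ternaryGolayCode = 729 := by
  rw [← Nat.card_congr codeEquivT, Nat.card_eq_fintype_card, Fintype.card_fun, ZMod.card,
    Fintype.card_fin]
  rfl

/-- weight of the codeword with coefficients `c` -/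
def wtC (c : Fin 6 → ZMod 3) : ℕ := (Finset.univ.filter (fun p : ArrayPt => genC c p ≠ 0)).card

theorem card_support_genC (c : Fin 6 → ZMod 3) : (ternarySupport (genC c)).card = wtC c := by
  unfold ternarySupport wtC
  congr 1

/-- counting codewords by a property of the coefficient vector -/
theorem ncard_code_pred (P : (ArrayPt → ZMod 3) → Prop) (R : (Fin 6 → ZMod 3) → Prop)
    [DecidablePred R] (h : ∀ c, P (genC c) ↔ R c) :
    {x : ArrayPt → ZMod 3 | x ∈ ternaryGolayCode ∧ P x}.ncard =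
      (Finset.univ.filter R).card := by
  have hset : {x : ArrayPt → ZMod 3 | x ∈ ternaryGolayCode ∧ P x} =
      genC '' ((Finset.univ.filter R : Finset (Fin 6 → ZMod 3)) : Set (Fin 6 → ZMod 3)) := by
    ext x
    constructor
    · rintro ⟨hx, hP⟩
      refine ⟨_, ?_, (exists_genC hx).symm⟩
      rw [Finset.mem_coe, Finset.mem_filter]
      refine ⟨Finset.mem_univ _, (h _).1 ?_⟩
      rw [← exists_genC hx]
      exact hP
    · rintro ⟨c, hc, rfl⟩
      rw [Finset.mem_coe, Finset.mem_filter] at hc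
      exact ⟨genC_mem c, (h c).2 hc.2⟩
  rw [hset, Set.ncard_image_of_injective _ genC_injective, Set.ncard_coe_finset]

end Cfsg.Agent.Lib.Helper1.TG
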