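import Mathlib
import Cfsg.Prelude.Def_SporadicCombinatorics
import Cfsg.Prelude.Def_Sporadic_a
import Cfsg.Agent.Lib.Helper1.TernaryGolay
import Cfsg.Agent.Lib.Helper1.M24Chain
import Cfsg.Agent.S1592
import Cfsg.Agent.S1593

set_option autoImplicit false

namespace Cfsg.Agent.Lib.Helper1.TG2

open Cfsg
open Cfsg.Agent.Lib.Helper1.TG
open scoped Pointwise

/-- the ordering of the twelve points, a hexad first -/

def apt : Fin 12 → ArrayPt := ![(2, 0), (2, 1), (2, 2), (3, 0), (3, 1), (3, 2), (0, 0), (0, 1), (0, 2), (1, 0), (1, 1), (1, 2)]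

/-- the index of a point in the ordering -/

def aidx (p : ArrayPt) : Fin 12 := (![![6, 7, 8], ![9, 10, 11], ![0, 1, 2], ![3, 4, 5]] : Fin 4 → Fin 3 → Fin 12) p.1 p.2

/-- the bit masks of the 132 hexads -/

def hexMasks : List ℕ := [
  63, 222, 235, 245, 349, 366, 371, 411, 429, 438, 455, 504, 591, 630, 633, 669, 679, 698, 723, 748, 791, 811,
  828, 858, 869, 910, 945, 969, 980, 994, 1111, 1133, 1146, 1167, 1203, 1212, 1241, 1254, 1310, 1319, 1337, 1355, 1396, 1429,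
  1450, 1484, 1490, 1505, 1563, 1582, 1589, 1628, 1635, 1686, 1705, 1733, 1738, 1776, 1805, 1842, 1862, 1873, 1896, 1923, 1944, 1956,
  2139, 2151, 2172, 2199, 2222, 2233, 2253, 2290, 2319, 2357, 2362, 2390, 2409, 2460, 2467, 2506, 2513, 2532, 2590, 2605, 2611, 2645,
  2666, 2699, 2740, 2758, 2776, 2785, 2841, 2854, 2883, 2892, 2928, 2949, 2962, 2984, 3101, 3115, 3126, 3150, 3185, 3226, 3237, 3267,
  3284, 3304, 3347, 3372, 3397, 3416, 3426, 3462, 3465, 3504, 3591, 3640, 3657, 3666, 3684, 3724, 3729, 3746, 3850, 3860, 3873, 4032]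

/-- the 45 hexads meeting the first hexad in four points, with coefficient vectors -/

def h4L : List (List (Fin 12) × (Fin 6 → ZMod 3)) := [
  ([1, 2, 4, 5, 10, 11], ![0, 0, 0, 0, 1, 0]),
  ([0, 1, 3, 5, 10, 11], ![0, 0, 0, 0, 1, 1]),
  ([0, 2, 3, 4, 10, 11], ![0, 0, 0, 0, 1, 2]),
  ([1, 2, 3, 4, 9, 11], ![0, 0, 0, 1, 0, 0]),
  ([0, 2, 3, 5, 9, 11], ![0, 0, 0, 1, 0, 1]),
  ([0, 1, 4, 5, 9, 11], ![0, 0, 0, 1, 0, 2]),
  ([1, 2, 3, 5, 9, 10], ![0, 0, 0, 1, 2, 0]),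
  ([0, 1, 3, 4, 9, 10], ![0, 0, 0, 1, 2, 1]),
  ([0, 2, 4, 5, 9, 10], ![0, 0, 0, 1, 2, 2]),
  ([1, 3, 4, 5, 8, 11], ![0, 0, 1, 0, 0, 0]),
  ([0, 1, 2, 3, 8, 11], ![0, 0, 1, 0, 0, 1]),
  ([0, 2, 4, 5, 8, 11], ![0, 0, 1, 0, 0, 2]),
  ([1, 2, 3, 4, 8, 10], ![0, 0, 1, 0, 1, 0]),
  ([0, 3, 4, 5, 8, 10], ![0, 0, 1, 0, 1, 1]),
  ([0, 1, 2, 5, 8, 10], ![0, 0, 1, 0, 1, 2]),
  ([2, 3, 4, 5, 8, 9], ![0, 0, 1, 1, 0, 0]),
  ([0, 1, 2, 4, 8, 9], ![0, 0, 1, 1, 0, 1]),
  ([0, 1, 3, 5, 8, 9], ![0, 0, 1, 1, 0, 2]),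
  ([1, 2, 3, 5, 7, 11], ![0, 1, 0, 0, 0, 0]),
  ([0, 3, 4, 5, 7, 11], ![0, 1, 0, 0, 0, 1]),
  ([0, 1, 2, 4, 7, 11], ![0, 1, 0, 0, 0, 2]),
  ([2, 3, 4, 5, 7, 10], ![0, 1, 0, 0, 1, 0]),
  ([0, 1, 2, 3, 7, 10], ![0, 1, 0, 0, 1, 1]),
  ([0, 1, 4, 5, 7, 10], ![0, 1, 0, 0, 1, 2]),
  ([1, 3, 4, 5, 7, 9], ![0, 1, 0, 1, 0, 0]),
  ([0, 1, 2, 5, 7, 9], ![0, 1, 0, 1, 0, 1]),
  ([0, 2, 3, 4, 7, 9], ![0, 1, 0, 1, 0, 2]),
  ([1, 2, 4, 5, 7, 8], ![0, 1, 2, 0, 0, 0]),
  ([0, 1, 3, 4, 7, 8], ![0, 1, 2, 0, 0, 1]),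
  ([0, 2, 3, 5, 7, 8], ![0, 1, 2, 0, 0, 2]),
  ([2, 3, 4, 5, 6, 11], ![1, 0, 0, 0, 0, 0]),
  ([0, 1, 2, 5, 6, 11], ![1, 0, 0, 0, 0, 1]),
  ([0, 1, 3, 4, 6, 11], ![1, 0, 0, 0, 0, 2]),
  ([1, 3, 4, 5, 6, 10], ![1, 0, 0, 0, 1, 0]),
  ([0, 1, 2, 4, 6, 10], ![1, 0, 0, 0, 1, 1]),
  ([0, 2, 3, 5, 6, 10], ![1, 0, 0, 0, 1, 2]),
  ([1, 2, 4, 5, 6, 9], ![1, 0, 0, 1, 0, 0]),
  ([0, 3, 4, 5, 6, 9], ![1, 0, 0, 1, 0, 1]),
  ([0, 1, 2, 3, 6, 9], ![1, 0, 0, 1, 0, 2]),
  ([1, 2, 3, 5, 6, 8], ![1, 0, 2, 0, 0, 0]),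
  ([0, 2, 3, 4, 6, 8], ![1, 0, 2, 0, 0, 1]),
  ([0, 1, 4, 5, 6, 8], ![1, 0, 2, 0, 0, 2]),
  ([1, 2, 3, 4, 6, 7], ![1, 2, 0, 0, 0, 0]),
  ([0, 1, 3, 5, 6, 7], ![1, 2, 0, 0, 0, 1]),
  ([0, 2, 4, 5, 6, 7], ![1, 2, 0, 0, 0, 2])]

/-- forward tables of the 50 elements -/

def tabF : Fin 50 → Fin 12 → Fin 12 := ![
  ![0, 1, 2, 3, 4, 5, 6, 7, 8, 9, 10, 11],
  ![1, 0, 2, 3, 4, 5, 11, 10, 9, 8, 7, 6],
  ![2, 0, 1, 3, 4, 5, 7, 8, 6, 10, 11, 9],
  ![3, 0, 1, 2, 4, 5, 10, 6, 8, 7, 9, 11],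
  ![4, 0, 1, 2, 3, 5, 8, 11, 10, 9, 7, 6],
  ![5, 0, 1, 2, 3, 4, 11, 8, 7, 6, 10, 9],
  ![6, 0, 1, 2, 3, 9, 10, 7, 11, 4, 8, 5],
  ![7, 0, 1, 2, 3, 10, 6, 9, 4, 8, 5, 11],
  ![8, 0, 1, 2, 3, 11, 5, 4, 6, 10, 9, 7],
  ![9, 0, 1, 2, 3, 6, 7, 10, 8, 5, 11, 4],
  ![10, 0, 1, 2, 3, 7, 9, 6, 5, 11, 4, 8],
  ![11, 0, 1, 2, 3, 8, 4, 5, 9, 7, 6, 10],
  ![0, 1, 2, 3, 4, 5, 6, 7, 8, 9, 10, 11],
  ![0, 2, 1, 3, 4, 5, 9, 11, 10, 6, 8, 7],
  ![0, 3, 1, 2, 4, 5, 11, 9, 7, 8, 6, 10],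
  ![0, 4, 1, 2, 3, 5, 6, 7, 9, 10, 11, 8],
  ![0, 5, 1, 2, 3, 4, 9, 10, 6, 7, 8, 11],
  ![0, 6, 1, 2, 3, 9, 5, 8, 4, 11, 7, 10],
  ![0, 7, 1, 2, 3, 10, 11, 5, 8, 4, 9, 6],
  ![0, 8, 1, 2, 3, 11, 7, 9, 10, 6, 4, 5],
  ![0, 9, 1, 2, 3, 6, 4, 11, 5, 8, 10, 7],
  ![0, 10, 1, 2, 3, 7, 8, 4, 11, 5, 6, 9],
  ![0, 11, 1, 2, 3, 8, 10, 6, 7, 9, 5, 4],
  ![0, 1, 2, 3, 4, 5, 6, 7, 8, 9, 10, 11],
  ![0, 1, 3, 2, 4, 5, 8, 10, 6, 11, 7, 9],
  ![0, 1, 4, 2, 3, 5, 10, 8, 11, 6, 9, 7],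
  ![0, 1, 5, 2, 3, 4, 7, 11, 8, 9, 6, 10],
  ![0, 1, 6, 2, 3, 9, 11, 10, 7, 5, 4, 8],
  ![0, 1, 7, 2, 3, 10, 4, 6, 9, 11, 8, 5],
  ![0, 1, 8, 2, 3, 11, 6, 5, 4, 7, 10, 9],
  ![0, 1, 9, 2, 3, 6, 8, 7, 10, 4, 5, 11],
  ![0, 1, 10, 2, 3, 7, 5, 9, 6, 8, 11, 4],
  ![0, 1, 11, 2, 3, 8, 9, 4, 5, 10, 7, 6],
  ![0, 1, 2, 3, 4, 5, 6, 7, 8, 9, 10, 11],
  ![0, 1, 2, 4, 3, 5, 11, 9, 10, 7, 8, 6],
  ![0, 1, 2, 5, 3, 4, 8, 6, 7, 10, 11, 9],
  ![0, 1, 2, 6, 3, 9, 7, 4, 11, 8, 10, 5],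
  ![0, 1, 2, 7, 3, 10, 9, 8, 4, 5, 6, 11],
  ![0, 1, 2, 8, 3, 11, 4, 10, 6, 9, 5, 7],
  ![0, 1, 2, 9, 3, 6, 10, 5, 8, 11, 7, 4],
  ![0, 1, 2, 10, 3, 7, 6, 11, 5, 4, 9, 8],
  ![0, 1, 2, 11, 3, 8, 5, 7, 9, 6, 4, 10],
  ![0, 1, 2, 3, 4, 5, 6, 7, 8, 9, 10, 11],
  ![0, 1, 2, 3, 5, 4, 9, 10, 11, 6, 7, 8],
  ![0, 1, 2, 3, 6, 9, 5, 8, 10, 4, 11, 7],
  ![0, 1, 2, 3, 7, 10, 11, 5, 6, 8, 4, 9],
  ![0, 1, 2, 3, 8, 11, 7, 9, 5, 10, 6, 4],
  ![0, 1, 2, 3, 9, 6, 4, 11, 7, 5, 8, 10],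
  ![0, 1, 2, 3, 10, 7, 8, 4, 9, 11, 5, 6],
  ![0, 1, 2, 3, 11, 8, 10, 6, 4, 7, 9, 5]]

/-- backward tables of the 50 elements -/

def tabB : Fin 50 → Fin 12 → Fin 12 := ![
  ![0, 1, 2, 3, 4, 5, 6, 7, 8, 9, 10, 11],
  ![1, 0, 2, 3, 4, 5, 11, 10, 9, 8, 7, 6],
  ![1, 2, 0, 3, 4, 5, 8, 6, 7, 11, 9, 10],
  ![1, 2, 3, 0, 4, 5, 7, 9, 8, 10, 6, 11],
  ![1, 2, 3, 4, 0, 5, 11, 10, 6, 9, 8, 7],
  ![1, 2, 3, 4, 5, 0, 9, 8, 7, 11, 10, 6],
  ![1, 2, 3, 4, 9, 11, 0, 7, 10, 5, 6, 8],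
  ![1, 2, 3, 4, 8, 10, 6, 0, 9, 7, 5, 11],
  ![1, 2, 3, 4, 7, 6, 8, 11, 0, 10, 9, 5],
  ![1, 2, 3, 4, 11, 9, 5, 6, 8, 0, 7, 10],
  ![1, 2, 3, 4, 10, 8, 7, 5, 11, 6, 0, 9],
  ![1, 2, 3, 4, 6, 7, 10, 9, 5, 8, 11, 0],
  ![0, 1, 2, 3, 4, 5, 6, 7, 8, 9, 10, 11],
  ![0, 2, 1, 3, 4, 5, 9, 11, 10, 6, 8, 7],
  ![0, 2, 3, 1, 4, 5, 10, 8, 9, 7, 11, 6],
  ![0, 2, 3, 4, 1, 5, 6, 7, 11, 8, 9, 10],
  ![0, 2, 3, 4, 5, 1, 8, 9, 10, 6, 7, 11],
  ![0, 2, 3, 4, 8, 6, 1, 10, 7, 5, 11, 9],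
  ![0, 2, 3, 4, 9, 7, 11, 1, 8, 10, 5, 6],
  ![0, 2, 3, 4, 10, 11, 9, 6, 1, 7, 8, 5],
  ![0, 2, 3, 4, 6, 8, 5, 11, 9, 1, 10, 7],
  ![0, 2, 3, 4, 7, 9, 10, 5, 6, 11, 1, 8],
  ![0, 2, 3, 4, 11, 10, 7, 8, 5, 9, 6, 1],
  ![0, 1, 2, 3, 4, 5, 6, 7, 8, 9, 10, 11],
  ![0, 1, 3, 2, 4, 5, 8, 10, 6, 11, 7, 9],
  ![0, 1, 3, 4, 2, 5, 9, 11, 7, 10, 6, 8],
  ![0, 1, 3, 4, 5, 2, 10, 6, 8, 9, 11, 7],
  ![0, 1, 3, 4, 10, 9, 2, 8, 11, 5, 7, 6],
  ![0, 1, 3, 4, 6, 11, 7, 2, 10, 8, 5, 9],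
  ![0, 1, 3, 4, 8, 7, 6, 9, 2, 11, 10, 5],
  ![0, 1, 3, 4, 9, 10, 5, 7, 6, 2, 8, 11],
  ![0, 1, 3, 4, 11, 6, 8, 5, 9, 7, 2, 10],
  ![0, 1, 3, 4, 7, 8, 11, 10, 5, 6, 9, 2],
  ![0, 1, 2, 3, 4, 5, 6, 7, 8, 9, 10, 11],
  ![0, 1, 2, 4, 3, 5, 11, 9, 10, 7, 8, 6],
  ![0, 1, 2, 4, 5, 3, 7, 8, 6, 11, 9, 10],
  ![0, 1, 2, 4, 7, 11, 3, 6, 9, 5, 10, 8],
  ![0, 1, 2, 4, 8, 9, 10, 3, 7, 6, 5, 11],
  ![0, 1, 2, 4, 6, 10, 8, 11, 3, 9, 7, 5],
  ![0, 1, 2, 4, 11, 7, 5, 10, 8, 3, 6, 9],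
  ![0, 1, 2, 4, 9, 8, 6, 5, 11, 10, 3, 7],
  ![0, 1, 2, 4, 10, 6, 9, 7, 5, 8, 11, 3],
  ![0, 1, 2, 3, 4, 5, 6, 7, 8, 9, 10, 11],
  ![0, 1, 2, 3, 5, 4, 9, 10, 11, 6, 7, 8],
  ![0, 1, 2, 3, 9, 6, 4, 11, 7, 5, 8, 10],
  ![0, 1, 2, 3, 10, 7, 8, 4, 9, 11, 5, 6],
  ![0, 1, 2, 3, 11, 8, 10, 6, 4, 7, 9, 5],
  ![0, 1, 2, 3, 6, 9, 5, 8, 10, 4, 11, 7],
  ![0, 1, 2, 3, 7, 10, 11, 5, 6, 8, 4, 9],
  ![0, 1, 2, 3, 8, 11, 7, 9, 5, 10, 6, 4]]

/-- sign tables of the 50 elements -/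

def tabS : Fin 50 → Fin 12 → Bool := ![
  ![false, false, false, false, false, false, false, false, false, false, false, false],
  ![false, false, false, false, false, false, false, false, false, false, false, false],
  ![false, false, false, false, false, false, false, false, false, false, false, false],
  ![true, true, false, false, true, true, false, true, false, false, true, false],
  ![true, true, false, true, false, true, false, false, true, true, false, false],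
  ![false, false, true, false, false, true, false, true, true, true, true, false],
  ![true, false, true, true, true, false, false, false, false, true, true, false],
  ![false, false, false, true, false, false, true, false, true, false, true, false],
  ![true, false, false, false, true, false, true, true, true, true, false, false],
  ![true, false, true, true, false, true, true, true, false, false, false, false],
  ![true, true, true, false, true, true, true, false, true, false, true, false],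
  ![false, true, true, true, true, false, false, true, true, false, false, false],
  ![false, false, false, false, false, false, false, false, false, false, false, false],
  ![false, false, false, false, false, false, false, false, false, false, false, false],
  ![true, true, false, false, true, true, false, true, false, false, true, false],
  ![true, true, false, true, false, true, false, false, true, true, false, false],
  ![false, false, true, false, false, true, false, true, true, true, true, false],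
  ![true, false, true, true, true, false, false, false, false, true, true, false],
  ![false, false, false, true, false, false, true, false, true, false, true, false],
  ![true, false, false, false, true, false, true, true, true, true, false, false],
  ![true, false, true, true, false, true, true, true, false, false, false, false],
  ![true, true, true, false, true, true, true, false, true, false, true, false],
  ![false, true, true, true, true, false, false, true, true, false, false, false],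
  ![false, false, false, false, false, false, false, false, false, false, false, false],
  ![true, true, false, false, true, true, false, true, false, false, true, false],
  ![true, true, false, true, false, true, false, false, true, true, false, false],
  ![false, false, true, false, false, true, false, true, true, true, true, false],
  ![true, false, true, true, true, false, false, false, false, true, true, false],
  ![false, false, false, true, false, false, true, false, true, false, true, false],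
  ![true, false, false, false, true, false, true, true, true, true, false, false],
  ![true, false, true, true, false, true, true, true, false, false, false, false],
  ![true, true, true, false, true, true, true, false, true, false, true, false],
  ![false, true, true, true, true, false, false, true, true, false, false, false],
  ![false, false, false, false, false, false, false, false, false, false, false, false],
  ![false, false, false, false, false, false, false, false, false, false, false, false],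
  ![false, false, false, false, false, false, false, false, false, false, false, false],
  ![false, true, true, false, false, false, false, false, false, false, false, false],
  ![true, true, false, false, false, false, false, false, false, false, false, false],
  ![true, false, true, false, false, false, false, false, false, false, false, false],
  ![false, true, true, false, false, false, false, false, false, false, false, false],
  ![true, true, false, false, false, false, false, false, false, false, false, false],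
  ![true, false, true, false, false, false, false, false, false, false, false, false],
  ![false, false, false, false, false, false, false, false, false, false, false, false],
  ![false, false, false, false, false, false, false, false, false, false, false, false],
  ![false, true, true, false, false, false, false, false, false, false, false, false],
  ![true, true, false, false, false, false, false, false, false, false, false, false],
  ![true, false, true, false, false, false, false, false, false, false, false, false],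
  ![false, true, true, false, false, false, false, false, false, false, false, false],
  ![true, true, false, false, false, false, false, false, false, false, false, false],
  ![true, false, true, false, false, false, false, false, false, false, false, false]]

theorem apt_aidx : ∀ p : ArrayPt, apt (aidx p) = p := by decide

theorem aidx_apt : ∀ i : Fin 12, aidx (apt i) = i := by decide

theorem apt_injective : Function.Injective apt := by
  intro i j h
  rw [← aidx_apt i, ← aidx_apt j, h]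

/-- the monomial map given by `σ` and `c` keeps the code -/
def valid (σ : Equiv.Perm ArrayPt) (c : ArrayPt → (ZMod 3)ˣ) : Prop :=
  ∀ x ∈ ternaryGolayCode, monomialMap σ c x ∈ ternaryGolayCode

/-- the monomial map as a linear map -/
def monoLin (σ : Equiv.Perm ArrayPt) (c : ArrayPt → (ZMod 3)ˣ) :
    (ArrayPt → ZMod 3) →ₗ[ZMod 3] (ArrayPt → ZMod 3) where
  toFun := monomialMap σ c
  map_add' x y := by
    funext i
    simp only [monomialMap, Pi.add_apply, mul_add]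
  map_smul' a x := by
    funext i
    simp only [monomialMap, Pi.smul_apply, smul_eq_mul, RingHom.id_apply]
    ring

theorem valid_one : valid 1 (fun _ => 1) := by
  intro x hx
  have e : monomialMap (1 : Equiv.Perm ArrayPt) (fun _ => (1 : (ZMod 3)ˣ)) x = x := by
    funext i
    show ((1 : (ZMod 3)ˣ) : ZMod 3) * x i = x i
    rw [Units.val_one, one_mul]
  rw [e]
  exact hx

theorem valid_mul (σ₁ σ₂ : Equiv.Perm ArrayPt) (c₁ c₂ : ArrayPt → (ZMod 3)ˣ)
    (h1 : valid σ₁ c₁) (h2 : valid σ₂ c₂) :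
    valid (σ₁ * σ₂) (fun i => c₁ i * c₂ (σ₁.symm i)) := by
  intro x hx
  have e : monomialMap (σ₁ * σ₂) (fun i => c₁ i * c₂ (σ₁.symm i)) x =
      monomialMap σ₁ c₁ (monomialMap σ₂ c₂ x) := by
    funext i
    show ((c₁ i * c₂ (σ₁.symm i) : (ZMod 3)ˣ) : ZMod 3) * x (σ₂.symm (σ₁.symm i)) =
      (c₁ i : ZMod 3) * ((c₂ (σ₁.symm i) : ZMod 3) * x (σ₂.symm (σ₁.symm i)))
    rw [Units.val_mul, mul_assoc]
  rw [e]
  exact h1 _ (h2 _ hx)

theorem valid_inv (σ : Equiv.Perm ArrayPt) (c : ArrayPt → (ZMod 3)ˣ)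
    (h : valid σ c) : valid σ⁻¹ (fun i => (c (σ i))⁻¹) := by
  have hgf : ∀ x : ArrayPt → ZMod 3,
      monomialMap σ⁻¹ (fun i => (c (σ i))⁻¹) (monomialMap σ c x) = x := by
    intro x
    funext i
    show (((c (σ i))⁻¹ : (ZMod 3)ˣ) : ZMod 3) * ((c (σ i) : ZMod 3) * x (σ.symm (σ i))) = x i
    rw [Equiv.symm_apply_apply, ← mul_assoc, Units.inv_mul, one_mul]
  let f : ↥ternaryGolayCode → ↥ternaryGolayCode :=
    fun x => ⟨monomialMap σ c x.1, h x.1 x.2⟩
  have hinj : Function.Injective f := by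
    intro x y hxy
    have h1 : monomialMap σ c x.1 = monomialMap σ c y.1 := congrArg Subtype.val hxy
    apply Subtype.ext
    rw [← hgf x.1, ← hgf y.1, h1]
  have hsurj : Function.Surjective f := Finite.injective_iff_surjective.1 hinj
  intro y hy
  obtain ⟨x, hx⟩ := hsurj ⟨y, hy⟩
  have h1 : monomialMap σ c x.1 = y := congrArg Subtype.val hx
  rw [← h1, hgf]
  exact x.2

theorem valid_smul (σ : Equiv.Perm ArrayPt) (c : ArrayPt → (ZMod 3)ˣ) (s : (ZMod 3)ˣ)
    (h : valid σ c) : valid σ (fun i => s * c i) := by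
  intro x hx
  have e : monomialMap σ (fun i => s * c i) x = (s : ZMod 3) • monomialMap σ c x := by
    funext i
    show ((s * c i : (ZMod 3)ˣ) : ZMod 3) * x (σ.symm i) =
      (s : ZMod 3) * ((c i : ZMod 3) * x (σ.symm i))
    rw [Units.val_mul, mul_assoc]
  rw [e]
  exact Submodule.smul_mem _ _ (h x hx)

/-- two sign parts going with the same permutation differ by a scalar -/
theorem fiber (σ : Equiv.Perm ArrayPt) (c₀ c : ArrayPt → (ZMod 3)ˣ) (h0 : valid σ c₀)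
    (h : valid σ c) : ∃ s : (ZMod 3)ˣ, ∀ i, c i = s * c₀ i := by
  have hv : valid 1 (fun i => c i * (c₀ i)⁻¹) := by
    intro x hx
    have e : monomialMap (1 : Equiv.Perm ArrayPt) (fun i => c i * (c₀ i)⁻¹) x =
        monomialMap σ c (monomialMap σ⁻¹ (fun i => (c₀ (σ i))⁻¹) x) := by
      funext i
      show ((c i * (c₀ i)⁻¹ : (ZMod 3)ˣ) : ZMod 3) * x i =
        (c i : ZMod 3) * ((((c₀ (σ (σ.symm i)))⁻¹ : (ZMod 3)ˣ) : ZMod 3) * x (σ (σ.symm i)))
      rw [Equiv.apply_symm_apply, Units.val_mul, mul_assoc]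
    rw [e]
    exact h _ (valid_inv σ c₀ h0 _ hx)
  rcases Cfsg.Agent.S1593.result _ hv with hs | hs
  · refine ⟨1, fun i => ?_⟩
    have := hs i
    rw [one_mul]
    exact mul_inv_eq_one.1 this
  · refine ⟨-1, fun i => ?_⟩
    have := hs i
    rw [← this, inv_mul_cancel_right]

theorem genC_eq_sum (c : Fin 6 → ZMod 3) :
    genC c = ∑ k, c k • genC (Pi.single k 1) := by
  funext p
  rw [Finset.sum_apply]
  unfold genC
  apply Finset.sum_congr rfl
  intro k _
  rw [Pi.smul_apply, smul_eq_mul]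
  congr 1
  have := Cfsg.Agent.S1593.genC_single k p
  unfold genC at this
  exact this.symm

theorem valid_of_rows (σ : Equiv.Perm ArrayPt) (c : ArrayPt → (ZMod 3)ˣ)
    (h : ∀ k : Fin 6, monomialMap σ c (genC (Pi.single k 1)) ∈ ternaryGolayCode) : valid σ c := by
  intro x hx
  rw [exists_genC hx, genC_eq_sum]
  show monoLin σ c _ ∈ ternaryGolayCode
  rw [map_sum]
  apply Submodule.sum_mem
  intro k _
  rw [map_smul]
  exact Submodule.smul_mem _ _ (h k)

/-- the permutation of the points given by the `n`th pair of tables -/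
def ePerm (n : Fin 50) : Equiv.Perm ArrayPt where
  toFun p := apt (tabF n (aidx p))
  invFun p := apt (tabB n (aidx p))
  left_inv := by
    have h : ∀ (n : Fin 50) (i : Fin 12), tabB n (tabF n i) = i := by decide +kernel
    intro p
    show apt (tabB n (aidx (apt (tabF n (aidx p))))) = p
    rw [aidx_apt, h, apt_aidx]
  right_inv := by
    have h : ∀ (n : Fin 50) (i : Fin 12), tabF n (tabB n i) = i := by decide +kernel
    intro p
    show apt (tabF n (aidx (apt (tabB n (aidx p))))) = p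
    rw [aidx_apt, h, apt_aidx]

/-- the signs of the `n`th element -/
def eSgn (n : Fin 50) (p : ArrayPt) : (ZMod 3)ˣ := if tabS n (aidx p) then -1 else 1

theorem e_valid_aux : ∀ (n : Fin 50) (k : Fin 6),
    IsTGW (fun p => Cfsg.Agent.S1593.sgn (tabS n (aidx p)) *
      Mat k (apt (tabB n (aidx p))).1 (apt (tabB n (aidx p))).2) := by
  decide +kernel

theorem e_valid (n : Fin 50) : valid (ePerm n) (eSgn n) := by
  apply valid_of_rows
  intro k
  rw [mem_code_iff]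
  have e : monomialMap (ePerm n) (eSgn n) (genC (Pi.single k 1)) =
      fun p => Cfsg.Agent.S1593.sgn (tabS n (aidx p)) *
        Mat k (apt (tabB n (aidx p))).1 (apt (tabB n (aidx p))).2 := by
    funext p
    show ((eSgn n p : (ZMod 3)ˣ) : ZMod 3) * genC (Pi.single k 1) (apt (tabB n (aidx p))) = _
    rw [Cfsg.Agent.S1593.genC_single]
    congr 1
    unfold eSgn Cfsg.Agent.S1593.sgn
    cases tabS n (aidx p) <;> simp
  rw [e]
  exact e_valid_aux n k

theorem reach : ∀ k q : Fin 12, k.val < 5 → k.val ≤ q.val →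
    ∃ n : Fin 50, (∀ j : Fin 12, j.val < k.val → tabF n j = j) ∧ tabF n k = q := by
  decide +kernel

/-- the permutation parts of the monomial automorphisms -/
def PS : Subgroup (Equiv.Perm ArrayPt) where
  carrier := {σ | ∃ c, valid σ c}
  mul_mem' := by
    rintro a b ⟨c₁, h1⟩ ⟨c₂, h2⟩
    exact ⟨_, valid_mul a b c₁ c₂ h1 h2⟩
  one_mem' := ⟨_, valid_one⟩
  inv_mem' := by
    rintro a ⟨c, h⟩
    exact ⟨_, valid_inv a c h⟩

theorem mem_PS (σ : Equiv.Perm ArrayPt) : σ ∈ PS ↔ ∃ c, valid σ c := Iff.rfl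

/-- the `k`th base point -/
def bpt (k : ℕ) : ArrayPt := if h : k < 12 then apt ⟨k, h⟩ else apt 0

theorem bpt_val (i : Fin 12) : bpt i.val = apt i := by
  unfold bpt
  rw [dif_pos i.2]

/-- the chain of pointwise stabilizers -/
def chainS (K : Subgroup (Equiv.Perm ArrayPt)) : ℕ → Subgroup (Equiv.Perm ArrayPt)
  | 0 => K
  | k + 1 => chainS K k ⊓ MulAction.stabilizer (Equiv.Perm ArrayPt) (bpt k)

theorem mem_chainS (K : Subgroup (Equiv.Perm ArrayPt)) :
    ∀ (k : ℕ) (g : Equiv.Perm ArrayPt),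
      g ∈ chainS K k ↔ g ∈ K ∧ ∀ j, j < k → g (bpt j) = bpt j
  | 0, g => by
    show g ∈ K ↔ _
    exact ⟨fun h => ⟨h, fun j hj => absurd hj (Nat.not_lt_zero j)⟩, fun h => h.1⟩
  | k + 1, g => by
    show g ∈ chainS K k ⊓ MulAction.stabilizer (Equiv.Perm ArrayPt) (bpt k) ↔ _
    rw [Subgroup.mem_inf, mem_chainS K k g, MulAction.mem_stabilizer_iff]
    constructor
    · rintro ⟨⟨h1, h2⟩, h3⟩
      refine ⟨h1, fun j hj => ?_⟩
      rcases Nat.lt_succ_iff_lt_or_eq.1 hj with h | rfl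
      · exact h2 j h
      · exact h3
    · rintro ⟨h1, h2⟩
      exact ⟨⟨h1, fun j hj => h2 j (Nat.lt_succ_of_lt hj)⟩, h2 k (Nat.lt_succ_self k)⟩

/-- the points available as images of the `k`th base point -/
def avail (k : ℕ) : Finset ArrayPt := Finset.univ.filter (fun p => k ≤ (aidx p).val)

theorem card_avail : ∀ k : ℕ, k < 12 → (avail k).card = 12 - k := by
  decide +kernel

theorem upper_step (K : Subgroup (Equiv.Perm ArrayPt)) (k : ℕ) (hk : k < 12) :
    Nat.card (chainS K k) ≤ (12 - k) * Nat.card (chainS K (k + 1)) := by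
  have h := card_le_of_orbit_subset (chainS K k) (bpt k) (avail k) (by
    intro g hg
    rw [mem_chainS] at hg
    show g (bpt k) ∈ avail k
    unfold avail
    rw [Finset.mem_filter]
    refine ⟨Finset.mem_univ _, ?_⟩
    by_contra hlt
    rw [not_le] at hlt
    have h1 := hg.2 _ hlt
    rw [bpt_val, apt_aidx] at h1
    have h2 : g (bpt k) = bpt k := g.injective h1
    have e : bpt k = apt ⟨k, hk⟩ := bpt_val ⟨k, hk⟩
    rw [h2, e, aidx_apt] at hlt
    exact absurd hlt (lt_irrefl _))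
  rw [card_avail k hk] at h
  exact h

theorem lower_step (k : ℕ) (hk : k < 5) :
    (12 - k) * Nat.card (chainS PS (k + 1)) ≤ Nat.card (chainS PS k) := by
  have h := le_card_of_subset_orbit (chainS PS k) (bpt k) (avail k) (by
    intro q hq
    unfold avail at hq
    rw [Finset.mem_filter] at hq
    obtain ⟨n, hn1, hn2⟩ := reach ⟨k, by omega⟩ (aidx q) hk hq.2
    refine ⟨ePerm n, ?_, ?_⟩
    · rw [mem_chainS]
      refine ⟨⟨_, e_valid n⟩, fun j hj => ?_⟩
      have hj12 : j < 12 := by omega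
      have e : bpt j = apt ⟨j, hj12⟩ := bpt_val ⟨j, hj12⟩
      rw [e]
      show apt (tabF n (aidx (apt ⟨j, hj12⟩))) = apt ⟨j, hj12⟩
      rw [aidx_apt, hn1 ⟨j, hj12⟩ hj]
    · show apt (tabF n (aidx (bpt k))) = q
      have e : bpt k = apt ⟨k, by omega⟩ := bpt_val ⟨k, by omega⟩
      rw [e, aidx_apt, hn2, apt_aidx])
  rw [card_avail k (by omega)] at h
  exact h

theorem card_PS_ge : 95040 ≤ Nat.card PS := by
  have h0 := lower_step 0 (by norm_num)
  have h1 := lower_step 1 (by norm_num)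
  have h2 := lower_step 2 (by norm_num)
  have h3 := lower_step 3 (by norm_num)
  have h4 := lower_step 4 (by norm_num)
  have h5 : 0 < Nat.card (chainS PS 5) := Nat.card_pos
  have e : chainS PS 0 = PS := rfl
  rw [e] at h0
  norm_num at h0 h1 h2 h3 h4
  omega


/-- the automorphism group of the hexad system -/
def AA : Subgroup (Equiv.Perm ArrayPt) := setSystemAut Cfsg.Agent.S1592.hexs

theorem supp_mono (σ : Equiv.Perm ArrayPt) (c : ArrayPt → (ZMod 3)ˣ) (x : ArrayPt → ZMod 3) :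
    ternarySupport (monomialMap σ c x) = σ • ternarySupport x := by
  ext p
  rw [Cfsg.Agent.S1592.mem_supp, Finset.mem_smul_finset]
  constructor
  · intro h
    refine ⟨σ.symm p, ?_, σ.apply_symm_apply p⟩
    rw [Cfsg.Agent.S1592.mem_supp]
    exact right_ne_zero_of_mul h
  · rintro ⟨q, hq, rfl⟩
    rw [Cfsg.Agent.S1592.mem_supp] at hq
    show (c (σ q) : ZMod 3) * x (σ.symm (σ q)) ≠ 0
    rw [Equiv.symm_apply_apply]
    exact mul_ne_zero (Units.ne_zero _) hq

theorem smul_hex_of_valid (σ : Equiv.Perm ArrayPt) (c : ArrayPt → (ZMod 3)ˣ) (hv : valid σ c)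
    (h : Finset ArrayPt) (hh : h ∈ Cfsg.Agent.S1592.hexs) : σ • h ∈ Cfsg.Agent.S1592.hexs := by
  obtain ⟨x, hx, rfl, h6⟩ := hh
  exact ⟨monomialMap σ c x, hv x hx, supp_mono σ c x, by rw [Finset.card_smul_finset]; exact h6⟩

theorem PS_le_AA : PS ≤ AA := by
  rintro σ ⟨c, hv⟩
  show σ • Cfsg.Agent.S1592.hexs = Cfsg.Agent.S1592.hexs
  ext s
  constructor
  · rintro ⟨h, hh, rfl⟩
    exact smul_hex_of_valid σ c hv h hh
  · intro hs
    exact ⟨σ⁻¹ • s, smul_hex_of_valid _ _ (valid_inv σ c hv) s hs, smul_inv_smul σ s⟩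

theorem smul_hex_of_AA (g : Equiv.Perm ArrayPt) (hg : g ∈ AA) (h : Finset ArrayPt)
    (hh : h ∈ Cfsg.Agent.S1592.hexs) : g • h ∈ Cfsg.Agent.S1592.hexs := by
  have e : g • Cfsg.Agent.S1592.hexs = Cfsg.Agent.S1592.hexs := hg
  rw [← e]
  exact Set.smul_mem_smul_set hh

/-- the set of points with indices in a list -/
def fs (L : List (Fin 12)) : Finset ArrayPt := (L.map apt).toFinset

/-- the bit mask of a set of points -/
def maskF (s : Finset ArrayPt) : ℕ := ∑ p ∈ s, 2 ^ (aidx p).val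

/-- the bit mask of a list of indices -/
def maskL (L : List (Fin 12)) : ℕ := (L.map (fun i : Fin 12 => 2 ^ i.val)).sum

theorem mask_ok : ∀ c : Fin 6 → ZMod 3, wtC c = 6 →
    maskF (ternarySupport (genC c)) ∈ hexMasks := by
  decide +kernel

theorem maskF_mem (s : Finset ArrayPt) (hs : s ∈ Cfsg.Agent.S1592.hexs) :
    maskF s ∈ hexMasks := by
  rw [← Cfsg.Agent.S1592.coe_hexF, Finset.mem_coe] at hs
  unfold Cfsg.Agent.S1592.hexF at hs
  obtain ⟨c, hc, rfl⟩ := Finset.mem_image.1 hs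
  rw [Finset.mem_filter] at hc
  exact mask_ok c hc.2

theorem maskF_fs (L : List (Fin 12)) (hL : L.Nodup) : maskF (fs L) = maskL L := by
  unfold maskF fs maskL
  rw [List.sum_toFinset _ (List.Nodup.map apt_injective hL), List.map_map]
  congr 1
  apply List.map_congr_left
  intro i _
  show 2 ^ (aidx (apt i)).val = 2 ^ i.val
  rw [aidx_apt]

theorem smul_fs (g : Equiv.Perm ArrayPt) (T : Fin 12 → Fin 12)
    (hT : ∀ i, g (apt i) = apt (T i)) (L : List (Fin 12)) : g • fs L = fs (L.map T) := by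
  induction L with
  | nil => exact Finset.smul_finset_empty g
  | cons a L ih =>
    have e1 : fs (a :: L) = insert (apt a) (fs L) := by
      unfold fs
      rw [List.map_cons, List.toFinset_cons]
    have e2 : fs ((a :: L).map T) = insert (apt (T a)) (fs (L.map T)) := by
      unfold fs
      rw [List.map_cons, List.map_cons, List.toFinset_cons]
    rw [e1, e2, Finset.smul_finset_insert, ih, ← hT a]
    rfl

theorem h4_ok : ∀ e ∈ h4L, e.1.Nodup ∧ wtC e.2 = 6 ∧ fs e.1 = ternarySupport (genC e.2) := by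
  decide +kernel

theorem h0_ok : wtC ![0, 0, 0, 0, 0, 1] = 6 ∧
    fs [0, 1, 2, 3, 4, 5] = ternarySupport (genC ![0, 0, 0, 0, 0, 1]) := by
  decide +kernel

theorem fs_mem_hexs (L : List (Fin 12)) (c : Fin 6 → ZMod 3) (hw : wtC c = 6)
    (h : fs L = ternarySupport (genC c)) : fs L ∈ Cfsg.Agent.S1592.hexs := by
  refine ⟨genC c, genC_mem c, h.symm, ?_⟩
  rw [h, card_support_genC]
  exact hw

theorem T0 : ∀ u : Fin 12, 4 < u.val → maskL [0, 1, 2, 3, 4, u] ∈ hexMasks → u = 5 := by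
  decide +kernel

set_option synthInstance.maxSize 2048 in
theorem T1 : ∀ t6 : Fin 12, 5 < t6.val →
    ∀ t7 : Fin 12, 5 < t7.val → t7 ≠ t6 →
    ∀ t8 : Fin 12, 5 < t8.val → t8 ≠ t6 → t8 ≠ t7 →
    ∀ t9 : Fin 12, 5 < t9.val → t9 ≠ t6 → t9 ≠ t7 → t9 ≠ t8 →
    ∀ t10 : Fin 12, 5 < t10.val → t10 ≠ t6 → t10 ≠ t7 → t10 ≠ t8 → t10 ≠ t9 →
    ∀ t11 : Fin 12, 5 < t11.val → t11 ≠ t6 → t11 ≠ t7 → t11 ≠ t8 → t11 ≠ t9 → t11 ≠ t10 →
    (∀ e ∈ h4L, maskL (e.1.map ![0, 1, 2, 3, 4, 5, t6, t7, t8, t9, t10, t11]) ∈ hexMasks) →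
    t6 = 6 ∧ t7 = 7 ∧ t8 = 8 ∧ t9 = 9 ∧ t10 = 10 ∧ t11 = 11 := by
  decide +kernel


theorem triv (g : Equiv.Perm ArrayPt) (hg : g ∈ AA) (hfix : ∀ j, j < 5 → g (bpt j) = bpt j) :
    g = 1 := by
  set T : Fin 12 → Fin 12 := fun i => aidx (g (apt i)) with hTdef
  have hT : ∀ i, g (apt i) = apt (T i) := by
    intro i
    rw [hTdef, apt_aidx]
  have Tinj : Function.Injective T := by
    intro i j h
    have h1 : apt (T i) = apt (T j) := by rw [h]
    rw [← hT i, ← hT j] at h1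
    exact apt_injective (g.injective h1)
  have hfix5 : ∀ j : Fin 12, j.val < 5 → T j = j := by
    intro j hj
    have h1 := hfix j.val hj
    rw [bpt_val] at h1
    show aidx (g (apt j)) = j
    rw [h1, aidx_apt]
  -- the sixth point
  have h0mem : fs [0, 1, 2, 3, 4, 5] ∈ Cfsg.Agent.S1592.hexs := fs_mem_hexs _ _ h0_ok.1 h0_ok.2
  have hmaskgen : ∀ L : List (Fin 12), L.Nodup → fs L ∈ Cfsg.Agent.S1592.hexs →
      maskL (L.map T) ∈ hexMasks := by
    intro L hL hmem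
    have h1 := smul_hex_of_AA g hg _ hmem
    rw [smul_fs g T hT] at h1
    have h2 := maskF_mem _ h1
    rw [maskF_fs _ (List.Nodup.map Tinj hL)] at h2
    exact h2
  have h5big : 4 < (T 5).val := by
    by_contra hcon
    rw [not_lt] at hcon
    have h1 : T (T 5) = T 5 := hfix5 (T 5) (by omega)
    have h2 := Tinj h1
    rw [h2] at hcon
    exact absurd hcon (by decide)
  have hT5 : T 5 = 5 := by
    have h1 := hmaskgen [0, 1, 2, 3, 4, 5] (by decide) h0mem
    have e : List.map T [0, 1, 2, 3, 4, 5] = [T 0, T 1, T 2, T 3, T 4, T 5] := rfl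
    rw [e, hfix5 0 (by decide), hfix5 1 (by decide), hfix5 2 (by decide), hfix5 3 (by decide),
      hfix5 4 (by decide)] at h1
    exact T0 (T 5) h5big h1
  have hfix6 : ∀ j : Fin 12, j.val < 6 → T j = j := by
    intro j hj
    by_cases h5 : j.val < 5
    · exact hfix5 j h5
    · have : j = 5 := Fin.ext (by show j.val = 5; omega)
      rw [this]
      exact hT5
  have hbig : ∀ i : Fin 12, 5 < i.val → 5 < (T i).val := by
    intro i hi
    by_contra hcon
    rw [not_lt] at hcon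
    have h1 : T (T i) = T i := hfix6 (T i) (by omega)
    have h2 := Tinj h1
    rw [h2] at hcon
    omega
  have n7_6 : T 7 ≠ T 6 := fun h => absurd (Tinj h) (by decide)
  have n8_6 : T 8 ≠ T 6 := fun h => absurd (Tinj h) (by decide)
  have n8_7 : T 8 ≠ T 7 := fun h => absurd (Tinj h) (by decide)
  have n9_6 : T 9 ≠ T 6 := fun h => absurd (Tinj h) (by decide)
  have n9_7 : T 9 ≠ T 7 := fun h => absurd (Tinj h) (by decide)
  have n9_8 : T 9 ≠ T 8 := fun h => absurd (Tinj h) (by decide)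
  have n10_6 : T 10 ≠ T 6 := fun h => absurd (Tinj h) (by decide)
  have n10_7 : T 10 ≠ T 7 := fun h => absurd (Tinj h) (by decide)
  have n10_8 : T 10 ≠ T 8 := fun h => absurd (Tinj h) (by decide)
  have n10_9 : T 10 ≠ T 9 := fun h => absurd (Tinj h) (by decide)
  have n11_6 : T 11 ≠ T 6 := fun h => absurd (Tinj h) (by decide)
  have n11_7 : T 11 ≠ T 7 := fun h => absurd (Tinj h) (by decide)
  have n11_8 : T 11 ≠ T 8 := fun h => absurd (Tinj h) (by decide)
  have n11_9 : T 11 ≠ T 9 := fun h => absurd (Tinj h) (by decide)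
  have n11_10 : T 11 ≠ T 10 := fun h => absurd (Tinj h) (by decide)
  have hTe : T = ![0, 1, 2, 3, 4, 5, T 6, T 7, T 8, T 9, T 10, T 11] := by
    funext i
    fin_cases i
    · exact hfix6 0 (by decide)
    · exact hfix6 1 (by decide)
    · exact hfix6 2 (by decide)
    · exact hfix6 3 (by decide)
    · exact hfix6 4 (by decide)
    · exact hfix6 5 (by decide)
    all_goals rfl
  have hmask : ∀ e ∈ h4L,
      maskL (e.1.map ![0, 1, 2, 3, 4, 5, T 6, T 7, T 8, T 9, T 10, T 11]) ∈ hexMasks := by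
    intro e he
    rw [← hTe]
    obtain ⟨hnd, hw, hfs⟩ := h4_ok e he
    exact hmaskgen e.1 hnd (fs_mem_hexs _ _ hw hfs)
  obtain ⟨k6, k7, k8, k9, k10, k11⟩ := T1 (T 6) (hbig 6 (by decide)) (T 7) (hbig 7 (by decide)) n7_6 (T 8) (hbig 8 (by decide)) n8_6 n8_7 (T 9) (hbig 9 (by decide)) n9_6 n9_7 n9_8 (T 10) (hbig 10 (by decide)) n10_6 n10_7 n10_8 n10_9 (T 11) (hbig 11 (by decide)) n11_6 n11_7 n11_8 n11_9 n11_10 hmask
  have hall : ∀ i : Fin 12, T i = i := by
    intro i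
    by_cases h6 : i.val < 6
    · exact hfix6 i h6
    · fin_cases i
      all_goals first | (exfalso; exact h6 (by decide)) | assumption
  apply Equiv.ext
  intro p
  rw [← apt_aidx p, hT, hall]
  rfl

theorem chain5_AA : chainS AA 5 = ⊥ := by
  rw [eq_bot_iff]
  intro g hg
  rw [mem_chainS] at hg
  rw [Subgroup.mem_bot]
  exact triv g hg.1 hg.2

theorem card_AA_le : Nat.card AA ≤ 95040 := by
  have h0 := upper_step AA 0 (by norm_num)
  have h1 := upper_step AA 1 (by norm_num)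
  have h2 := upper_step AA 2 (by norm_num)
  have h3 := upper_step AA 3 (by norm_num)
  have h4 := upper_step AA 4 (by norm_num)
  have h5 : Nat.card (chainS AA 5) = 1 := by
    rw [chain5_AA]
    exact Subgroup.card_bot
  have e : chainS AA 0 = AA := rfl
  rw [e] at h0
  norm_num at h0 h1 h2 h3 h4
  omega

theorem card_PS : Nat.card PS = 95040 :=
  le_antisymm ((Subgroup.card_le_of_le PS_le_AA).trans card_AA_le) card_PS_ge

theorem PS_eq_AA : PS = AA :=
  Subgroup.eq_of_le_of_card_ge PS_le_AA (by rw [card_PS]; exact card_AA_le)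

end Cfsg.Agent.Lib.Helper1.TG2
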