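import Mathlib
import Cfsg.Agent.Lib.Helper1.TrioQ

set_option autoImplicit false

namespace Cfsg.Agent.Lib.Helper1.TrioQ

open Cfsg
open Cfsg.Agent.Lib.Helper1
open scoped Pointwise


/-- the trio stabiliser as a group of permutations -/
def K0 : Subgroup (Equiv.Perm GolayPt) := stabX objT 61565

/-- the element at a position of the table -/
noncomputable def gAt (l : ℕ) : Equiv.Perm GolayPt := (evalW (wordsAll.getD l []))⁻¹

theorem gAt_table (l : ℕ) (hl : l < 585) : HasTable (gAt l)⁻¹ (tabsAll.getD l id) := by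
  unfold gAt
  rw [inv_inv]
  intro i
  rw [evalW_table _ i, tabs_ok l hl i]

theorem gAt_M24 (l : ℕ) : gAt l ∈ M24 := inv_mem (H0_le_M24 (evalW_mem _))

theorem gAt_mem (l : ℕ) (hl : l < 585) : gAt l ∈ K0 := by
  unfold K0
  rw [mem_stabX]
  exact ⟨gAt_M24 l, soundT _ (gAt_M24 l) _ (gAt_table l hl) _ _ _ (mem_ok l hl)⟩

theorem gAt_nil (l : ℕ) (h : wordsAll.getD l [] = []) : gAt l = 1 := by
  unfold gAt
  rw [h]
  simp [evalW]

attribute [irreducible] gAt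

/-- `g` acts on the seven sextets as `A` and on the three octads as `π` -/
def ActsAs (g : Equiv.Perm GolayPt) (A : GL (Fin 3) (ZMod 2)) (π : Equiv.Perm (Fin 3)) : Prop :=
  (∀ v : Fin 3 → ZMod 2, v ≠ 0 → g • objS (rep v) = objS (rep (lin A.1 v))) ∧
  ∀ i : Fin 3, g • objO (oc i) = objO (oc (π i))

theorem actsAs_of_chk (l : ℕ) (hl : l < 585) (A : GL (Fin 3) (ZMod 2)) (π : Equiv.Perm (Fin 3))
    (h : ChkAct (tabsAll.getD l id) A.1 π) : ActsAs (gAt l) A π := by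
  refine ⟨fun v hv => ?_, fun i => ?_⟩
  · obtain ⟨w, _, hw⟩ := List.any_eq_true.1 (h.1 v hv)
    exact soundS _ (gAt_M24 l) _ (gAt_table l hl) _ _ _ hw
  · exact soundO _ (gAt_M24 l) _ (gAt_table l hl) _ _ _ (h.2 i)

theorem lin_mul (A B : Matrix (Fin 3) (Fin 3) (ZMod 2)) (v : Fin 3 → ZMod 2) :
    lin (A * B) v = lin A (lin B v) := by
  funext i
  simp only [lin, Matrix.mul_apply, Fin.sum_univ_three]
  ring

theorem lin_one (v : Fin 3 → ZMod 2) : lin 1 v = v := by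
  funext i
  fin_cases i <;> simp [lin, Matrix.one_apply]

theorem lin_zero (A : Matrix (Fin 3) (Fin 3) (ZMod 2)) : lin A 0 = 0 := by
  funext i
  simp [lin]

theorem lin_ne_zero (A : GL (Fin 3) (ZMod 2)) {v : Fin 3 → ZMod 2} (hv : v ≠ 0) :
    lin A.1 v ≠ 0 := by
  intro h
  apply hv
  have h1 : lin ((A⁻¹).1 * A.1) v = lin (A⁻¹).1 (lin A.1 v) := lin_mul _ _ _
  rw [h, lin_zero, ← Units.val_mul, inv_mul_cancel, Units.val_one, lin_one] at h1
  exact h1

theorem actsAs_unique {g : Equiv.Perm GolayPt} {A B : GL (Fin 3) (ZMod 2)}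
    {π σ : Equiv.Perm (Fin 3)} (h1 : ActsAs g A π) (h2 : ActsAs g B σ) : A = B ∧ π = σ := by
  have key : ∀ v : Fin 3 → ZMod 2, v ≠ 0 → lin A.1 v = lin B.1 v := by
    intro v hv
    have e := (h1.1 v hv).symm.trans (h2.1 v hv)
    have a := rep_ok _ (lin_ne_zero A hv)
    have b := rep_ok _ (lin_ne_zero B hv)
    have e2 := objS_injOn a.1 b.1 a.2.1 b.2.1 a.2.2 b.2.2 e
    exact rep_inj _ _ (lin_ne_zero A hv) (lin_ne_zero B hv) e2
  constructor
  · apply Units.ext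
    ext i j
    have hj : (Pi.single j 1 : Fin 3 → ZMod 2) ≠ 0 := by
      intro h
      have := congrFun h j
      simp at this
    have := congrFun (key _ hj) i
    fin_cases j <;> simpa [lin, Pi.single_apply] using this
  · apply Equiv.ext
    intro i
    have e := (h1.2 i).symm.trans (h2.2 i)
    exact oc_ok.2 _ _ (objO_injOn (oc_ok.1 _) (oc_ok.1 _) e)

theorem actsAs_one : ActsAs 1 1 1 := by
  refine ⟨fun v _ => ?_, fun i => ?_⟩
  · rw [one_smul, Units.val_one, lin_one]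
  · rw [one_smul, Equiv.Perm.one_apply]

theorem actsAs_mul {g h : Equiv.Perm GolayPt} {A B : GL (Fin 3) (ZMod 2)}
    {π σ : Equiv.Perm (Fin 3)} (h1 : ActsAs g A π) (h2 : ActsAs h B σ) :
    ActsAs (g * h) (A * B) (π * σ) := by
  refine ⟨fun v hv => ?_, fun i => ?_⟩
  · rw [mul_smul, h2.1 v hv, h1.1 _ (lin_ne_zero B hv), Units.val_mul, lin_mul]
  · rw [mul_smul, h2.2 i, h1.2, Equiv.Perm.mul_apply]

theorem d3_ne (A : GL (Fin 3) (ZMod 2)) : d3 A.1 ≠ 0 := by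
  have h := Matrix.isUnits_det_units A
  rw [Matrix.det_fin_three] at h
  exact h.ne_zero

theorem acts_N (n : Fin 64) : ActsAs (gAt (nIdx n)) 1 1 :=
  actsAs_of_chk _ (idx_lt.1 n) 1 1 (N_ok n).1

theorem acts_S (π : Equiv.Perm (Fin 3)) : ActsAs (gAt (sIdx π)) 1 π :=
  actsAs_of_chk _ (idx_lt.2.1 _) 1 π (S_ok π π.injective)

theorem acts_L (A : GL (Fin 3) (ZMod 2)) : ActsAs (gAt (lIdx A.1)) A 1 :=
  actsAs_of_chk _ (idx_lt.2.2 _) A 1 (L_ok A.1 (d3_ne A))

/-- the element with given kernel part, matrix and permutation -/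
noncomputable def PsiFun (p : Fin 64 × (GL (Fin 3) (ZMod 2) × Equiv.Perm (Fin 3))) :
    Equiv.Perm GolayPt :=
  gAt (nIdx p.1) * gAt (sIdx p.2.2) * gAt (lIdx p.2.1.1)

theorem PsiFun_mem (p : Fin 64 × (GL (Fin 3) (ZMod 2) × Equiv.Perm (Fin 3))) : PsiFun p ∈ K0 :=
  K0.mul_mem (K0.mul_mem (gAt_mem _ (idx_lt.1 _)) (gAt_mem _ (idx_lt.2.1 _)))
    (gAt_mem _ (idx_lt.2.2 _))

theorem PsiFun_acts (p : Fin 64 × (GL (Fin 3) (ZMod 2) × Equiv.Perm (Fin 3))) :
    ActsAs (PsiFun p) p.2.1 p.2.2 := by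
  have h := actsAs_mul (actsAs_mul (acts_N p.1) (acts_S p.2.2)) (acts_L p.2.1)
  simp only [one_mul, mul_one] at h
  exact h

theorem gAt_N_inj {n n' : Fin 64} (h : gAt (nIdx n) = gAt (nIdx n')) : n = n' := by
  by_contra hne
  obtain ⟨i, hi⟩ := N_inj n n' hne
  apply hi
  have h1 := gAt_table _ (idx_lt.1 n) i
  have h2 := gAt_table _ (idx_lt.1 n') i
  rw [h] at h1
  exact gpt_bij.injective (h1.symm.trans h2)

theorem card_GL32 : Nat.card (GL (Fin 3) (ZMod 2)) = 168 := by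
  have h := Matrix.card_GL_field (𝔽 := ZMod 2) 3
  rw [ZMod.card, Fin.prod_univ_three] at h
  rw [h]
  norm_num

theorem card_K0 : Nat.card K0 = 64512 := by
  rw [← Cfsg.Agent.S1559.card_stab]
  apply Nat.card_congr
  refine ⟨fun k => ⟨⟨k.1, (mem_stabX.1 k.2).1⟩, (Cfsg.Agent.S1559.mem_stab_iff _).2 k.2⟩,
    fun g => ⟨g.1.1, (Cfsg.Agent.S1559.mem_stab_iff g.1).1 g.2⟩, ?_, ?_⟩
  · intro k
    rfl
  · intro g
    rfl

theorem Psi_bij : Function.Bijective
    (fun p : Fin 64 × (GL (Fin 3) (ZMod 2) × Equiv.Perm (Fin 3)) =>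
      (⟨PsiFun p, PsiFun_mem p⟩ : ↥K0)) := by
  apply Function.Injective.bijective_of_nat_card_le
  · rintro ⟨n, A, π⟩ ⟨n', A', π'⟩ h
    have h1 : PsiFun (n, A, π) = PsiFun (n', A', π') := congrArg Subtype.val h
    have h2 := PsiFun_acts (n, A, π)
    rw [h1] at h2
    obtain ⟨e1, e2⟩ := actsAs_unique h2 (PsiFun_acts (n', A', π'))
    have e1' : A = A' := e1
    have e2' : π = π' := e2
    subst e1' e2'
    have h1' : gAt (nIdx n) * gAt (sIdx π) * gAt (lIdx A.1) =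
        gAt (nIdx n') * gAt (sIdx π) * gAt (lIdx A.1) := h1
    have h3 := mul_right_cancel (mul_right_cancel h1')
    have h4 : n = n' := gAt_N_inj h3
    rw [h4]
  · rw [card_K0, Nat.card_prod, Nat.card_prod, card_GL32, Nat.card_perm, Nat.card_eq_fintype_card,
      Fintype.card_fin, Nat.card_eq_fintype_card, Fintype.card_fin]
    decide

theorem exists_acts (g : Equiv.Perm GolayPt) (hg : g ∈ K0) :
    ∃ (n : Fin 64) (A : GL (Fin 3) (ZMod 2)) (π : Equiv.Perm (Fin 3)),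
      g = PsiFun (n, A, π) ∧ ActsAs g A π := by
  obtain ⟨p, hp⟩ := Psi_bij.2 ⟨g, hg⟩
  have h1 : PsiFun p = g := congrArg Subtype.val hp
  exact ⟨p.1, p.2.1, p.2.2, h1.symm, h1 ▸ PsiFun_acts p⟩

theorem exists_acts' (g : Equiv.Perm GolayPt) (hg : g ∈ K0) :
    ∃ q : GL (Fin 3) (ZMod 2) × Equiv.Perm (Fin 3), ActsAs g q.1 q.2 := by
  obtain ⟨_, A, π, _, h⟩ := exists_acts g hg
  exact ⟨(A, π), h⟩

/-- the action on the seven sextets and the three octads -/
noncomputable def quoMap : ↥K0 →* GL (Fin 3) (ZMod 2) × Equiv.Perm (Fin 3) where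
  toFun g := (exists_acts' g.1 g.2).choose
  map_one' := by
    have h := (exists_acts' (1 : ↥K0).1 (1 : ↥K0).2).choose_spec
    obtain ⟨e1, e2⟩ := actsAs_unique h actsAs_one
    exact Prod.ext e1 e2
  map_mul' g h := by
    have h1 := (exists_acts' g.1 g.2).choose_spec
    have h2 := (exists_acts' h.1 h.2).choose_spec
    have h3 := (exists_acts' (g * h).1 (g * h).2).choose_spec
    obtain ⟨e1, e2⟩ := actsAs_unique h3 (actsAs_mul h1 h2)
    exact Prod.ext e1 e2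

theorem quoMap_spec (g : ↥K0) : ActsAs g.1 (quoMap g).1 (quoMap g).2 :=
  (exists_acts' g.1 g.2).choose_spec

theorem quoMap_surjective : Function.Surjective quoMap := by
  rintro ⟨A, π⟩
  refine ⟨⟨PsiFun (0, A, π), PsiFun_mem _⟩, ?_⟩
  obtain ⟨e1, e2⟩ := actsAs_unique (quoMap_spec ⟨PsiFun (0, A, π), PsiFun_mem _⟩)
    (PsiFun_acts (0, A, π))
  exact Prod.ext e1 e2

theorem gAt_N_sq (n : Fin 64) : gAt (nIdx n) * gAt (nIdx n) = 1 := by
  have hT := gAt_table _ (idx_lt.1 n)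
  have h2 := eq_one_of_hasTable_id (hT.mul hT) (fun i => (N_ok n).2 i)
  rw [← mul_inv_rev, inv_eq_one] at h2
  exact h2

theorem ker_sq (g : ↥K0) (hg : quoMap g = 1) : g * g = 1 := by
  obtain ⟨n, A, π, hgp, hact⟩ := exists_acts g.1 g.2
  have h1 := quoMap_spec g
  rw [hg] at h1
  simp only [Prod.fst_one, Prod.snd_one] at h1
  obtain ⟨e1, e2⟩ := actsAs_unique hact h1
  subst e1 e2
  have hs : gAt (sIdx ((1 : Equiv.Perm (Fin 3)) : Fin 3 → Fin 3)) = 1 := by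
    rw [Equiv.Perm.coe_one]
    exact gAt_nil _ one_words.1
  have hl : gAt (lIdx ((1 : GL (Fin 3) (ZMod 2)).1)) = 1 := by
    rw [Units.val_one]
    exact gAt_nil _ one_words.2
  have hP : PsiFun (n, 1, 1) = gAt (nIdx n) := by
    show gAt (nIdx n) * gAt (sIdx ((1 : Equiv.Perm (Fin 3)) : Fin 3 → Fin 3)) *
      gAt (lIdx ((1 : GL (Fin 3) (ZMod 2)).1)) = gAt (nIdx n)
    rw [hs, hl, mul_one, mul_one]
  apply Subtype.ext
  show g.1 * g.1 = 1
  rw [hgp, hP]
  exact gAt_N_sq n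

end Cfsg.Agent.Lib.Helper1.TrioQ
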