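import Mathlib
import Cfsg.Prelude.Def_LieExceptional

set_option autoImplicit false

namespace Cfsg.Agent.Lib.Helper1

open MulAction

variable {G Ω : Type*} [Group G] [MulAction G Ω]

/-- three distinct points exist in a Zassenhaus group -/
theorem zass_exists_three (hZ : Cfsg.IsZassenhausGroup G Ω) :
    ∃ x y z : Ω, x ≠ y ∧ x ≠ z ∧ y ≠ z := by
  obtain ⟨hf, h2, h3, ⟨g, hg1, x, y, hxy, hgx, hgy⟩, hreg⟩ := hZ
  have : ∃ z : Ω, g • z ≠ z := by
    by_contra hcon
    push Not at hcon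
    apply hg1
    apply hf.eq_of_smul_eq_smul
    intro z
    rw [hcon z, one_smul]
  obtain ⟨z, hz⟩ := this
  refine ⟨x, y, z, hxy, ?_, ?_⟩
  · rintro rfl
    exact hz hgx
  · rintro rfl
    exact hz hgy

theorem zass_exists_third (hZ : Cfsg.IsZassenhausGroup G Ω) (a b : Ω) :
    ∃ c : Ω, c ≠ a ∧ c ≠ b := by
  obtain ⟨x, y, z, hxy, hxz, hyz⟩ := zass_exists_three hZ
  by_cases h1 : x ≠ a ∧ x ≠ b
  · exact ⟨x, h1⟩
  by_cases h2 : y ≠ a ∧ y ≠ b
  · exact ⟨y, h2⟩
  refine ⟨z, ?_, ?_⟩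
  · rintro rfl
    rw [not_and_or, not_not, not_not] at h1 h2
    rcases h1 with h1 | h1
    · exact hxz h1
    · rcases h2 with h2 | h2
      · exact hyz h2
      · exact hxy (h1.trans h2.symm)
  · rintro rfl
    rw [not_and_or, not_not, not_not] at h1 h2
    rcases h1 with h1 | h1
    · rcases h2 with h2 | h2
      · exact hxy (h1.trans h2.symm)
      · exact hyz h2
    · exact hxz h1

theorem zass_card_ge_three [Fintype Ω] (hZ : Cfsg.IsZassenhausGroup G Ω) :
    3 ≤ Fintype.card Ω := by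
  classical
  obtain ⟨x, y, z, hxy, hxz, hyz⟩ := zass_exists_three hZ
  have : ({x, y, z} : Finset Ω).card = 3 := by
    rw [Finset.card_eq_three]
    exact ⟨x, y, z, hxy, hxz, hyz, rfl⟩
  calc 3 = ({x, y, z} : Finset Ω).card := this.symm
    _ ≤ Fintype.card Ω := Finset.card_le_univ _

/-- a nonidentity element has at most two fixed points -/
theorem zass_fixed_of_two (hZ : Cfsg.IsZassenhausGroup G Ω) {g : G} (hg : g ≠ 1) {x y z : Ω}
    (hx : g • x = x) (hy : g • y = y) (hz : g • z = z) (hxy : x ≠ y) : z = x ∨ z = y := by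
  by_contra h
  push Not at h
  exact hg (hZ.2.2.1 g x y z hxy (fun h' => h.2 h'.symm) (fun h' => h.1 h'.symm) hx hy hz)

theorem zass_exists_map (hZ : Cfsg.IsZassenhausGroup G Ω) {a b c d : Ω} (hab : a ≠ b)
    (hcd : c ≠ d) : ∃ g : G, g • a = c ∧ g • b = d :=
  (is_two_pretransitive_iff.1 hZ.2.1) hab hcd

theorem zass_isPretransitive (hZ : Cfsg.IsZassenhausGroup G Ω) : IsPretransitive G Ω :=
  isPretransitive_of_is_two_pretransitive (h2 := hZ.2.1)

theorem card_fixedBy_le_two [Fintype Ω] (hZ : Cfsg.IsZassenhausGroup G Ω) {s : G} (hs : s ≠ 1) :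
    Nat.card (fixedBy Ω s) ≤ 2 := by
  classical
  rw [Nat.card_eq_fintype_card, Fintype.card_subtype]
  by_contra hlt
  push Not at hlt
  rw [Finset.two_lt_card] at hlt
  obtain ⟨x, hx, y, hy, z, hz, hxy, hxz, hyz⟩ := hlt
  rw [Finset.mem_filter] at hx hy hz
  rcases zass_fixed_of_two hZ hs hx.2 hy.2 hz.2 hxy with h | h
  · exact hxz h.symm
  · exact hyz h.symm

theorem two_le_card_fixedBy [Fintype Ω] {s : G} {x y : Ω} (hxy : x ≠ y) (hx : s • x = x)
    (hy : s • y = y) : 2 ≤ Nat.card (fixedBy Ω s) := by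
  classical
  rw [Nat.card_eq_fintype_card, Fintype.card_subtype]
  have hsub : ({x, y} : Finset Ω) ⊆ Finset.univ.filter (fun z => z ∈ fixedBy Ω s) := by
    intro z hz
    rw [Finset.mem_insert, Finset.mem_singleton] at hz
    rw [Finset.mem_filter]
    refine ⟨Finset.mem_univ _, ?_⟩
    rcases hz with rfl | rfl
    · exact hx
    · exact hy
  calc 2 = ({x, y} : Finset Ω).card := (Finset.card_pair hxy).symm
    _ ≤ _ := Finset.card_le_card hsub

theorem card_fixedBy_modEq_two [Fintype Ω] {s : G} (hs : s ^ 2 = 1) :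
    Fintype.card Ω ≡ Nat.card (fixedBy Ω s) [MOD 2] := by
  classical
  haveI : Fact (Nat.Prime 2) := ⟨Nat.prime_two⟩
  have hf : (MulAction.toEndHom s : Function.End Ω) ^ 2 ^ 1 = 1 := by
    rw [pow_one, ← map_pow, hs, map_one]
  have := Equiv.Perm.card_fixedPoints_modEq (p := 2) (n := 1) hf
  have h2 : Nat.card (fixedBy Ω s) =
      Nat.card (Function.fixedPoints (MulAction.toEndHom s : Function.End Ω)) := rfl
  rw [h2, Nat.card_eq_fintype_card]
  convert this

end Cfsg.Agent.Lib.Helper1
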